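import Mathlib
import Cfsg.Agent.PLocal.JCompFin

/-!
Definitions for the classification of groups of characteristic 2 type all of whose 2-local subgroups
are solvable (paper proof: team guide `70_ng_*`).
-/

set_option autoImplicit false

namespace Cfsg.Agent.NG

open Subgroup Cfsg.Agent.PLocal Cfsg.Agent.PLocal.Amb Cfsg.Agent.PLocal.CP Cfsg.Agent.PLocal.JC
open scoped commutatorElement

/-- the Baumann subgroup -/
scoped notation:max "𝐁[" T "]" => T ⊓ Subgroup.centralizer (SetLike.coe (Cfsg.omegaOne 2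
  (Cfsg.thompsonSubgroupOf 2 T ⊓ Subgroup.centralizer
    (SetLike.coe (Cfsg.thompsonSubgroupOf 2 T : Subgroup _))) : Subgroup _))

/-- centralizer of one element -/
scoped notation:max "𝐂₁[" x "]" => Subgroup.centralizer ({x} : Set _)

/-- The standing hypothesis. -/
structure Hyp (G : Type*) [Group G] : Prop where
  idx : ∀ N : Subgroup G, N.index ≠ 2
  core : pCore 2 G = ⊥
  solv : ∀ T : Subgroup G, IsPGroup 2 T → T ≠ ⊥ → Group.IsSolvable 𝐍[T]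
  char : ∀ T : Subgroup G, IsPGroup 2 T → T ≠ ⊥ → IsCharP 2 𝐍[T]
  rank : ¬ PRankLE 2 2 G
  nse : ∀ H : Subgroup G, ¬ IsStronglyEmbedded H

variable {G : Type*} [Group G]

/-! ### Modules `U / U₀` and blocks -/

/-- preimage in `U` of `C_{U/U₀}(A)` -/
def fx (U U₀ A : Subgroup G) : Subgroup G := U ⊓ secCent A U₀

/-- preimage in `U` of `[U/U₀, A]` -/
def bW (U U₀ A : Subgroup G) : Subgroup G := ⁅U, A⁆ ⊔ U₀

/-- `U / U₀` is an elementary abelian 2-section normalized by the solvable group `L`, and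
`O₂(L / C_L(U/U₀)) = 1`.  The kernel of the action is `L ⊓ secCent U U₀`. -/
structure Mod (L U U₀ : Subgroup G) : Prop where
  le : U₀ ≤ U
  normU : L ≤ 𝐍[U]
  normU₀ : L ≤ 𝐍[U₀]
  comm : ⁅U, U⁆ ≤ U₀
  sq : ∀ u ∈ U, u * u ∈ U₀
  solv : Group.IsSolvable L
  red : RedMod 2 (secCent U U₀) L

/-- `K / C` has order 3, lies in `O₃(L / C)`, and `[U/U₀, K]` has order 4 (`C` the kernel).
The block itself is `bW U U₀ K`, its complement is `fx U U₀ K`. -/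
structure Blk (L U U₀ K : Subgroup G) : Prop where
  ge : L ⊓ secCent U U₀ ≤ K
  le : K ≤ L
  idx : (secCent U U₀).relIndex K = 3
  three : ∀ d ∈ ncl K L, ∃ k : ℕ, d ^ 3 ^ k ∈ secCent U U₀
  card : U₀.relIndex (bW U U₀ K) = 4

/-- `t` induces a transvection that lives on the block of `K`. -/
structure Tv (L U U₀ K : Subgroup G) (t : G) : Prop where
  blk : Blk L U U₀ K
  mem : t ∈ L
  norm : t ∈ 𝐍[K]
  sq : t * t ∈ secCent U U₀
  inv : ∀ k ∈ K, t * k * t⁻¹ * k ∈ secCent U U₀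
  fix : fx U U₀ K ≤ fx U U₀ (zpowers t)
  act : ¬ bW U U₀ K ≤ fx U U₀ (zpowers t)

/-- `w` is a component of `u` in the block of `K` -/
def Comp (U U₀ K : Subgroup G) (u w : G) : Prop := w ∈ bW U U₀ K ∧ u * w⁻¹ ∈ fx U U₀ K

/-- the join of the blocks indexed by a set of `K`s -/
def bWs (U U₀ : Subgroup G) (I : Set (Subgroup G)) : Subgroup G := U₀ ⊔ ⨆ K ∈ I, bW U U₀ K

/-- the normal subgroup generated by the kernel and all `K` -/
def bN (L U U₀ : Subgroup G) : Subgroup G := (L ⊓ secCent U U₀) ⊔ sSup {K | Blk L U U₀ K}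

/-- `v` has a nonzero component in every block -/
def Full (L U U₀ : Subgroup G) (v : G) : Prop := ∀ K, Blk L U U₀ K → v ∉ fx U U₀ K

/-- `A` is elementary abelian modulo `C` -/
def EAMod (A C : Subgroup G) : Prop := ⁅A, A⁆ ≤ C ∧ ∀ a ∈ A, a * a ∈ C

/-! ### The set `𝓑(B)` -/

/-- the natural module of a member of `𝓑(B)` -/
def VB (X : Subgroup G) : Subgroup G := ⁅ΩZ[2, 𝐐[X]], 𝐎[2, X]⁆

/-- `X ∈ 𝓑(B)` -/
structure IsB (B X : Subgroup G) : Prop where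
  syl : IsSyl 2 B X
  bau : 𝐁[B] = B
  char : IsCharP 2 X
  idx : (𝐐[X]).relIndex B = 2
  cyc : ∃ x ∈ X, (∃ k : ℕ, x ^ 3 ^ k = 1) ∧ X = zpowers x ⊔ B ∧
    ∀ b ∈ B, b ∉ 𝐐[X] → b * x * b⁻¹ * x ∈ 𝐐[X]
  notJ : ¬ 𝐉[B] ≤ 𝐐[X]
  card : Nat.card (VB X) = 4

/-- in every 2-local subgroup containing `X`, `B` is the Baumann subgroup of each 2-overgroup -/
def Lim (B X : Subgroup G) : Prop :=
  ∀ R : Subgroup G, IsPGroup 2 R → R ≠ ⊥ → X ≤ 𝐍[R] →
    ∀ T : Subgroup G, IsPGroup 2 T → B ≤ T → T ≤ 𝐍[R] → 𝐁[T] = B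

/-! ### Part II -/

/-- The setup of Part II. -/
structure Two (S M V : Subgroup G) : Prop where
  hyp : Hyp G
  syl : IsSyl 2 S ⊤
  le : S ≤ M
  max : IsMaximalTwoLocal M
  V_eq : V = ncl ΩZ[2, S] M
  nB : 𝐍[𝐁[S]] ≤ M
  pu : ∀ L T : Subgroup G, Group.IsSolvable L → IsCharP 2 L → IsSyl 2 T L → 𝐁[S] ≤ T →
    L ≤ (L ⊓ 𝐂[ncl ΩZ[2, T] L]) ⊔ (L ⊓ M)
  notC : ¬ 𝐂[ΩZ[2, S]] ≤ M

/-- case `NF'`: no blocks -/
def NF (M V : Subgroup G) : Prop := ∀ K, ¬ Blk M V ⊥ K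

/-- case `r ≥ 2`: at least two blocks -/
def F2 (M V : Subgroup G) : Prop := ∃ K K', Blk M V ⊥ K ∧ Blk M V ⊥ K' ∧ K ≠ K'

/-- case `r = 1` -/
structure One (S M V : Subgroup G) (z : G) : Prop extends Two S M V where
  four : Nat.card V = 4
  Z_eq : ΩZ[2, S] = zpowers z
  z_ne : z ≠ 1
  z_sq : z * z = 1

/-- The canonical geometry: `H` is a minimal overgroup of `C_M(D)` in `C(D)`, `Y` the core of
`H ⊓ M` in `H`, and `F / Y` the socle of the primitive solvable group `H / Y`. -/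
structure Geo (S M V D H Y F : Subgroup G) : Prop extends Two S M V where
  D_le : D ≤ V
  D_ne : D ≠ ⊥
  sylD : ∃ T, IsSyl 2 T 𝐂[D] ∧ T ≤ M ∧ S ⊓ 𝐂[V] ≤ T
  ge : 𝐂[D] ⊓ M ≤ H
  H_le : H ≤ 𝐂[D]
  not_le : ¬ H ≤ M
  Y_le : Y ≤ H ⊓ M
  Y_norm : H ≤ 𝐍[Y]
  Y_max : ∀ N : Subgroup G, N ≤ H ⊓ M → H ≤ 𝐍[N] → N ≤ Y
  Y_le_F : Y ≤ F
  F_le : F ≤ H
  F_norm : H ≤ 𝐍[F]
  F_inf : F ⊓ M = Y
  F_sup : F ⊔ (H ⊓ M) = H
  F_comm : ⁅F, F⁆ ≤ Y
  F_exp : ∃ p : ℕ, p.Prime ∧ p ≠ 2 ∧ ∀ f ∈ F, f ^ p ∈ Y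
  F_self : ∀ h ∈ H, (∀ f ∈ F, ⁅h, f⁆ ∈ Y) → h ∈ F
  F_irr : ∀ X : Subgroup G, Y ≤ X → X ≤ F → H ⊓ M ≤ 𝐍[X] → X = Y ∨ X = F

/-- transport of a subgroup to a coset (use with `K ≤ 𝐍[X]`) -/
noncomputable def tr {K : Subgroup G} (X : Subgroup G) (q : G ⧸ K) : Subgroup G := cj(q.out, X)

/-- the point `β` lies on the line `l` -/
def Inc (M H : Subgroup G) (β : G ⧸ H) (l : G ⧸ M) : Prop :=
  ∃ g : G, (g : G ⧸ H) = β ∧ (g : G ⧸ M) = l

/-- the points are joined by a chain of at most `n` lines -/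
def PP (M H : Subgroup G) : ℕ → G ⧸ H → G ⧸ H → Prop
  | 0, β, γ => β = γ
  | n + 1, β, γ => ∃ δ l, PP M H n β δ ∧ Inc M H δ l ∧ Inc M H γ l

/-- the critical distance exceeds `2 n + 1` -/
def YY (M V H Y : Subgroup G) (n : ℕ) : Prop :=
  ∀ β γ : G ⧸ H, PP M H n β γ → tr (ncl V H) β ≤ tr Y γ

/-- the critical distance exceeds `2 n + 2` -/
def CC (M V H : Subgroup G) (n : ℕ) : Prop :=
  ∀ β γ : G ⧸ H, PP M H n β γ → tr (ncl V H) β ≤ 𝐂[tr (ncl V H) γ]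

/-- `D` has maximal order among the subgroups of `V` whose centralizer is not in `M` -/
def MaxD (M V D : Subgroup G) : Prop :=
  D ≤ V ∧ ¬ 𝐂[D] ≤ M ∧ ∀ E : Subgroup G, E ≤ V → ¬ 𝐂[E] ≤ M → Nat.card E ≤ Nat.card D

/-- Case N: `r = 1`, `U = ⟨V^C⟩` not abelian; `m ∈ M` moves `z`. -/
structure CN (S M V : Subgroup G) (z m : G) : Prop extends One S M V z where
  nab : ¬ ncl V 𝐂₁[z] ≤ 𝐂[ncl V 𝐂₁[z]]
  m_mem : m ∈ M
  m_ne : m * z * m⁻¹ ≠ z

/-- Case A: `r = 1`, `⟨V^C⟩` abelian. -/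
structure CA (S M V : Subgroup G) (z : G) (H Y F : Subgroup G) : Prop
    extends Geo S M V (zpowers z) H Y F where
  four : Nat.card V = 4
  Z_eq : ΩZ[2, S] = zpowers z
  z_ne : z ≠ 1
  z_sq : z * z = 1
  ab : ncl V 𝐂₁[z] ≤ 𝐂[ncl V 𝐂₁[z]]

theorem CA.one {S M V : Subgroup G} {z : G} {H Y F : Subgroup G} (h : CA S M V z H Y F) :
    One S M V z := ⟨h.toTwo, h.four, h.Z_eq, h.z_ne, h.z_sq⟩

/-- Case A with critical distance 3. -/
structure CA3 (S M V : Subgroup G) (z : G) (H Y F : Subgroup G) (m : G) : Prop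
    extends CA S M V z H Y F where
  m_mem : m ∈ M
  m_ne : m * z * m⁻¹ ≠ z
  crit : ¬ cj(m, ncl V H) ≤ Y

/-- The configuration of the Tits group. -/
structure T5 (S M V : Subgroup G) (z : G) (H Y F : Subgroup G) (m : G) : Prop
    extends CA3 S M V z H Y F m where
  cardU : Nat.card (ncl V H) = 32
  idxF : Y.relIndex F = 5
  idxH : Y.relIndex H = 20

theorem secCent_bot (U : Subgroup G) : secCent U ⊥ = 𝐂[U] := by
  ext g
  rw [mem_secCent, mem_centralizer_iff]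
  constructor
  · intro h a ha
    have := h.2 a ha
    rw [mem_bot, commutatorElement_eq_one_iff_mul_comm] at this
    exact this.symm
  · intro h
    refine ⟨cj_eq_iff.1 (cj_bot g), fun a ha => ?_⟩
    rw [mem_bot, commutatorElement_eq_one_iff_mul_comm]
    exact (h a ha).symm

theorem fx_bot (U A : Subgroup G) : fx U ⊥ A = U ⊓ 𝐂[A] := by rw [fx, secCent_bot]

theorem bW_bot (U A : Subgroup G) : bW U ⊥ A = ⁅U, A⁆ := by rw [bW, sup_bot_eq]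

end Cfsg.Agent.NG
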