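import Mathlib
import Cfsg.Agent.NG.Defs
import Cfsg.Agent.PLocal.SecMod
import Cfsg.Agent.PLocal.CommMod

/-!
Tools for `NG/A0`: pairings into a group of order 2, four-groups, free action of an inverting
involution.
-/

set_option autoImplicit false

namespace Cfsg.Agent.NG.TA

open Subgroup Cfsg.Agent.PLocal Cfsg.Agent.PLocal.Amb Cfsg.Agent.PLocal.CP Cfsg.Agent.PLocal.JC
open scoped commutatorElement

variable {G : Type*} [Group G]

theorem mem_c₁ {x y : G} : y ∈ 𝐂₁[x] ↔ y * x = x * y := by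
  rw [mem_centralizer_iff]
  exact ⟨fun h => (h x rfl).symm, fun h a ha => by rw [Set.mem_singleton_iff.1 ha]; exact h.symm⟩

theorem mem_c₁_conj {x y : G} : y ∈ 𝐂₁[x] ↔ y * x * y⁻¹ = x := by
  rw [mem_c₁, mul_inv_eq_iff_eq_mul]

theorem mem_c₁_comm {x y : G} : y ∈ 𝐂₁[x] ↔ ⁅y, x⁆ = 1 := by
  rw [mem_c₁, commutatorElement_eq_one_iff_mul_comm]

theorem mem_c₁_symm {x y : G} : y ∈ 𝐂₁[x] ↔ x ∈ 𝐂₁[y] := by
  rw [mem_c₁, mem_c₁, eq_comm]

theorem mem_cent_iff_c₁ {X : Subgroup G} {y : G} : y ∈ 𝐂[X] ↔ ∀ x ∈ X, y ∈ 𝐂₁[x] := by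
  rw [mem_centralizer_iff]
  exact ⟨fun h x hx => mem_c₁.2 (h x hx).symm, fun h x hx => (mem_c₁.1 (h x hx)).symm⟩

theorem mem_cent_iff_le {X : Subgroup G} {y : G} : y ∈ 𝐂[X] ↔ X ≤ 𝐂₁[y] := by
  rw [mem_cent_iff_c₁]
  exact ⟨fun h x hx => mem_c₁_symm.1 (h x hx), fun h x hx => mem_c₁_symm.1 (h hx)⟩

theorem cent_le_c₁ {X : Subgroup G} {x : G} (hx : x ∈ X) : 𝐂[X] ≤ 𝐂₁[x] :=
  fun _ hy => mem_cent_iff_c₁.1 hy x hx

theorem mem_zp_two {z x : G} (hz : z * z = 1) : x ∈ zpowers z ↔ x = 1 ∨ x = z := by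
  constructor
  · rintro ⟨k, rfl⟩
    have h2 : z ^ (2 : ℤ) = 1 := by rw [zpow_two, hz]
    rcases Int.even_or_odd' k with ⟨j, rfl | rfl⟩
    · left; show z ^ (2 * j) = 1; rw [zpow_mul, h2, one_zpow]
    · right; show z ^ (2 * j + 1) = z; rw [zpow_add, zpow_mul, h2, one_zpow, one_mul, zpow_one]
  · rintro (rfl | rfl)
    · exact one_mem _
    · exact mem_zpowers _

theorem cj_zp (g z : G) : cj(g, zpowers z) = zpowers (g * z * g⁻¹) := by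
  rw [MonoidHom.map_zpowers]; rfl

theorem conj_eq_comm_mul (g v : G) : g * v * g⁻¹ = ⁅g, v⁆ * v := by
  simp [commutatorElement_def]

theorem comm_mem_symm {a b : G} {X : Subgroup G} (h : ⁅a, b⁆ ∈ X) : ⁅b, a⁆ ∈ X := by
  rw [← commutatorElement_inv]; exact X.inv_mem h

variable [Finite G]

theorem idx_le_two {z v : G} (hz : z * z = 1) {H : Subgroup G}
    (h : ∀ g ∈ H, ⁅g, v⁆ ∈ zpowers z) : (𝐂₁[v]).relIndex H ≤ 2 := by
  refine (relIndex_centralizer_le H v {v, z * v} fun g hg => ?_).trans (Set.ncard_insert_le _ _ |>.trans (by simp))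
  rw [conj_eq_comm_mul]
  rcases (mem_zp_two hz).1 (h g hg) with e | e <;> rw [e] <;> simp

theorem idx_eq_two {z v : G} (hz : z * z = 1) {H : Subgroup G}
    (h : ∀ g ∈ H, ⁅g, v⁆ ∈ zpowers z) (hn : ¬ H ≤ 𝐂₁[v]) : (𝐂₁[v]).relIndex H = 2 := by
  have h1 := idx_le_two hz h
  have h2 : (𝐂₁[v]).relIndex H ≠ 0 := index_ne_zero_of_finite
  have h3 : (𝐂₁[v]).relIndex H ≠ 1 := fun e => hn (relIndex_eq_one.1 e)
  omega

theorem pair_le {z : G} (hz : z * z = 1) {A : Subgroup G} (X : Subgroup G)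
    (h : ∀ a ∈ A, ∀ b ∈ X, ⁅a, b⁆ ∈ zpowers z) : (𝐂[X]).relIndex A ≤ (𝐂[A]).relIndex X := by
  induction X using Grp.subgroup_card_induction with
  | _ X ih =>
  by_cases hc : X ≤ 𝐂[A]
  · rw [relIndex_eq_one.2 hc, relIndex_eq_one.2 (le_centralizer_iff.1 hc)]
  have : ∃ a ∈ A, ¬ X ≤ 𝐂₁[a] := by
    by_contra! hh
    exact hc fun x hx => mem_cent_iff_c₁.2 fun a ha => hh a ha hx
  obtain ⟨a, ha, hXa⟩ := this
  have i2 : (𝐂₁[a]).relIndex X = 2 :=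
    idx_eq_two hz (fun g hg => comm_mem_symm (h a ha g hg)) hXa
  obtain ⟨u, hu, hu'⟩ := SetLike.not_le_iff_exists.1 hXa
  have hlt : 𝐂₁[a] ⊓ X < X := lt_of_le_of_ne inf_le_right fun e => hu' (e.ge hu).1
  have hcard : Nat.card ↥(𝐂₁[a] ⊓ X) < Nat.card X := by
    have := Grp.card_inf_mul_relIndex' 𝐂₁[a] X
    have h0 : 0 < Nat.card ↥(𝐂₁[a] ⊓ X) := Nat.card_pos
    rw [i2] at this; omega
  have ih' := ih _ hcard fun a ha b hb => h a ha b hb.2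
  have hs : zpowers u ⊔ (𝐂₁[a] ⊓ X) = X :=
    sup_zpowers_eq (by rw [inf_relIndex_right, i2]; exact Nat.prime_two) inf_le_right hu
      fun e => hu' e.1
  have e1 : 𝐂[X] = 𝐂₁[u] ⊓ 𝐂[𝐂₁[a] ⊓ X] := by
    conv_lhs => rw [← hs]
    rw [Amb.centralizer_sup, Amb.centralizer_zpowers]
  have e2 : (𝐂[A]).relIndex X = (𝐂[A]).relIndex (𝐂₁[a] ⊓ X) * 2 := by
    rw [← i2, relIndex_inf_mul_relIndex, inf_eq_left.2 (cent_le_c₁ ha)]
  have e3 : (𝐂₁[u]).relIndex (𝐂[𝐂₁[a] ⊓ X] ⊓ A) ≤ 2 :=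
    idx_le_two hz fun g hg => h g hg.2 u hu
  rw [e1, ← relIndex_inf_mul_relIndex, e2, mul_comm]
  exact Nat.mul_le_mul ih' e3

/-- duality for a pairing into a group of order 2 -/
theorem pair_eq {z : G} (hz : z * z = 1) {A B : Subgroup G}
    (h : ∀ a ∈ A, ∀ b ∈ B, ⁅a, b⁆ ∈ zpowers z) : (𝐂[B]).relIndex A = (𝐂[A]).relIndex B :=
  le_antisymm (pair_le hz B h) (pair_le hz A fun b hb a ha => comm_mem_symm (h a ha b hb))

theorem pair_exists {z : G} (hz : z * z = 1) {A B X : Subgroup G}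
    (h : ∀ a ∈ A, ∀ b ∈ B, ⁅a, b⁆ ∈ zpowers z) (h1 : B ⊓ 𝐂[A] ≤ X) (h2 : X ≤ B) {u : G}
    (hu : u ∈ B) (hu' : u ∉ X) : ∃ y ∈ A, y ∈ 𝐂[X] ∧ ⁅u, y⁆ = z := by
  by_contra! hc
  have hX' : zpowers u ⊔ X ≤ B := sup_le (zpowers_le.2 hu) h2
  have e : 𝐂[zpowers u ⊔ X] ⊓ A = 𝐂[X] ⊓ A := by
    refine le_antisymm (inf_le_inf_right _ (Amb.centralizer_anti le_sup_right)) ?_
    rintro y ⟨hy, hyA⟩
    refine ⟨?_, hyA⟩
    rw [Amb.centralizer_sup, Amb.centralizer_zpowers]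
    refine ⟨mem_c₁_symm.1 (mem_c₁_comm.2 ?_), hy⟩
    exact ((mem_zp_two hz).1 (comm_mem_symm (h y hyA u hu))).resolve_right (hc y hyA hy)
  have a1 := pair_eq hz (A := A) (B := X) fun a ha b hb => h a ha b (h2 hb)
  have a2 := pair_eq hz (A := A) (B := zpowers u ⊔ X) fun a ha b hb => h a ha b (hX' hb)
  rw [← inf_relIndex_right, e, inf_relIndex_right, a1] at a2
  have b1 := Grp.card_inf_mul_relIndex' 𝐂[A] X
  have b2 := Grp.card_inf_mul_relIndex' 𝐂[A] (zpowers u ⊔ X)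
  have e' : 𝐂[A] ⊓ (zpowers u ⊔ X) = 𝐂[A] ⊓ X :=
    le_antisymm (fun x hx => ⟨hx.1, h1 ⟨hX' hx.2, hx.1⟩⟩) (inf_le_inf_left _ le_sup_right)
  rw [e', ← a2, b1] at b2
  have := eq_of_le_of_card_ge (le_sup_right : X ≤ zpowers u ⊔ X) b2.ge
  exact hu' (this.ge (mem_sup_left (mem_zpowers u)))

/-- the elements of a four-group -/
theorem four_mem {V : Subgroup G} (h4 : Nat.card V = 4) (hV : ∀ v ∈ V, v * v = 1) {a b x : G}
    (ha : a ∈ V) (hb : b ∈ V) (ha1 : a ≠ 1) (hb1 : b ≠ 1) (hab : a ≠ b) (hx : x ∈ V) :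
    x = 1 ∨ x = a ∨ x = b ∨ x = a * b := by
  classical
  have h1 : a * b ≠ 1 := fun e => hab (by
    calc a = a * (b * b) := by rw [hV b hb, mul_one]
      _ = b := by rw [← mul_assoc, e, one_mul])
  have h2 : a * b ≠ a := fun e => hb1 (by simpa using e)
  have h3 : a * b ≠ b := fun e => ha1 (by simpa using e)
  have hs : ({1, a, b, a * b} : Set G) ⊆ V := by
    rintro y (rfl | rfl | rfl | rfl)
    exacts [one_mem _, ha, hb, mul_mem ha hb]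
  have hc : ({1, a, b, a * b} : Set G).ncard = 4 := by
    rw [Set.ncard_insert_of_notMem (by simp [ha1.symm, hb1.symm, h1.symm]),
      Set.ncard_insert_of_notMem (by simp [hab, h2.symm]),
      Set.ncard_pair h3.symm]
  have := Set.eq_of_subset_of_ncard_le hs (by rw [hc, ← h4]; rfl)
  have hx' : x ∈ ({1, a, b, a * b} : Set G) := this ▸ hx
  simpa using hx'

theorem four_eq_sup {V : Subgroup G} (h4 : Nat.card V = 4) (hV : ∀ v ∈ V, v * v = 1) {a b : G}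
    (ha : a ∈ V) (hb : b ∈ V) (ha1 : a ≠ 1) (hb1 : b ≠ 1) (hab : a ≠ b) :
    V = zpowers a ⊔ zpowers b := by
  refine le_antisymm (fun x hx => ?_) (sup_le (zpowers_le.2 ha) (zpowers_le.2 hb))
  rcases four_mem h4 hV ha hb ha1 hb1 hab hx with rfl | rfl | rfl | rfl
  · exact one_mem _
  · exact mem_sup_left (mem_zpowers _)
  · exact mem_sup_right (mem_zpowers _)
  · exact mul_mem (mem_sup_left (mem_zpowers _)) (mem_sup_right (mem_zpowers _))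

omit [Finite G] in
theorem zp_inf_zp {a b : G} (ha : a * a = 1) (hb : b * b = 1) (hab : a ≠ b) :
    zpowers a ⊓ zpowers b = ⊥ := by
  rw [eq_bot_iff]
  rintro x ⟨h1, h2⟩
  rcases (mem_zp_two ha).1 h1 with rfl | rfl
  · exact one_mem _
  · rcases (mem_zp_two hb).1 h2 with e | e
    · exact mem_bot.2 e
    · exact (hab e).elim

/-! ### sums over a group of odd order -/

theorem sum_split {Γ A : Type*} [Group Γ] [Fintype Γ] [AddCommGroup A]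
    (h : ∀ x : Γ, x = x⁻¹ → x = 1) (f : Γ → A) :
    ∃ T : Finset Γ, ∑ x, f x = f 1 + ∑ x ∈ T, f x + ∑ x ∈ T, f x⁻¹ := by
  classical
  let e := Fintype.equivFin Γ
  refine ⟨Finset.univ.filter fun x => e x < e x⁻¹, ?_⟩
  have h1 : ∑ x ∈ Finset.univ.filter (fun x => e x < e x⁻¹), f x⁻¹ =
      ∑ x ∈ Finset.univ.filter (fun x => e x⁻¹ < e x), f x := by
    refine Finset.sum_bij' (fun x _ => x⁻¹) (fun x _ => x⁻¹) ?_ ?_ ?_ ?_ ?_ <;> simp
  rw [h1, Finset.sum_filter, Finset.sum_filter]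
  have h2 : f 1 = ∑ x, if x = 1 then f x else 0 := by simp
  rw [h2, ← Finset.sum_add_distrib, ← Finset.sum_add_distrib]
  refine Finset.sum_congr rfl fun x _ => ?_
  rcases lt_trichotomy (e x) (e x⁻¹) with l | l | l
  · have : x ≠ 1 := by rintro rfl; simp at l
    simp [this, l, l.le]
  · have : x = 1 := h x (e.injective l)
    subst this; simp
  · have : x ≠ 1 := by rintro rfl; simp at l
    simp [this, l, l.le]

variable {L U U₀ : Subgroup G}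

omit [Finite G] in
theorem rep_eq_one_of_mem (h : SecHyp L U U₀) {g : G} (hg : g ∈ L) (hc : g ∈ secCent U U₀) :
    Sec.rep h ⟨g, hg⟩ = 1 := (Sec.rep_eq_one_iff h _).2 (mem_secCent.1 hc).2

omit [Finite G] in
theorem sec_two (h : SecHyp L U U₀) (hsq : ∀ u ∈ U, u * u ∈ U₀) (x : Sec h) : x + x = 0 := by
  obtain ⟨u, hu, rfl⟩ := Sec.exists_pr_eq h x
  rw [← Sec.pr_mul h hu hu, Sec.pr_eq_zero h (mul_mem hu hu)]
  exact hsq u hu

/-- an element inverting `E` acts freely on `[U, E]` -/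
theorem inv_free (h : SecHyp L U U₀) (hsq : ∀ u ∈ U, u * u ∈ U₀) {E : Subgroup G} (hE : E ≤ L)
    {a : G} (ha : a ∈ L) (hodd : ∀ e ∈ E, ∃ n : ℕ, Odd n ∧ e ^ n ∈ secCent U U₀)
    (hinv : ∀ e ∈ E, a * e * a⁻¹ * e ∈ secCent U U₀) {w : G} (hw : w ∈ bW U U₀ E)
    (hwa : ⁅a, w⁆ ∈ U₀) : w ∈ bW U U₀ (zpowers a) := by
  classical
  let ρ := Sec.rep h
  let Γ : Subgroup (Module.End ℤ (Sec h))ˣ := (E.subgroupOf L).map ρ.asGroupHom
  haveI : Finite Γ := Finite.of_surjective (fun x : E.subgroupOf L =>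
    (⟨ρ.asGroupHom x, mem_map_of_mem _ x.2⟩ : Γ)) (by
      rintro ⟨_, x, hx, rfl⟩; exact ⟨⟨x, hx⟩, rfl⟩)
  haveI := Fintype.ofFinite Γ
  have hone : ∀ {g : L}, (g : G) ∈ secCent U U₀ → ρ.asGroupHom g = 1 := fun {g} hg => by
    ext1
    rw [Representation.asGroupHom_apply]
    exact rep_eq_one_of_mem h g.2 hg
  have h1 : ∀ x : Γ, x = x⁻¹ → x = 1 := by
    rintro ⟨_, x, hx, rfl⟩ e
    obtain ⟨n, ⟨k, rfl⟩, hn⟩ := hodd x hx
    have e1 : ρ.asGroupHom x * ρ.asGroupHom x = 1 := by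
      have := congrArg Subtype.val e
      exact mul_eq_one_iff_eq_inv.2 this
    have e2 : ρ.asGroupHom x ^ (2 * k + 1) = 1 := by rw [← map_pow]; exact hone hn
    rw [pow_succ, pow_mul, pow_two, e1, one_pow, one_mul] at e2
    exact Subtype.ext e2
  let σ : Γ → Module.End ℤ (Sec h) := fun x => ((x : (Module.End ℤ (Sec h))ˣ) : Module.End ℤ (Sec h))
  have hα : ∀ x : Γ, ρ ⟨a, ha⟩ * σ x = σ x⁻¹ * ρ ⟨a, ha⟩ := by
    rintro ⟨_, x, hx, rfl⟩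
    have e : ρ.asGroupHom (⟨a, ha⟩ * x * ⟨a, ha⟩⁻¹ * x) = 1 := hone (hinv x hx)
    rw [map_mul, map_mul, map_mul, map_inv] at e
    have e' : ρ.asGroupHom ⟨a, ha⟩ * ρ.asGroupHom x = (ρ.asGroupHom x)⁻¹ * ρ.asGroupHom ⟨a, ha⟩ := by
      rw [← mul_inv_eq_iff_eq_mul, eq_inv_iff_mul_eq_one, e]
    have := congrArg Units.val e'
    rw [Units.val_mul, Units.val_mul, Representation.asGroupHom_apply] at this
    exact this
  let ε : Module.End ℤ (Sec h) := ∑ x, σ x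
  have hε : bW U U₀ E ≤ Sec.grp h (LinearMap.ker ε) := by
    refine sup_le (commutator_le.2 fun u hu e he => ?_) (Sec.le_grp h _)
    refine comm_mem_symm ((Sec.mem_grp h).2 ⟨Sec.comm_mem h (hE he) hu, ?_⟩)
    have := Sec.rep_pr_sub h ⟨e, hE he⟩ hu
    rw [LinearMap.mem_ker, ← this, map_sub, sub_eq_zero]
    let y : Γ := ⟨ρ.asGroupHom ⟨e, hE he⟩, mem_map_of_mem _ he⟩
    have e1 : ε * σ y = ε := by
      rw [Finset.sum_mul]
      exact Fintype.sum_equiv (Equiv.mulRight y) _ _ fun x => rfl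
    exact LinearMap.congr_fun e1 (Sec.pr h u)
  obtain ⟨hwU, hw0⟩ := (Sec.mem_grp h).1 (hε hw)
  obtain ⟨T, hT⟩ := sum_split h1 fun x => σ x (Sec.pr h w)
  have hfix : ρ ⟨a, ha⟩ (Sec.pr h w) = Sec.pr h w := (Sec.rep_pr_eq_iff h ⟨a, ha⟩ hwU).2 hwa
  obtain ⟨u, hu, hu'⟩ := Sec.exists_pr_eq h (∑ x ∈ T, σ x (Sec.pr h w))
  have e1 : ρ ⟨a, ha⟩ (Sec.pr h u) = ∑ x ∈ T, σ x⁻¹ (Sec.pr h w) := by
    rw [hu', map_sum]
    refine Finset.sum_congr rfl fun x _ => ?_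
    have := LinearMap.congr_fun (hα x) (Sec.pr h w)
    rw [Module.End.mul_apply, Module.End.mul_apply, hfix] at this
    exact this
  have e2 : ∑ x, σ x (Sec.pr h w) = 0 := by
    rw [← LinearMap.sum_apply]; exact hw0
  have e3 : σ 1 (Sec.pr h w) = Sec.pr h w := rfl
  rw [e2, e3, ← hu', ← e1] at hT
  have e4 : Sec.pr h ⁅a, u⁆ = Sec.pr h w := by
    have := Sec.rep_pr_sub h ⟨a, ha⟩ hu
    rw [← this]
    have t1 := sec_two h hsq (Sec.pr h w)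
    have t2 := sec_two h hsq (Sec.pr h u)
    linear_combination (norm := abel1) -hT - t1 - t2
  have e5 := (Sec.pr_eq_pr h (Sec.comm_mem h ha hu) hwU).1 e4
  have : w = ⁅a, u⁆ * (⁅a, u⁆⁻¹ * w) := by group
  rw [this]
  exact mul_mem (mem_sup_left (comm_mem_symm (commutator_mem_commutator hu (mem_zpowers a))))
    (mem_sup_right e5)

/-- an element of order 2 modulo `Y` inverts `[F, a] Y / Y` -/
theorem inv_comm {H F Y : Subgroup G} (h : SecHyp H F Y) {a : G} (ha : a ∈ H)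
    (ha2 : ∀ f ∈ F, ⁅a * a, f⁆ ∈ Y) : ∀ f ∈ ⁅F, zpowers a⁆ ⊔ Y, a * f * a⁻¹ * f ∈ Y := by
  let ρ := Sec.rep h
  have hρ : ρ ⟨a, ha⟩ * ρ ⟨a, ha⟩ = 1 := by
    rw [← map_mul]; exact (Sec.rep_eq_one_iff h _).2 ha2
  have hρ' : ∀ x, ρ ⟨a, ha⟩ (ρ ⟨a, ha⟩ x) = x := fun x => LinearMap.congr_fun hρ x
  let N : Submodule ℤ (Sec h) := LinearMap.ker (ρ ⟨a, ha⟩ + 1)
  have hN : ∀ x, x ∈ N ↔ ρ ⟨a, ha⟩ x + x = 0 := fun x => Iff.rfl
  have hle : ⁅F, zpowers a⁆ ⊔ Y ≤ Sec.grp h N := by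
    refine sup_le ?_ (Sec.le_grp h _)
    rw [commutator_comm]
    refine CommMod.commutator_zpowers_le ?_ fun f hf => ?_
    · refine Sec.le_normalizer_grp h (H := zpowers a) (zpowers_le.2 ha) ?_ (mem_zpowers a)
      intro g hg x hx
      obtain ⟨k, rfl⟩ := mem_zpowers_iff.1 hg
      have hc : Commute (ρ ⟨a, ha⟩) (ρ ⟨a ^ k, zpowers_le.2 ha hg⟩) := by
        refine Commute.map ?_ ρ
        exact Subtype.ext (Commute.self_zpow a k).eq
      rw [hN] at hx ⊢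
      have := LinearMap.congr_fun hc.eq x
      rw [Module.End.mul_apply, Module.End.mul_apply] at this
      show ρ ⟨a, ha⟩ (ρ ⟨a ^ k, _⟩ x) + ρ ⟨a ^ k, _⟩ x = 0
      rw [this, ← map_add, hx, map_zero]
    · refine (Sec.mem_grp h).2 ⟨Sec.comm_mem h ha hf, ?_⟩
      have := Sec.rep_pr_sub h ⟨a, ha⟩ hf
      rw [hN, ← this, map_sub, hρ']
      abel
  intro f hf
  obtain ⟨hfF, hf'⟩ := (Sec.mem_grp h).1 (hle hf)
  have h1 : a * f * a⁻¹ ∈ F := Amb.conj_mem_of_mem_normalizer (h.normU ha) hfF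
  rw [← Sec.pr_eq_zero h (mul_mem h1 hfF), Sec.pr_mul h h1 hfF, ← Sec.rep_pr' h ha hfF]
  exact hf'

/-- `F = [F, a] C_F(a)` modulo `Y` -/
theorem exists_decomp {H F Y : Subgroup G} (h : SecHyp H F Y) {a : G} (ha : a ∈ H)
    (ha2 : ∀ f ∈ F, ⁅a * a, f⁆ ∈ Y) {f : G} (hf : f ∈ F) {n : ℕ} (hn : Odd n) (hfn : f ^ n ∈ Y) :
    ∃ e ∈ ⁅F, zpowers a⁆, ∃ c ∈ F, ⁅a, c⁆ ∈ Y ∧ f = e * c := by
  let ρ := Sec.rep h
  have hρ : ρ ⟨a, ha⟩ * ρ ⟨a, ha⟩ = 1 := by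
    rw [← map_mul]; exact (Sec.rep_eq_one_iff h _).2 ha2
  have hρ' : ∀ x, ρ ⟨a, ha⟩ (ρ ⟨a, ha⟩ x) = x := fun x => LinearMap.congr_fun hρ x
  obtain ⟨k, rfl⟩ := hn
  have hd : ⁅a, f⁆ ∈ F := Sec.comm_mem h ha hf
  have hc : ⁅a, f⁆ ^ (k + 1) * f ∈ F := mul_mem (pow_mem hd _) hf
  refine ⟨(⁅a, f⁆ ^ (k + 1))⁻¹, inv_mem (pow_mem (comm_mem_symm
    (commutator_mem_commutator hf (mem_zpowers a))) _), _, hc, ?_, by group⟩
  refine (Sec.rep_pr_eq_iff h ⟨a, ha⟩ hc).1 ?_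
  have e1 := Sec.rep_pr_sub h ⟨a, ha⟩ hf
  have e2 : (2 * k + 1) • Sec.pr h f = 0 := by
    rw [← Sec.pr_pow h hf, Sec.pr_eq_zero h (pow_mem hf _)]; exact hfn
  have e3 : (2 * k + 1) • ρ ⟨a, ha⟩ (Sec.pr h f) = 0 := by rw [← map_nsmul, e2, map_zero]
  rw [Sec.pr_mul h (pow_mem hd _) hf, Sec.pr_pow h hd]
  simp only at e1
  rw [← e1, map_add, map_nsmul, map_sub]
  show (k + 1) • (ρ ⟨a, ha⟩ (ρ ⟨a, ha⟩ _) - ρ ⟨a, ha⟩ _) + ρ ⟨a, ha⟩ _ =
    (k + 1) • (ρ ⟨a, ha⟩ _ - _) + _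
  rw [hρ']
  linear_combination (norm := module) e2 - e3

/-- the dihedral group of order 6 -/
theorem mem_six {Γ : Type*} [Group Γ] {a b : Γ} (ha : a * a = 1) (hb : b * b = 1)
    (hab : a * b * a = b * a * b) {x : Γ} (hx : x ∈ closure ({a, b} : Set Γ)) :
    x = 1 ∨ x = a ∨ x = b ∨ x = a * b ∨ x = b * a ∨ x = a * b * a := by
  have ia : a⁻¹ = a := inv_eq_of_mul_eq_one_right ha
  have ib : b⁻¹ = b := inv_eq_of_mul_eq_one_right hb
  have ha' : ∀ y, a * (a * y) = y := fun y => by rw [← mul_assoc, ha, one_mul]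
  have hb' : ∀ y, b * (b * y) = y := fun y => by rw [← mul_assoc, hb, one_mul]
  have key : ∀ s ∈ ({a, b} : Set Γ), ∀ y, (y = 1 ∨ y = a ∨ y = b ∨ y = a * b ∨ y = b * a ∨
      y = a * b * a) → (s * y = 1 ∨ s * y = a ∨ s * y = b ∨ s * y = a * b ∨ s * y = b * a ∨
      s * y = a * b * a) := by
    rintro s (rfl | rfl) y (rfl | rfl | rfl | rfl | rfl | rfl)
    all_goals first
      | simp [ha, hb, ha', hb', mul_assoc]; done
      | skip
    · right; right; right; right; right; rw [hab, mul_assoc]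
    · right; right; right; left; rw [hab, mul_assoc, hb']
  induction hx using closure_induction_left with
  | one => simp
  | mul_left s hs y _ ih => exact key s hs y ih
  | inv_mul_cancel s hs y _ ih =>
    have : s⁻¹ = s := by rcases hs with rfl | rfl <;> assumption
    rw [this]; exact key s hs y ih

end Cfsg.Agent.NG.TA
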