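import Mathlib
import Cfsg.Agent.NG.Defs

/-! The general part of Lemma B1. -/

set_option autoImplicit false

namespace Cfsg.Agent.NG

open Subgroup Cfsg.Agent.PLocal Cfsg.Agent.PLocal.Amb
open scoped commutatorElement

variable {G : Type*} [Group G]

theorem b1_mul_iff {K H : Subgroup G} (h : K.relIndex H = 2) {a b : G} (ha : a ∈ H) (hb : b ∈ H) :
    a * b ∈ K ↔ (a ∈ K ↔ b ∈ K) :=
  mul_mem_iff_of_index_two (H := K.subgroupOf H) h (a := ⟨a, ha⟩) (b := ⟨b, hb⟩)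

theorem b1_mem_of_sq {x : G} (ho : Odd (orderOf x)) {H : Subgroup G} (h : x * x ∈ H) : x ∈ H := by
  obtain ⟨k, hk⟩ := ho
  have : x = ((x * x) ^ k)⁻¹ := by
    rw [eq_inv_iff_mul_eq_one, ← sq, ← pow_mul, ← pow_succ', ← hk, pow_orderOf_eq_one]
  rw [this]
  exact inv_mem (pow_mem h k)

theorem b1_relIndex_le [Finite G] {A B D D' : Subgroup G} (f : G → G) (hf : ∀ a ∈ A, f a ∈ B)
    (h : ∀ a ∈ A, ∀ a' ∈ A, (f a)⁻¹ * f a' ∈ D' ↔ a⁻¹ * a' ∈ D) : D.relIndex A ≤ D'.relIndex B := by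
  refine Nat.card_le_card_of_injective (Quotient.map' (fun a : A => (⟨f a, hf a a.2⟩ : B))
    fun a a' e => ?_ : A ⧸ D.subgroupOf A → B ⧸ D'.subgroupOf B) fun a a' e => ?_
  · rw [QuotientGroup.leftRel_apply] at e ⊢
    exact (h a a.2 a' a'.2).2 e
  · obtain ⟨a, rfl⟩ := QuotientGroup.mk_surjective a
    obtain ⟨a', rfl⟩ := QuotientGroup.mk_surjective a'
    exact QuotientGroup.eq.2 ((h a a.2 a' a'.2).1 (QuotientGroup.eq (s := D'.subgroupOf B) (a := ⟨f a, hf a a.2⟩)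
      (b := ⟨f a', hf a' a'.2⟩) |>.1 e))

theorem b1_comm_inv {a b : G} {H : Subgroup G} (h : ⁅a, b⁆ ∈ H) : ⁅b, a⁆ ∈ H := by
  rw [← commutatorElement_inv]; exact inv_mem h

/-- the elements fixing `e` modulo `D` -/
def fixMod (e : G) (D : Subgroup G) : Subgroup G where
  carrier := {g | g ∈ 𝐍[D] ∧ ⁅g, e⁆ ∈ D}
  one_mem' := ⟨one_mem _, by simp⟩
  mul_mem' := fun {a b} ha hb => ⟨mul_mem ha.1 hb.1, by
    rw [show ⁅a * b, e⁆ = a * ⁅b, e⁆ * a⁻¹ * ⁅a, e⁆ by simp only [commutatorElement_def]; group]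
    exact mul_mem (conj_mem_of_mem_normalizer ha.1 hb.2) ha.2⟩
  inv_mem' := fun {a} ha => ⟨inv_mem ha.1, by
    rw [show ⁅a⁻¹, e⁆ = a⁻¹ * ⁅a, e⁆⁻¹ * a by simp only [commutatorElement_def]; group]
    exact inv_conj_mem_of_mem_normalizer ha.1 (inv_mem ha.2)⟩

theorem mem_fixMod {e g : G} {D : Subgroup G} : g ∈ fixMod e D ↔ g ∈ 𝐍[D] ∧ ⁅g, e⁆ ∈ D := Iff.rfl

/-- the data of Lemma B1 -/
structure Tri (V O M V₀ : Subgroup G) (v x : G) : Prop where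
  sq : ∀ u ∈ V, u * u = 1
  pO : IsPGroup 2 O
  OM : O ≤ M
  MN : M ≤ 𝐍[V]
  VM : V ≤ M
  VO : V ≤ 𝐍[O]
  xO : x ∈ 𝐍[O]
  inf_le : V ⊓ O ≤ V₀
  le : V₀ ≤ V
  idx : V₀.relIndex V = 2
  v_mem : v ∈ V
  v_not : v ∉ V₀
  ne : x ≠ 1
  odd : Odd (orderOf x)
  inv : v * x * v⁻¹ = x⁻¹
  cm : ∀ w ∈ V₀, ⁅w, x⁆ ∈ O

namespace Tri

variable {V O M V₀ : Subgroup G} {v x : G} (t : Tri V O M V₀ v x)
include t

theorem inv_eq {u : G} (hu : u ∈ V) : u⁻¹ = u := inv_eq_of_mul_eq_one_right (t.sq u hu)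

theorem comm {u w : G} (hu : u ∈ V) (hw : w ∈ V) : u * w = w * u := by
  rw [← t.inv_eq (mul_mem hu hw), mul_inv_rev, t.inv_eq hu, t.inv_eq hw]

theorem comm' {u w : G} (hu : u ∈ cj(x, V)) (hw : w ∈ cj(x, V)) : u * w = w * u := by
  obtain ⟨u, hu, rfl⟩ := hu
  obtain ⟨w, hw, rfl⟩ := hw
  rw [← map_mul, t.comm hu hw, map_mul]

theorem symm : Tri V O M V₀ v x⁻¹ :=
  { t with
    xO := inv_mem t.xO
    ne := inv_ne_one.2 t.ne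
    odd := by rw [orderOf_inv]; exact t.odd
    inv := by rw [← conj_inv, t.inv]
    cm := fun w hw => by
      rw [show ⁅w, x⁻¹⁆ = x⁻¹ * ⁅x, w⁆ * x by simp only [commutatorElement_def]; group]
      exact inv_conj_mem_of_mem_normalizer t.xO (b1_comm_inv (t.cm w hw)) }

theorem vv : v * (x * v * x⁻¹) = (x * x)⁻¹ := by
  rw [mul_inv_rev, show v * (x * v * x⁻¹) = v * x * v * x⁻¹ by group]
  nth_rw 2 [← t.inv_eq t.v_mem]
  rw [t.inv]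

theorem mem_of_vv {H : Subgroup G} (h1 : v ∈ H) (h2 : x * v * x⁻¹ ∈ H) : x ∈ H :=
  b1_mem_of_sq t.odd (inv_mem_iff.1 (t.vv ▸ mul_mem h1 h2))

theorem sq_notMem {P : Subgroup G} (hP : IsPGroup 2 P) : x * x ∉ P := fun h =>
  t.ne (eq_one_of_isPGroup_of_coprime hP (b1_mem_of_sq t.odd h) (Nat.coprime_two_right.2 t.odd))

theorem pV : IsPGroup 2 V := fun u => ⟨1, Subtype.ext (by simpa [pow_two] using t.sq u u.2)⟩

theorem x_notMem : x ∉ M := fun h => t.sq_notMem t.pV (inv_mem_iff.1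
  (t.vv ▸ mul_mem t.v_mem (conj_mem_of_mem_normalizer (t.MN h) t.v_mem)))

theorem cD_v {u : G} (hu : u ∈ V) : u ∈ 𝐂[V ⊓ cj(x, V)] := fun _ hd => t.comm hd.1 hu

theorem cD_v' {u : G} (hu : u ∈ cj(x, V)) : u ∈ 𝐂[V ⊓ cj(x, V)] := fun _ hd => t.comm' hd.2 hu

theorem cD : x ∈ 𝐂[V ⊓ cj(x, V)] :=
  t.mem_of_vv (t.cD_v t.v_mem) (t.cD_v' (conj_mem_cj x t.v_mem))

theorem D_le : V ⊓ cj(x, V) ≤ V₀ := fun w hw => by
  by_contra h
  have h1 : v * w ∈ V₀ := (b1_mul_iff t.idx t.v_mem hw.1).2 (iff_of_false t.v_not h)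
  have h2 := t.cm _ h1
  have h3 : w * x * w⁻¹ = x := by rw [t.cD w hw, mul_inv_cancel_right]
  rw [show ⁅v * w, x⁆ = v * (w * x * w⁻¹) * v⁻¹ * x⁻¹ by simp only [commutatorElement_def]; group,
    h3, t.inv, ← mul_inv_rev, inv_mem_iff] at h2
  exact t.sq_notMem t.pO h2

theorem D_le' : V ⊓ cj(x, V) ≤ cj(x, V₀) := fun w hw => by
  rw [mem_cj, mul_assoc, t.cD w hw, inv_mul_cancel_left]
  exact t.D_le hw

theorem decomp {a : G} (ha : a ∈ cj(x, V₀)) : ∃ w ∈ V₀, ∃ o ∈ O, a = w * o := by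
  obtain ⟨w, hw, rfl⟩ := mem_cj_iff_exists.1 ha
  exact ⟨w, hw, _, t.cm _ (inv_mem hw), by simp only [commutatorElement_def]; group⟩

theorem A_le : cj(x, V₀) ≤ M := fun a ha => by
  obtain ⟨w, hw, o, ho, rfl⟩ := t.decomp ha
  exact mul_mem (t.VM (t.le hw)) (t.OM ho)

theorem comm_O {u o : G} (hu : u ∈ V) (ho : o ∈ O) : ⁅u, o⁆ ∈ V ⊓ O := by
  rw [commutatorElement_def]
  refine ⟨?_, O.mul_mem (conj_mem_of_mem_normalizer (t.VO hu) ho) (O.inv_mem ho)⟩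
  rw [mul_assoc, mul_assoc, ← mul_assoc o]
  exact mul_mem hu (conj_mem_of_mem_normalizer (t.MN (t.OM ho)) (inv_mem hu))

theorem comm_A {u a : G} (hu : u ∈ V) (ha : a ∈ cj(x, V₀)) : ⁅u, a⁆ ∈ V₀ := by
  obtain ⟨w, hw, o, ho, rfl⟩ := t.decomp ha
  rw [show ⁅u, w * o⁆ = u * w * u⁻¹ * ⁅u, o⁆ * w⁻¹ by simp only [commutatorElement_def]; group,
    t.comm hu (t.le hw), mul_inv_cancel_right]
  exact mul_mem (mul_mem hw (t.inf_le (t.comm_O hu ho))) (inv_mem hw)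

theorem comm_A' {u w : G} (hu : u ∈ cj(x, V)) (hw : w ∈ V₀) : ⁅u, w⁆ ∈ cj(x, V₀) := by
  have := t.symm.comm_A (mem_cj.1 hu) (conj_mem_cj x⁻¹ hw)
  rw [mem_cj]
  convert this using 1
  simp only [commutatorElement_def]; group

theorem comm_D {w a : G} (hw : w ∈ V₀) (ha : a ∈ cj(x, V₀)) : ⁅w, a⁆ ∈ V ⊓ cj(x, V) :=
  ⟨t.le (t.comm_A (t.le hw) ha), cj_mono x t.le (b1_comm_inv (t.comm_A' (cj_mono x t.le ha) hw))⟩

theorem A_norm : cj(x, V₀) ≤ 𝐍[V₀] := le_normalizer_iff.2 fun a ha w hw => by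
  rw [show a * w * a⁻¹ = ⁅a, w⁆ * w by simp only [commutatorElement_def]; group]
  exact mul_mem (b1_comm_inv (t.comm_A (t.le hw) ha)) hw

theorem mem_E {e : G} : e ∈ V₀ ⊔ cj(x, V₀) ↔ ∃ w ∈ V₀, ∃ a ∈ cj(x, V₀), e = w * a :=
  mem_sup_of_le_normalizer_left t.A_norm

theorem V_norm : V ≤ 𝐍[V₀ ⊔ cj(x, V₀)] := le_normalizer_iff.2 fun u hu e he => by
  obtain ⟨w, hw, a, ha, rfl⟩ := t.mem_E.1 he
  rw [show u * (w * a) * u⁻¹ = u * w * u⁻¹ * ⁅u, a⁆ * a by simp only [commutatorElement_def]; group,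
    t.comm hu (t.le hw), mul_inv_cancel_right]
  exact mul_mem (mem_sup_left (mul_mem hw (t.comm_A hu ha))) (mem_sup_right ha)

theorem V_norm' : cj(x, V) ≤ 𝐍[V₀ ⊔ cj(x, V₀)] := le_normalizer_iff.2 fun u hu e he => by
  obtain ⟨w, hw, a, ha, rfl⟩ := t.mem_E.1 he
  rw [show u * (w * a) * u⁻¹ = ⁅u, w⁆ * w * (u * a * u⁻¹) by
    simp only [commutatorElement_def]; group, t.comm' hu (cj_mono x t.le ha), mul_inv_cancel_right]
  exact mul_mem (mul_mem (mem_sup_right (t.comm_A' hu hw)) (mem_sup_left hw)) (mem_sup_right ha)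

theorem x_norm : x ∈ 𝐍[V₀ ⊔ cj(x, V₀)] :=
  t.mem_of_vv (t.V_norm t.v_mem) (t.V_norm' (conj_mem_cj x t.v_mem))

theorem mem_sec {g e : G} (hg : g ∈ 𝐂[V ⊓ cj(x, V)]) :
    g ∈ fixMod e (V ⊓ cj(x, V)) ↔ ⁅g, e⁆ ∈ V ⊓ cj(x, V) :=
  and_iff_right (centralizer_le_normalizer' _ hg)

theorem mem_D_of_fix {w : G} (hw : w ∈ V₀) (h : ⁅x, w⁆ ∈ V ⊓ cj(x, V)) : w ∈ V ⊓ cj(x, V) :=
  ⟨t.le hw, (cj(x, V)).inv_mem_iff.1 ((mul_mem_cancel_left (conj_mem_cj x (t.le hw))).1 h.2)⟩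

theorem inj {a : G} (ha : a ∈ cj(x, V₀)) (h : ⁅v, a⁆ ∈ V ⊓ cj(x, V)) : a ∈ V ⊓ cj(x, V) := by
  have ha' := cj_mono x t.le ha
  have h1 := (t.mem_sec t.cD).1 (t.mem_of_vv ((t.mem_sec (t.cD_v t.v_mem)).2 h)
    ((t.mem_sec (t.cD_v' (conj_mem_cj x t.v_mem))).2 (by
      rw [commutatorElement_eq_one_iff_mul_comm.2 (t.comm' (conj_mem_cj x t.v_mem) ha')]
      exact one_mem _)))
  refine ⟨?_, ha'⟩
  have h2 := inv_conj_mem_of_mem_normalizer (centralizer_le_normalizer' _ t.cD) h1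
  rw [show a = x⁻¹ * ⁅x, a⁆ * x * (x⁻¹ * a * x) by simp only [commutatorElement_def]; group]
  exact mul_mem h2.1 (t.le (mem_cj.1 ha))

theorem fpf {e : G} (he : e ∈ V₀ ⊔ cj(x, V₀)) (h : ⁅e, x⁆ ∈ V ⊓ cj(x, V)) : e ∈ V ⊓ cj(x, V) := by
  obtain ⟨w, hw, a, ha, rfl⟩ := t.mem_E.1 he
  have ha' := cj_mono x t.le ha
  have hv' := conj_mem_cj x t.v_mem
  have h1 := (t.mem_sec t.cD).2 (b1_comm_inv h)
  have h2 := (t.mem_sec (e := w * a) (mul_mem (t.cD_v t.v_mem) (t.cD_v' hv'))).1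
    (t.vv ▸ inv_mem (mul_mem h1 h1))
  have e1 : ⁅x * v * x⁻¹, w * a⁆ = ⁅x * v * x⁻¹, w⁆ := by
    rw [show ⁅x * v * x⁻¹, w * a⁆ = ⁅x * v * x⁻¹, w⁆ * (w * ⁅x * v * x⁻¹, a⁆ * w⁻¹) by
      simp only [commutatorElement_def]; group,
      commutatorElement_eq_one_iff_mul_comm.2 (t.comm' hv' ha')]
    group
  have e2 : ⁅v, w * a⁆ = ⁅v, a⁆ := by
    rw [show ⁅v, w * a⁆ = ⁅v, w⁆ * (w * ⁅v, a⁆ * w⁻¹) by simp only [commutatorElement_def]; group,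
      commutatorElement_eq_one_iff_mul_comm.2 (t.comm t.v_mem (t.le hw)),
      t.comm (t.le hw) (t.le (t.comm_A t.v_mem ha))]
    group
  rw [show ⁅v * (x * v * x⁻¹), w * a⁆ = v * ⁅x * v * x⁻¹, w * a⁆ * v⁻¹ * ⁅v, w * a⁆ by
    simp only [commutatorElement_def]; group, e1, e2] at h2
  have h3 : ⁅x * v * x⁻¹, w⁆ ∈ V := by
    have := (mul_mem_cancel_right (t.le (t.comm_A t.v_mem ha))).1 h2.1
    rwa [mul_mem_cancel_right (inv_mem t.v_mem), mul_mem_cancel_left t.v_mem] at this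
  have h4 := conj_mem_of_mem_normalizer (centralizer_le_normalizer' _ (t.cD_v t.v_mem))
    (show _ ∈ V ⊓ cj(x, V) from ⟨h3, cj_mono x t.le (t.comm_A' hv' hw)⟩)
  have h5 := t.inj ha ((mul_mem_cancel_left h4).1 h2)
  have h6 := mul_mem hw (t.D_le h5)
  exact t.mem_D_of_fix h6 (b1_comm_inv h)

theorem V₀_eq [Finite G] : V₀ = ⁅zpowers v, cj(x, V₀)⁆ ⊔ V ⊓ cj(x, V) := by
  have h1 : ⁅zpowers v, cj(x, V₀)⁆ ⊔ V ⊓ cj(x, V) ≤ V₀ := sup_le (commutator_le.2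
    fun u hu a ha => t.comm_A (zpowers_le.2 t.v_mem hu) ha) t.D_le
  refine (eq_of_le_of_card_ge h1 ?_).symm
  have h2 := b1_relIndex_le (A := cj(x, V₀)) (B := ⁅zpowers v, cj(x, V₀)⁆ ⊔ V ⊓ cj(x, V))
    (D := V ⊓ cj(x, V)) (D' := V ⊓ cj(x, V)) (fun a => ⁅v, a⁆)
    (fun a ha => mem_sup_left (commutator_mem_commutator (mem_zpowers v) ha)) fun a ha b hb => by
      have hc := mul_mem (inv_mem ha) hb
      have hn := centralizer_le_normalizer' _ (t.cD_v' (cj_mono x t.le ha))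
      rw [show ⁅v, a⁆⁻¹ * ⁅v, b⁆ = a * ⁅v, a⁻¹ * b⁆ * a⁻¹ by
        simp only [commutatorElement_def]; group, ← mem_normalizer_iff.1 hn]
      exact ⟨t.inj hc, fun h => by
        rw [commutatorElement_eq_one_iff_mul_comm.2 (t.comm t.v_mem h.1)]; exact one_mem _⟩
  rw [← card_cj x V₀, ← Grp.card_mul_relIndex t.D_le', ← Grp.card_mul_relIndex
    (le_sup_right : V ⊓ cj(x, V) ≤ ⁅zpowers v, cj(x, V₀)⁆ ⊔ V ⊓ cj(x, V))]
  exact Nat.mul_le_mul_left _ h2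

end Tri

end Cfsg.Agent.NG
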