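import Mathlib
import Cfsg.Agent.NG.Defs
import Cfsg.Agent.S1349
import Cfsg.Agent.S0112
import Cfsg.Agent.Transfer.ThompsonExtremal

set_option autoImplicit false

namespace Cfsg.Agent.NG

open Subgroup Cfsg.Agent.PLocal Cfsg.Agent.PLocal.Amb Cfsg.Agent.PLocal.CP Cfsg.Agent.PLocal.JC
open scoped commutatorElement

variable {G : Type*} [Group G] [Finite G]

theorem Hyp.solv_of_le (h : Hyp G) {T L : Subgroup G} (hT : IsPGroup 2 T) (h1 : T ≠ ⊥)
    (hL : L ≤ 𝐍[T]) : Group.IsSolvable L :=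
  haveI := h.solv T hT h1
  Grp.isSolvable_of_le hL

theorem Hyp.charC (h : Hyp G) {T : Subgroup G} (hT : IsPGroup 2 T) (h1 : T ≠ ⊥) :
    IsCharP 2 𝐂[T] := (isCharP_normalizer_iff hT).1 (h.char T hT h1)

omit [Finite G] in
theorem two_zpowers {t : G} (ht : t * t = 1) : IsPGroup 2 (zpowers t) :=
  isPGroup_zpowers ⟨1, by rw [pow_one, pow_two, ht]⟩

theorem Hyp.charC₁ (h : Hyp G) {t : G} (ht : t * t = 1) (h1 : t ≠ 1) : IsCharP 2 𝐂₁[t] := by
  rw [← Amb.centralizer_zpowers]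
  exact h.charC (two_zpowers ht) (mt zpowers_eq_bot.1 h1)

theorem Hyp.solvC₁ (h : Hyp G) {t : G} (ht : t * t = 1) (h1 : t ≠ 1) {L : Subgroup G}
    (hL : L ≤ 𝐂₁[t]) : Group.IsSolvable L := by
  rw [← Amb.centralizer_zpowers] at hL
  exact h.solv_of_le (two_zpowers ht) (mt zpowers_eq_bot.1 h1)
    (hL.trans (centralizer_le_normalizer' _))

theorem Hyp.solv_twoLocal (h : Hyp G) {L : Subgroup G} (hL : IsTwoLocal L) :
    Group.IsSolvable L := by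
  obtain ⟨T, hT, h1, rfl⟩ := hL
  exact h.solv T hT h1

theorem Hyp.char_twoLocal (h : Hyp G) {L : Subgroup G} (hL : IsTwoLocal L) : IsCharP 2 L := by
  obtain ⟨T, hT, h1, rfl⟩ := hL
  exact h.char T hT h1

theorem Hyp.ne_top (h : Hyp G) {L : Subgroup G} (hL : IsTwoLocal L) : L ≠ ⊤ := by
  obtain ⟨T, hT, h1, rfl⟩ := hL
  intro h2
  apply h1
  rw [eq_bot_iff, ← h.core]
  exact Grp.le_pCore (normalizer_eq_top_iff.1 h2) hT

theorem Hyp.exists_eight (h : Hyp G) {S : Subgroup G} (hS : IsSyl 2 S ⊤) :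
    ∃ E ≤ S, IsElementaryAbelian 2 E ∧ 8 ≤ Nat.card E := by
  have h1 := h.rank
  simp only [PRankLE, not_forall, not_le] at h1
  obtain ⟨A, hA, hA2, hc⟩ := h1
  have hEA : IsElementaryAbelian 2 A := ⟨hA, hA2⟩
  obtain ⟨g, -, hg⟩ := hS.exists_cj_le (elemAb_isPGroup hEA) le_top
  refine ⟨_, hg, isEA_of_sq fun a ha => ?_, ?_⟩
  · obtain ⟨y, hy, rfl⟩ := mem_cj_iff_exists.1 ha
    have := sq_eq_one_of_isEA hEA y hy
    calc g * y * g⁻¹ * (g * y * g⁻¹) = g * (y * y) * g⁻¹ := by group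
      _ = 1 := by rw [this]; group
  · rw [card_cj]
    obtain ⟨k, hk⟩ := (IsPGroup.iff_card).1 (elemAb_isPGroup hEA)
    rw [hk] at hc ⊢
    have : 2 < k := (Nat.pow_lt_pow_iff_right (by norm_num)).1 hc
    exact Nat.pow_le_pow_right (n := 2) (by norm_num) this

theorem Hyp.res_top (h : Hyp G) : 𝐎[2, (⊤ : Subgroup G)] = ⊤ := by
  rw [pRes_top]
  by_contra hne
  have hq : IsPGroup 2 (G ⧸ pResidual 2 G) := Transfer.isPGroup_quotient_pResidual
  have : Nontrivial (G ⧸ pResidual 2 G) := QuotientGroup.nontrivial_iff.2 hne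
  obtain ⟨M, hM, -⟩ := (eq_top_or_exists_le_coatom (⊥ : Subgroup (G ⧸ pResidual 2 G))).resolve_left
    bot_ne_top
  refine h.idx (M.comap (QuotientGroup.mk' _)) ?_
  rw [index_comap_of_surjective _ (QuotientGroup.mk'_surjective _), Grp.PFrattini.index_of_isCoatom hq hM]

theorem odd_index_of_syl {S : Subgroup G} (hS : IsSyl 2 S ⊤) : Odd S.index := by
  have := hS.not_dvd_relIndex
  rw [relIndex_top_right] at this
  exact Nat.odd_iff.2 (by omega)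

/-- Thompson's transfer lemma -/
theorem Hyp.transfer (h : Hyp G) {S U : Subgroup G} (hS : IsSyl 2 S ⊤) (hU : U ≤ S)
    (h2 : U.relIndex S = 2) {z : G} (hz : z * z = 1) (hzS : z ∈ S) (hzU : z ∉ U) :
    ∃ g : G, g * z * g⁻¹ ∈ U :=
  Transfer.exists_conj_mem_of_no_index_two h.idx (odd_index_of_syl hS) h2
    (orderOf_eq_prime (by rw [pow_two, hz]) fun e => hzU (e ▸ one_mem _))

theorem char_of_syl {T L K : Subgroup G} (hK : IsCharP 2 K) (hT : IsSyl 2 T K) (h1 : T ≤ L)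
    (h2 : L ≤ K) : IsCharP 2 L :=
  hK.of_pCoreOf_le h2 (hT.pCoreOf_le.trans h1)

theorem Q_ne_bot_of_normal {N L : Subgroup G} (hL : IsCharP 2 L) (h1 : N ≤ L) (h2 : L ≤ 𝐍[N])
    (h3 : N ≠ ⊥) : 𝐐[N] ≠ ⊥ := by
  intro h4
  have h5 := hL.of_normal h1 h2
  apply h3
  rw [eq_bot_iff, ← h4]
  refine le_trans (le_inf le_rfl ?_) h5
  rw [h4]
  intro x _ y hy
  rw [SetLike.mem_coe, mem_bot] at hy
  rw [hy, one_mul, mul_one]

theorem exists_max_twoLocal {L : Subgroup G} (hL : IsTwoLocal L) :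
    ∃ M, IsMaximalTwoLocal M ∧ L ≤ M := by
  obtain ⟨M, ⟨h1, h2⟩, h3⟩ := WellFounded.has_min (wellFounded_gt (α := Subgroup G))
    {M : Subgroup G | IsTwoLocal M ∧ L ≤ M} ⟨L, hL, le_rfl⟩
  refine ⟨M, ⟨h1, fun N hN hMN => ?_⟩, h2⟩
  by_contra h4
  exact h3 N ⟨hN, h2.trans hMN⟩ (lt_of_le_of_ne hMN (Ne.symm h4))

theorem normalizer_eq_of_max {M T : Subgroup G} (hM : IsMaximalTwoLocal M) (hT : IsPGroup 2 T)
    (h1 : T ≠ ⊥) (h2 : M ≤ 𝐍[T]) : 𝐍[T] = M := hM.2 _ ⟨T, hT, h1, rfl⟩ h2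

/-- an element of odd order centralizing a normal series of `O₂(L)` is trivial -/
theorem eq_one_of_char {L D : Subgroup G} (hL : IsCharP 2 L) {x : G} (hx : x ∈ L)
    (ho : Odd (orderOf x)) (hD : x ∈ 𝐂[D]) (hD2 : IsPGroup 2 D)
    (hc : ∀ q ∈ 𝐐[L], ⁅x, q⁆ ∈ D) : x = 1 :=
  hL.eq_one hx (coprime_two_iff.2 ho)
    (mem_centralizer_of_commutator_mem hD2 (coprime_two_iff.2 ho) hD hc)

/-- the normalizer of a weakly closed abelian subgroup controls fusion in it -/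
theorem fusion_of_weak {S E : Subgroup G} (hS : IsSyl 2 S ⊤) (hE : E ≤ S) (hc : E ≤ 𝐂[E])
    (hw : ∀ g : G, cj(g, E) ≤ S → cj(g, E) = E) {a b : G} (ha : a ∈ E) (hb : b ∈ E)
    (hab : IsConj a b) : ∃ n ∈ 𝐍[E], n * a * n⁻¹ = b := by
  obtain ⟨g, hg⟩ := isConj_iff.1 hab
  have hE2 : IsPGroup 2 E := hS.pgrp.to_le hE
  have h1 : ∀ {c : G}, c ∈ E → E ≤ 𝐂₁[c] := fun {c} hc' y hy =>
    mem_centralizer_singleton_iff.2 (hc hy c hc').symm
  have h2 : cj(g, E) ≤ 𝐂₁[b] := by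
    rw [← hg, centralizer_singleton_conj]
    exact cj_mono g (h1 ha)
  obtain ⟨T, hT, hET⟩ := exists_isSyl_ge hE2 (h1 hb)
  obtain ⟨c, hc1, hc2⟩ := hT.exists_cj_le (isPGroup_cj g hE2) h2
  obtain ⟨d, -, hd⟩ := hS.exists_cj_le hT.pgrp le_top
  have h3 : cj(d, E) = E := hw d ((cj_mono d hET).trans hd)
  have h4 : cj(d * (c * g), E) = E := hw _ (by
    rw [cj_mul, cj_mul]; exact (cj_mono d hc2).trans hd)
  refine ⟨c * g, ?_, ?_⟩
  · have := mul_mem (inv_mem (cj_eq_iff.1 h3)) (cj_eq_iff.1 h4)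
    rwa [inv_mul_cancel_left] at this
  · have := mem_centralizer_singleton_iff.1 hc1
    calc c * g * a * (c * g)⁻¹ = c * (g * a * g⁻¹) * c⁻¹ := by group
      _ = b := by rw [hg, this]; group

/-- a 2-group with a self-centralizing subgroup of order 4 has rank at most 2 -/
theorem card_le_four_of_selfcent {S V E : Subgroup G} (hS : IsPGroup 2 S) (hV : V ≤ S)
    (h4 : Nat.card V = 4) (hV2 : ∀ v ∈ V, v * v = 1) (hc : S ⊓ 𝐂[V] ≤ V) (hE : E ≤ S)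
    (hEA : IsElementaryAbelian 2 E) : Nat.card E ≤ 4 := by
  obtain ⟨n, hn⟩ := (IsPGroup.iff_card).1 hS
  by_cases h3 : n < 3
  · refine (card_le_of_le hE).trans ?_
    rw [hn]
    exact Nat.pow_le_pow_right (n := 2) (i := n) (j := 2) (by norm_num) (by omega)
  have hcl := S0112.result (p := 2) n hn (V.subgroupOf S)
    (by rw [Nat.card_congr (subgroupOfEquivOfLe hV).toEquiv, h4]; norm_num) (by
      rw [centralizer_subgroupOf hV]
      ext x
      simp only [mem_subgroupOf]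
      exact ⟨fun hx => hc ⟨x.2, hx⟩, fun hx => elemAb_le_centralizer (isEA_of_sq hV2) hx⟩)
  have hi := Grp.MaxClass.index_commutator hn (by omega) hcl
  obtain ⟨c, hc'⟩ := Grp.MaxClass.exists_orderOf_of_index_commutator_le (by omega) hn
    (by rw [hi]; norm_num)
  have h5 : (zpowers c).index = 2 := by
    have := (zpowers c).card_mul_index
    rw [Nat.card_zpowers, hc', hn, show n = (n - 1) + 1 by omega, pow_succ,
      Nat.add_sub_cancel] at this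
    exact Nat.eq_of_mul_eq_mul_left (by positivity) this
  set E' := E.subgroupOf S with hE'
  have h6 : Nat.card E = Nat.card E' := (Nat.card_congr (subgroupOfEquivOfLe hE).toEquiv).symm
  have h7 : (zpowers c).relIndex E' ≤ 2 := by
    rw [← h5, ← relIndex_top_right]
    exact relIndex_le_of_le_right le_top (by rw [relIndex_top_right, h5]; norm_num)
  have h8 : Nat.card ↥(E' ⊓ zpowers c) ≤ 2 := by
    have hcy : IsCyclic ↥(E' ⊓ zpowers c) := isCyclic_of_le (G := S) inf_le_right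
    rw [← hcy.exponent_eq_card]
    refine Nat.le_of_dvd two_pos (Monoid.exponent_dvd_of_forall_pow_eq_one fun x => ?_)
    exact Subtype.ext (Subtype.ext (hEA.2 _ x.2.1))
  have h9 := Grp.card_inf_mul_relIndex E' (zpowers c)
  rw [h6, ← h9]
  exact Nat.mul_le_mul h8 h7

theorem bau_le (T : Subgroup G) : 𝐁[T] ≤ T := inf_le_left

theorem J_le_bau (T : Subgroup G) : 𝐉[T] ≤ 𝐁[T] :=
  le_inf (thompsonSubgroupOf_le T) (le_centralizer_omegaZ _)

theorem bau_cj (g : G) (T : Subgroup G) : 𝐁[cj(g, T)] = cj(g, 𝐁[T]) := by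
  rw [J_cj, omegaZ_cj, centralizer_cj, cj_inf]

theorem normalizer_le_normalizer_bau (T : Subgroup G) : 𝐍[T] ≤ 𝐍[𝐁[T]] := fun g hg => by
  rw [← cj_eq_iff] at hg ⊢
  rw [← bau_cj, hg]

theorem bau_ne_bot {T : Subgroup G} (hT : IsPGroup 2 T) (h : T ≠ ⊥) : 𝐁[T] ≠ ⊥ := by
  intro h1
  refine inf_centralizer_ne_bot hT hT le_normalizer h ?_
  rw [eq_bot_iff, ← h1]
  exact inf_le_inf_left _
    (centralizer_anti ((omegaZ_le _).trans (thompsonSubgroupOf_le T)))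

theorem J_eq_of_le {T R : Subgroup G} (h1 : 𝐉[T] ≤ R) (h2 : R ≤ T) : 𝐉[R] = 𝐉[T] := by
  rw [thompsonSubgroupOf_eq_sSup, thompsonSubgroupOf_eq_sSup, maxEA_eq_of_le h1 h2]

theorem bau_eq_of_le {T R : Subgroup G} (h1 : 𝐁[T] ≤ R) (h2 : R ≤ T) : 𝐁[R] = 𝐁[T] := by
  rw [J_eq_of_le ((J_le_bau T).trans h1) h2]
  exact le_antisymm (inf_le_inf_right _ h2) (le_inf h1 inf_le_right)

/-- every 2-overgroup of the Baumann subgroup of a Sylow 2-subgroup has the same Baumann subgroup -/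
theorem bau_eq_of_syl {S T : Subgroup G} (hS : IsSyl 2 S ⊤) (hT : IsPGroup 2 T) (h : 𝐁[S] ≤ T) :
    𝐁[T] = 𝐁[S] := by
  obtain ⟨g, -, hg⟩ := hS.exists_le_cj hT le_top
  have h1 : 𝐉[S] ≤ 𝐉[cj(g, S)] := by
    obtain ⟨A, hA⟩ := maxEA_nonempty 2 S
    refine J_le_J_of_card ((J_le_bau S).trans (h.trans hg)) hA
      (map_mem_maxEA (MulAut.conj g).injective hA) (card_cj g A).le
  have h2 : 𝐉[S] = 𝐉[cj(g, S)] :=
    eq_of_le_of_card_ge h1 (by rw [J_cj, card_cj])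
  have h3 : 𝐁[S] ≤ 𝐁[cj(g, S)] := by
    rw [← h2]
    exact le_inf (h.trans hg) inf_le_right
  have h4 : 𝐁[S] = 𝐁[cj(g, S)] :=
    eq_of_le_of_card_ge h3 (by rw [bau_cj, card_cj])
  rw [h4] at h ⊢
  exact bau_eq_of_le h hg

open MulAction Transfer.Cocycle in
omit [Finite G] in
theorem orbit_prod_eq_one {T X : Type*} [Group T] [Finite T] [MulAction T X] [Fintype X]
    [DecidableEq X] (hT : IsPGroup 2 T) {c : T → X → ℤˣ} (hc : IsCocycle c) {k : T}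
    (hk : ∀ t, t * k = k * t) (q : X) [DecidablePred (· ∈ orbit T q)] (hq : stabilizer T q ≠ ⊤)
    (hb : ∀ x, stabilizer T x ≠ ⊤ → stabilizer T x ⊔ zpowers k = ⊤ →
      c (k ^ (stabilizer T x).index) x = 1) :
    ∏ x ∈ Finset.univ.filter (· ∈ orbit T q), c k x = 1 := by
  classical
  have hkn : ∀ H : Subgroup T, zpowers k ≤ 𝐍[H] := fun H =>
    zpowers_le.2 (centralizer_le_normalizer' H fun t _ => hk t)
  by_cases h1 : stabilizer T q ⊔ zpowers k = ⊤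
  · refine hc.prod_eq_one (fun x hx => ?_) fun x hx => ?_
    · simp only [Finset.mem_filter, Finset.mem_univ, true_and] at hx ⊢
      exact mem_orbit_of_mem_orbit k hx
    · simp only [Finset.mem_filter, Finset.mem_univ, true_and] at hx
      obtain ⟨t, rfl⟩ := hx
      have e : stabilizer T (t • q) = cj(t, stabilizer T q) := stabilizer_smul_eq_stabilizer_map_conj t q
      have h2 : stabilizer T (t • q) ⊔ zpowers k = ⊤ := by
        rw [e, ← cj_of_mem_normalizer (Q := zpowers k) (g := t) (centralizer_le_normalizer' _ (by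
          rw [Amb.centralizer_zpowers]; exact mem_centralizer_singleton_iff.2 (hk t))), ← cj_sup, h1,
          cj_top]
      have h3 : stabilizer T (t • q) ≠ ⊤ := by rw [e]; exact mt cj_eq_top.1 hq
      have hn : (stabilizer T (t • q)).Normal := by
        rw [← normalizer_eq_top_iff, eq_top_iff, ← h2]
        exact sup_le le_normalizer (hkn _)
      have h4 : period k (t • q) = (stabilizer T (t • q)).index := by
        rw [← relIndex_top_right, ← h2, relIndex_sup_left, period_eq_minimalPeriod,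
          minimalPeriod_eq_card, ← Nat.card_eq_fintype_card, Nat.card_coe_set_eq,
          ← index_stabilizer]
        rfl
      simp only [h4]
      exact hb _ h3 h2
  · obtain ⟨M, hM, hle⟩ := (eq_top_or_exists_le_coatom _).resolve_left h1
    have := Grp.PFrattini.normal_of_isCoatom hT hM
    obtain ⟨z, hz⟩ : ∃ z, z ∉ M := by
      by_contra h2
      push Not at h2
      exact hM.1 (eq_top_iff.2 fun z _ => h2 z)
    have hkM : k ∈ M := hle (mem_sup_right (mem_zpowers k))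
    rw [prod_orbit_eq_prod_blocks M (Grp.PFrattini.index_of_isCoatom hT hM) (le_sup_left.trans hle) hz]
    have h2 : ∀ i : ℕ, ∏ x ∈ Finset.univ.filter (· ∈ orbit M q), c k (z ^ i • x) =
        ∏ x ∈ Finset.univ.filter (· ∈ orbit M q), c k x := fun i => by
      have e : (z ^ i)⁻¹ * k * z ^ i = k := by rw [mul_assoc, ← hk, inv_mul_cancel_left]
      rw [hc.prod_conj, e]
      intro x hx
      simp only [Finset.mem_filter, Finset.mem_univ, true_and] at hx ⊢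
      rw [e]
      exact mem_orbit_of_mem_orbit (⟨k, hkM⟩ : M) hx
    simp only [h2, Finset.prod_const, Finset.card_range]
    exact Int.units_sq _

open MulAction Transfer Transfer.Cocycle in
/-- refined transfer lemma -/
theorem Hyp.transfer_ref (h : Hyp G) {S U T : Subgroup G} (hS : IsSyl 2 S ⊤) (hU : U ≤ S)
    (h2 : U.relIndex S = 2) (hT : IsPGroup 2 T) {k : G} (hk : k ∈ T) (hc : k ∈ 𝐂[T])
    (ha : ∀ g : G, cj(g, T) ≤ S → g * k * g⁻¹ ∉ U)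
    (hb : ∀ (g : G) (j : ℕ) (T₀ : Subgroup G), 1 ≤ j → T₀ ≤ T → T₀ ⊔ zpowers k = T →
      T₀.relIndex T = 2 ^ j → cj(g, T₀) ≤ S → g * k ^ 2 ^ j * g⁻¹ ∈ U) : False := by
  classical
  have := Fintype.ofFinite (G ⧸ S)
  obtain ⟨c, hcc, hcq⟩ := exists_transfer_cocycle S (signHom h2)
  let V : (⊤ : Subgroup G) →* ℤˣ := hcc.hom ⊤ Finset.univ (fun _ _ _ _ => Finset.mem_univ _)
  let V' : G →* ℤˣ := V.comp (Subgroup.topEquiv (G := G)).symm.toMonoidHom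
  have hV : V' k = ∏ x, c k x := rfl
  have hV1 : V' k = 1 := by
    rcases Int.units_eq_one_or (V' k) with h3 | h3
    · exact h3
    · exact absurd (index_ker_eq_two h3) (h.idx _)
  let F : Set (G ⧸ S) := {q | ∀ t ∈ T, t • q = q}
  have hst : ∀ (x : G ⧸ S) (R : Subgroup G), (∀ t ∈ R, t • x = x) → cj(x.out⁻¹, R) ≤ S :=
    fun x R hR => cj_le_iff_forall.2 fun t ht => by simpa using smul_quot_eq_iff.1 (hR t ht)
  have hFo : Odd (Nat.card F) := by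
    have h3 := Semireg.card_modEq_of_invariant (p := 2) hT (Set.univ : Set (G ⧸ S))
      (fun _ _ _ _ => Set.mem_univ _)
    have h4 : Nat.card {x : G ⧸ S // x ∈ Set.univ ∧ ∀ g ∈ T, g • x = x} = Nat.card F :=
      Nat.card_congr (Equiv.subtypeEquivRight fun x => by simp [F])
    rw [h4, Nat.card_univ, ← index_eq_card] at h3
    have hP := odd_index_of_syl hS
    rw [Nat.odd_iff] at hP ⊢
    rw [← hP]; exact h3.symm
  have hne : ∀ x : G ⧸ S, stabilizer T x ≠ ⊤ ↔ x ∉ F := fun x => by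
    rw [Ne, eq_top_iff']
    exact not_congr ⟨fun h3 t ht => h3 ⟨t, ht⟩, fun h3 t => h3 t t.2⟩
  have hA : ∏ x ∈ Finset.univ.filter (· ∉ F), c k x = 1 := by
    by_contra h3
    obtain ⟨q, hq, h4⟩ := exists_orbit_prod_ne_one (G := T) (fun t x hx => by
      simp only [Finset.mem_filter, Finset.mem_univ, true_and] at hx ⊢
      intro h5
      apply hx
      intro u hu
      have h6 := h5 (t * u * (t : G)⁻¹) (T.mul_mem (T.mul_mem t.2 hu) (T.inv_mem t.2))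
      change _ • (t : G) • x = (t : G) • x at h6
      rw [smul_smul, inv_mul_cancel_right, mul_smul] at h6
      exact MulAction.injective _ h6) h3
    simp only [Finset.mem_filter, Finset.mem_univ, true_and] at hq
    refine h4 (orbit_prod_eq_one hT (hcc.subgroup T) (k := ⟨k, hk⟩)
      (fun t => Subtype.ext (hc t t.2)) q ((hne q).2 hq) fun x hx1 hx2 => ?_)
    obtain ⟨j, hj⟩ := hT.index (stabilizer T x)
    have hj1 : 1 ≤ j := by
      by_contra h5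
      rw [show j = 0 by omega, pow_zero, index_eq_one] at hj
      exact hx1 hj
    have hfix : ∀ t ∈ (stabilizer T x).map T.subtype, t • x = x := by
      rintro _ ⟨t, ht, rfl⟩
      exact ht
    have h5 := hb x.out⁻¹ j ((stabilizer T x).map T.subtype) hj1 (map_subtype_le _) (by
      have := congrArg (Subgroup.map T.subtype) hx2
      rwa [Subgroup.map_sup, MonoidHom.map_zpowers, ← MonoidHom.range_eq_map, range_subtype] at this)
      (by rw [relIndex, map_subtype_subgroupOf, hj]) (hst x _ hfix)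
    have hn : (stabilizer T x).Normal := by
      rw [← normalizer_eq_top_iff, eq_top_iff, ← hx2]
      exact sup_le le_normalizer
        (zpowers_le.2 (centralizer_le_normalizer' _ fun t _ => Subtype.ext (hc t t.2)))
    have h6 : (k ^ 2 ^ j) • x = x := by
      have := (stabilizer T x).pow_index_mem ⟨k, hk⟩
      rwa [hj] at this
    obtain ⟨hm, he⟩ := hcq _ x h6
    change c (k ^ (stabilizer T x).index) x = 1
    rw [hj, he]
    exact signHom_of_mem h2 h5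
  have hprod : ∏ x, c k x = (-1) ^ F.toFinset.card := by
    rw [← Finset.prod_filter_mul_prod_filter_not Finset.univ (· ∈ F), hA, mul_one,
      ← Finset.prod_const]
    refine Finset.prod_congr (by ext x; simp) fun x hx => ?_
    simp only [Set.mem_toFinset] at hx
    obtain ⟨hm, he⟩ := hcq k x (hx k hk)
    rw [he]
    exact signHom_of_not_mem h2 (ha _ (hst x T hx))
  have h5 : Odd F.toFinset.card := by rwa [← Set.ncard_eq_toFinset_card', ← Nat.card_coe_set_eq]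
  rw [hV, hprod, h5.neg_one_pow] at hV1
  exact absurd hV1 (by decide)

/-! ### The quotient `L / (C ⊓ L)` -/

section Quot

variable {L C : Subgroup G} [(C.subgroupOf L).Normal]

/-- the projection of `L` onto `L / (C ⊓ L)` -/
abbrev qπ (L C : Subgroup G) [(C.subgroupOf L).Normal] : L →* L ⧸ C.subgroupOf L :=
  QuotientGroup.mk' _

/-- the image of `X ⊓ L` in `L / (C ⊓ L)` -/
abbrev qI (L C : Subgroup G) [(C.subgroupOf L).Normal] (X : Subgroup G) :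
    Subgroup (L ⧸ C.subgroupOf L) := (X.subgroupOf L).map (qπ L C)

omit [Finite G]

theorem qπ_eq_one {x : L} : qπ L C x = 1 ↔ (x : G) ∈ C := QuotientGroup.eq_one_iff x

theorem qπ_surj : Function.Surjective (qπ L C) := QuotientGroup.mk'_surjective _

theorem qπ_mem {X : Subgroup G} {x : L} (hx : (x : G) ∈ X) : qπ L C x ∈ qI L C X :=
  mem_map_of_mem _ hx

theorem mem_qI {X : Subgroup G} {y : L ⧸ C.subgroupOf L} :
    y ∈ qI L C X ↔ ∃ x : L, (x : G) ∈ X ∧ qπ L C x = y := Iff.rfl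

theorem qπ_mem_iff {X : Subgroup G} (hX : C ⊓ L ≤ X) {x : L} :
    qπ L C x ∈ qI L C X ↔ (x : G) ∈ X := by
  refine ⟨fun ⟨y, hy, e⟩ => ?_, qπ_mem⟩
  have h1 : ((y⁻¹ * x : L) : G) ∈ C := by
    rw [← qπ_eq_one, map_mul, map_inv, e, inv_mul_cancel]
  have := X.mul_mem hy (hX ⟨h1, (y⁻¹ * x).2⟩)
  simpa using this

theorem card_qI {X : Subgroup G} (hX : X ≤ L) : Nat.card (qI L C X) = C.relIndex X := by
  rw [← relIndex_ker, QuotientGroup.ker_mk', relIndex_subgroupOf hX]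

theorem qI_normal {X : Subgroup G} (hX : L ≤ 𝐍[X]) : (qI L C X).Normal :=
  (normal_subgroupOf' hX).map _ qπ_surj

theorem qπ_comm {x y : L} : ⁅(x : G), (y : G)⁆ ∈ C ↔ qπ L C x * qπ L C y = qπ L C y * qπ L C x := by
  rw [← commutatorElement_eq_one_iff_mul_comm, ← map_commutatorElement, qπ_eq_one]
  rfl

theorem qπ_inv {x y : L} : (x : G) * y * (x : G)⁻¹ * y ∈ C ↔
    qπ L C x * qπ L C y * (qπ L C x)⁻¹ = (qπ L C y)⁻¹ := by
  rw [← mul_eq_one_iff_eq_inv, ← map_inv, ← map_mul, ← map_mul, ← map_mul, qπ_eq_one]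
  rfl

theorem qI_isEA {A : Subgroup G} (h : EAMod A C) : IsElementaryAbelian 2 (qI L C A) := by
  refine isEA_of_sq ?_
  rintro _ ⟨a, ha, rfl⟩
  rw [← map_mul, qπ_eq_one]
  exact h.2 a ha

theorem qI_two [Finite G] {T : Subgroup G} (h : 𝐎[2, T] ≤ C) : IsPGroup 2 (qI L C T) := by
  refine isPGroup_iff.2 ?_
  rintro _ ⟨a, ha, rfl⟩
  obtain ⟨k, hk⟩ := exists_pow_mem_pRes (p := 2) (L := T) ha
  exact ⟨k, by rw [← map_pow, qπ_eq_one]; exact h hk⟩

/-- odd elements of prime order lift -/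
theorem exists_odd_lift [Finite G] {F : Subgroup G} (hodd : Odd (Nat.card (qI L C F)))
    {z : L ⧸ C.subgroupOf L} (hz : z ∈ qI L C F) (h1 : z ≠ 1) :
    ∃ (x : L) (n : ℕ), (x : G) ∈ F ∧ (x : G) ∉ C ∧ Odd (orderOf (x : G)) ∧
      (∃ p : ℕ, p.Prime ∧ (x : G) ^ p ∈ C) ∧ qπ L C x = z ^ n := by
  obtain ⟨y, hy, rfl⟩ := hz
  obtain ⟨p, hp, m, hm⟩ := Nat.exists_prime_and_dvd (mt orderOf_eq_one_iff.1 h1)
  have hm0 : 0 < m := Nat.pos_of_ne_zero fun e => (orderOf_pos (qπ L C y)).ne' (by rw [hm, e]; rfl)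
  obtain ⟨k, hk⟩ := Amb.exists_pow_coprime (p := 2) ((y : G) ^ m)
  have ho : Odd (orderOf (qπ L C y)) :=
    Odd.of_dvd_nat hodd ((qI L C F).orderOf_dvd_natCard (qπ_mem hy))
  refine ⟨(y ^ m) ^ 2 ^ k, m * 2 ^ k, F.pow_mem (F.pow_mem hy _) _, fun h2 => ?_,
    coprime_two_iff.1 hk, ⟨p, hp, ?_⟩, by rw [map_pow, map_pow, pow_mul]⟩
  · rw [← qπ_eq_one, map_pow, map_pow, ← pow_mul, ← orderOf_dvd_iff_pow_eq_one] at h2
    have h3 := (Nat.Coprime.pow_right k (Nat.coprime_two_right.2 ho)).dvd_of_dvd_mul_right h2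
    have h4 := Nat.le_of_dvd hm0 h3
    have := hp.two_le
    rw [hm] at h4
    nlinarith
  · change (((y ^ m) ^ 2 ^ k) ^ p : L).1 ∈ C
    rw [← qπ_eq_one, map_pow, map_pow, map_pow, ← pow_mul, ← pow_mul,
      ← orderOf_dvd_iff_pow_eq_one, hm]
    exact ⟨2 ^ k, by ring⟩

theorem qI_faithful [Finite G] {F A : Subgroup G} (hF : F ≤ L)
    (hodd : Odd (Nat.card (qI L C F))) (hself : ∀ y ∈ L, (∀ f ∈ F, ⁅y, f⁆ ∈ C) → y ∈ F)
    (hEA : EAMod A C) : qI L C A ⊓ 𝐂[qI L C F] = ⊥ := by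
  rw [eq_bot_iff]
  rintro _ ⟨⟨a, ha, rfl⟩, h2⟩
  have h3 : (a : G) ∈ F := hself a a.2 fun f hf =>
    (qπ_comm (y := ⟨f, hF hf⟩)).2 (h2 _ (qπ_mem hf)).symm
  exact eq_one_of_isPGroup_of_coprime (elemAb_isPGroup (qI_isEA hEA)) (qπ_mem ha)
    (coprime_two_iff.2 (Odd.of_dvd_nat hodd ((qI L C F).orderOf_dvd_natCard (qπ_mem h3))))

theorem mem_opMod_iff [Finite G] (hC : L ≤ 𝐍[C]) {p : ℕ} [Fact p.Prime] {x : L} :
    (x : G) ∈ opMod p C L ↔ qπ L C x ∈ pCore p (L ⧸ C.subgroupOf L) := by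
  constructor
  · intro hx
    refine Grp.le_pCore (qI_normal (le_normalizer_opMod hC)) (isPGroup_iff.2 ?_) (qπ_mem hx)
    rintro _ ⟨a, ha, rfl⟩
    obtain ⟨k, hk⟩ := exists_pow_mem_pRes (p := p) (L := opMod p C L) ha
    exact ⟨k, by rw [← map_pow, qπ_eq_one]; exact pRes_opMod_le hC hk⟩
  · intro hx
    refine le_opMod (D := ((pCore p (L ⧸ C.subgroupOf L)).comap (qπ L C)).map L.subtype)
      (map_subtype_le _) (le_normalizer_map_subtype _) (pRes_le_of_pow ?_) (mem_map_subtype.2 hx)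
    rintro _ ⟨a, ha, rfl⟩
    obtain ⟨k, hk⟩ := isPGroup_iff.1 (isPGroup_pCore' p _) _ ha
    rw [← map_pow, qπ_eq_one] at hk
    exact ⟨k, hk⟩

end Quot

/-- the perfectness lemma -/
theorem perfK {N C T₁ T₂ : Subgroup G} (hs : Group.IsSolvable N) (hC : N ≤ 𝐍[C]) {g x t₁ t₂ : G}
    (hT₁ : T₁ ≤ N) (hT₂ : T₂ ≤ N) (p₁ : 𝐎[2, T₁] ≤ C) (p₂ : 𝐎[2, T₂] ≤ C) (hg : g ∈ N) (hx : x ∈ N)
    (og : Odd (orderOf g)) (ox : Odd (orderOf x)) (ng : g ∈ 𝐍[T₁]) (nx : x ∈ 𝐍[T₂])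
    (m₁ : t₁ ∈ ⁅T₁, zpowers g⁆) (m₂ : t₂ ∈ ⁅T₂, zpowers x⁆) (n₁ : t₁ ∈ 𝐍[T₂]) (n₂ : t₂ ∈ 𝐍[T₁])
    (i₁ : t₁ * x * t₁⁻¹ * x ∈ T₂) (i₂ : t₂ * g * t₂⁻¹ * g ∈ T₁) : g ∈ C := by
  set P := ncl (zpowers g ⊔ zpowers x) N with hP
  have hPN : P ≤ N := ncl_le_of_le (sup_le (zpowers_le.2 hg) (zpowers_le.2 hx))
  have hn : N ≤ 𝐍[P] := le_normalizer_ncl _ _
  have hgP : g ∈ P := le_ncl _ _ (mem_sup_left (mem_zpowers g))
  have hxP : x ∈ P := le_ncl _ _ (mem_sup_right (mem_zpowers x))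
  have hcom : ∀ {T : Subgroup G} {y : G}, T ≤ N → y ∈ P → ⁅T, zpowers y⁆ ≤ P := fun hT hy =>
    commutator_le.2 fun a ha b hb => by
      rw [commutatorElement_def]
      exact P.mul_mem (Amb.conj_mem_of_mem_normalizer (hn (hT ha)) (zpowers_le.2 hy hb))
        (P.inv_mem (zpowers_le.2 hy hb))
  set D := ⁅P, P⁆ ⊔ (C ⊓ N) with hD
  have hND : N ≤ 𝐍[D] := Amb.le_normalizer_sup (Amb.le_normalizer_commutator hn hn)
    (Amb.le_normalizer_inf hC le_normalizer)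
  have key : ∀ {T : Subgroup G} {y t : G}, T ≤ N → 𝐎[2, T] ≤ C → y ∈ P → t ∈ P →
      Odd (orderOf y) → t * y * t⁻¹ * y ∈ T → y ∈ D := by
    intro T y t hT hp hy ht ho hi
    obtain ⟨k, hk⟩ := exists_pow_mem_pRes (p := 2) hi
    have h1 : (t * y * t⁻¹ * y) ^ 2 ^ k ∈ D :=
      mem_sup_right ⟨hp hk, N.pow_mem (hT hi) _⟩
    have hyD : y ^ 2 ∈ 𝐍[D] := hND (N.pow_mem (hPN hy) 2)
    have h3 : t * y * t⁻¹ * y = y ^ 2 * ((y ^ 2)⁻¹ * ⁅t, y⁆ * y ^ 2) := by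
      simp only [commutatorElement_def, pow_two]; group
    obtain ⟨c, hc, e⟩ := exists_mul_pow_eq hyD (Amb.inv_conj_mem_of_mem_normalizer hyD
      (mem_sup_left (commutator_mem_commutator ht hy))) (2 ^ k)
    rw [h3, e] at h1
    have h4 := D.mul_mem h1 (D.inv_mem hc)
    rw [mul_inv_cancel_right, ← pow_mul, ← pow_succ'] at h4
    exact mem_of_pow_mem_of_coprime h4 (Nat.Coprime.pow_right _ (coprime_two_iff.2 ho))
  have h1 : P ≤ D := ncl_le (sup_le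
    (zpowers_le.2 (key hT₁ p₁ hgP (hcom hT₂ hxP m₂) og i₂))
    (zpowers_le.2 (key hT₂ p₂ hxP (hcom hT₁ hgP m₁) ox i₁))) hND
  have := normal_subgroupOf' hC
  by_contra h2
  have h3 : qI N C P ≠ ⊥ := fun e => h2 ((qπ_eq_one (x := ⟨g, hg⟩)).1 (by
    have := qπ_mem (C := C) (x := ⟨g, hg⟩) hgP
    rwa [e, mem_bot] at this))
  refine (Grp.commutator_lt_of_isSolvable h3).not_ge ?_
  have h4 : D ≤ ((⁅qI N C P, qI N C P⁆ : Subgroup _).comap (qπ N C)).map N.subtype := by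
    refine sup_le (commutator_le.2 fun a ha b hb => ?_) fun c hc => ?_
    · refine (mem_map_subtype (x := ⁅(⟨a, hPN ha⟩ : N), ⟨b, hPN hb⟩⁆)).2 ?_
      rw [mem_comap, map_commutatorElement]
      exact commutator_mem_commutator (qπ_mem ha) (qπ_mem hb)
    · refine (mem_map_subtype (x := ⟨c, hc.2⟩)).2 ?_
      rw [mem_comap, qπ_eq_one.2 hc.1]
      exact one_mem _
  rintro _ ⟨y, hy, rfl⟩
  exact mem_map_subtype.1 (h4 (h1 hy))

/-- an element inverted modulo `Y` can be replaced by an element of odd order that is inverted -/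
theorem exists_odd_inverted {Y : Subgroup G} {v x : G} (hv : v * v = 1) (hvN : v ∈ 𝐍[Y])
    (hxN : x ∈ 𝐍[Y]) (ho : ∃ n : ℕ, Odd n ∧ x ^ n ∈ Y) (hi : v * x * v⁻¹ * x ∈ Y) :
    ∃ y : G, Odd (orderOf y) ∧ v * y * v⁻¹ = y⁻¹ ∧ y * x⁻¹ ∈ Y ∧
      y ∈ zpowers (v * (x * v * x⁻¹)) := by
  obtain ⟨n, hn, hxn⟩ := ho
  have hv' : v⁻¹ = v := inv_eq_of_mul_eq_one_right hv
  set w := v * (x * v * x⁻¹) with hw
  obtain ⟨k, hk⟩ := Amb.exists_pow_coprime (p := 2) w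
  obtain ⟨m, hm⟩ : ∃ m : ℕ, n ∣ 2 * (2 ^ k * m) + 1 := by
    obtain ⟨m, -, hm⟩ := Nat.exists_mul_mod_eq_of_coprime (n - 1)
      (Nat.Coprime.pow_left (k + 1) (Nat.coprime_two_left.2 hn)) hn.pos.ne'
    refine ⟨m, ?_⟩
    have h1 : 2 ^ (k + 1) * m + 1 ≡ (n - 1) + 1 [MOD n] := Nat.ModEq.add_right 1 hm
    rw [Nat.sub_add_cancel hn.pos] at h1
    rw [← mul_assoc, ← pow_succ']
    exact (Nat.modEq_zero_iff_dvd.1 (h1.trans (Nat.modEq_zero_iff_dvd.2 dvd_rfl)))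
  refine ⟨w ^ (2 ^ k * m), ?_, ?_, ?_, pow_mem (mem_zpowers w) _⟩
  · rw [pow_mul]
    exact Odd.of_dvd_nat (coprime_two_iff.1 hk) (orderOf_pow_dvd _)
  · rw [← conj_pow, ← inv_pow]
    congr 1
    rw [hw, hv']
    calc v * (v * (x * v * x⁻¹)) * v = (v * v) * (x * v * x⁻¹ * v) := by group
      _ = (v⁻¹ * (x * v⁻¹ * x⁻¹))⁻¹ := by rw [hv]; group
      _ = _ := by rw [hv']
  · have h1 : w = (x ^ 2)⁻¹ * (x ^ 2 * (v * x * v⁻¹ * x) * (x ^ 2)⁻¹) := by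
      rw [hw, hv', pow_two]; group
    have h2 : (x ^ 2)⁻¹ ∈ 𝐍[Y] := inv_mem (pow_mem hxN 2)
    obtain ⟨c, hc, e⟩ := exists_mul_pow_eq h2
      (Amb.conj_mem_of_mem_normalizer (pow_mem hxN 2) hi) (2 ^ k * m)
    rw [h1, e]
    obtain ⟨r, hr⟩ := hm
    have h3 : (x ^ 2)⁻¹ ^ (2 ^ k * m) * c * x⁻¹ = ((x ^ n) ^ r)⁻¹ * (x * c * x⁻¹) := by
      rw [← pow_mul, ← hr, inv_pow, ← pow_mul, pow_succ']; group
    rw [h3]
    exact Y.mul_mem (Y.inv_mem (Y.pow_mem hxn r)) (Amb.conj_mem_of_mem_normalizer hxN hc)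

/-- the preimage of the Fitting subgroup of `L / C` -/
theorem exists_fit {L C : Subgroup G} (hs : Group.IsSolvable L) (hC : L ≤ 𝐍[C])
    (hr : RedMod 2 C L) : ∃ F : Subgroup G, C ⊓ L ≤ F ∧ F ≤ L ∧ 𝐍[L] ⊓ 𝐍[C] ≤ 𝐍[F] ∧
      Odd (C.relIndex F) ∧ (∀ y ∈ L, (∀ f ∈ F, ⁅y, f⁆ ∈ C) → y ∈ F) ∧
      (∀ x ∈ F, ∀ p : ℕ, p.Prime → (∃ k : ℕ, x ^ p ^ k ∈ C) →
        ∀ d ∈ ncl (zpowers x) L, ∃ k : ℕ, d ^ p ^ k ∈ C) ∧
      (∀ X : Subgroup G, C ⊓ L ≤ X → X < F → ∃ f ∈ F, f ∉ X ∧ f ∈ 𝐍[X]) := by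
  have := normal_subgroupOf' hC
  set F : Subgroup G := ⨆ p : Nat.Primes, opMod p C L with hF
  have hCF : C ⊓ L ≤ F := by
    rw [inf_comm]
    exact (inf_le_opMod hC).trans (le_iSup (fun p : Nat.Primes => opMod p C L) ⟨2, Nat.prime_two⟩)
  have hFL : F ≤ L := iSup_le fun p => opMod_le _ _ _
  have hI : qI L C F = fittingSubgroup (L ⧸ C.subgroupOf L) := by
    rw [Grp.fitting_eq_iSup_pCore]
    apply le_antisymm
    · have h1 : F ≤ ((⨆ p : Nat.Primes, pCore p (L ⧸ C.subgroupOf L)).comap (qπ L C)).map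
          L.subtype := iSup_le fun p x hx => by
        have := Fact.mk p.2
        refine (mem_map_subtype (x := ⟨x, opMod_le _ _ _ hx⟩)).2 ?_
        exact mem_iSup_of_mem p ((mem_opMod_iff hC).1 hx)
      rintro _ ⟨y, hy, rfl⟩
      exact mem_map_subtype.1 (h1 hy)
    · refine iSup_le fun p y hy => ?_
      have := Fact.mk p.2
      obtain ⟨x, rfl⟩ := qπ_surj y
      exact qπ_mem (mem_iSup_of_mem p ((mem_opMod_iff hC).2 hy))
  have hm : ∀ x : L, (x : G) ∈ F ↔ qπ L C x ∈ fittingSubgroup (L ⧸ C.subgroupOf L) := fun x => by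
    rw [← hI, qπ_mem_iff hCF]
  refine ⟨F, hCF, hFL, fun g hg => ?_, ?_, fun y hy h1 => ?_, fun x hx p hp ⟨k, hk⟩ d hd => ?_,
    fun X hX hlt => ?_⟩
  · rw [← cj_eq_iff, hF, cj_iSup]
    exact iSup_congr fun p => cj_eq_iff.2 (le_normalizer_opMod_of inf_le_right inf_le_left hg)
  · rw [← card_qI hFL, hI, ← Nat.coprime_two_right]
    exact (Grp.pPrimeCore_coprime 2 _).coprime_dvd_left (card_dvd_of_le
      (Grp.fitting_le_pPrimeCore_of_pCore_eq_bot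
        ((pCore_quotient_subgroupOf_eq_bot_iff C L).2 hr)))
  · refine (hm ⟨y, hy⟩).2 (Grp.centralizer_fitting_le _ fun z hz => ?_)
    obtain ⟨f, rfl⟩ := qπ_surj z
    exact (qπ_comm.1 (h1 f ((hm f).2 hz))).symm
  · have := Fact.mk hp
    have h1 : x ∈ opMod p C L := (mem_opMod_iff hC (x := ⟨x, hFL hx⟩)).2
      (Grp.le_pCore_of_le_fitting (isPGroup_zpowers ⟨k, by
        rw [← map_pow, qπ_eq_one]; exact hk⟩) (zpowers_le.2 ((hm ⟨x, hFL hx⟩).1 hx))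
        (mem_zpowers _))
    obtain ⟨j, hj⟩ := exists_pow_mem_pRes (p := p)
      (ncl_le (zpowers_le.2 h1) (le_normalizer_opMod hC) hd)
    exact ⟨j, pRes_opMod_le hC hj⟩
  · have hXL := hlt.le.trans hFL
    have hnil : Group.IsNilpotent (qI L C F) := by rw [hI]; infer_instance
    have h1 : (qI L C X).subgroupOf (qI L C F) < ⊤ := by
      rw [lt_top_iff_ne_top, Ne, subgroupOf_eq_top]
      intro h2
      exact hlt.not_ge fun f hf => (qπ_mem_iff hX (x := ⟨f, hFL hf⟩)).1 (h2 (qπ_mem hf))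
    obtain ⟨⟨_, f, hf, rfl⟩, h2, h3⟩ :=
      SetLike.exists_of_lt (Group.normalizerCondition_of_isNilpotent _ h1)
    refine ⟨f, hf, fun h4 => h3 (qπ_mem h4), mem_normalizer_of_cj_le
      (cj_le_iff_forall.2 fun x hx => ?_)⟩
    have h4 := (mem_normalizer_iff.1 h2 ⟨qπ L C ⟨x, hXL hx⟩, qπ_mem (hlt.le hx)⟩).1 (qπ_mem hx)
    refine (qπ_mem_iff hX (x := f * ⟨x, hXL hx⟩ * f⁻¹)).1 ?_
    rw [map_mul, map_mul, map_inv]
    exact h4

theorem EAMod.relIndex_pow {A C : Subgroup G} (h : EAMod A C) (hn : A ≤ 𝐍[C]) :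
    ∃ k : ℕ, C.relIndex A = 2 ^ k := by
  have := normal_subgroupOf' hn
  rw [← card_qI le_rfl]
  exact IsPGroup.iff_card.1 (elemAb_isPGroup (qI_isEA h))

/-- Thompson's dihedral lemma modulo `C` -/
theorem dihedral_mod {L C F A : Subgroup G} (hs : Group.IsSolvable L) (hC : L ≤ 𝐍[C])
    (hCF : C ⊓ L ≤ F) (hF : F ≤ L) (hn : L ≤ 𝐍[F]) (hodd : Odd (C.relIndex F))
    (hself : ∀ y ∈ L, (∀ f ∈ F, ⁅y, f⁆ ∈ C) → y ∈ F) (hA : A ≤ L) (hEA : EAMod A C) {k : ℕ}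
    (hk : C.relIndex A = 2 ^ k) : ∃ a x : Fin k → G,
      (∀ i, a i ∈ A ∧ x i ∈ F ∧ x i ∉ C ∧ Odd (orderOf (x i)) ∧ (∃ p : ℕ, p.Prime ∧ x i ^ p ∈ C) ∧
        a i * x i * (a i)⁻¹ * x i ∈ C) ∧
      (∀ i j, i ≠ j → ⁅a i, x j⁆ ∈ C ∧ ⁅x i, x j⁆ ∈ C) ∧ A ≤ C ⊔ ⨆ i, zpowers (a i) := by
  rcases Nat.eq_zero_or_pos k with rfl | hk0
  · exact ⟨Fin.elim0, Fin.elim0, fun i => i.elim0, fun i => i.elim0,
      (relIndex_eq_one.1 hk).trans le_sup_left⟩
  have := normal_subgroupOf' hC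
  rw [← card_qI hF] at hodd
  rw [← card_qI hA] at hk
  have hFn := qI_normal (C := C) hn
  obtain ⟨V, hVL, hVc, hAV, hf⟩ := S1349.exists_abelian inferInstance hodd (qI_isEA hEA)
    (fun e => by
      rw [e, card_bot] at hk
      exact (Nat.one_lt_two_pow hk0.ne').ne hk)
    (le_top.trans (normalizer_eq_top _).ge) (qI_faithful hF hodd hself hEA)
  obtain ⟨x, a, D, -, hD, hx, hxa, hgen⟩ := S1349.exists_dual
    (Sig.not_dvd_of_le hVL hodd.not_two_dvd_nat) (qI_isEA hEA) hk hAV hf k le_rfl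
  rw [Nat.sub_self, pow_zero, card_eq_one] at hD
  rw [hD, sup_bot_eq] at hgen
  choose a' ha' ea using fun i => mem_qI.1 (hx i).2.2.1
  choose x' n h1 h2 h3 h4 h5 using fun i => exists_odd_lift hodd (hVL (hx i).1) (hx i).2.1
  refine ⟨fun i => a' i, fun i => x' i, fun i => ⟨ha' i, h1 i, h2 i, h3 i, h4 i, ?_⟩,
    fun i j hij => ⟨?_, ?_⟩, fun y hy => ?_⟩
  · rw [qπ_inv, ea, h5, ← conj_pow, (hx i).2.2.2.1, inv_pow]
  · rw [qπ_comm, ea, h5]
    exact (Commute.pow_right (hxa i j hij) _)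
  · rw [qπ_comm, h5, h5]
    exact congrArg Subtype.val (hVc.is_comm.comm ⟨_, V.pow_mem (hx i).1 _⟩ ⟨_, V.pow_mem (hx j).1 _⟩)
  · refine (qπ_mem_iff (C := C) (inf_le_left.trans le_sup_left) (x := ⟨y, hA hy⟩)).1 ?_
    refine le_trans hgen (iSup_le fun i => zpowers_le.2 ?_) (qπ_mem hy)
    rw [← ea]
    exact qπ_mem (mem_sup_right (mem_iSup_of_mem i (mem_zpowers _)))

/-- the hyperplane form of the dihedral lemma -/
theorem hyperplane_mod {L C F A : Subgroup G} (hs : Group.IsSolvable L) (hC : L ≤ 𝐍[C])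
    (hCF : C ⊓ L ≤ F) (hF : F ≤ L) (hn : L ≤ 𝐍[F]) (hodd : Odd (C.relIndex F))
    (hself : ∀ y ∈ L, (∀ f ∈ F, ⁅y, f⁆ ∈ C) → y ∈ F) (hA : A ≤ L) (hEA : EAMod A C)
    (hne : ¬ A ≤ C) : ∃ (A₀ : Subgroup G) (x : G), A ⊓ C ≤ A₀ ∧ A₀ ≤ A ∧ A₀.relIndex A = 2 ∧
      x ∈ F ∧ x ∉ C ∧ Odd (orderOf x) ∧ (∃ p : ℕ, p.Prime ∧ x ^ p ∈ C) ∧
      (∀ a ∈ A₀, ⁅a, x⁆ ∈ C) ∧ ∀ a ∈ A, a ∉ A₀ → a * x * a⁻¹ * x ∈ C := by
  have := normal_subgroupOf' hC
  rw [← card_qI hF] at hodd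
  have hFn := qI_normal (C := C) hn
  obtain ⟨c, hc, hcC⟩ := SetLike.not_le_iff_exists.1 hne
  have hc1 : qπ L C ⟨c, hA hc⟩ ≠ 1 := mt qπ_eq_one.1 hcC
  have hcA : qπ L C ⟨c, hA hc⟩ ∈ qI L C A := qπ_mem hc
  obtain ⟨B, hB, hBV⟩ := Sig.exists_hyp_not_le (L := 𝐂₁[qπ L C ⟨c, hA hc⟩]) (qI_isEA hEA)
    (fun e => hc1 (by rwa [e] at hcA)) (X := qI L C F) (le_top.trans (normalizer_eq_top _).ge)
    hodd.not_two_dvd_nat (fun h => hc1 (by
      have : qπ L C ⟨c, hA hc⟩ ∈ qI L C A ⊓ 𝐂[qI L C F] :=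
        ⟨hcA, fun f hf => mem_centralizer_singleton_iff.1 (h hf)⟩
      rwa [qI_faithful hF hodd hself hEA] at this))
  obtain ⟨y, hy, hyc⟩ := SetLike.not_le_iff_exists.mp hBV
  have hcB : qπ L C ⟨c, hA hc⟩ ∉ B := fun h =>
    hyc (mem_centralizer_singleton_iff.2 (hy.2 _ h).symm)
  obtain ⟨h1, h2, h3⟩ := S1349.eigen (qI_isEA hEA) hB hcA hcB hy.2
  set c' := qπ L C ⟨c, hA hc⟩ with hc'
  set z := y⁻¹ * (c' * y * c'⁻¹) with hz
  have hzV : z ∈ qI L C F := mul_mem (inv_mem hy.1) (hFn.conj_mem y hy.1 c')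
  have hz1 : z ≠ 1 := fun h => hyc (mem_centralizer_singleton_iff.2
    (eq_mul_inv_iff_mul_eq.mp (inv_mul_eq_one.mp h)))
  obtain ⟨x, n, e1, e2, e3, e4, e5⟩ := exists_odd_lift hodd hzV hz1
  have hm : ∀ a : L, (a : G) ∈ A ⊓ (B.comap (qπ L C)).map L.subtype ↔ (a : G) ∈ A ∧ qπ L C a ∈ B :=
    fun a => by rw [mem_inf, mem_map_subtype, mem_comap]
  refine ⟨A ⊓ (B.comap (qπ L C)).map L.subtype, x, fun a ha => ?_, inf_le_left, ?_, e1, e2, e3, e4,
    fun a ha => ?_, fun a ha ha' => ?_⟩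
  · refine (hm ⟨a, hA ha.1⟩).2 ⟨ha.1, ?_⟩
    rw [qπ_eq_one.2 ha.2]
    exact one_mem _
  · rw [inf_comm, inf_relIndex_right, ← relIndex_subgroupOf hA, map_subtype_subgroupOf,
      relIndex_comap]
    exact hB.2
  · refine (qπ_comm (x := ⟨a, hA ha.1⟩)).2 ?_
    rw [e5]
    exact Commute.pow_right (h3 _ ((hm ⟨a, hA ha.1⟩).1 ha).2) _
  · refine (qπ_inv (x := ⟨a, hA ha⟩)).2 ?_
    obtain ⟨b, hb, e | e⟩ := h2 _ (qπ_mem (x := ⟨a, hA ha⟩) ha)
    · exact absurd ((hm ⟨a, hA ha⟩).2 ⟨ha, e ▸ hb⟩) ha'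
    · rw [e5, ← conj_pow, ← inv_pow, e]
      congr 1
      have h4 : b * z⁻¹ = z⁻¹ * b := (Commute.inv_right (h3 b hb))
      calc b * c' * z * (b * c')⁻¹ = b * (c' * z * c'⁻¹) * b⁻¹ := by group
        _ = z⁻¹ := by rw [h1, h4]; group

end Cfsg.Agent.NG
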