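import Mathlib
import Cfsg.Agent.Grp.AutCard

/-!
Linear algebra for finite abelian groups of exponent 2 with endomorphisms: counting, coprime
decompositions, elements of order 3 with a commutator space of order 4.
-/

set_option autoImplicit false

namespace Cfsg.Agent.NG.Lin

open LinearMap

variable {W : Type*} [AddCommGroup W]

/-- fixed points of an endomorphism -/
def fix (σ : Module.End ℤ W) : Submodule ℤ W := ker (σ - 1)

/-- the commutator space of an endomorphism -/
def com (σ : Module.End ℤ W) : Submodule ℤ W := range (σ - 1)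

theorem mem_fix {σ : Module.End ℤ W} {w : W} : w ∈ fix σ ↔ σ w = w := by
  simp [fix, sub_eq_zero]

theorem mem_com {σ : Module.End ℤ W} {w : W} : w ∈ com σ ↔ ∃ v, σ v - v = w := by
  simp [com]

theorem sub_mem_com (σ : Module.End ℤ W) (v : W) : σ v - v ∈ com σ := mem_com.2 ⟨v, rfl⟩

theorem fix_eq_top {σ : Module.End ℤ W} : fix σ = ⊤ ↔ σ = 1 := by
  rw [fix, ker_eq_top, sub_eq_zero]

theorem com_eq_bot {σ : Module.End ℤ W} : com σ = ⊥ ↔ σ = 1 := by
  rw [com, range_eq_bot, sub_eq_zero]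

theorem fix_one : fix (1 : Module.End ℤ W) = ⊤ := fix_eq_top.2 rfl

theorem com_one : com (1 : Module.End ℤ W) = ⊥ := com_eq_bot.2 rfl

theorem com_mul_le (σ τ : Module.End ℤ W) (h : ∀ w ∈ com τ, σ w ∈ com σ ⊔ com τ) :
    com (σ * τ) ≤ com σ ⊔ com τ := by
  intro w hw
  obtain ⟨v, rfl⟩ := mem_com.1 hw
  have : (σ * τ) v - v = σ (τ v - v) + (σ v - v) := by simp
  rw [this]
  exact add_mem (h _ (sub_mem_com τ v)) (Submodule.mem_sup_left (sub_mem_com σ v))

theorem apply_mem_of_com_le {σ : Module.End ℤ W} {S : Submodule ℤ W} (h : com σ ≤ S) {w : W}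
    (hw : w ∈ S) : σ w ∈ S := by
  have : σ w = (σ w - w) + w := by simp
  rw [this]
  exact add_mem (h (sub_mem_com σ w)) hw

theorem com_mul_le' (σ τ : Module.End ℤ W) : com (σ * τ) ≤ com σ ⊔ com τ :=
  com_mul_le σ τ fun _ hw => apply_mem_of_com_le le_sup_left (Submodule.mem_sup_right hw)

theorem com_pow_le (σ : Module.End ℤ W) (n : ℕ) : com (σ ^ n) ≤ com σ := by
  induction n with
  | zero => rw [pow_zero, com_one]; exact bot_le
  | succ n ih => rw [pow_succ]; exact (com_mul_le' _ _).trans (sup_le ih le_rfl)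

theorem fix_le_fix_pow (σ : Module.End ℤ W) (n : ℕ) : fix σ ≤ fix (σ ^ n) := by
  intro w hw
  rw [mem_fix] at hw ⊢
  induction n with
  | zero => simp
  | succ n ih => rw [pow_succ, Module.End.mul_apply, hw, ih]

theorem pow_apply_mem {σ : Module.End ℤ W} {S : Submodule ℤ W} (h : ∀ w ∈ S, σ w ∈ S) (n : ℕ) :
    ∀ w ∈ S, (σ ^ n) w ∈ S := by
  induction n with
  | zero => simp
  | succ n ih => intro w hw; rw [pow_succ, Module.End.mul_apply]; exact ih _ (h w hw)

theorem apply_mem_com {σ τ : Module.End ℤ W} (h : τ * σ = σ * τ) {w : W} (hw : w ∈ com σ) :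
    τ w ∈ com σ := by
  obtain ⟨v, rfl⟩ := mem_com.1 hw
  rw [map_sub, ← Module.End.mul_apply, h]
  exact sub_mem_com σ _

theorem apply_mem_fix {σ τ : Module.End ℤ W} (h : τ * σ = σ * τ) {w : W} (hw : w ∈ fix σ) :
    τ w ∈ fix σ := by
  rw [mem_fix] at hw ⊢
  rw [← Module.End.mul_apply, ← h, Module.End.mul_apply, hw]

theorem inj_of_pow {σ : Module.End ℤ W} {n : ℕ} (hn : n ≠ 0) (h : σ ^ n = 1) {w : W}
    (hw : σ w = 0) : w = 0 := by
  obtain ⟨m, rfl⟩ := Nat.exists_eq_succ_of_ne_zero hn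
  have : (σ ^ (m + 1)) w = 0 := by rw [pow_succ, Module.End.mul_apply, hw, map_zero]
  rwa [h] at this

theorem eq_of_forall_compl {σ τ : Module.End ℤ W} {S T : Submodule ℤ W} (h : S ⊔ T = ⊤)
    (h1 : ∀ w ∈ S, σ w = τ w) (h2 : ∀ w ∈ T, σ w = τ w) : σ = τ := by
  ext w
  obtain ⟨a, ha, b, hb, rfl⟩ := Submodule.mem_sup.1 (h ▸ Submodule.mem_top : w ∈ S ⊔ T)
  rw [map_add, map_add, h1 a ha, h2 b hb]

section two
variable (h2 : ∀ w : W, w + w = 0)
include h2

theorem neg_eq (w : W) : -w = w := neg_eq_of_add_eq_zero_right (h2 w)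

theorem sub_eq (v w : W) : v - w = v + w := by rw [sub_eq_add_neg, neg_eq h2]

theorem add_eq_zero {v w : W} : v + w = 0 ↔ v = w := by rw [← sub_eq h2, sub_eq_zero]

theorem odd_smul {n : ℕ} (hn : Odd n) (w : W) : n • w = w := by
  obtain ⟨m, rfl⟩ := hn
  rw [add_smul, one_smul, mul_comm, mul_smul, two_smul, h2, smul_zero, zero_add]

theorem com_le_fix {σ : Module.End ℤ W} (h : σ * σ = 1) : com σ ≤ fix σ := by
  intro w hw
  obtain ⟨v, rfl⟩ := mem_com.1 hw
  rw [mem_fix, map_sub, ← Module.End.mul_apply, h, sub_eq h2, sub_eq h2, add_comm]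
  rfl

theorem com_inf_fix {σ : Module.End ℤ W} {n : ℕ} (hn : Odd n) (h : σ ^ n = 1) :
    com σ ⊓ fix σ = ⊥ := by
  rw [eq_bot_iff]
  rintro w ⟨h1, h3⟩
  obtain ⟨v, rfl⟩ := mem_com.1 h1
  have e1 : (∑ i ∈ Finset.range n, σ ^ i) (σ v - v) = 0 := by
    have := geom_sum_mul σ n
    rw [h, sub_self] at this
    have := congrArg (fun f : Module.End ℤ W => f v) this
    simpa using this
  have e2 : (∑ i ∈ Finset.range n, σ ^ i) (σ v - v) = n • (σ v - v) := by
    rw [LinearMap.sum_apply, Finset.sum_congr rfl fun i _ => mem_fix.1 (fix_le_fix_pow σ i h3),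
      Finset.sum_const, Finset.card_range]
  rw [e1, odd_smul h2 hn] at e2
  exact (Submodule.mem_bot ℤ).2 e2.symm

/-- on the commutator space of an element of order 3 -/
theorem cube_rel {σ : Module.End ℤ W} (h : σ ^ 3 = 1) {w : W} (hw : w ∈ com σ) :
    σ (σ w) = σ w + w := by
  obtain ⟨v, rfl⟩ := mem_com.1 hw
  have e : σ (σ (σ v)) = v := by
    have := congrArg (fun f : Module.End ℤ W => f v) h
    simpa [pow_succ] using this
  simp only [map_sub, e]
  have := h2 (σ (σ v))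
  have h3 := h2 v
  rw [sub_eq h2, sub_eq h2, sub_eq h2]
  calc v + σ (σ v) = v + σ (σ v) + (σ v + σ v) := by rw [h2 (σ v), add_zero]
    _ = _ := by abel

end two

variable [Finite W]

omit [Finite W] in
theorem card_inf_mul_card_map (f : Module.End ℤ W) (S : Submodule ℤ W) :
    Nat.card ↥(S ⊓ ker f) * Nat.card ↥(S.map f) = Nat.card S := by
  have h1 := Submodule.card_eq_card_quotient_mul_card (ker (f.domRestrict S))
  rw [Nat.card_congr (quotKerEquivRange (f.domRestrict S)).toEquiv, range_domRestrict,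
    ker_domRestrict] at h1
  rw [h1]
  congr 1
  rw [← Nat.card_congr (Submodule.comapSubtypeEquivOfLe (inf_le_left : S ⊓ ker f ≤ S)).toEquiv,
    Submodule.comap_inf, Submodule.comap_subtype_self, top_inf_eq]

omit [Finite W] in
theorem card_top : Nat.card (⊤ : Submodule ℤ W) = Nat.card W :=
  Nat.card_congr Submodule.topEquiv.toEquiv

omit [Finite W] in
theorem card_fix_mul_card_com (σ : Module.End ℤ W) :
    Nat.card (fix σ) * Nat.card (com σ) = Nat.card W := by
  have := card_inf_mul_card_map (σ - 1) ⊤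
  rwa [top_inf_eq, Submodule.map_top, card_top] at this

theorem card_pos (S : Submodule ℤ W) : 0 < Nat.card S := Nat.card_pos

theorem card_le {S T : Submodule ℤ W} (h : S ≤ T) : Nat.card S ≤ Nat.card T :=
  Nat.card_le_card_of_injective _ (Submodule.inclusion_injective h)

omit [Finite W] in
theorem card_dvd {S T : Submodule ℤ W} (h : S ≤ T) : Nat.card S ∣ Nat.card T :=
  AddSubgroup.card_dvd_of_le (H := S.toAddSubgroup) (K := T.toAddSubgroup) h

theorem eq_of_le_of_card_le {S T : Submodule ℤ W} (h : S ≤ T) (h' : Nat.card T ≤ Nat.card S) :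
    S = T := by
  apply SetLike.coe_injective
  exact Set.eq_of_subset_of_ncard_le h h' (Set.toFinite _)

theorem card_eq_one {S : Submodule ℤ W} : Nat.card S = 1 ↔ S = ⊥ := by
  constructor
  · intro h
    exact (eq_of_le_of_card_le bot_le (by rw [h]; exact card_pos _)).symm
  · rintro rfl; simp

theorem two_mul_card_le {S T : Submodule ℤ W} (h : S ≤ T) (hne : S ≠ T) :
    2 * Nat.card S ≤ Nat.card T := by
  obtain ⟨c, hc⟩ := card_dvd h
  have h0 : c ≠ 0 := by rintro rfl; exact (card_pos T).ne' (by simpa using hc)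
  have h1 : c ≠ 1 := by
    rintro rfl
    exact hne (eq_of_le_of_card_le h (by rw [hc, mul_one]))
  rw [hc, mul_comm]
  exact Nat.mul_le_mul_left _ (by omega)

omit [Finite W] in
theorem card_sup_mul_card_inf (S T : Submodule ℤ W) :
    Nat.card ↥(S ⊔ T) * Nat.card ↥(S ⊓ T) = Nat.card S * Nat.card T := by
  have h1 := Submodule.card_eq_card_quotient_mul_card (T.comap (S ⊔ T).subtype)
  have h2 := Submodule.card_eq_card_quotient_mul_card ((S ⊓ T).comap S.subtype)
  rw [Nat.card_congr (Submodule.comapSubtypeEquivOfLe (le_sup_right : T ≤ S ⊔ T)).toEquiv] at h1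
  rw [Nat.card_congr (Submodule.comapSubtypeEquivOfLe (inf_le_left : S ⊓ T ≤ S)).toEquiv,
    Submodule.comap_inf, Nat.card_congr (quotientInfEquivSupQuotient S T).toEquiv] at h2
  rw [h1, h2]; ring

omit [Finite W] in
theorem card_sup_of_inf {S T : Submodule ℤ W} (h : S ⊓ T = ⊥) :
    Nat.card ↥(S ⊔ T) = Nat.card S * Nat.card T := by
  rw [← card_sup_mul_card_inf, h]; simp

theorem card_sup_le (S T : Submodule ℤ W) : Nat.card ↥(S ⊔ T) ≤ Nat.card S * Nat.card T := by
  rw [← card_sup_mul_card_inf]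
  exact Nat.le_mul_of_pos_right _ (card_pos _)

theorem card_map_le (f : Module.End ℤ W) (S : Submodule ℤ W) : Nat.card (S.map f) ≤ Nat.card S := by
  rw [← card_inf_mul_card_map f S]
  exact Nat.le_mul_of_pos_left _ (card_pos _)

omit [Finite W] in
theorem card_map_of_inf {f : Module.End ℤ W} {S : Submodule ℤ W} (h : S ⊓ ker f = ⊥) :
    Nat.card (S.map f) = Nat.card S := by
  rw [← card_inf_mul_card_map f S, h]; simp

omit [Finite W] in
/-- a fixed point free action of a cyclic `p`-group -/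
theorem fpf_dvd {σ : Module.End ℤ W} {p k : ℕ} (hp : p.Prime) (h : σ ^ p ^ (k + 1) = 1)
    {S : Submodule ℤ W} (hS : ∀ w ∈ S, σ w ∈ S) (hf : S ⊓ fix (σ ^ p ^ k) = ⊥) :
    p ^ (k + 1) ∣ Nat.card S - 1 := by
  by_cases hb : S = ⊥
  · subst hb; simp
  have := Fact.mk hp
  have h0 : p ^ (k + 1) ≠ 0 := pow_ne_zero _ hp.ne_zero
  let u : (Module.End ℤ W)ˣ := Units.ofPowEqOne σ _ h h0
  have hu : ∀ n : ℕ, ((u ^ n : (Module.End ℤ W)ˣ) : Module.End ℤ W) = σ ^ n := fun n => by
    rw [Units.val_pow_eq_pow_val]; rfl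
  have hne : σ ^ p ^ k ≠ 1 := fun e => hb (by rwa [e, fix_one, inf_top_eq] at hf)
  have ho : orderOf u = p ^ (k + 1) :=
    orderOf_eq_prime_pow (fun e => hne (by rw [← hu, e]; rfl)) (Units.ext (by rw [hu, h]; rfl))
  have hfin : IsOfFinOrder u := orderOf_pos_iff.1 (ho ▸ Nat.pos_of_ne_zero h0)
  let X : SubMulAction (Subgroup.zpowers u) W :=
    { carrier := {w | w ∈ S ∧ w ≠ 0}
      smul_mem' := by
        rintro ⟨c, hc⟩ w ⟨hw, hw0⟩
        obtain ⟨n, rfl⟩ := (hfin.mem_powers_iff_mem_zpowers).2 hc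
        refine ⟨?_, fun e => hw0 ?_⟩
        · change ((u ^ n : (Module.End ℤ W)ˣ) : Module.End ℤ W) w ∈ S
          rw [hu]; exact pow_apply_mem hS n w hw
        · exact (smul_eq_zero_iff_eq _).1 e }
  have hfree : ∀ x : X, MulAction.stabilizer (Subgroup.zpowers u) x = ⊥ := by
    rintro ⟨w, hw, hw0⟩
    by_contra hs
    -- the stabilizer contains the subgroup of order `p`
    obtain ⟨⟨⟨c, hc⟩, hcs⟩, hc1⟩ := Subgroup.ne_bot_iff_exists_ne_one.1 hs
    obtain ⟨n, rfl⟩ := (hfin.mem_powers_iff_mem_zpowers).2 hc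
    have hw1 : (σ ^ n) w = w := by
      rw [← hu]; exact congrArg Subtype.val (MulAction.mem_stabilizer_iff.1 hcs)
    have hn : ¬ p ^ (k + 1) ∣ n := fun e => hc1 (Subtype.ext (Subtype.ext
      (orderOf_dvd_iff_pow_eq_one.1 (ho ▸ e))))
    obtain ⟨j, hj, hg⟩ := (Nat.dvd_prime_pow hp).1 (Nat.gcd_dvd_right n (p ^ (k + 1)))
    have hjk : j ≤ k := by
      by_contra hh
      have : j = k + 1 := by omega
      exact hn (by rw [← this, ← hg]; exact Nat.gcd_dvd_left _ _)
    have hmem : u ^ p ^ k ∈ Subgroup.zpowers (u ^ n) := by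
      have h1 : u ^ Nat.gcd n (orderOf u) ∈ Subgroup.zpowers (u ^ n) := by
        rw [← zpow_natCast u (Nat.gcd _ _), Nat.gcd_eq_gcd_ab, zpow_add, zpow_mul, zpow_mul, zpow_natCast,
          zpow_natCast, pow_orderOf_eq_one, one_zpow, mul_one]
        exact Subgroup.zpow_mem _ (Subgroup.mem_zpowers _) _
      rw [ho, hg] at h1
      obtain ⟨d, rfl⟩ := Nat.exists_eq_add_of_le hjk
      rw [pow_add, pow_mul]
      exact Subgroup.pow_mem _ h1 _
    obtain ⟨m, hm⟩ := ((hfin.pow (n := n)).mem_powers_iff_mem_zpowers).2 hmem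
    have hm' : (σ ^ n) ^ m = σ ^ p ^ k := by
      rw [← hu, ← hu, ← Units.val_pow_eq_pow_val]; exact congrArg Units.val hm
    have : w ∈ S ⊓ fix (σ ^ p ^ k) := ⟨hw, hm' ▸ fix_le_fix_pow _ m (mem_fix.2 hw1)⟩
    rw [hf] at this
    exact hw0 this
  have hd := Grp.card_dvd_card_of_free hfree
  rw [Nat.card_zpowers, ho] at hd
  have hc : Nat.card X = Nat.card S - 1 := by
    have e : (X : Set W) = (S : Set W) \ {0} := by ext w; exact Iff.rfl
    change Nat.card (X : Set W) = Nat.card (S : Set W) - 1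
    rw [e, Nat.card_coe_set_eq, Nat.card_coe_set_eq, Set.ncard_sdiff_singleton_of_mem S.zero_mem]
  rwa [hc] at hd

omit [Finite W] in
theorem fpf_dvd_prime {σ : Module.End ℤ W} {p : ℕ} (hp : p.Prime) (h : σ ^ p = 1)
    {S : Submodule ℤ W} (hS : ∀ w ∈ S, σ w ∈ S) (hf : S ⊓ fix σ = ⊥) : p ∣ Nat.card S - 1 := by
  have := fpf_dvd (k := 0) hp (by simpa using h) hS (by simpa using hf)
  simpa using this

variable (h2 : ∀ w : W, w + w = 0)
include h2

theorem card_pow (S : Submodule ℤ W) : ∃ k, Nat.card S = 2 ^ k := by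
  have : IsPGroup 2 (Multiplicative S) := fun g => ⟨1, by
    rw [pow_one, pow_two]
    exact Subtype.ext (h2 _)⟩
  exact IsPGroup.iff_card (G := Multiplicative S).1 this

theorem com_sup_fix {σ : Module.End ℤ W} {n : ℕ} (hn : Odd n) (h : σ ^ n = 1) :
    com σ ⊔ fix σ = ⊤ := by
  refine eq_of_le_of_card_le le_top ?_
  rw [card_sup_of_inf (com_inf_fix h2 hn h), card_top, mul_comm, card_fix_mul_card_com]

omit [Finite W] in
/-- the order of a cyclic `p`-group acting faithfully -/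
theorem dvd_card_com {σ : Module.End ℤ W} {p k : ℕ} (hp : p.Prime) (hp2 : p ≠ 2)
    (h : σ ^ p ^ (k + 1) = 1) : p ^ (k + 1) ∣ Nat.card (com (σ ^ p ^ k)) - 1 :=
  fpf_dvd hp h (fun _ hw => apply_mem_com ((Commute.self_pow σ _).eq) hw)
    (com_inf_fix h2 (hp.odd_of_ne_two hp2) (by rw [← pow_mul, ← pow_succ, h]))

/-- a `p`-element with a small commutator space has order dividing `p` -/
theorem pow_eq_one_of_card {σ : Module.End ℤ W} {p k : ℕ} (hp : p.Prime) (hp2 : p ≠ 2)
    (h : σ ^ p ^ k = 1) (hc : Nat.card (com σ) ≤ 16) : σ ^ p = 1 := by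
  induction k with
  | zero => rw [pow_zero, pow_one] at h; rw [h, one_pow]
  | succ k ih =>
    rcases Nat.eq_zero_or_pos k with rfl | hk
    · simpa using h
    refine ih ?_
    by_contra hne
    have hd := dvd_card_com h2 hp hp2 h
    obtain ⟨j, hj⟩ := card_pow h2 (com (σ ^ p ^ k))
    have h1 : Nat.card (com (σ ^ p ^ k)) ≤ 16 := (card_le (com_pow_le σ _)).trans hc
    have h3 : Nat.card (com (σ ^ p ^ k)) ≠ 1 := fun e => hne (com_eq_bot.1 (card_eq_one.1 e))
    have hpp : p * p ∣ Nat.card (com (σ ^ p ^ k)) - 1 :=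
      Dvd.dvd.trans (by rw [← pow_two]; exact pow_dvd_pow p (by omega)) hd
    have hj4 : j ≤ 4 := by
      by_contra hh
      have : 2 ^ 5 ≤ 2 ^ j := Nat.pow_le_pow_right (by norm_num) (by omega)
      omega
    have hp3 : 3 ≤ p := by have := hp.two_le; omega
    have h9 : 9 ≤ p * p := Nat.mul_le_mul hp3 hp3
    rw [hj] at hpp h3
    interval_cases j
    · exact h3 rfl
    all_goals
      have hle := Nat.le_of_dvd (by norm_num) hpp
    · omega
    · omega
    · omega
    · have hp4 : p < 4 := by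
        by_contra hh
        have : 4 * 4 ≤ p * p := Nat.mul_le_mul (by omega) (by omega)
        omega
      have : p = 3 := by omega
      subst this
      omega

omit [Finite W] in
/-- a commutator space of order 4 of an element of order 3 -/
theorem four_cases {σ : Module.End ℤ W} (h : σ ^ 3 = 1) (h4 : Nat.card (com σ) = 4) {w v : W}
    (hw : w ∈ com σ) (hw0 : w ≠ 0) (hv : v ∈ com σ) :
    v = 0 ∨ v = w ∨ v = σ w ∨ v = σ (σ w) := by
  classical
  have hc : ∀ u ∈ com σ, σ u ∈ com σ := fun u hu => apply_mem_com rfl hu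
  have hf : ∀ u ∈ com σ, u ≠ 0 → σ u ≠ u := fun u hu hu0 e => hu0 (by
    have : u ∈ com σ ⊓ fix σ := ⟨hu, mem_fix.2 e⟩
    rwa [com_inf_fix h2 (by decide : Odd 3) h] at this)
  have n1 : σ w ≠ 0 := fun e => hw0 (inj_of_pow (by norm_num) h e)
  have n2 : σ (σ w) ≠ 0 := fun e => n1 (inj_of_pow (by norm_num) h e)
  have n3 : σ w ≠ w := hf w hw hw0
  have n4 : σ (σ w) ≠ σ w := hf _ (hc w hw) n1
  have n5 : σ (σ w) ≠ w := by
    rw [cube_rel h2 h hw]; simpa using n1
  have hs : (({0, w, σ w, σ (σ w)} : Finset W) : Set W) = com σ := by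
    refine Set.eq_of_subset_of_ncard_le ?_ ?_ ?_
    · intro u hu
      simp only [Finset.coe_insert, Finset.coe_singleton, Set.mem_insert_iff,
        Set.mem_singleton_iff] at hu
      rcases hu with rfl | rfl | rfl | rfl
      · exact zero_mem _
      · exact hw
      · exact hc _ hw
      · exact hc _ (hc _ hw)
    · rw [Set.ncard_coe_finset, Finset.card_insert_of_notMem, Finset.card_insert_of_notMem,
        Finset.card_pair n4.symm]
      · exact h4.le
      · simp [n3.symm, n5.symm]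
      · simp [hw0.symm, n1.symm, n2.symm]
    · exact Set.finite_of_ncard_ne_zero (by change Nat.card (com σ) ≠ 0; omega)
  have : v ∈ (({0, w, σ w, σ (σ w)} : Finset W) : Set W) := hs ▸ hv
  simpa using this

omit [Finite W] in
/-- two elements of order 3 with the same block -/
theorem same_block {σ τ : Module.End ℤ W} (hσ : σ ^ 3 = 1) (hτ : τ ^ 3 = 1)
    (h4 : Nat.card (com σ) = 4) (he : com τ = com σ) (hs : com σ ⊔ fix σ ⊓ fix τ = ⊤) :
    τ = σ ∨ τ = σ ^ 2 := by
  have hb : com σ ≠ ⊥ := fun e => by rw [e] at h4; simp at h4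
  obtain ⟨w, hw, hw0⟩ := Submodule.exists_mem_ne_zero_of_ne_bot hb
  have hw' : w ∈ com τ := he ▸ hw
  have hτw : τ w ∈ com σ := he ▸ apply_mem_com rfl hw'
  have r1 := cube_rel h2 hσ hw
  have r2 := cube_rel h2 hτ hw'
  have r3 : σ (σ (σ w)) = w := by
    have := congrArg (fun f : Module.End ℤ W => f w) hσ
    simpa [pow_succ] using this
  rcases four_cases h2 hσ h4 hw hw0 hτw with e | e | e | e
  · exact absurd (inj_of_pow (by norm_num) hτ e) hw0
  · have : w ∈ com τ ⊓ fix τ := ⟨hw', mem_fix.2 e⟩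
    rw [com_inf_fix h2 (by decide : Odd 3) hτ] at this
    exact absurd this hw0
  · left
    have e' : τ (σ w) = σ (σ w) := by rw [r1, ← e, r2]
    refine eq_of_forall_compl hs (fun v hv => ?_) fun v hv => by rw [mem_fix.1 hv.1, mem_fix.1 hv.2]
    rcases four_cases h2 hσ h4 hw hw0 hv with rfl | rfl | rfl | rfl
    · rw [map_zero, map_zero]
    · exact e
    · exact e'
    · rw [r1, map_add, map_add, e, e']
  · right
    have e' : τ (σ (σ w)) = σ w := by
      conv_lhs => rw [← e, r2, e, r1, add_assoc, h2, add_zero]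
    have e'' : τ (σ w) = w := by
      have : σ w = σ (σ w) + w := by rw [r1, add_assoc, h2, add_zero]
      rw [this, map_add, e', e, r1, ← add_assoc, h2, zero_add]
    refine eq_of_forall_compl hs (fun v hv => ?_) fun v hv => by
      rw [mem_fix.1 (fix_le_fix_pow σ 2 hv.1), mem_fix.1 hv.2]
    rw [pow_two, Module.End.mul_apply]
    rcases four_cases h2 hσ h4 hw hw0 hv with rfl | rfl | rfl | rfl
    · simp
    · exact e
    · rw [e'', r3]
    · rw [e', r3]

/-- two elements of order 3 with disjoint blocks generating a 3-group -/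
theorem disj_block {σ τ : Module.End ℤ W} (hσ : σ ^ 3 = 1) (hτ : τ ^ 3 = 1)
    (h4 : Nat.card (com σ) = 4) (h4' : Nat.card (com τ) = 4) (hd : com σ ⊓ com τ = ⊥)
    (hf : (com σ ⊔ com τ) ⊓ (fix σ ⊓ fix τ) = ⊥) (h1 : (σ * τ) ^ 3 = 1)
    (h3 : (σ * τ ^ 2) ^ 3 = 1) : com σ ≤ fix τ := by
  have hinj : ∀ {a b : W}, σ a = σ b → a = b := fun e =>
    sub_eq_zero.1 (inj_of_pow (by norm_num) hσ (by rw [map_sub, e, sub_self]))
  have hinj' : ∀ {a b : W}, τ a = τ b → a = b := fun e =>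
    sub_eq_zero.1 (inj_of_pow (by norm_num) hτ (by rw [map_sub, e, sub_self]))
  have key : ∀ n : ℕ, fix (τ ^ n) ≤ fix τ → (σ * τ ^ n) ^ 3 = 1 → ∀ w ∈ com σ ⊔ com τ,
      (σ * τ ^ n) ((σ * τ ^ n) w) + (σ * τ ^ n) w + w = 0 := by
    intro n hn hγ w hw
    have hc : com (σ * τ ^ n) ≤ com σ ⊔ com τ :=
      (com_mul_le' _ _).trans (sup_le_sup_left (com_pow_le τ n) _)
    set γ := σ * τ ^ n with hγ'
    have r : γ (γ (γ w)) = w := by
      have := congrArg (fun f : Module.End ℤ W => f w) hγ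
      simpa [pow_succ] using this
    have m1 : γ (γ w) + γ w + w ∈ com σ ⊔ com τ :=
      add_mem (add_mem (apply_mem_of_com_le hc (apply_mem_of_com_le hc hw))
        (apply_mem_of_com_le hc hw)) hw
    have m2 : γ (γ (γ w) + γ w + w) = γ (γ w) + γ w + w := by
      rw [map_add, map_add, r]; abel
    generalize γ (γ w) + γ w + w = v at m1 m2
    rw [hγ', Module.End.mul_apply] at m2
    have r' : σ (σ (σ v)) = v := by
      have := congrArg (fun f : Module.End ℤ W => f v) hσ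
      simpa [pow_succ] using this
    have m3 : (τ ^ n) v = (σ ^ 2) v := hinj (by rw [m2, pow_two, Module.End.mul_apply, r'])
    have m4 : (τ ^ n) v - v ∈ com σ ⊓ com τ :=
      ⟨m3 ▸ com_pow_le σ 2 (sub_mem_com _ v), com_pow_le τ n (sub_mem_com _ v)⟩
    rw [hd, Submodule.mem_bot, sub_eq_zero] at m4
    have m5 : σ v = v := by rwa [m4] at m2
    have : v ∈ (com σ ⊔ com τ) ⊓ (fix σ ⊓ fix τ) := ⟨m1, mem_fix.2 m5, hn (mem_fix.2 m4)⟩
    rwa [hf] at this
  have k1 := key 1 (by rw [pow_one]) (by rwa [pow_one])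
  have k2 := key 2 (fun v hv => by
    have r' : τ ((τ ^ 2) v) = v := by
      have := congrArg (fun f : Module.End ℤ W => f v) hτ
      simpa [pow_succ] using this
    rwa [mem_fix.1 hv, ← mem_fix] at r') h3
  have e1 : (com σ ⊔ com τ) ⊓ fix τ ≤ com σ := by
    rintro w ⟨hw, hw'⟩
    have a1 := k1 w hw
    have a2 := k2 w hw
    have hτw : τ w = w := mem_fix.1 hw'
    simp only [pow_succ, pow_zero, one_mul, Module.End.mul_apply, hτw] at a1 a2
    have a3 : τ (σ w) = τ (τ (σ w)) := hinj (add_right_cancel (add_right_cancel (a1.trans a2.symm)))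
    rw [← hinj' a3, add_eq_zero h2, ← sub_eq h2] at a1
    rw [← a1]
    exact sub_mem_com σ _
  have e2 := card_inf_mul_card_map (τ - 1) (com σ ⊔ com τ)
  change Nat.card ↥((com σ ⊔ com τ) ⊓ fix τ) * _ = _ at e2
  have e3 : Nat.card ((com σ ⊔ com τ).map (τ - 1)) ≤ 4 :=
    h4' ▸ card_le (LinearMap.map_le_range : _ ≤ com τ)
  rw [card_sup_of_inf hd, h4, h4'] at e2
  have e4 : 4 ≤ Nat.card ↥((com σ ⊔ com τ) ⊓ fix τ) := by nlinarith
  rw [← eq_of_le_of_card_le e1 (h4 ▸ e4)]
  exact inf_le_right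

/-- an involution inverting a fixed point free element of odd order acts freely -/
theorem card_eq_sq {α ξ : Module.End ℤ W} {n : ℕ} (hn : Odd n) (hξ : ξ ^ n = 1) (hα : α * α = 1)
    (hi : α * ξ * α * ξ = 1) {S : Submodule ℤ W} (h1 : ∀ w ∈ S, α w ∈ S) (h3 : ∀ w ∈ S, ξ w ∈ S)
    (hf : S ⊓ fix ξ = ⊥) : Nat.card S = Nat.card (S.map (α - 1)) ^ 2 ∧
      S.map (α - 1) = S ⊓ fix α ∧ S = (S ⊓ fix α) ⊔ (S ⊓ fix α).map ξ := by
  have hn0 : n ≠ 0 := by rintro rfl; exact absurd hn (by decide)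
  have e1 : S.map (α - 1) ≤ S ⊓ fix α := by
    rintro _ ⟨w, hw, rfl⟩
    exact ⟨sub_mem (h1 w hw) hw, com_le_fix h2 hα (sub_mem_com α w)⟩
  have e2 := card_inf_mul_card_map (α - 1) S
  change Nat.card ↥(S ⊓ fix α) * _ = _ at e2
  have e3 : (S ⊓ fix α) ⊓ (S ⊓ fix α).map ξ = ⊥ := by
    rw [eq_bot_iff]
    rintro _ ⟨⟨-, ha⟩, ⟨w, ⟨hw, hw'⟩, rfl⟩⟩
    have ha' : α (ξ w) = ξ w := mem_fix.1 ha
    have hw'' : α w = w := mem_fix.1 hw'
    have e : α (ξ (α (ξ w))) = w := by
      have := congrArg (fun f : Module.End ℤ W => f w) hi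
      simpa using this
    have eα : ∀ v, α (α v) = v := fun v => by
      have := congrArg (fun f : Module.End ℤ W => f v) hα
      simpa using this
    rw [ha'] at e
    have e' : ξ (ξ w) = w := by rw [← eα (ξ (ξ w)), e, hw'']
    have e'' : ξ w = w := by
      obtain ⟨m, rfl⟩ := hn
      have : w ∈ fix ((ξ ^ 2) ^ m) := fix_le_fix_pow _ m (mem_fix.2 (by simpa [pow_two] using e'))
      have h5 := congrArg (fun f : Module.End ℤ W => f w) hξ
      simp only [pow_succ', Module.End.mul_apply, Module.End.one_apply] at h5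
      rwa [pow_mul, mem_fix.1 this] at h5
    have : w ∈ S ⊓ fix ξ := ⟨hw, mem_fix.2 e''⟩
    rw [hf, Submodule.mem_bot] at this
    rw [this, map_zero]; exact zero_mem _
  have e4 : Nat.card ((S ⊓ fix α).map ξ) = Nat.card ↥(S ⊓ fix α) :=
    card_map_of_inf (by
      rw [eq_bot_iff]; rintro w ⟨-, hw⟩; exact inj_of_pow hn0 hξ hw)
  have e5 : (S ⊓ fix α) ⊔ (S ⊓ fix α).map ξ ≤ S :=
    sup_le inf_le_left (by rintro _ ⟨w, hw, rfl⟩; exact h3 w hw.1)
  have e6 := card_le e5
  have e6' := card_sup_of_inf e3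
  rw [e4] at e6'
  rw [e6', ← e2] at e6
  have e7 : Nat.card ↥(S ⊓ fix α) ≤ Nat.card (S.map (α - 1)) :=
    Nat.le_of_mul_le_mul_left e6 (card_pos _)
  have e8 := eq_of_le_of_card_le e1 e7
  refine ⟨by rw [← e2, e8, pow_two], e8, (eq_of_le_of_card_le e5 ?_).symm⟩
  rw [e6', ← e2, e8]

omit [Finite W] in
/-- commuting involutions have a common fixed vector -/
theorem exists_fix {ι : Type*} (α : ι → Module.End ℤ W) (hα : ∀ i, α i * α i = 1)
    (hc : ∀ i j, α i * α j = α j * α i) {S : Submodule ℤ W} (hS : ∀ i, ∀ w ∈ S, α i w ∈ S)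
    (h0 : S ≠ ⊥) (T : Finset ι) : ∃ w ∈ S, w ≠ 0 ∧ ∀ i ∈ T, α i w = w := by
  classical
  induction T using Finset.induction_on with
  | empty =>
    obtain ⟨w, hw, hw0⟩ := Submodule.exists_mem_ne_zero_of_ne_bot h0
    exact ⟨w, hw, hw0, by simp⟩
  | insert j T _ ih =>
    obtain ⟨w, hw, hw0, hf⟩ := ih
    by_cases e : α j w = w
    · exact ⟨w, hw, hw0, by simpa [e] using hf⟩
    · refine ⟨α j w - w, sub_mem (hS j w hw) hw, sub_ne_zero.2 e, fun i hi => ?_⟩
      rcases Finset.mem_insert.1 hi with rfl | hi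
      · exact mem_fix.1 (com_le_fix h2 (hα i) (sub_mem_com _ w))
      · rw [map_sub, ← Module.End.mul_apply, hc, Module.End.mul_apply, hf i hi]

omit [Finite W] in
/-- coprime action of a group of odd order -/
theorem coprime_units (R : Subgroup (Module.End ℤ W)ˣ) (ho : Odd (Nat.card R)) :
    (⨆ r ∈ R, com (r : Module.End ℤ W)) ⊔ (⨅ r ∈ R, fix (r : Module.End ℤ W)) = ⊤ ∧
      (⨆ r ∈ R, com (r : Module.End ℤ W)) ⊓ (⨅ r ∈ R, fix (r : Module.End ℤ W)) = ⊥ := by
  classical
  have : Finite R := Nat.finite_of_card_ne_zero (by rintro e; rw [e] at ho; exact absurd ho (by decide))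
  have := Fintype.ofFinite R
  let e : Module.End ℤ W := ∑ r : R, ((r : (Module.End ℤ W)ˣ) : Module.End ℤ W)
  have e1 : ∀ s ∈ R, (s : Module.End ℤ W) * e = e := fun s hs => by
    rw [Finset.mul_sum]
    exact Equiv.sum_comp (Equiv.mulLeft (⟨s, hs⟩ : R))
      (fun r : R => ((r : (Module.End ℤ W)ˣ) : Module.End ℤ W))
  have e2 : ∀ s ∈ R, e * (s : Module.End ℤ W) = e := fun s hs => by
    rw [Finset.sum_mul]
    exact Equiv.sum_comp (Equiv.mulRight (⟨s, hs⟩ : R))
      (fun r : R => ((r : (Module.End ℤ W)ˣ) : Module.End ℤ W))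
  have e3 : ∀ w, e w - w = ∑ r : R, (((r : (Module.End ℤ W)ˣ) : Module.End ℤ W) w - w) := fun w => by
    rw [Finset.sum_sub_distrib, Finset.sum_const, Finset.card_univ, ← Nat.card_eq_fintype_card,
      odd_smul h2 ho, LinearMap.sum_apply]
  constructor
  · rw [eq_top_iff]
    intro w _
    have : w = -(e w - w) + e w := by abel
    rw [this]
    refine Submodule.add_mem_sup (neg_mem ?_) ?_
    · rw [e3]
      exact sum_mem fun r _ => (le_iSup₂_of_le (f := fun r (_ : r ∈ R) =>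
        com (r : Module.End ℤ W)) r.1 r.2 le_rfl) (sub_mem_com _ w)
    · simp only [Submodule.mem_iInf, mem_fix]
      intro s hs
      rw [← Module.End.mul_apply, e1 s hs]
  · rw [eq_bot_iff]
    rintro w ⟨h1, h3⟩
    have h4 : (⨆ r ∈ R, com (r : Module.End ℤ W)) ≤ ker e := by
      refine iSup₂_le fun s hs v hv => ?_
      obtain ⟨u, rfl⟩ := mem_com.1 hv
      rw [mem_ker, map_sub, ← Module.End.mul_apply, e2 s hs, sub_self]
    have h5 : e w = 0 := h4 h1
    have h6 := e3 w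
    simp only [SetLike.mem_coe, Submodule.mem_iInf, mem_fix] at h3
    rw [Finset.sum_eq_zero fun r _ => by rw [h3 r.1 r.2, sub_self], h5, zero_sub, neg_eq_zero] at h6
    exact h6

omit h2 in
theorem card_modEq_units {p : ℕ} [Fact p.Prime] (R : Subgroup (Module.End ℤ W)ˣ)
    (hR : IsPGroup p R) :
    Nat.card W ≡ Nat.card ↥(⨅ r ∈ R, fix (r : Module.End ℤ W)) [MOD p] := by
  have := hR.card_modEq_card_fixedPoints W
  convert this using 2
  congr 1
  ext w
  simp only [Submodule.mem_iInf, mem_fix, MulAction.mem_fixedPoints]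
  exact ⟨fun h r => h r.1 r.2, fun h r hr => h ⟨r, hr⟩⟩

end Cfsg.Agent.NG.Lin
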