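import Mathlib
import Cfsg.Agent.NG.Defs
import Cfsg.Agent.NG.ModLin
import Cfsg.Agent.PLocal.SecMod

/-!
The linear model of a module `U / U₀`: `h.ρ g` is the action of `g` on `h.W = U / U₀`, `h.π` the
projection, `h.up S` the preimage of a submodule.
-/

set_option autoImplicit false

namespace Cfsg.Agent.NG

open Subgroup Cfsg.Agent.PLocal Cfsg.Agent.PLocal.Amb Cfsg.Agent.PLocal.CP Cfsg.Agent.PLocal.JC
open Cfsg.Agent.NG.Lin
open scoped commutatorElement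

variable {G : Type*} [Group G]

theorem secCent_cj (g : G) (A B : Subgroup G) :
    secCent cj(g, A) cj(g, B) = cj(g, secCent A B) := by
  ext x
  rw [mem_cj, mem_secCent, mem_secCent, normalizer_cj, mem_cj]
  refine and_congr Iff.rfl ⟨fun h a ha => ?_, ?_⟩
  · have := mem_cj.1 (h _ (conj_mem_cj g ha))
    convert this using 1
    simp only [commutatorElement_def]; group
  · rintro h _ ⟨a, ha, rfl⟩
    rw [mem_cj]
    convert h a ha using 1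
    simp only [commutatorElement_def, MulEquiv.coe_toMonoidHom, MulAut.conj_apply]; group

theorem relIndex_cj' (g : G) (A B : Subgroup G) : cj(g, A).relIndex cj(g, B) = A.relIndex B :=
  relIndex_map_map_of_injective _ _ (MulAut.conj g).injective

theorem cj_zpowers' (g a : G) : cj(g, zpowers a) = zpowers (g * a * g⁻¹) :=
  MonoidHom.map_zpowers _ _

/-- the elements normalizing the section -/
def NN (U U₀ : Subgroup G) : Subgroup G := 𝐍[U] ⊓ 𝐍[U₀]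

namespace Mod

variable {L U U₀ : Subgroup G} (h : Mod L U U₀)
include h

theorem sec : SecHyp (NN U U₀) U U₀ := ⟨h.le, h.comm, inf_le_left, inf_le_right⟩

/-- the module -/
abbrev W : Type _ := Sec h.sec

/-- the projection -/
noncomputable abbrev π : G → h.W := Sec.pr h.sec

/-- the preimage of a submodule -/
abbrev up (S : Submodule ℤ h.W) : Subgroup G := Sec.grp h.sec S

open Classical in
/-- the action -/
noncomputable def ρ (g : G) : Module.End ℤ h.W :=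
  if hg : g ∈ NN U U₀ then Sec.rep h.sec ⟨g, hg⟩ else 1

/-- fixed points of a subgroup -/
noncomputable def FX (A : Subgroup G) : Submodule ℤ h.W := ⨅ a ∈ A, fix (h.ρ a)

/-- commutator space of a subgroup -/
noncomputable def BW (A : Subgroup G) : Submodule ℤ h.W := ⨆ a ∈ A, com (h.ρ a)

theorem L_le : L ≤ NN U U₀ := le_inf h.normU h.normU₀

theorem two (w : h.W) : w + w = 0 := by
  obtain ⟨x, hx, rfl⟩ := Sec.exists_pr_eq h.sec w
  rw [← Sec.pr_mul h.sec hx hx, Sec.pr_eq_zero h.sec (U.mul_mem hx hx)]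
  exact h.sq x hx

theorem U_le_C : U ≤ secCent U U₀ := le_secCent_iff.2 ⟨h.sec.le_normalizer, h.comm⟩

theorem N_norm_C : NN U U₀ ≤ 𝐍[secCent U U₀] := le_normalizer_secCent h.sec.normU h.sec.normU₀

theorem C_le [Finite G] : secCent U U₀ ≤ NN U U₀ := by
  intro g hg
  refine ⟨mem_normalizer_of_cj_le (cj_le_iff_forall.2 fun x hx => ?_), hg.1⟩
  have : g * x * g⁻¹ = ⁅g, x⁆ * x := by simp [commutatorElement_def]
  rw [this]
  exact U.mul_mem (h.le (hg.2 x hx)) hx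

theorem U_le [Finite G] : U ≤ NN U U₀ := h.U_le_C.trans h.C_le

theorem ρ_eq {g : G} (hg : g ∈ NN U U₀) : h.ρ g = Sec.rep h.sec ⟨g, hg⟩ := dif_pos hg

theorem ρ_one : h.ρ 1 = 1 := by
  rw [h.ρ_eq (one_mem _)]; exact map_one (Sec.rep h.sec)

theorem ρ_mul {a b : G} (ha : a ∈ NN U U₀) (hb : b ∈ NN U U₀) : h.ρ (a * b) = h.ρ a * h.ρ b := by
  rw [h.ρ_eq ha, h.ρ_eq hb, h.ρ_eq (mul_mem ha hb), ← map_mul]; rfl

theorem ρ_pow {a : G} (ha : a ∈ NN U U₀) (n : ℕ) : h.ρ (a ^ n) = h.ρ a ^ n := by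
  induction n with
  | zero => rw [pow_zero, pow_zero, h.ρ_one]
  | succ n ih => rw [pow_succ, pow_succ, h.ρ_mul (pow_mem ha n) ha, ih]

theorem ρ_inv_mul {a : G} (ha : a ∈ NN U U₀) : h.ρ a⁻¹ * h.ρ a = 1 := by
  rw [← h.ρ_mul (inv_mem ha) ha, inv_mul_cancel, h.ρ_one]

theorem ρ_mul_inv {a : G} (ha : a ∈ NN U U₀) : h.ρ a * h.ρ a⁻¹ = 1 := by
  rw [← h.ρ_mul ha (inv_mem ha), mul_inv_cancel, h.ρ_one]

theorem ρ_ρ_inv {a : G} (ha : a ∈ NN U U₀) (w : h.W) : h.ρ a (h.ρ a⁻¹ w) = w := by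
  rw [← Module.End.mul_apply, h.ρ_mul_inv ha]; rfl

theorem ρ_inv_ρ {a : G} (ha : a ∈ NN U U₀) (w : h.W) : h.ρ a⁻¹ (h.ρ a w) = w := by
  rw [← Module.End.mul_apply, h.ρ_inv_mul ha]; rfl

theorem ρ_inj {a : G} (ha : a ∈ NN U U₀) {w : h.W} (e : h.ρ a w = 0) : w = 0 := by
  rw [← h.ρ_inv_ρ ha w, e, map_zero]

theorem ρ_π {g u : G} (hg : g ∈ NN U U₀) (hu : u ∈ U) : h.ρ g (h.π u) = h.π (g * u * g⁻¹) := by
  rw [h.ρ_eq hg]; exact Sec.rep_pr' h.sec hg hu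

theorem ρ_π_sub {g u : G} (hg : g ∈ NN U U₀) (hu : u ∈ U) :
    h.ρ g (h.π u) - h.π u = h.π ⁅g, u⁆ := by
  rw [h.ρ_eq hg]; exact Sec.rep_pr_sub h.sec ⟨g, hg⟩ hu

theorem ρ_π_eq {g u : G} (hg : g ∈ NN U U₀) (hu : u ∈ U) :
    h.ρ g (h.π u) = h.π u ↔ ⁅g, u⁆ ∈ U₀ := by
  rw [h.ρ_eq hg]; exact Sec.rep_pr_eq_iff h.sec ⟨g, hg⟩ hu

theorem ρ_eq_one {g : G} (hg : g ∈ NN U U₀) : h.ρ g = 1 ↔ g ∈ secCent U U₀ := by
  rw [h.ρ_eq hg, Sec.rep_eq_one_iff, mem_secCent]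
  exact ⟨fun e => ⟨hg.2, e⟩, fun e => e.2⟩

theorem ρ_of_mem [Finite G] {g : G} (hg : g ∈ secCent U U₀) : h.ρ g = 1 :=
  (h.ρ_eq_one (h.C_le hg)).2 hg

theorem ρ_eq_ρ {a b : G} (ha : a ∈ NN U U₀) (hb : b ∈ NN U U₀) :
    h.ρ a = h.ρ b ↔ a * b⁻¹ ∈ secCent U U₀ := by
  rw [← h.ρ_eq_one (mul_mem ha (inv_mem hb)), h.ρ_mul ha (inv_mem hb)]
  constructor
  · intro e; rw [e, h.ρ_mul_inv hb]
  · intro e
    rw [← mul_one (h.ρ a), ← h.ρ_inv_mul hb, ← mul_assoc, e, one_mul]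

theorem ρ_comm {a b : G} (ha : a ∈ NN U U₀) (hb : b ∈ NN U U₀) :
    h.ρ a * h.ρ b = h.ρ b * h.ρ a ↔ ⁅a, b⁆ ∈ secCent U U₀ := by
  rw [← h.ρ_mul ha hb, ← h.ρ_mul hb ha, h.ρ_eq_ρ (mul_mem ha hb) (mul_mem hb ha),
    commutatorElement_def, mul_inv_rev, mul_assoc, mul_assoc, mul_assoc]

theorem ρ_pow_eq_one {a : G} (ha : a ∈ NN U U₀) {n : ℕ} :
    h.ρ a ^ n = 1 ↔ a ^ n ∈ secCent U U₀ := by
  rw [← h.ρ_pow ha, h.ρ_eq_one (pow_mem ha n)]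

theorem π_mul {u v : G} (hu : u ∈ U) (hv : v ∈ U) : h.π (u * v) = h.π u + h.π v :=
  Sec.pr_mul h.sec hu hv

theorem π_inv {u : G} (hu : u ∈ U) : h.π u⁻¹ = -h.π u := Sec.pr_inv h.sec hu

theorem π_eq_zero {u : G} (hu : u ∈ U) : h.π u = 0 ↔ u ∈ U₀ := Sec.pr_eq_zero h.sec hu

theorem π_div {u v : G} (hu : u ∈ U) (hv : v ∈ U) : h.π (u * v⁻¹) = h.π u - h.π v := by
  rw [h.π_mul hu (inv_mem hv), h.π_inv hv, sub_eq_add_neg]

theorem π_eq_π {u v : G} (hu : u ∈ U) (hv : v ∈ U) : h.π u = h.π v ↔ u * v⁻¹ ∈ U₀ := by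
  rw [← h.π_eq_zero (mul_mem hu (inv_mem hv)), h.π_div hu hv, sub_eq_zero]

theorem exists_π (w : h.W) : ∃ u ∈ U, h.π u = w := Sec.exists_pr_eq h.sec w

theorem mem_up {S : Submodule ℤ h.W} {u : G} : u ∈ h.up S ↔ u ∈ U ∧ h.π u ∈ S := Iff.rfl

theorem up_le (S : Submodule ℤ h.W) : h.up S ≤ U := Sec.grp_le h.sec S

theorem le_up (S : Submodule ℤ h.W) : U₀ ≤ h.up S := Sec.le_grp h.sec S

theorem up_le_up {S T : Submodule ℤ h.W} : h.up S ≤ h.up T ↔ S ≤ T := by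
  refine ⟨fun e w hw => ?_, fun e u hu => ⟨hu.1, e hu.2⟩⟩
  obtain ⟨u, hu, rfl⟩ := h.exists_π w
  exact (e ⟨hu, hw⟩).2

theorem up_inj {S T : Submodule ℤ h.W} : h.up S = h.up T ↔ S = T := by
  simp only [le_antisymm_iff, h.up_le_up]

theorem up_top : h.up ⊤ = U := le_antisymm (h.up_le _) fun _ hu => ⟨hu, trivial⟩

theorem up_bot : h.up ⊥ = U₀ :=
  le_antisymm (fun _ hu => (h.π_eq_zero hu.1).1 hu.2) (h.le_up _)

theorem up_inf (S T : Submodule ℤ h.W) : h.up (S ⊓ T) = h.up S ⊓ h.up T := by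
  ext u
  simp only [h.mem_up, mem_inf, Submodule.mem_inf]
  tauto

theorem up_sub {X : Subgroup G} (h0 : U₀ ≤ X) (h1 : X ≤ U) : h.up (Sec.sub h.sec X) = X := by
  ext u
  rw [h.mem_up]
  exact ⟨fun e => (Sec.pr_mem_sub_iff h.sec h0 e.1).1 e.2,
    fun e => ⟨h1 e, Sec.pr_mem_sub h.sec e (h1 e)⟩⟩

theorem exists_up {X : Subgroup G} (h0 : U₀ ≤ X) (h1 : X ≤ U) : ∃ S, X = h.up S :=
  ⟨_, (h.up_sub h0 h1).symm⟩

theorem up_sup (S T : Submodule ℤ h.W) : h.up (S ⊔ T) = h.up S ⊔ h.up T := by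
  refine le_antisymm ?_ (sup_le (h.up_le_up.2 le_sup_left) (h.up_le_up.2 le_sup_right))
  obtain ⟨R, hR⟩ := h.exists_up (X := h.up S ⊔ h.up T) ((h.le_up S).trans le_sup_left)
    (sup_le (h.up_le S) (h.up_le T))
  rw [hR, h.up_le_up]
  exact sup_le (h.up_le_up.1 (hR ▸ le_sup_left)) (h.up_le_up.1 (hR ▸ le_sup_right))

theorem up_iSup {ι : Sort*} (S : ι → Submodule ℤ h.W) : h.up (⨆ i, S i) = U₀ ⊔ ⨆ i, h.up (S i) := by
  refine le_antisymm ?_ (sup_le (h.le_up _) (iSup_le fun i => h.up_le_up.2 (le_iSup S i)))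
  obtain ⟨R, hR⟩ := h.exists_up (X := U₀ ⊔ ⨆ i, h.up (S i)) le_sup_left
    (sup_le h.le (iSup_le fun i => h.up_le _))
  rw [hR, h.up_le_up]
  exact iSup_le fun i => h.up_le_up.1 (hR ▸ le_sup_of_le_right (le_iSup (fun i => h.up (S i)) i))

theorem up_biSup {ι : Type*} (I : Set ι) (S : ι → Submodule ℤ h.W) :
    h.up (⨆ i ∈ I, S i) = U₀ ⊔ ⨆ i ∈ I, h.up (S i) := by
  rw [← iSup_subtype'', ← iSup_subtype'', h.up_iSup]

theorem card_up (S : Submodule ℤ h.W) : Nat.card (h.up S) = Nat.card S * Nat.card U₀ := by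
  rw [← Sec.card_sub_mul h.sec (h.le_up S) (h.up_le S), Sec.sub_grp]

theorem relIndex_up [Finite G] {S T : Submodule ℤ h.W} (e : S ≤ T) :
    Nat.card S * (h.up S).relIndex (h.up T) = Nat.card T := by
  have := Grp.card_mul_relIndex (h.up_le_up.2 e)
  rw [h.card_up, h.card_up, mul_right_comm] at this
  exact Nat.eq_of_mul_eq_mul_right Nat.card_pos this

theorem relIndex_bot_up [Finite G] (S : Submodule ℤ h.W) : U₀.relIndex (h.up S) = Nat.card S := by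
  have := h.relIndex_up (bot_le : ⊥ ≤ S)
  rwa [h.up_bot, Lin.card_eq_one.2 rfl, one_mul] at this

theorem relIndex_up_top [Finite G] (S : Submodule ℤ h.W) :
    Nat.card S * (h.up S).relIndex U = Nat.card h.W := by
  have := h.relIndex_up (le_top : S ≤ ⊤)
  rwa [h.up_top, Lin.card_top] at this

theorem cj_up {g : G} (hg : g ∈ NN U U₀) (S : Submodule ℤ h.W) :
    cj(g, h.up S) = h.up (S.map (h.ρ g)) := by
  ext u
  rw [mem_cj, h.mem_up, h.mem_up]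
  constructor
  · rintro ⟨h1, h2⟩
    have e : u = g * (g⁻¹ * u * g) * g⁻¹ := by group
    refine ⟨e ▸ Amb.conj_mem_of_mem_normalizer hg.1 h1, _, h2, ?_⟩
    rw [h.ρ_π hg h1, ← e]
  · rintro ⟨h1, w, hw, e⟩
    refine ⟨Amb.inv_conj_mem_of_mem_normalizer hg.1 h1, ?_⟩
    have := h.ρ_π (inv_mem hg) h1
    rw [inv_inv] at this
    rw [← this, ← e, h.ρ_inv_ρ hg]
    exact hw

theorem mem_normalizer_up [Finite G] {g : G} (hg : g ∈ NN U U₀) {S : Submodule ℤ h.W} :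
    g ∈ 𝐍[h.up S] ↔ ∀ w ∈ S, h.ρ g w ∈ S := by
  constructor
  · intro e w hw
    have := cj_eq_iff.2 e
    rw [h.cj_up hg, h.up_inj] at this
    exact this ▸ Submodule.mem_map_of_mem hw
  · intro e
    refine mem_normalizer_of_cj_le ?_
    rw [h.cj_up hg, h.up_le_up]
    rintro _ ⟨w, hw, rfl⟩
    exact e w hw

theorem mem_FX {A : Subgroup G} {w : h.W} : w ∈ h.FX A ↔ ∀ a ∈ A, h.ρ a w = w := by
  simp only [FX, Submodule.mem_iInf, mem_fix]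

theorem FX_le {A : Subgroup G} {a : G} (ha : a ∈ A) : h.FX A ≤ fix (h.ρ a) :=
  iInf₂_le (f := fun a (_ : a ∈ A) => fix (h.ρ a)) a ha

theorem le_BW {A : Subgroup G} {a : G} (ha : a ∈ A) : com (h.ρ a) ≤ h.BW A :=
  le_iSup₂ (f := fun a (_ : a ∈ A) => com (h.ρ a)) a ha

theorem sub_mem_BW {A : Subgroup G} {a : G} (ha : a ∈ A) (w : h.W) : h.ρ a w - w ∈ h.BW A :=
  h.le_BW ha (sub_mem_com _ w)

theorem FX_anti {A B : Subgroup G} (e : A ≤ B) : h.FX B ≤ h.FX A :=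
  le_iInf₂ fun _ ha => h.FX_le (e ha)

theorem BW_mono {A B : Subgroup G} (e : A ≤ B) : h.BW A ≤ h.BW B :=
  iSup₂_le fun _ ha => h.le_BW (e ha)

/-- the elements with commutator space in `S` -/
def cs (S : Submodule ℤ h.W) : Subgroup G where
  carrier := {g | g ∈ NN U U₀ ∧ com (h.ρ g) ≤ S}
  one_mem' := ⟨one_mem _, by rw [h.ρ_one, com_one]; exact bot_le⟩
  mul_mem' := by
    rintro a b ⟨ha, ha'⟩ ⟨hb, hb'⟩
    exact ⟨mul_mem ha hb, by rw [h.ρ_mul ha hb]; exact (com_mul_le' _ _).trans (sup_le ha' hb')⟩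
  inv_mem' := by
    rintro a ⟨ha, ha'⟩
    refine ⟨inv_mem ha, fun w hw => ?_⟩
    obtain ⟨v, rfl⟩ := mem_com.1 hw
    have := neg_mem (ha' (sub_mem_com _ (h.ρ a⁻¹ v)))
    rwa [h.ρ_ρ_inv ha, neg_sub] at this

/-- the elements centralizing `S` -/
def fs (S : Submodule ℤ h.W) : Subgroup G where
  carrier := {g | g ∈ NN U U₀ ∧ S ≤ fix (h.ρ g)}
  one_mem' := ⟨one_mem _, by rw [h.ρ_one, fix_one]; exact le_top⟩
  mul_mem' := by
    rintro a b ⟨ha, ha'⟩ ⟨hb, hb'⟩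
    refine ⟨mul_mem ha hb, fun w hw => ?_⟩
    rw [mem_fix, h.ρ_mul ha hb, Module.End.mul_apply, mem_fix.1 (hb' hw), mem_fix.1 (ha' hw)]
  inv_mem' := by
    rintro a ⟨ha, ha'⟩
    refine ⟨inv_mem ha, fun w hw => ?_⟩
    have := h.ρ_inv_ρ ha w
    rwa [mem_fix.1 (ha' hw), ← mem_fix] at this

theorem BW_le_iff {A : Subgroup G} (hA : A ≤ NN U U₀) {S : Submodule ℤ h.W} :
    h.BW A ≤ S ↔ A ≤ h.cs S :=
  ⟨fun e _ ha => ⟨hA ha, (h.le_BW ha).trans e⟩, fun e => iSup₂_le fun _ ha => (e ha).2⟩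

theorem le_FX_iff {A : Subgroup G} (hA : A ≤ NN U U₀) {S : Submodule ℤ h.W} :
    S ≤ h.FX A ↔ A ≤ h.fs S :=
  ⟨fun e _ ha => ⟨hA ha, e.trans (h.FX_le ha)⟩, fun e => le_iInf₂ fun _ ha => (e ha).2⟩

theorem BW_zpowers {a : G} (ha : a ∈ NN U U₀) : h.BW (zpowers a) = com (h.ρ a) :=
  le_antisymm ((h.BW_le_iff (zpowers_le.2 ha)).2 (zpowers_le.2 ⟨ha, le_rfl⟩))
    (h.le_BW (mem_zpowers a))

theorem FX_zpowers {a : G} (ha : a ∈ NN U U₀) : h.FX (zpowers a) = fix (h.ρ a) :=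
  le_antisymm (h.FX_le (mem_zpowers a))
    ((h.le_FX_iff (zpowers_le.2 ha)).2 (zpowers_le.2 ⟨ha, le_rfl⟩))

theorem BW_sup {A B : Subgroup G} (hA : A ≤ NN U U₀) (hB : B ≤ NN U U₀) :
    h.BW (A ⊔ B) = h.BW A ⊔ h.BW B :=
  le_antisymm ((h.BW_le_iff (sup_le hA hB)).2 (sup_le ((h.BW_le_iff hA).1 le_sup_left)
    ((h.BW_le_iff hB).1 le_sup_right))) (sup_le (h.BW_mono le_sup_left) (h.BW_mono le_sup_right))

theorem FX_sup {A B : Subgroup G} (hA : A ≤ NN U U₀) (hB : B ≤ NN U U₀) :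
    h.FX (A ⊔ B) = h.FX A ⊓ h.FX B :=
  le_antisymm (le_inf (h.FX_anti le_sup_left) (h.FX_anti le_sup_right))
    ((h.le_FX_iff (sup_le hA hB)).2 (sup_le ((h.le_FX_iff hA).1 inf_le_left)
    ((h.le_FX_iff hB).1 inf_le_right)))

theorem BW_iSup {ι : Sort*} {A : ι → Subgroup G} (hA : ∀ i, A i ≤ NN U U₀) :
    h.BW (⨆ i, A i) = ⨆ i, h.BW (A i) :=
  le_antisymm ((h.BW_le_iff (iSup_le hA)).2 (iSup_le fun i => (h.BW_le_iff (hA i)).1
    (le_iSup (fun i => h.BW (A i)) i))) (iSup_le fun i => h.BW_mono (le_iSup A i))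

theorem FX_iSup {ι : Sort*} {A : ι → Subgroup G} (hA : ∀ i, A i ≤ NN U U₀) :
    h.FX (⨆ i, A i) = ⨅ i, h.FX (A i) :=
  le_antisymm (le_iInf fun i => h.FX_anti (le_iSup A i))
    ((h.le_FX_iff (iSup_le hA)).2 (iSup_le fun i => (h.le_FX_iff (hA i)).1
    (iInf_le (fun i => h.FX (A i)) i)))

theorem BW_of_le [Finite G] {A : Subgroup G} (hA : A ≤ secCent U U₀) : h.BW A = ⊥ :=
  eq_bot_iff.2 (iSup₂_le fun a ha => by rw [h.ρ_of_mem (hA ha), com_one])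

theorem FX_of_le [Finite G] {A : Subgroup G} (hA : A ≤ secCent U U₀) : h.FX A = ⊤ :=
  eq_top_iff.2 (le_iInf₂ fun a ha => by rw [h.ρ_of_mem (hA ha), fix_one])

theorem le_of_FX {A : Subgroup G} (hA : A ≤ NN U U₀) (e : h.FX A = ⊤) : A ≤ secCent U U₀ :=
  fun _ ha => (h.ρ_eq_one (hA ha)).1 (fix_eq_top.1 (eq_top_iff.2 (e ▸ h.FX_le ha)))

theorem mem_fx' {A : Subgroup G} {u : G} :
    u ∈ fx U U₀ A ↔ u ∈ U ∧ ∀ a ∈ A, ⁅u, a⁆ ∈ U₀ :=
  ⟨fun e => ⟨e.1, e.2.2⟩, fun e => ⟨e.1, h.sec.le_normalizer e.1, e.2⟩⟩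

theorem fx_eq {A : Subgroup G} (hA : A ≤ NN U U₀) : fx U U₀ A = h.up (h.FX A) := by
  ext u
  rw [h.mem_fx', h.mem_up, h.mem_FX]
  refine and_congr_right fun hu => forall₂_congr fun a ha => ?_
  rw [h.ρ_π_eq (hA ha) hu, ← commutatorElement_inv, inv_mem_iff]

theorem bW_eq {A : Subgroup G} (hA : A ≤ NN U U₀) : bW U U₀ A = h.up (h.BW A) := by
  have h1 : bW U U₀ A ≤ h.up (h.BW A) := by
    refine sup_le ?_ (h.le_up _)
    rw [commutator_comm, commutator_le]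
    intro a ha u hu
    refine ⟨Sec.comm_mem h.sec (hA ha) hu, ?_⟩
    change h.π _ ∈ _
    rw [← h.ρ_π_sub (hA ha) hu]
    exact h.sub_mem_BW ha _
  refine le_antisymm h1 ?_
  obtain ⟨S, hS⟩ := h.exists_up (X := bW U U₀ A) le_sup_right (h1.trans (h.up_le _))
  rw [hS, h.up_le_up]
  refine iSup₂_le fun a ha w hw => ?_
  obtain ⟨v, rfl⟩ := mem_com.1 hw
  obtain ⟨u, hu, rfl⟩ := h.exists_π v
  rw [h.ρ_π_sub (hA ha) hu]
  have : ⁅a, u⁆ ∈ bW U U₀ A :=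
    mem_sup_left (by rw [commutator_comm]; exact commutator_mem_commutator ha hu)
  rw [hS] at this
  exact this.2

theorem ρ_mem_BW {A : Subgroup G} (hA : A ≤ NN U U₀) {g : G} (hg : g ∈ NN U U₀) (hn : g ∈ 𝐍[A])
    {w : h.W} (hw : w ∈ h.BW A) : h.ρ g w ∈ h.BW A := by
  have : h.BW A ≤ (h.BW A).comap (h.ρ g) := by
    refine iSup₂_le fun a ha v hv => ?_
    obtain ⟨u, rfl⟩ := mem_com.1 hv
    have e := h.sub_mem_BW (Amb.conj_mem_of_mem_normalizer hn ha) (h.ρ g u)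
    rw [h.ρ_mul (mul_mem hg (hA ha)) (inv_mem hg), h.ρ_mul hg (hA ha), Module.End.mul_apply,
      Module.End.mul_apply, h.ρ_inv_ρ hg] at e
    rw [Submodule.mem_comap, map_sub]
    exact e
  exact this hw

theorem ρ_mem_FX {A : Subgroup G} (hA : A ≤ NN U U₀) {g : G} (hg : g ∈ NN U U₀) (hn : g ∈ 𝐍[A])
    {w : h.W} (hw : w ∈ h.FX A) : h.ρ g w ∈ h.FX A := by
  rw [h.mem_FX] at hw ⊢
  intro a ha
  have e := hw _ (Amb.inv_conj_mem_of_mem_normalizer hn ha)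
  rw [h.ρ_mul (mul_mem (inv_mem hg) (hA ha)) hg, h.ρ_mul (inv_mem hg) (hA ha), Module.End.mul_apply,
    Module.End.mul_apply] at e
  conv_rhs => rw [← e, h.ρ_ρ_inv hg]

/-- the action of a subgroup as a homomorphism -/
noncomputable def hom {A : Subgroup G} (hA : A ≤ NN U U₀) : A →* (Module.End ℤ h.W)ˣ :=
  MonoidHom.toHomUnits
    { toFun a := h.ρ a
      map_one' := h.ρ_one
      map_mul' a b := h.ρ_mul (hA a.2) (hA b.2) }

theorem coe_hom {A : Subgroup G} (hA : A ≤ NN U U₀) (a : A) :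
    (h.hom hA a : Module.End ℤ h.W) = h.ρ a := rfl

theorem card_range_hom {A : Subgroup G} (hA : A ≤ NN U U₀) :
    Nat.card (h.hom hA).range = (secCent U U₀).relIndex A := by
  rw [← index_ker, relIndex]
  congr 1
  ext a
  rw [MonoidHom.mem_ker, mem_subgroupOf, ← h.ρ_eq_one (hA a.2), ← h.coe_hom hA, Units.val_eq_one]

theorem FX_eq_hom {A : Subgroup G} (hA : A ≤ NN U U₀) :
    (⨅ r ∈ (h.hom hA).range, fix (r : Module.End ℤ h.W)) = h.FX A := by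
  apply le_antisymm
  · exact le_iInf₂ fun a ha => iInf₂_le (f := fun r (_ : r ∈ (h.hom hA).range) =>
      fix (r : Module.End ℤ h.W)) (h.hom hA ⟨a, ha⟩) ⟨_, rfl⟩
  · refine le_iInf₂ ?_
    rintro _ ⟨a, rfl⟩
    exact h.FX_le a.2

theorem BW_eq_hom {A : Subgroup G} (hA : A ≤ NN U U₀) :
    (⨆ r ∈ (h.hom hA).range, com (r : Module.End ℤ h.W)) = h.BW A := by
  apply le_antisymm
  · refine iSup₂_le ?_
    rintro _ ⟨a, rfl⟩
    exact h.le_BW a.2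
  · exact iSup₂_le fun a ha => le_iSup₂ (f := fun r (_ : r ∈ (h.hom hA).range) =>
      com (r : Module.End ℤ h.W)) (h.hom hA ⟨a, ha⟩) ⟨_, rfl⟩

theorem compl {A : Subgroup G} (hA : A ≤ NN U U₀) (ho : Odd ((secCent U U₀).relIndex A)) :
    h.BW A ⊔ h.FX A = ⊤ ∧ h.BW A ⊓ h.FX A = ⊥ := by
  have := coprime_units h.two (h.hom hA).range (h.card_range_hom hA ▸ ho)
  rwa [h.FX_eq_hom, h.BW_eq_hom] at this

theorem isPGroup_hom {A : Subgroup G} (hA : A ≤ NN U U₀) {p : ℕ}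
    (hp : ∀ a ∈ A, ∃ k : ℕ, a ^ p ^ k ∈ secCent U U₀) : IsPGroup p (h.hom hA).range := by
  rintro ⟨_, a, rfl⟩
  obtain ⟨k, hk⟩ := hp a a.2
  refine ⟨k, Subtype.ext (Units.ext ?_)⟩
  change (((h.hom hA a) ^ p ^ k : (Module.End ℤ h.W)ˣ) : Module.End ℤ h.W) = 1
  rw [Units.val_pow_eq_pow_val, h.coe_hom, h.ρ_pow_eq_one (hA a.2)]
  exact hk

theorem relIndex_pow [Finite G] {A : Subgroup G} (hA : A ≤ NN U U₀) {p : ℕ} (hp : p.Prime)
    (hA' : ∀ a ∈ A, ∃ k : ℕ, a ^ p ^ k ∈ secCent U U₀) :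
    ∃ k : ℕ, (secCent U U₀).relIndex A = p ^ k := by
  have := Fact.mk hp
  have : Finite (h.hom hA).range := Finite.of_surjective _ (h.hom hA).rangeRestrict_surjective
  rw [← h.card_range_hom hA]
  exact IsPGroup.iff_card.1 (h.isPGroup_hom hA hA')

/-- the commutator space of a `p`-group, `p` odd -/
theorem pgroup [Finite G] {A : Subgroup G} (hA : A ≤ NN U U₀) {p : ℕ} (hp : p.Prime) (hp2 : p ≠ 2)
    (hA' : ∀ a ∈ A, ∃ k : ℕ, a ^ p ^ k ∈ secCent U U₀) :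
    h.BW A ⊔ h.FX A = ⊤ ∧ h.BW A ⊓ h.FX A = ⊥ ∧ Nat.card (h.BW A) ≡ 1 [MOD p] := by
  have := Fact.mk hp
  obtain ⟨k, hk⟩ := h.relIndex_pow hA hp hA'
  obtain ⟨h1, h2⟩ := h.compl hA (hk ▸ (hp.odd_of_ne_two hp2).pow)
  refine ⟨h1, h2, ?_⟩
  have e := card_modEq_units _ (h.isPGroup_hom hA hA')
  rw [h.FX_eq_hom, ← Lin.card_top, ← h1, card_sup_of_inf h2] at e
  obtain ⟨j, hj⟩ := card_pow h.two (h.FX A)
  refine Nat.ModEq.cancel_right_of_coprime (c := Nat.card (h.FX A)) ?_ (by rwa [one_mul])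
  rw [hj]
  exact ((Nat.coprime_primes hp Nat.prime_two).2 hp2).pow_right j

end Mod

end Cfsg.Agent.NG
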