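import Mathlib
import Cfsg.Agent.NG.Basic
import Cfsg.Agent.NG.ModSec

/-!
Blocks of a module `U / U₀` for a solvable group `L` with `O₂(L / C_L(U / U₀)) = 1`.
-/

set_option autoImplicit false
set_option linter.unusedSectionVars false

namespace Cfsg.Agent.NG

open Subgroup Cfsg.Agent.PLocal Cfsg.Agent.PLocal.Amb Cfsg.Agent.PLocal.CP Cfsg.Agent.PLocal.JC
open Cfsg.Agent.NG.Lin
open scoped commutatorElement

variable {G : Type*} [Group G] [Finite G]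

variable {L U U₀ K K' : Subgroup G}

theorem mod_of_isPRed {V : Subgroup G} (hs : Group.IsSolvable L) (h : IsPRed 2 V L) :
    Mod L V ⊥ where
  le := bot_le
  normU := h.norm
  normU₀ := le_normalizer_of_normal
  comm := (commutator_eq_bot_iff_le_centralizer.2 (h.le_centralizer h)).le
  sq := fun u hu => by rw [← pow_two]; exact h.ea.2 u hu
  solv := hs
  red := by rw [secCent_bot]; exact h.red

theorem Mod.cj (h : Mod L U U₀) (g : G) : Mod cj(g, L) cj(g, U) cj(g, U₀) where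
  le := cj_mono g h.le
  normU := by rw [normalizer_cj]; exact cj_mono g h.normU
  normU₀ := by rw [normalizer_cj]; exact cj_mono g h.normU₀
  comm := by rw [commutator_cj]; exact cj_mono g h.comm
  sq := by
    rintro _ ⟨u, hu, rfl⟩
    rw [← map_mul]
    exact mem_map_of_mem _ (h.sq u hu)
  solv := by
    have := h.solv
    exact Group.isSolvable_of_surjective (MonoidHom.subgroupMap_surjective _ L)
  red := by rw [secCent_cj]; exact h.red.cj g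

theorem Mod.norm_ker (h : Mod L U U₀) : L ≤ 𝐍[secCent U U₀] := h.L_le.trans h.N_norm_C

theorem Mod.le_fx (h : Mod L U U₀) {A : Subgroup G} (hA : A ≤ L) : U₀ ≤ fx U U₀ A := by
  rw [h.fx_eq (hA.trans h.L_le)]; exact h.le_up _

theorem Mod.mem_fx (h : Mod L U U₀) {A : Subgroup G} {u : G} :
    u ∈ fx U U₀ A ↔ u ∈ U ∧ ∀ a ∈ A, ⁅u, a⁆ ∈ U₀ := h.mem_fx'

theorem Mod.mem_fx_zpowers (h : Mod L U U₀) {t u : G} (ht : t ∈ L) :
    u ∈ fx U U₀ (zpowers t) ↔ u ∈ U ∧ ⁅u, t⁆ ∈ U₀ := by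
  rw [h.fx_eq (zpowers_le.2 (h.L_le ht)), h.FX_zpowers (h.L_le ht), h.mem_up, mem_fix]
  refine and_congr_right fun hu => ?_
  rw [h.ρ_π_eq (h.L_le ht) hu, ← commutatorElement_inv, inv_mem_iff]

theorem Mod.bW_le (h : Mod L U U₀) {A : Subgroup G} (hA : A ≤ L) : bW U U₀ A ≤ U := by
  rw [h.bW_eq (hA.trans h.L_le)]; exact h.up_le _

theorem Mod.relIndex_fx_zp (h : Mod L U U₀) {t : G} (ht : t ∈ NN U U₀) :
    (fx U U₀ (zpowers t)).relIndex U = Nat.card (com (h.ρ t)) := by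
  have e := h.relIndex_up_top (fix (h.ρ t))
  rw [← card_fix_mul_card_com (h.ρ t)] at e
  rw [h.fx_eq (zpowers_le.2 ht), h.FX_zpowers ht]
  exact Nat.eq_of_mul_eq_mul_left (Lin.card_pos _) e

theorem Mod.relIndex_bW (h : Mod L U U₀) {A : Subgroup G} (hA : A ≤ NN U U₀) :
    U₀.relIndex (bW U U₀ A) = Nat.card (h.BW A) := by
  rw [h.bW_eq hA, h.relIndex_bot_up]

/-- `|U : C(t)| = |[U, t]|` for one element -/
theorem Mod.relIndex_fx_zpowers (h : Mod L U U₀) {t : G} (ht : t ∈ L) :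
    (fx U U₀ (zpowers t)).relIndex U = U₀.relIndex (bW U U₀ (zpowers t)) := by
  rw [h.relIndex_fx_zp (h.L_le ht), h.relIndex_bW (zpowers_le.2 (h.L_le ht)),
    h.BW_zpowers (h.L_le ht)]

theorem Mod.compl_up (h : Mod L U U₀) {A : Subgroup G} (hA : A ≤ NN U U₀)
    (e : h.BW A ⊔ h.FX A = ⊤ ∧ h.BW A ⊓ h.FX A = ⊥) :
    bW U U₀ A ⊔ fx U U₀ A = U ∧ bW U U₀ A ⊓ fx U U₀ A = U₀ := by
  rw [h.bW_eq hA, h.fx_eq hA, ← h.up_sup, ← h.up_inf, e.1, e.2, h.up_top, h.up_bot]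
  exact ⟨rfl, rfl⟩

/-- coprime decomposition -/
theorem Mod.coprime (h : Mod L U U₀) {A : Subgroup G} (hA : A ≤ L)
    (ho : Odd ((secCent U U₀).relIndex A)) :
    bW U U₀ A ⊔ fx U U₀ A = U ∧ bW U U₀ A ⊓ fx U U₀ A = U₀ :=
  h.compl_up (hA.trans h.L_le) (h.compl (hA.trans h.L_le) ho)

theorem fx_cj (g : G) (U U₀ A : Subgroup G) :
    fx cj(g, U) cj(g, U₀) cj(g, A) = cj(g, fx U U₀ A) := by
  rw [fx, fx, secCent_cj, cj_inf]

theorem bW_cj (g : G) (U U₀ A : Subgroup G) :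
    bW cj(g, U) cj(g, U₀) cj(g, A) = cj(g, bW U U₀ A) := by
  rw [bW, bW, commutator_cj, cj_sup]

theorem Blk.cj (h : Blk L U U₀ K) (g : G) : Blk cj(g, L) cj(g, U) cj(g, U₀) cj(g, K) where
  ge := by rw [secCent_cj, ← cj_inf]; exact cj_mono g h.ge
  le := cj_mono g h.le
  idx := by rw [secCent_cj, relIndex_cj', h.idx]
  three := by
    rw [← cj_ncl, secCent_cj]
    rintro _ ⟨d, hd, rfl⟩
    obtain ⟨k, hk⟩ := h.three d hd
    exact ⟨k, by rw [← map_pow]; exact mem_map_of_mem _ hk⟩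
  card := by rw [bW_cj, relIndex_cj', h.card]

theorem Mod.blk_cj (h : Mod L U U₀) (hK : Blk L U U₀ K) {g : G} (hg : g ∈ L) :
    Blk L U U₀ cj(g, K) ∧ bW U U₀ cj(g, K) = cj(g, bW U U₀ K) ∧
      fx U U₀ cj(g, K) = cj(g, fx U U₀ K) := by
  have h1 := hK.cj g
  have h2 := bW_cj g U U₀ K
  have h3 := fx_cj g U U₀ K
  rw [cj_of_mem_normalizer (h.normU hg), cj_of_mem_normalizer (h.normU₀ hg)] at h1 h2 h3
  rw [cj_of_mem hg] at h1
  exact ⟨h1, h2, h3⟩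

theorem Mod.norm_D (h : Mod L U U₀) : L ≤ 𝐍[L ⊓ secCent U U₀] :=
  Amb.le_normalizer_inf le_normalizer h.norm_ker

theorem Mod.BW_sup_D (h : Mod L U U₀) {A : Subgroup G} (hA : A ≤ NN U U₀) :
    h.BW (A ⊔ (L ⊓ secCent U U₀)) = h.BW A := by
  rw [h.BW_sup hA (inf_le_left.trans h.L_le), h.BW_of_le inf_le_right, sup_bot_eq]

theorem Mod.FX_sup_D (h : Mod L U U₀) {A : Subgroup G} (hA : A ≤ NN U U₀) :
    h.FX (A ⊔ (L ⊓ secCent U U₀)) = h.FX A := by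
  rw [h.FX_sup hA (inf_le_left.trans h.L_le), h.FX_of_le inf_le_right, inf_top_eq]

theorem Mod.ρ_eq_pow (h : Mod L U U₀) {x k : G} (hx : x ∈ L)
    (hk : k ∈ zpowers x ⊔ (L ⊓ secCent U U₀)) : ∃ i : ℕ, h.ρ k = h.ρ x ^ i := by
  obtain ⟨a, ha, b, hb, rfl⟩ :=
    (mem_sup_of_le_normalizer_right ((zpowers_le.2 hx).trans h.norm_D)).1 hk
  obtain ⟨i, rfl⟩ := ((isOfFinOrder_of_finite x).mem_powers_iff_mem_zpowers).2 ha
  exact ⟨i, by rw [h.ρ_mul (pow_mem (h.L_le hx) i) (h.L_le hb.1), h.ρ_of_mem hb.2, mul_one,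
    h.ρ_pow (h.L_le hx)]⟩

theorem eq_or_eq_of_prime {D X Y : Subgroup G} (h1 : D ≤ X) (h2 : X ≤ Y)
    (hp : (D.relIndex Y).Prime) : X = D ∨ X = Y := by
  rw [← relIndex_mul_relIndex D X Y h1 h2] at hp
  rcases (Nat.prime_mul_iff.1 hp) with ⟨-, e⟩ | ⟨-, e⟩
  · exact Or.inr (le_antisymm h2 (relIndex_eq_one.1 e))
  · exact Or.inl (le_antisymm (relIndex_eq_one.1 e) h1)

theorem Blk.inf_eq (hK : Blk L U U₀ K) : secCent U U₀ ⊓ K = L ⊓ secCent U U₀ :=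
  le_antisymm (le_inf (inf_le_right.trans hK.le) inf_le_left) (le_inf inf_le_right hK.ge)

theorem Blk.idx' (hK : Blk L U U₀ K) : (L ⊓ secCent U U₀).relIndex K = 3 := by
  rw [← hK.inf_eq, inf_relIndex_right, hK.idx]

theorem Blk.eq_or_eq (hK : Blk L U U₀ K) {X : Subgroup G} (h1 : L ⊓ secCent U U₀ ≤ X)
    (h2 : X ≤ K) : X = L ⊓ secCent U U₀ ∨ X = K :=
  eq_or_eq_of_prime h1 h2 (hK.idx' ▸ Nat.prime_three)

theorem Blk.not_le (hK : Blk L U U₀ K) : ¬ K ≤ secCent U U₀ := fun e => by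
  have := hK.idx
  rw [relIndex_eq_one.2 e] at this
  exact absurd this (by decide)

/-- how blocks arise -/
theorem Mod.blk_of (h : Mod L U U₀) {x : G} (hx : x ∈ L) {p : ℕ} (hp : p.Prime) (hp2 : p ≠ 2)
    (hn : ∀ d ∈ ncl (zpowers x) L, ∃ k : ℕ, d ^ p ^ k ∈ secCent U U₀)
    (h4 : U₀.relIndex (bW U U₀ (zpowers x)) = 4) :
    p = 3 ∧ Blk L U U₀ (zpowers x ⊔ (L ⊓ secCent U U₀)) ∧
      bW U U₀ (zpowers x ⊔ (L ⊓ secCent U U₀)) = bW U U₀ (zpowers x) := by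
  have hxN := h.L_le hx
  have hzN : zpowers x ≤ NN U U₀ := zpowers_le.2 hxN
  have hKL : zpowers x ⊔ (L ⊓ secCent U U₀) ≤ L := sup_le (zpowers_le.2 hx) inf_le_left
  have hKN := hKL.trans h.L_le
  have h4' := h4
  rw [h.relIndex_bW hzN, h.BW_zpowers hxN] at h4'
  obtain ⟨k, hk⟩ := hn x (le_ncl _ _ (mem_zpowers x))
  have hσ : h.ρ x ^ p = 1 :=
    pow_eq_one_of_card h.two hp hp2 ((h.ρ_pow_eq_one hxN).2 hk) (by omega)
  have hd := fpf_dvd_prime hp hσ (fun _ hw => apply_mem_com rfl hw)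
    (com_inf_fix h.two (hp.odd_of_ne_two hp2) hσ)
  rw [h4'] at hd
  obtain rfl : p = 3 := (Nat.prime_dvd_prime_iff_eq hp Nat.prime_three).1 hd
  have hb : bW U U₀ (zpowers x ⊔ (L ⊓ secCent U U₀)) = bW U U₀ (zpowers x) := by
    rw [h.bW_eq hKN, h.bW_eq hzN, h.BW_sup_D hzN]
  refine ⟨rfl, ⟨le_sup_right, hKL, ?_, ?_, by rw [hb, h4]⟩, hb⟩
  · rw [← h.card_range_hom hKN]
    have e : (h.hom hKN).range = zpowers (h.hom hKN ⟨x, mem_sup_left (mem_zpowers x)⟩) := by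
      refine le_antisymm ?_ (zpowers_le.2 ⟨_, rfl⟩)
      rintro _ ⟨a, rfl⟩
      obtain ⟨i, hi⟩ := h.ρ_eq_pow hx a.2
      exact ⟨i, Units.ext (by simpa [zpow_natCast, h.coe_hom] using hi.symm)⟩
    rw [e, Nat.card_zpowers]
    have := Fact.mk Nat.prime_three
    refine orderOf_eq_prime (Units.ext (by simpa [h.coe_hom] using hσ)) fun e => ?_
    have e' : h.ρ x = 1 := congrArg Units.val e
    rw [e', com_one] at h4'
    simp at h4'
  · intro d hd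
    have hz := le_normalizer_ncl (zpowers x) L
    have hle : ncl (zpowers x ⊔ (L ⊓ secCent U U₀)) L ≤ ncl (zpowers x) L ⊔ (L ⊓ secCent U U₀) :=
      ncl_le (sup_le_sup_right (le_ncl _ _) _) (Amb.le_normalizer_sup hz h.norm_D)
    have hnl : ncl (zpowers x) L ≤ L := ncl_le_of_le (zpowers_le.2 hx)
    obtain ⟨a, ha, b, hb, rfl⟩ := (mem_sup_of_le_normalizer_right (hnl.trans h.norm_D)).1 (hle hd)
    obtain ⟨j, hj⟩ := hn a ha
    obtain ⟨c, hc, e⟩ := exists_mul_pow_eq (h.norm_ker (hnl ha)) hb.2 (3 ^ j)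
    exact ⟨j, e ▸ mul_mem hj hc⟩

theorem Mod.blk_gen (h : Mod L U U₀) (hK : Blk L U U₀ K) : ∃ x ∈ K, (∃ k : ℕ, x ^ 3 ^ k = 1) ∧
    x ∉ secCent U U₀ ∧ x ^ 3 ∈ secCent U U₀ ∧ K = zpowers x ⊔ (L ⊓ secCent U U₀) := by
  have h3 : ∀ y ∈ K, y ^ 3 ∈ secCent U U₀ := fun y hy => by
    have := normal_subgroupOf' (hK.le.trans h.norm_ker)
    have e := pow_index_mem ((secCent U U₀).subgroupOf K) ⟨y, hy⟩
    have e' : ((secCent U U₀).subgroupOf K).index = 3 := hK.idx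
    rw [e'] at e
    exact e
  obtain ⟨y, hy, hy'⟩ := SetLike.not_le_iff_exists.1 hK.not_le
  obtain ⟨k, m, hm, e⟩ := Nat.exists_eq_pow_mul_and_not_dvd (orderOf_pos y).ne' 3 (by decide)
  have hx : y ^ m ∉ secCent U U₀ := fun hc => hy' (by
    have e3 : m % 3 = 1 ∨ m % 3 = 2 := by omega
    have hq := pow_mem (h3 y hy) (m / 3)
    rw [← pow_mul] at hq
    rcases e3 with e3 | e3
    · rw [← Nat.div_add_mod m 3, e3, pow_add, pow_one] at hc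
      exact (Subgroup.mul_mem_cancel_left _ hq).1 hc
    · rw [← Nat.div_add_mod m 3, e3, pow_add] at hc
      have h2 := (Subgroup.mul_mem_cancel_left _ hq).1 hc
      have h3' := h3 y hy
      rw [pow_succ] at h3'
      exact (Subgroup.mul_mem_cancel_left _ h2).1 h3')
  have hxK := pow_mem hy m
  refine ⟨y ^ m, hxK, ⟨k, by rw [← pow_mul, mul_comm, ← e, pow_orderOf_eq_one]⟩, hx, h3 _ hxK, ?_⟩
  refine ((hK.eq_or_eq le_sup_right (sup_le (zpowers_le.2 hxK) hK.ge)).resolve_left fun e => ?_).symm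
  exact hx (e.le (mem_sup_left (mem_zpowers _))).2

/-- a generator of a block in the linear model -/
structure Mod.Gen (h : Mod L U U₀) (K : Subgroup G) (x : G) : Prop where
  mem : x ∈ K
  memN : x ∈ NN U U₀
  eq : K = zpowers x ⊔ (L ⊓ secCent U U₀)
  cube : h.ρ x ^ 3 = 1
  bw : h.BW K = com (h.ρ x)
  fx : h.FX K = fix (h.ρ x)
  card : Nat.card (com (h.ρ x)) = 4
  pow : ∀ k ∈ K, ∃ i : ℕ, h.ρ k = h.ρ x ^ i

theorem Mod.blkN (h : Mod L U U₀) (hK : Blk L U U₀ K) : K ≤ NN U U₀ := hK.le.trans h.L_le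

theorem Mod.card_BW (h : Mod L U U₀) (hK : Blk L U U₀ K) : Nat.card (h.BW K) = 4 := by
  rw [← h.relIndex_bW (h.blkN hK), hK.card]

theorem Mod.exists_gen (h : Mod L U U₀) (hK : Blk L U U₀ K) : ∃ x, h.Gen K x := by
  obtain ⟨x, hx, -, -, h3, e⟩ := h.blk_gen hK
  have hxN := h.blkN hK hx
  have e1 : h.BW K = com (h.ρ x) := by rw [e, h.BW_sup_D (zpowers_le.2 hxN), h.BW_zpowers hxN]
  exact ⟨x, hx, hxN, e, (h.ρ_pow_eq_one hxN).2 h3, e1,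
    by rw [e, h.FX_sup_D (zpowers_le.2 hxN), h.FX_zpowers hxN], e1 ▸ h.card_BW hK,
    fun k hk => h.ρ_eq_pow (hK.le hx) (e ▸ hk)⟩

theorem Mod.blk_compl' (h : Mod L U U₀) (hK : Blk L U U₀ K) :
    h.BW K ⊔ h.FX K = ⊤ ∧ h.BW K ⊓ h.FX K = ⊥ := h.compl (h.blkN hK) (hK.idx ▸ by decide)

theorem Mod.blk_compl (h : Mod L U U₀) (hK : Blk L U U₀ K) :
    bW U U₀ K ⊔ fx U U₀ K = U ∧ bW U U₀ K ⊓ fx U U₀ K = U₀ :=
  h.compl_up (h.blkN hK) (h.blk_compl' hK)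

theorem Blk.le_op (hK : Blk L U U₀ K) : K ≤ opMod 3 (secCent U U₀) L :=
  (le_ncl K L).trans (le_opMod (ncl_le_of_le hK.le) (le_normalizer_ncl K L)
    (pRes_le_of_pow hK.three))

theorem Mod.op_pow (h : Mod L U U₀) {a : G} (ha : a ∈ opMod 3 (secCent U U₀) L) :
    ∃ k : ℕ, a ^ 3 ^ k ∈ secCent U U₀ := by
  have := Fact.mk Nat.prime_three
  obtain ⟨k, hk⟩ := exists_pow_mem_pRes (p := 3) ha
  exact ⟨k, pRes_opMod_le h.norm_ker hk⟩

theorem Mod.blk_ne₀ (h : Mod L U U₀) (hK : Blk L U U₀ K) (hK' : Blk L U U₀ K') (hne : K ≠ K') :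
    h.BW K ≤ h.FX K' := by
  obtain ⟨x, hx⟩ := h.exists_gen hK
  obtain ⟨y, hy⟩ := h.exists_gen hK'
  have hop : K ⊔ K' ≤ opMod 3 (secCent U U₀) L := sup_le hK.le_op hK'.le_op
  have hN : K ⊔ K' ≤ NN U U₀ := sup_le (h.blkN hK) (h.blkN hK')
  obtain ⟨e1, e2, e3⟩ := h.pgroup hN Nat.prime_three (by decide) fun a ha => h.op_pow (hop ha)
  rw [h.BW_sup (h.blkN hK) (h.blkN hK'), hx.bw, hy.bw] at e1 e2 e3
  rw [h.FX_sup (h.blkN hK) (h.blkN hK'), hx.fx, hy.fx] at e1 e2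
  have e4 := card_sup_mul_card_inf (com (h.ρ x)) (com (h.ρ y))
  have e5 := Lin.card_dvd (inf_le_left : com (h.ρ x) ⊓ com (h.ρ y) ≤ _)
  rw [hx.card] at e5
  rw [hx.card, hy.card] at e4
  have e6 := Nat.le_of_dvd (by norm_num) e5
  have e7 := Lin.card_pos (com (h.ρ x) ⊓ com (h.ρ y))
  generalize hc : Nat.card ↥(com (h.ρ x) ⊓ com (h.ρ y)) = c at e4 e5 e6 e7
  interval_cases c
  · have hd := Lin.card_eq_one.1 hc
    have key : ∀ n : ℕ, (h.ρ x * h.ρ y ^ n) ^ 3 = 1 := fun n => by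
      have hm : x * y ^ n ∈ K ⊔ K' := mul_mem_sup hx.mem (pow_mem hy.mem n)
      obtain ⟨k, hk⟩ := h.op_pow (hop hm)
      rw [← h.ρ_pow_eq_one (hN hm), h.ρ_mul hx.memN (pow_mem hy.memN n), h.ρ_pow hy.memN] at hk
      refine pow_eq_one_of_card h.two Nat.prime_three (by decide) hk ?_
      have := Lin.card_le ((com_mul_le' (h.ρ x) (h.ρ y ^ n)).trans
        (sup_le_sup_left (com_pow_le (h.ρ y) n) _))
      omega
    rw [hx.bw, hy.fx]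
    exact disj_block h.two hx.cube hy.cube hx.card hy.card hd e2 (by simpa using key 1) (key 2)
  · have : Nat.card ↥(com (h.ρ x) ⊔ com (h.ρ y)) = 8 := by omega
    rw [this] at e3
    exact absurd e3 (by decide)
  · exact absurd e5 (by decide)
  · exfalso
    have a1 := eq_of_le_of_card_le (inf_le_left : com (h.ρ x) ⊓ com (h.ρ y) ≤ _)
      (by rw [hc, hx.card])
    have a2 := eq_of_le_of_card_le (inf_le_right : com (h.ρ x) ⊓ com (h.ρ y) ≤ _)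
      (by rw [hc, hy.card])
    have a3 : com (h.ρ y) = com (h.ρ x) := a2.symm.trans a1
    rw [a3, sup_idem] at e1
    have a4 : ∃ i : ℕ, h.ρ y = h.ρ x ^ i := by
      rcases same_block h.two hx.cube hy.cube hx.card a3 e1 with e | e
      · exact ⟨1, by rw [pow_one, e]⟩
      · exact ⟨2, e⟩
    obtain ⟨i, hi⟩ := a4
    rw [← h.ρ_pow hx.memN, h.ρ_eq_ρ hy.memN (pow_mem hx.memN i)] at hi
    have a5 : y ∈ K := (Subgroup.mul_mem_cancel_right K (K.inv_mem (K.pow_mem hx.mem i))).1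
      (hK.ge ⟨mul_mem (hK'.le hy.mem) (L.inv_mem (L.pow_mem (hK.le hx.mem) i)), hi⟩)
    have a6 : K' ≤ K := by rw [hy.eq]; exact sup_le (zpowers_le.2 a5) hK.ge
    rcases hK.eq_or_eq hK'.ge a6 with e | e
    · exact hK'.not_le (e.le.trans inf_le_right)
    · exact hne e.symm

theorem Mod.blk_inf (h : Mod L U U₀) (hK : Blk L U U₀ K) (hK' : Blk L U U₀ K') (hne : K ≠ K') :
    h.BW K ⊓ h.BW K' = ⊥ :=
  eq_bot_iff.2 ((inf_le_inf_left _ (h.blk_ne₀ hK' hK hne.symm)).trans (h.blk_compl' hK).2.le)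

theorem Mod.blk_comm (h : Mod L U U₀) (hK : Blk L U U₀ K) (hK' : Blk L U U₀ K') :
    ⁅K, K'⁆ ≤ secCent U U₀ := by
  rw [commutator_le]
  intro a ha b hb
  rw [← h.ρ_comm (h.blkN hK ha) (h.blkN hK' hb)]
  by_cases hne : K = K'
  · subst hne
    obtain ⟨x, hx⟩ := h.exists_gen hK
    obtain ⟨i, hi⟩ := hx.pow a ha
    obtain ⟨j, hj⟩ := hx.pow b hb
    rw [hi, hj, ← pow_add, ← pow_add, add_comm]
  · have e1 := h.blk_ne₀ hK hK' hne
    have e2 := h.blk_ne₀ hK' hK (Ne.symm hne)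
    refine eq_of_forall_compl (h.blk_compl' hK).1 (fun w hw => ?_) fun w hw => ?_
    · rw [Module.End.mul_apply, Module.End.mul_apply, h.mem_FX.1 (e1 hw) b hb,
        h.mem_FX.1 (e1 (apply_mem_of_com_le (h.le_BW ha) hw)) b hb]
    · rw [Module.End.mul_apply, Module.End.mul_apply, h.mem_FX.1 hw a ha,
        h.mem_FX.1 (apply_mem_of_com_le ((h.le_BW hb).trans e2) hw) a ha]

theorem Mod.blk_ne (h : Mod L U U₀) (hK : Blk L U U₀ K) (hK' : Blk L U U₀ K') (hne : K ≠ K') :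
    bW U U₀ K' ≤ fx U U₀ K ∧ ⁅K, K'⁆ ≤ secCent U U₀ ∧ bW U U₀ K ⊓ bW U U₀ K' = U₀ := by
  refine ⟨?_, h.blk_comm hK hK', ?_⟩
  · rw [h.bW_eq (h.blkN hK'), h.fx_eq (h.blkN hK), h.up_le_up]
    exact h.blk_ne₀ hK' hK hne.symm
  · rw [h.bW_eq (h.blkN hK'), h.bW_eq (h.blkN hK), ← h.up_inf, h.blk_inf hK hK' hne, h.up_bot]

theorem Mod.blk_eq (h : Mod L U U₀) (hK : Blk L U U₀ K) (hK' : Blk L U U₀ K') {w : G}
    (h1 : w ∈ bW U U₀ K) (h2 : w ∈ bW U U₀ K') (h3 : w ∉ U₀) : K = K' := by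
  by_contra hne
  exact h3 ((h.blk_ne hK hK' hne).2.2.le ⟨h1, h2⟩)

theorem Mod.bN_norm (h : Mod L U U₀) : bN L U U₀ ≤ L ∧ L ≤ 𝐍[bN L U U₀] := by
  refine ⟨sup_le inf_le_left (sSup_le fun K hK => Blk.le hK), Amb.le_normalizer_sup h.norm_D ?_⟩
  rw [le_normalizer_iff_cj]
  intro g hg
  rw [cj_le_iff]
  refine sSup_le fun K hK => ?_
  rw [← cj_le_iff]
  exact le_sSup (h.blk_cj hK hg).1

theorem Mod.bN_norm_blk (h : Mod L U U₀) (hK : Blk L U U₀ K) :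
    K ≤ bN L U U₀ ∧ bN L U U₀ ≤ 𝐍[K] ∧ bN L U U₀ ≤ 𝐍[bW U U₀ K] := by
  have e : bN L U U₀ ≤ 𝐍[K] := by
    refine sup_le (hK.ge.trans le_normalizer) (sSup_le fun K' hK' => ?_)
    rw [le_normalizer_iff_commutator_le_left]
    exact (le_inf ((commutator_mono hK.le (Blk.le hK')).trans (commutator_le_self L))
      (h.blk_comm hK hK')).trans hK.ge
  refine ⟨le_sup_of_le_right (le_sSup hK), e, fun g hg => ?_⟩
  rw [← cj_eq_iff, ← (h.blk_cj hK (h.bN_norm.1 hg)).2.1, cj_of_mem_normalizer (e hg)]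

/-- an element of `L` fixing a nonzero vector of a block normalizes the block -/
theorem Mod.mem_normalizer_blk (h : Mod L U U₀) (hK : Blk L U U₀ K) {g w : G} (hg : g ∈ L)
    (h1 : w ∈ bW U U₀ K) (h2 : w ∉ U₀) (h3 : g * w * g⁻¹ ∈ bW U U₀ K) :
    g ∈ 𝐍[K] ∧ g ∈ 𝐍[bW U U₀ K] := by
  obtain ⟨e1, e2, -⟩ := h.blk_cj hK hg
  have e : cj(g, K) = K := h.blk_eq e1 hK (e2 ▸ conj_mem_cj g h1) h3
    fun e => h2 ((mem_normalizer_iff.1 (h.normU₀ hg) w).2 e)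
  exact ⟨cj_eq_iff.1 e, cj_eq_iff.1 (by rw [← e2, e])⟩

theorem Mod.blk_trans' (h : Mod L U U₀) (hK : Blk L U U₀ K) {w w' : h.W} (h1 : w ∈ h.BW K)
    (h2 : w ≠ 0) (h1' : w' ∈ h.BW K) (h2' : w' ≠ 0) : ∃ k ∈ K, h.ρ k w = w' := by
  obtain ⟨x, hx⟩ := h.exists_gen hK
  rw [hx.bw] at h1 h1'
  rcases four_cases h.two hx.cube hx.card h1 h2 h1' with e | e | e | e
  · exact absurd e h2'
  · exact ⟨1, one_mem _, by rw [h.ρ_one, e]; rfl⟩
  · exact ⟨x, hx.mem, e.symm⟩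
  · exact ⟨x * x, mul_mem hx.mem hx.mem, by rw [h.ρ_mul hx.memN hx.memN, e]; rfl⟩

theorem Mod.blk_trans (h : Mod L U U₀) (hK : Blk L U U₀ K) {w w' : G} (h1 : w ∈ bW U U₀ K)
    (h2 : w ∉ U₀) (h1' : w' ∈ bW U U₀ K) (h2' : w' ∉ U₀) :
    ∃ k ∈ K, k * w * k⁻¹ * w'⁻¹ ∈ U₀ := by
  rw [h.bW_eq (h.blkN hK)] at h1 h1'
  obtain ⟨k, hk, e⟩ := h.blk_trans' hK h1.2 (mt (h.π_eq_zero h1.1).1 h2) h1'.2
    (mt (h.π_eq_zero h1'.1).1 h2')
  refine ⟨k, hk, ?_⟩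
  have e' : h.ρ k (h.π w) = h.π w' := e
  rwa [h.ρ_π (h.blkN hK hk) h1.1,
    h.π_eq_π (Amb.conj_mem_of_mem_normalizer (h.blkN hK hk).1 h1.1) h1'.1] at e'

theorem Mod.blk_inv' (h : Mod L U U₀) (hK : Blk L U U₀ K) {S : Submodule ℤ h.W}
    (hn : ∀ k ∈ K, ∀ w ∈ S, h.ρ k w ∈ S) : S ≤ h.FX K ∨ h.BW K ≤ S := by
  by_cases e : S ≤ h.FX K
  · exact Or.inl e
  right
  obtain ⟨v, hv, hv'⟩ := SetLike.not_le_iff_exists.1 e
  rw [h.mem_FX] at hv'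
  push Not at hv'
  obtain ⟨a, ha, ha'⟩ := hv'
  intro w hw
  by_cases hw0 : w = 0
  · rw [hw0]; exact zero_mem _
  obtain ⟨k, hk, rfl⟩ := h.blk_trans' hK (h.sub_mem_BW ha v) (sub_ne_zero.2 ha') hw hw0
  exact hn k hk _ (sub_mem (hn a ha v hv) hv)

/-- a `K`-invariant subgroup lies in the complement or contains the block -/
theorem Mod.blk_inv (h : Mod L U U₀) (hK : Blk L U U₀ K) {X : Subgroup G} (h0 : U₀ ≤ X)
    (h1 : X ≤ U) (hn : K ≤ 𝐍[X]) : X ≤ fx U U₀ K ∨ bW U U₀ K ≤ X := by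
  obtain ⟨S, rfl⟩ := h.exists_up h0 h1
  rw [h.bW_eq (h.blkN hK), h.fx_eq (h.blkN hK), h.up_le_up, h.up_le_up]
  exact h.blk_inv' hK fun k hk => (h.mem_normalizer_up (h.blkN hK hk)).1 (hn hk)

open Classical in
/-- the projection onto a block -/
noncomputable def Mod.pj (h : Mod L U U₀) (K : Subgroup G) : Module.End ℤ h.W :=
  if hc : IsCompl (h.BW K) (h.FX K) then
    (h.BW K).subtype ∘ₗ Submodule.projectionOnto _ _ hc else 0

theorem Mod.isCompl (h : Mod L U U₀) (hK : Blk L U U₀ K) : IsCompl (h.BW K) (h.FX K) :=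
  ⟨disjoint_iff.2 (h.blk_compl' hK).2, codisjoint_iff.2 (h.blk_compl' hK).1⟩

theorem Mod.pj_add (h : Mod L U U₀) (hK : Blk L U U₀ K) {a b : h.W} (ha : a ∈ h.BW K)
    (hb : b ∈ h.FX K) : h.pj K (a + b) = a := by
  rw [Mod.pj, dif_pos (h.isCompl hK), LinearMap.comp_apply, map_add,
    Submodule.projectionOnto_apply_of_mem_left (h.isCompl hK) ha,
    Submodule.projectionOnto_apply_of_mem_right (h.isCompl hK) hb, add_zero]
  rfl

theorem Mod.pj_spec (h : Mod L U U₀) (hK : Blk L U U₀ K) (w : h.W) :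
    h.pj K w ∈ h.BW K ∧ w - h.pj K w ∈ h.FX K := by
  obtain ⟨a, ha, b, hb, rfl⟩ := Submodule.mem_sup.1
    ((h.blk_compl' hK).1 ▸ Submodule.mem_top : w ∈ h.BW K ⊔ h.FX K)
  rw [h.pj_add hK ha hb, add_sub_cancel_left]
  exact ⟨ha, hb⟩

theorem Mod.pj_eq (h : Mod L U U₀) (hK : Blk L U U₀ K) {w a : h.W} :
    h.pj K w = a ↔ a ∈ h.BW K ∧ w - a ∈ h.FX K := by
  constructor
  · rintro rfl; exact h.pj_spec hK w
  · rintro ⟨h1, h2⟩
    have := h.pj_add hK h1 h2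
    rwa [add_sub_cancel] at this

theorem Mod.pj_eq_zero (h : Mod L U U₀) (hK : Blk L U U₀ K) {w : h.W} :
    h.pj K w = 0 ↔ w ∈ h.FX K := by
  rw [h.pj_eq hK, sub_zero]
  exact ⟨fun e => e.2, fun e => ⟨zero_mem _, e⟩⟩

theorem Mod.pj_self (h : Mod L U U₀) (hK : Blk L U U₀ K) {w : h.W} (hw : w ∈ h.BW K) :
    h.pj K w = w := (h.pj_eq hK).2 ⟨hw, by rw [sub_self]; exact zero_mem _⟩

theorem Mod.pj_ρ (h : Mod L U U₀) (hK : Blk L U U₀ K) {g : G} (hg : g ∈ NN U U₀) (hn : g ∈ 𝐍[K])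
    (w : h.W) : h.pj K (h.ρ g w) = h.ρ g (h.pj K w) := by
  obtain ⟨h1, h2⟩ := h.pj_spec hK w
  rw [h.pj_eq hK, ← map_sub]
  exact ⟨h.ρ_mem_BW (h.blkN hK) hg hn h1, h.ρ_mem_FX (h.blkN hK) hg hn h2⟩

theorem Mod.pj_ρ_ne (h : Mod L U U₀) (hK : Blk L U U₀ K) (hK' : Blk L U U₀ K') (hne : K ≠ K')
    {k : G} (hk : k ∈ K') (w : h.W) : h.pj K (h.ρ k w) = h.pj K w := by
  rw [← sub_eq_zero, ← map_sub, h.pj_eq_zero hK]
  exact h.blk_ne₀ hK' hK hne.symm (h.sub_mem_BW hk w)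

theorem Mod.comp_iff (h : Mod L U U₀) (hK : Blk L U U₀ K) {u w : G} (hu : u ∈ U) :
    Comp U U₀ K u w ↔ w ∈ U ∧ h.pj K (h.π u) = h.π w := by
  rw [Comp, h.bW_eq (h.blkN hK), h.fx_eq (h.blkN hK), h.mem_up, h.mem_up, h.pj_eq hK]
  constructor
  · rintro ⟨⟨h1, h2⟩, -, h3⟩
    exact ⟨h1, h2, h.π_div hu h1 ▸ h3⟩
  · rintro ⟨h1, h2, h3⟩
    exact ⟨⟨h1, h2⟩, mul_mem hu (inv_mem h1), (h.π_div hu h1).symm ▸ h3⟩

theorem Mod.exists_comp (h : Mod L U U₀) (hK : Blk L U U₀ K) {u : G} (hu : u ∈ U) :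
    ∃ w, Comp U U₀ K u w := by
  obtain ⟨w, hw, e⟩ := h.exists_π (h.pj K (h.π u))
  exact ⟨w, (h.comp_iff hK hu).2 ⟨hw, e.symm⟩⟩

theorem Mod.comp_unique (h : Mod L U U₀) (hK : Blk L U U₀ K) {u w w' : G} (hu : u ∈ U)
    (h1 : Comp U U₀ K u w) (h2 : Comp U U₀ K u w') : w * w'⁻¹ ∈ U₀ := by
  rw [h.comp_iff hK hu] at h1 h2
  rw [← h.π_eq_π h1.1 h2.1, ← h1.2, ← h2.2]

theorem Mod.comp_mem_iff (h : Mod L U U₀) (hK : Blk L U U₀ K) {u w : G} (hu : u ∈ U)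
    (h1 : Comp U U₀ K u w) : w ∈ U₀ ↔ u ∈ fx U U₀ K := by
  rw [h.comp_iff hK hu] at h1
  rw [← h.π_eq_zero h1.1, ← h1.2, h.pj_eq_zero hK, h.fx_eq (h.blkN hK), h.mem_up, and_iff_right hu]

theorem Mod.comp_mul (h : Mod L U U₀) (hK : Blk L U U₀ K) {u w u' w' : G} (hu : u ∈ U)
    (hu' : u' ∈ U) (h1 : Comp U U₀ K u w) (h2 : Comp U U₀ K u' w') :
    Comp U U₀ K (u * u') (w * w') := by
  rw [h.comp_iff hK hu] at h1
  rw [h.comp_iff hK hu'] at h2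
  rw [h.comp_iff hK (mul_mem hu hu'), h.π_mul hu hu', h.π_mul h1.1 h2.1, map_add, h1.2, h2.2]
  exact ⟨mul_mem h1.1 h2.1, rfl⟩

theorem Mod.comp_cj (h : Mod L U U₀) (hK : Blk L U U₀ K) {u w g : G} (hg : g ∈ L)
    (h1 : Comp U U₀ K u w) : Comp U U₀ cj(g, K) (g * u * g⁻¹) (g * w * g⁻¹) := by
  obtain ⟨-, e1, e2⟩ := h.blk_cj hK hg
  rw [Comp, e1, e2]
  refine ⟨conj_mem_cj g h1.1, ?_⟩
  convert conj_mem_cj g h1.2 using 1
  group

theorem Mod.bNN (h : Mod L U U₀) : bN L U U₀ ≤ NN U U₀ := h.bN_norm.1.trans h.L_le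

theorem Mod.sSupN (h : Mod L U U₀) : sSup {K | Blk L U U₀ K} ≤ NN U U₀ :=
  sSup_le fun _ hK => h.blkN hK

theorem Mod.BW_bN (h : Mod L U U₀) :
    h.BW (bN L U U₀) = ⨆ K ∈ {K | Blk L U U₀ K}, h.BW K := by
  rw [bN, sup_comm, h.BW_sup_D h.sSupN, sSup_eq_iSup',
    h.BW_iSup fun K : {K | Blk L U U₀ K} => h.blkN K.2, iSup_subtype'']

theorem Mod.mem_FX_bN (h : Mod L U U₀) {w : h.W} :
    w ∈ h.FX (bN L U U₀) ↔ ∀ K, Blk L U U₀ K → w ∈ h.FX K := by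
  rw [bN, sup_comm, h.FX_sup_D h.sSupN, sSup_eq_iSup',
    h.FX_iSup fun K : {K | Blk L U U₀ K} => h.blkN K.2, Submodule.mem_iInf]
  exact ⟨fun e K hK => e ⟨K, hK⟩, fun e K => e K K.2⟩

theorem Mod.bWs_eq (h : Mod L U U₀) {I : Set (Subgroup G)} (hI : ∀ K ∈ I, Blk L U U₀ K) :
    bWs U U₀ I = h.up (⨆ K ∈ I, h.BW K) := by
  rw [h.up_biSup, bWs]
  congr 1
  exact biSup_congr fun K hK => h.bW_eq (h.blkN (hI K hK))

theorem Mod.biSup_le_FX (h : Mod L U U₀) {I : Set (Subgroup G)} (hI : ∀ K ∈ I, Blk L U U₀ K)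
    (hK : Blk L U U₀ K) (hKI : K ∉ I) : ⨆ K ∈ I, h.BW K ≤ h.FX K :=
  iSup₂_le fun K' hK' => h.blk_ne₀ (hI K' hK') hK fun e => hKI (e ▸ hK')

/-- the finite set of blocks -/
noncomputable def blks (L U U₀ : Subgroup G) : Finset (Subgroup G) :=
  (Set.toFinite {K | Blk L U U₀ K}).toFinset

theorem mem_blks : K ∈ blks L U U₀ ↔ Blk L U U₀ K := Set.Finite.mem_toFinset _

theorem Mod.pj_sum (h : Mod L U U₀) (hK : Blk L U U₀ K) (f : Subgroup G → h.W)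
    (hf : ∀ K, Blk L U U₀ K → f K ∈ h.BW K) : h.pj K (∑ K' ∈ blks L U U₀, f K') = f K := by
  rw [map_sum, Finset.sum_eq_single_of_mem K (mem_blks.2 hK), h.pj_self hK (hf K hK)]
  intro K' hK' hne
  rw [mem_blks] at hK'
  exact (h.pj_eq_zero hK).2 (h.blk_ne₀ hK' hK hne (hf K' hK'))

theorem Mod.sum_pj (h : Mod L U U₀) {w : h.W} (hw : w ∈ h.BW (bN L U U₀)) :
    ∑ K ∈ blks L U U₀, h.pj K w = w := by
  have : h.BW (bN L U U₀) ≤ LinearMap.eqLocus (∑ K ∈ blks L U U₀, h.pj K) LinearMap.id := by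
    rw [h.BW_bN]
    refine iSup₂_le fun K hK v hv => ?_
    rw [LinearMap.mem_eqLocus, LinearMap.sum_apply,
      Finset.sum_eq_single_of_mem K (mem_blks.2 hK), h.pj_self hK hv, LinearMap.id_apply]
    intro K' hK' hne
    rw [mem_blks] at hK'
    exact (h.pj_eq_zero hK').2 (h.blk_ne₀ hK hK' hne.symm hv)
  have e := this hw
  rwa [LinearMap.mem_eqLocus, LinearMap.sum_apply] at e

theorem Mod.mem_bWs (h : Mod L U U₀) {I : Set (Subgroup G)} (hI : ∀ K ∈ I, Blk L U U₀ K) {u : G} :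
    u ∈ bWs U U₀ I ↔ u ∈ bW U U₀ (bN L U U₀) ∧ ∀ K, Blk L U U₀ K → K ∉ I → u ∈ fx U U₀ K := by
  rw [h.bWs_eq hI, h.bW_eq h.bNN, h.mem_up, h.mem_up]
  constructor
  · rintro ⟨h1, h2⟩
    refine ⟨⟨h1, ?_⟩, fun K hK hKI => ?_⟩
    · rw [h.BW_bN]
      exact (biSup_mono (f := fun K => h.BW K) hI) h2
    · rw [h.fx_eq (h.blkN hK)]
      exact ⟨h1, h.biSup_le_FX hI hK hKI h2⟩
  · rintro ⟨⟨h1, h2⟩, h3⟩
    refine ⟨h1, ?_⟩
    rw [← h.sum_pj h2]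
    refine sum_mem fun K hK => ?_
    rw [mem_blks] at hK
    by_cases hKI : K ∈ I
    · exact (le_iSup₂ (f := fun K (_ : K ∈ I) => h.BW K) K hKI) (h.pj_spec hK _).1
    · have := h3 K hK hKI
      rw [h.fx_eq (h.blkN hK)] at this
      rw [(h.pj_eq_zero hK).2 this.2]
      exact zero_mem _

theorem Mod.card_biSup (h : Mod L U U₀) {I : Set (Subgroup G)} (hI : ∀ K ∈ I, Blk L U U₀ K) :
    Nat.card ↥(⨆ K ∈ I, h.BW K) = 4 ^ I.ncard := by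
  induction I, Set.toFinite I using Set.Finite.induction_on with
  | empty => simp
  | @insert K I hKI hfin ih =>
    have hK := hI K (Set.mem_insert K I)
    have hI' : ∀ K ∈ I, Blk L U U₀ K := fun K' hK' => hI K' (Set.mem_insert_of_mem _ hK')
    rw [iSup_insert, Set.ncard_insert_of_notMem hKI hfin, card_sup_of_inf, ih hI', h.card_BW hK,
      pow_succ']
    exact eq_bot_iff.2 ((inf_le_inf_left _ (h.biSup_le_FX hI' hK hKI)).trans (h.blk_compl' hK).2.le)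

theorem Mod.card_bWs (h : Mod L U U₀) {I : Set (Subgroup G)} (hI : ∀ K ∈ I, Blk L U U₀ K) :
    U₀.relIndex (bWs U U₀ I) = 4 ^ I.ncard := by
  rw [h.bWs_eq hI, h.relIndex_bot_up, h.card_biSup hI]

theorem Mod.card_gen (h : Mod L U U₀) {I : Set (Subgroup G)} (hI : ∀ K ∈ I, Blk L U U₀ K) :
    Nat.card ↥((L ⊓ secCent U U₀) ⊔ sSup I) = Nat.card ↥(L ⊓ secCent U U₀) * 3 ^ I.ncard := by
  induction I, Set.toFinite I using Set.Finite.induction_on with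
  | empty => simp
  | @insert K I hKI hfin ih =>
    have hK := hI K (Set.mem_insert K I)
    have hI' : ∀ K ∈ I, Blk L U U₀ K := fun K' hK' => hI K' (Set.mem_insert_of_mem _ hK')
    have e1 : (L ⊓ secCent U U₀) ⊔ sSup I ≤ bN L U U₀ := sup_le_sup_left (sSup_le_sSup hI') _
    have e2 := Grp.card_sup_mul_card_inf_of_le_normalizer (e1.trans (h.bN_norm_blk hK).2.1)
    have e3 : ((L ⊓ secCent U U₀) ⊔ sSup I) ⊓ K = L ⊓ secCent U U₀ := by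
      refine (hK.eq_or_eq (le_inf le_sup_left hK.ge) inf_le_right).resolve_right fun e => ?_
      have e4 : (L ⊓ secCent U U₀) ⊔ sSup I ≤ h.fs (h.BW K) := by
        refine sup_le ((h.le_FX_iff (inf_le_left.trans h.L_le)).1 ?_) (sSup_le fun K' hK' =>
          (h.le_FX_iff (h.blkN (hI' K' hK'))).1 (h.blk_ne₀ hK (hI' K' hK') fun e => hKI (e ▸ hK')))
        rw [h.FX_of_le inf_le_right]; exact le_top
      have e5 := (h.le_FX_iff (h.blkN hK)).2 ((inf_eq_right.1 e).trans e4)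
      have e6 := h.card_BW hK
      rw [← inf_eq_left.2 e5, (h.blk_compl' hK).2] at e6
      simp at e6
    have e4 := Grp.card_mul_relIndex hK.ge
    rw [hK.idx'] at e4
    rw [e3, ih hI', ← e4] at e2
    rw [sSup_insert, sup_comm K, ← sup_assoc, Set.ncard_insert_of_notMem hKI hfin, pow_succ]
    refine Nat.eq_of_mul_eq_mul_right (Nat.card_pos (α := ↥(L ⊓ secCent U U₀))) ?_
    rw [e2]; ring

theorem Mod.relIndex_bN (h : Mod L U U₀) :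
    (secCent U U₀).relIndex (bN L U U₀) = 3 ^ {K | Blk L U U₀ K}.ncard := by
  have e1 := Grp.card_inf_mul_relIndex' (secCent U U₀) (bN L U U₀)
  have e2 : secCent U U₀ ⊓ bN L U U₀ = L ⊓ secCent U U₀ :=
    le_antisymm (le_inf (inf_le_right.trans h.bN_norm.1) inf_le_left) (le_inf inf_le_right le_sup_left)
  have e3 := h.card_gen (I := {K | Blk L U U₀ K}) fun K hK => hK
  rw [e2] at e1
  exact Nat.eq_of_mul_eq_mul_left Nat.card_pos (e1.trans e3)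

theorem Mod.bN_compl (h : Mod L U U₀) :
    h.BW (bN L U U₀) ⊔ h.FX (bN L U U₀) = ⊤ ∧ h.BW (bN L U U₀) ⊓ h.FX (bN L U U₀) = ⊥ :=
  h.compl h.bNN (h.relIndex_bN ▸ (by decide : Odd 3).pow)

theorem Mod.bWs_all (h : Mod L U U₀) : bWs U U₀ {K | Blk L U U₀ K} = bW U U₀ (bN L U U₀) ∧
    bW U U₀ (bN L U U₀) ⊔ fx U U₀ (bN L U U₀) = U ∧
    bW U U₀ (bN L U U₀) ⊓ fx U U₀ (bN L U U₀) = U₀ ∧
    (secCent U U₀).relIndex (bN L U U₀) = 3 ^ {K | Blk L U U₀ K}.ncard := by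
  obtain ⟨e1, e2⟩ := h.compl_up h.bNN h.bN_compl
  exact ⟨by rw [h.bWs_eq (I := {K | Blk L U U₀ K}) fun K hK => hK, h.bW_eq h.bNN, h.BW_bN], e1, e2,
    h.relIndex_bN⟩

/-- a vector with all components zero -/
theorem Mod.mem_fx_bN (h : Mod L U U₀) {u : G} :
    u ∈ fx U U₀ (bN L U U₀) ↔ u ∈ U ∧ ∀ K, Blk L U U₀ K → u ∈ fx U U₀ K := by
  rw [h.fx_eq h.bNN, h.mem_up, h.mem_FX_bN]
  refine and_congr_right fun hu => forall₂_congr fun K hK => ?_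
  rw [h.fx_eq (h.blkN hK), h.mem_up, and_iff_right hu]

theorem Mod.bN_trans' (h : Mod L U U₀) {v v' : h.W} (h1 : v - v' ∈ h.BW (bN L U U₀))
    (h2 : ∀ K, Blk L U U₀ K → (v ∈ h.FX K ↔ v' ∈ h.FX K)) :
    ∃ n ∈ bN L U U₀, h.ρ n v = v' := by
  classical
  have key : ∀ T : Finset (Subgroup G), (∀ K ∈ T, Blk L U U₀ K) → ∃ n ∈ bN L U U₀,
      ∀ K, Blk L U U₀ K → h.pj K (h.ρ n v) = if K ∈ T then h.pj K v' else h.pj K v := by
    intro T
    induction T using Finset.induction_on with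
    | empty => exact fun _ => ⟨1, one_mem _, fun K _ => by simp [h.ρ_one]⟩
    | insert K₀ T hKT ih =>
      intro hT
      have hK₀ := hT K₀ (Finset.mem_insert_self _ _)
      obtain ⟨n, hn, e⟩ := ih fun K hK => hT K (Finset.mem_insert_of_mem hK)
      obtain ⟨k, hk, ek⟩ : ∃ k ∈ K₀, h.ρ k (h.pj K₀ v) = h.pj K₀ v' := by
        by_cases e0 : v ∈ h.FX K₀
        · exact ⟨1, one_mem _, by
            rw [(h.pj_eq_zero hK₀).2 e0, (h.pj_eq_zero hK₀).2 ((h2 K₀ hK₀).1 e0), map_zero]⟩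
        · exact h.blk_trans' hK₀ (h.pj_spec hK₀ v).1 (mt (h.pj_eq_zero hK₀).1 e0)
            (h.pj_spec hK₀ v').1 (mt (h.pj_eq_zero hK₀).1 (mt (h2 K₀ hK₀).2 e0))
      refine ⟨k * n, mul_mem ((h.bN_norm_blk hK₀).1 hk) hn, fun K hK => ?_⟩
      rw [h.ρ_mul (h.blkN hK₀ hk) (h.bNN hn), Module.End.mul_apply]
      by_cases hKK : K = K₀
      · subst hKK
        rw [h.pj_ρ hK (h.blkN hK hk) (le_normalizer hk), e K hK, if_neg hKT, ek,
          if_pos (Finset.mem_insert_self _ _)]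
      · rw [h.pj_ρ_ne hK hK₀ hKK hk, e K hK]
        simp [hKK]
  obtain ⟨n, hn, e⟩ := key (blks L U U₀) fun K hK => mem_blks.1 hK
  refine ⟨n, hn, ?_⟩
  have e1 : h.ρ n v - v' ∈ h.BW (bN L U U₀) := by
    have := add_mem (h.sub_mem_BW hn v) h1
    rwa [sub_add_sub_cancel] at this
  rw [← sub_eq_zero, ← h.sum_pj e1]
  refine Finset.sum_eq_zero fun K hK => ?_
  rw [map_sub, e K (mem_blks.1 hK), if_pos hK, sub_self]

/-- `N` is transitive on the vectors with given support and given part in the complement -/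
theorem Mod.bN_trans (h : Mod L U U₀) {u u' : G} (hu : u ∈ U) (hu' : u' ∈ U)
    (h1 : u * u'⁻¹ ∈ bW U U₀ (bN L U U₀))
    (h2 : ∀ K, Blk L U U₀ K → (u ∈ fx U U₀ K ↔ u' ∈ fx U U₀ K)) :
    ∃ n ∈ bN L U U₀, n * u * n⁻¹ * u'⁻¹ ∈ U₀ := by
  rw [h.bW_eq h.bNN, h.mem_up, h.π_div hu hu'] at h1
  obtain ⟨n, hn, e⟩ := h.bN_trans' h1.2 fun K hK => by
    have := h2 K hK
    rwa [h.fx_eq (h.blkN hK), h.mem_up, h.mem_up, and_iff_right hu, and_iff_right hu'] at this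
  refine ⟨n, hn, ?_⟩
  rwa [h.ρ_π (h.bNN hn) hu, h.π_eq_π (Amb.conj_mem_of_mem_normalizer (h.bNN hn).1 hu) hu'] at e

/-- vectors with prescribed components -/
theorem Mod.exists_of_comp (h : Mod L U U₀) (w : Subgroup G → G)
    (hw : ∀ K, Blk L U U₀ K → w K ∈ bW U U₀ K) :
    ∃ u ∈ bW U U₀ (bN L U U₀), ∀ K, Blk L U U₀ K → Comp U U₀ K u (w K) := by
  have hw' : ∀ K, Blk L U U₀ K → w K ∈ U ∧ h.π (w K) ∈ h.BW K := fun K hK => by
    have := hw K hK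
    rwa [h.bW_eq (h.blkN hK)] at this
  obtain ⟨u, hu, e⟩ := h.exists_π (∑ K ∈ blks L U U₀, h.π (w K))
  refine ⟨u, ?_, fun K hK => (h.comp_iff hK hu).2 ⟨(hw' K hK).1, ?_⟩⟩
  · rw [h.bW_eq h.bNN, h.mem_up, e]
    exact ⟨hu, sum_mem fun K hK => h.BW_mono (h.bN_norm_blk (mem_blks.1 hK)).1
      (hw' K (mem_blks.1 hK)).2⟩
  · rw [e, h.pj_sum hK _ fun K hK => (hw' K hK).2]

theorem Tv.cj {t : G} (h : Tv L U U₀ K t) (g : G) :
    Tv cj(g, L) cj(g, U) cj(g, U₀) cj(g, K) (g * t * g⁻¹) where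
  blk := h.blk.cj g
  mem := conj_mem_cj g h.mem
  norm := by rw [normalizer_cj]; exact conj_mem_cj g h.norm
  sq := by
    rw [secCent_cj]
    convert conj_mem_cj g h.sq using 1
    group
  inv := by
    rintro _ ⟨k, hk, rfl⟩
    rw [secCent_cj]
    convert conj_mem_cj g (h.inv k hk) using 1
    simp only [MulEquiv.coe_toMonoidHom, MulAut.conj_apply]; group
  fix := by rw [← cj_zpowers', fx_cj, fx_cj]; exact cj_mono g h.fix
  act := by rw [← cj_zpowers', fx_cj, bW_cj, cj_le_cj_iff]; exact h.act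

theorem Mod.tv_facts (h : Mod L U U₀) {t : G} (ht : Tv L U U₀ K t) :
    (fx U U₀ (zpowers t)).relIndex U = 2 ∧ bW U U₀ (zpowers t) ≤ bW U U₀ K ∧
      U₀.relIndex (bW U U₀ (zpowers t)) = 2 ∧
      bW U U₀ K ⊓ fx U U₀ (zpowers t) = bW U U₀ (zpowers t) ∧
      ∀ K', Blk L U U₀ K' → t ∈ 𝐍[K'] ∧ t ∈ 𝐍[bW U U₀ K'] := by
  have hK := ht.blk
  have htN := h.L_le ht.mem
  have hz : zpowers t ≤ NN U U₀ := zpowers_le.2 htN
  have f1 := ht.fix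
  have f2 := ht.act
  rw [h.fx_eq hz, h.FX_zpowers htN] at f1 f2
  rw [h.fx_eq (h.blkN hK), h.up_le_up] at f1
  rw [h.bW_eq (h.blkN hK), h.up_le_up] at f2
  have f3 : h.ρ t * h.ρ t = 1 := by rw [← h.ρ_mul htN htN]; exact h.ρ_of_mem ht.sq
  have f4 : com (h.ρ t) = (h.BW K).map (h.ρ t - 1) := by
    refine le_antisymm (fun w hw => ?_) LinearMap.map_le_range
    obtain ⟨v, rfl⟩ := mem_com.1 hw
    obtain ⟨a1, a2⟩ := h.pj_spec hK v
    refine ⟨_, a1, ?_⟩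
    have := mem_fix.1 (f1 a2)
    rw [map_sub, sub_eq_sub_iff_sub_eq_sub] at this
    exact this.symm
  have f5 : com (h.ρ t) ≤ h.BW K := by
    rw [f4]
    rintro _ ⟨w, hw, rfl⟩
    exact sub_mem (h.ρ_mem_BW (h.blkN hK) htN ht.norm hw) hw
  have f6 : com (h.ρ t) ≤ h.BW K ⊓ fix (h.ρ t) := le_inf f5 (com_le_fix h.two f3)
  have f7 := card_inf_mul_card_map (h.ρ t - 1) (h.BW K)
  rw [← f4, h.card_BW hK] at f7
  change Nat.card ↥(h.BW K ⊓ fix (h.ρ t)) * _ = _ at f7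
  have f8 := Lin.card_le f6
  have f9 : Nat.card (com (h.ρ t)) ≠ 1 := fun e => f2 (by
    rw [com_eq_bot.1 (Lin.card_eq_one.1 e), fix_one]; exact le_top)
  have f10 := Lin.card_pos (com (h.ρ t))
  have f11 : Nat.card (com (h.ρ t)) = 2 := by
    have : Nat.card (com (h.ρ t)) * Nat.card (com (h.ρ t)) ≤ 4 :=
      f7 ▸ Nat.mul_le_mul_right _ f8
    have : Nat.card (com (h.ρ t)) < 3 := by nlinarith
    omega
  have f12 := eq_of_le_of_card_le f6 (by rw [f11] at f7 ⊢; omega)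
  refine ⟨by rw [h.relIndex_fx_zp htN, f11], ?_, by rw [h.relIndex_bW hz, h.BW_zpowers htN, f11],
    ?_, fun K' hK' => ?_⟩
  · rw [h.bW_eq hz, h.bW_eq (h.blkN hK), h.BW_zpowers htN, h.up_le_up]; exact f5
  · rw [h.bW_eq hz, h.bW_eq (h.blkN hK), h.fx_eq hz, h.BW_zpowers htN, h.FX_zpowers htN, ← h.up_inf,
      ← f12]
  · by_cases e : K' = K
    · subst e
      exact ⟨ht.norm, by
        rw [← cj_eq_iff, ← (h.blk_cj hK ht.mem).2.1, cj_of_mem_normalizer ht.norm]⟩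
    · have hb : h.BW K' ≠ ⊥ := fun e => by
        have := h.card_BW hK'
        rw [e] at this
        simp at this
      obtain ⟨w, hw, hw0⟩ := Submodule.exists_mem_ne_zero_of_ne_bot hb
      obtain ⟨u, hu, rfl⟩ := h.exists_π w
      refine h.mem_normalizer_blk hK' ht.mem (w := u) ?_ (mt (h.π_eq_zero hu).2 hw0) ?_
      · rw [h.bW_eq (h.blkN hK')]; exact ⟨hu, hw⟩
      · rw [h.bW_eq (h.blkN hK'), h.mem_up, ← h.ρ_π htN hu, mem_fix.1 (f1 (h.blk_ne₀ hK' hK e hw))]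
        exact ⟨Amb.conj_mem_of_mem_normalizer htN.1 hu, hw⟩

end Cfsg.Agent.NG
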