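import Mathlib
import Cfsg.Agent.NG.Mod1
import Cfsg.Agent.PLocal.Offender

/-!
Offenders on a module for a solvable group: they are generated by transvections on blocks.
-/

set_option autoImplicit false
set_option linter.unusedSectionVars false

namespace Cfsg.Agent.NG

namespace Lin

variable {W : Type*} [AddCommGroup W]

theorem eq_one_of_sq {ξ : Module.End ℤ W} {n : ℕ} (hn : Odd n) (h : ξ ^ n = 1) (h2 : ξ * ξ = 1) :
    ξ = 1 := by
  obtain ⟨m, rfl⟩ := hn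
  rwa [pow_succ, pow_mul, pow_two, h2, one_pow, one_mul] at h

theorem fix_of_sq {ξ : Module.End ℤ W} {n : ℕ} (hn : Odd n) (h : ξ ^ n = 1) {w : W}
    (h2 : ξ (ξ w) = w) : ξ w = w := by
  obtain ⟨m, rfl⟩ := hn
  have : w ∈ fix ((ξ ^ 2) ^ m) := fix_le_fix_pow _ m (mem_fix.2 (by simpa [pow_two] using h2))
  have h5 := congrArg (fun f : Module.End ℤ W => f w) h
  simp only [pow_succ', Module.End.mul_apply, Module.End.one_apply] at h5
  rwa [pow_mul, mem_fix.1 this] at h5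

/-- `α` is an involution inverting the nontrivial element `ξ` of odd prime order `p` -/
structure Inv (α ξ : Module.End ℤ W) (p : ℕ) : Prop where
  sq : α * α = 1
  prime : p.Prime
  ne : p ≠ 2
  pow : ξ ^ p = 1
  ne_one : ξ ≠ 1
  inv : α * ξ * α * ξ = 1

namespace Inv
variable {α ξ : Module.End ℤ W} {p : ℕ} (h : Inv α ξ p)
include h

theorem odd : Odd p := h.prime.odd_of_ne_two h.ne

theorem mul_eq : α * ξ = ξ ^ (p - 1) * α := by
  have e : ξ * ξ ^ (p - 1) = 1 := by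
    rw [← pow_succ', Nat.sub_add_cancel h.prime.one_le, h.pow]
  calc α * ξ = α * ξ * (α * α) := by rw [h.sq, mul_one]
    _ = α * ξ * α * (ξ * ξ ^ (p - 1)) * α := by rw [e, mul_one, mul_assoc (α * ξ)]
    _ = (α * ξ * α * ξ) * ξ ^ (p - 1) * α := by simp only [mul_assoc]
    _ = _ := by rw [h.inv, one_mul]

theorem mem_com {w : W} (hw : w ∈ com ξ) : α w ∈ com ξ := by
  obtain ⟨v, rfl⟩ := Lin.mem_com.1 hw
  rw [map_sub, ← Module.End.mul_apply, h.mul_eq]
  exact com_pow_le ξ _ (sub_mem_com _ _)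

theorem mem_fix {w : W} (hw : w ∈ fix ξ) : α w ∈ fix ξ := by
  have e := congrArg (fun f : Module.End ℤ W => f (α w)) h.sq
  have e' := congrArg (fun f : Module.End ℤ W => f w) h.inv
  simp only [Module.End.mul_apply, Module.End.one_apply, Lin.mem_fix.1 hw] at e e'
  have e'' := congrArg (fun f : Module.End ℤ W => f (ξ (α w))) h.sq
  simp only [Module.End.mul_apply, Module.End.one_apply, e'] at e''
  exact Lin.mem_fix.2 e''.symm

theorem not_comm : α * ξ ≠ ξ * α := fun e => h.ne_one (eq_one_of_sq h.odd h.pow (by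
  have := h.inv
  rwa [e, mul_assoc ξ, h.sq, mul_one] at this))

theorem ne_one' : α ≠ 1 := fun e => h.not_comm (by rw [e, one_mul, mul_one])

theorem inv_pow (i : ℕ) : α * ξ ^ i * α * ξ ^ i = 1 := by
  induction i with
  | zero => simpa using h.sq
  | succ i ih =>
    have e : α * ξ ^ (i + 1) * α * ξ ^ (i + 1) =
        (α * ξ ^ i * α) * (α * ξ * α * ξ) * ξ ^ i := by
      calc α * ξ ^ (i + 1) * α * ξ ^ (i + 1) = α * (ξ ^ i * ξ) * α * (ξ * ξ ^ i) := by
            rw [← pow_succ, ← pow_succ']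
        _ = α * ξ ^ i * (α * α) * ξ * α * ξ * ξ ^ i := by
            rw [h.sq, mul_one]; simp only [mul_assoc]
        _ = _ := by simp only [mul_assoc]
    rw [e, h.inv, mul_one, ih]

/-- a subspace centralized by `α` and invariant under `ξ` is centralized by `ξ` -/
theorem le_fix {S : Submodule ℤ W} (h1 : S ≤ fix α) (h2 : ∀ w ∈ S, ξ w ∈ S) : S ≤ fix ξ := by
  intro w hw
  have e := congrArg (fun f : Module.End ℤ W => f w) h.inv
  simp only [Module.End.mul_apply, Module.End.one_apply] at e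
  rw [Lin.mem_fix.1 (h1 (h2 w hw)), Lin.mem_fix.1 (h1 (h2 _ (h2 w hw)))] at e
  exact Lin.mem_fix.2 (fix_of_sq h.odd h.pow e)

variable [Finite W] (h2 : ∀ w : W, w + w = 0)
include h2

theorem card_com : Nat.card (com ξ) = Nat.card ((com ξ).map (α - 1)) ^ 2 ∧
    (com ξ).map (α - 1) = com ξ ⊓ fix α ∧ com ξ = (com ξ ⊓ fix α) ⊔ (com ξ ⊓ fix α).map ξ :=
  card_eq_sq h2 h.odd h.pow h.sq h.inv (fun _ => h.mem_com) (fun _ => apply_mem_com rfl)
    (com_inf_fix h2 h.odd h.pow)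

theorem card_ne_one : Nat.card ((com ξ).map (α - 1)) ≠ 1 := fun e => by
  have := (h.card_com h2).1
  rw [e, one_pow, card_eq_one, com_eq_bot] at this
  exact h.ne_one this

theorem fix_le (e : com α ≤ com ξ) : fix ξ ≤ fix α := by
  intro w hw
  have : α w - w ∈ com ξ ⊓ fix ξ := ⟨e (sub_mem_com α w), sub_mem (h.mem_fix hw) hw⟩
  rw [com_inf_fix h2 h.odd h.pow, Submodule.mem_bot, sub_eq_zero] at this
  exact Lin.mem_fix.2 this

end Inv

/-- a dihedral system -/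
structure Dih {ι : Type*} (α ξ : ι → Module.End ℤ W) (p : ι → ℕ) : Prop where
  inv : ∀ i, Inv (α i) (ξ i) (p i)
  aa : ∀ i j, α i * α j = α j * α i
  ax : ∀ i j, i ≠ j → α i * ξ j = ξ j * α i
  xx : ∀ i j, ξ i * ξ j = ξ j * ξ i

/-- common fixed points -/
def fixs {ι : Type*} (α : ι → Module.End ℤ W) (S : Finset ι) : Submodule ℤ W := ⨅ i ∈ S, fix (α i)

theorem mem_fixs {ι : Type*} {α : ι → Module.End ℤ W} {S : Finset ι} {w : W} :
    w ∈ fixs α S ↔ ∀ i ∈ S, α i w = w := by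
  simp only [fixs, Submodule.mem_iInf, mem_fix]

namespace Dih
variable {ι : Type*} [DecidableEq ι] {α ξ : ι → Module.End ℤ W} {p : ι → ℕ} (h : Dih α ξ p)
  [Finite W] (h2 : ∀ w : W, w + w = 0)
include h h2

theorem drop {S : Finset ι} {j : ι} (hj : j ∉ S) :
    2 * Nat.card (fixs α (insert j S)) ≤ Nat.card (fixs α S) := by
  refine two_mul_card_le (fun w hw => mem_fixs.2 fun i hi =>
    mem_fixs.1 hw i (Finset.mem_insert_of_mem hi)) fun e => ?_
  have e1 : fixs α S ≤ fix (ξ j) := by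
    refine (h.inv j).le_fix (fun w hw => mem_fix.2
      (mem_fixs.1 (e.ge hw) j (Finset.mem_insert_self _ _))) fun w hw => mem_fixs.2 fun i hi => ?_
    rw [← Module.End.mul_apply, h.ax i j (fun e => hj (e ▸ hi)), Module.End.mul_apply,
      mem_fixs.1 hw i hi]
  obtain ⟨w, hw, hw0, hf⟩ := exists_fix h2 α (fun i => (h.inv i).sq) h.aa (S := com (ξ j))
    (fun i w hw => by
      by_cases hij : i = j
      · subst hij; exact (h.inv i).mem_com hw
      · exact apply_mem_com (h.ax i j hij) hw)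
    (mt com_eq_bot.1 (h.inv j).ne_one) S
  have : w ∈ com (ξ j) ⊓ fix (ξ j) := ⟨hw, e1 (mem_fixs.2 hf)⟩
  rw [com_inf_fix h2 (h.inv j).odd (h.inv j).pow] at this
  exact hw0 this

theorem drops (S R : Finset ι) (hd : Disjoint S R) :
    2 ^ R.card * Nat.card (fixs α (S ∪ R)) ≤ Nat.card (fixs α S) := by
  induction R using Finset.induction_on with
  | empty => simp
  | insert j R hj ih =>
    rw [Finset.disjoint_insert_right] at hd
    rw [Finset.card_insert_of_notMem hj, Finset.union_insert, pow_succ, mul_assoc]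
    refine le_trans (Nat.mul_le_mul_left _ (h.drop h2 ?_)) (ih hd.2)
    simp [hj, hd.1]

theorem drops_univ [Fintype ι] (S : Finset ι) :
    2 ^ (Fintype.card ι - S.card) * Nat.card (fixs α Finset.univ) ≤ Nat.card (fixs α S) := by
  have := h.drops h2 S Sᶜ disjoint_compl_right
  rwa [Finset.union_compl, Finset.card_compl] at this

end Dih

theorem fixs_empty {ι : Type*} (α : ι → Module.End ℤ W) : fixs α ∅ = ⊤ := by simp [fixs]

theorem fixs_singleton {ι : Type*} (α : ι → Module.End ℤ W) (i : ι) : fixs α {i} = fix (α i) := by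
  simp [fixs]

theorem sq_of_card_two (h2 : ∀ w : W, w + w = 0) {α : Module.End ℤ W} (hi : ∀ w, α w = 0 → w = 0)
    (h : Nat.card (com α) = 2) : α * α = 1 := by
  obtain ⟨y, -, hy⟩ := (Nat.card_eq_two_iff' (0 : com α)).1 h
  have e : com α ≤ fix α := by
    intro w hw
    by_cases h0 : w = 0
    · rw [h0]; exact zero_mem _
    have e1 := hy ⟨w, hw⟩ fun e => h0 (congrArg Subtype.val e)
    have e2 := hy ⟨α w, apply_mem_com rfl hw⟩ fun e => h0 (hi w (congrArg Subtype.val e))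
    exact mem_fix.2 (congrArg Subtype.val (e2.trans e1.symm))
  ext v
  have := mem_fix.1 (e (sub_mem_com α v))
  rw [map_sub, sub_eq_iff_eq_add, sub_eq h2, add_right_comm, h2, zero_add] at this
  exact this

end Lin

open Subgroup Cfsg.Agent.PLocal Cfsg.Agent.PLocal.Amb Cfsg.Agent.PLocal.CP Cfsg.Agent.PLocal.JC
open Cfsg.Agent.NG.Lin
open scoped commutatorElement

variable {G : Type*} [Group G] [Finite G]

variable {L U U₀ : Subgroup G}

theorem Mod.inv_of (h : Mod L U U₀) {a x : G} (ha : a ∈ L) (hx : x ∈ L)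
    (h1 : a * a ∈ secCent U U₀) (h2 : x ∉ secCent U U₀) (h3 : Odd (orderOf x)) {p : ℕ}
    (hp : p.Prime) (h4 : x ^ p ∈ secCent U U₀) (h5 : a * x * a⁻¹ * x ∈ secCent U U₀) :
    Lin.Inv (h.ρ a) (h.ρ x) p := by
  have haN := h.L_le ha
  have hxN := h.L_le hx
  have e1 : h.ρ a * h.ρ a = 1 := by rw [← h.ρ_mul haN haN]; exact h.ρ_of_mem h1
  have e2 : h.ρ x ≠ 1 := mt (h.ρ_eq_one hxN).1 h2
  have e3 := (h.ρ_pow_eq_one hxN).2 h4
  refine ⟨e1, hp, ?_, e3, e2, ?_⟩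
  · rintro rfl
    exact e2 (eq_one_of_sq h3 (by rw [← h.ρ_pow hxN, pow_orderOf_eq_one, h.ρ_one])
      (by rwa [← pow_two]))
  · have e4 : h.ρ a⁻¹ = h.ρ a := by
      rw [← mul_one (h.ρ a⁻¹), ← e1, ← mul_assoc, h.ρ_inv_mul haN, one_mul]
    have := h.ρ_of_mem h5
    rwa [h.ρ_mul (mul_mem (mul_mem haN hxN) (inv_mem haN)) hxN,
      h.ρ_mul (mul_mem haN hxN) (inv_mem haN), h.ρ_mul haN hxN, e4] at this

/-- `x` lies in a normal `p`-subgroup of `L / C` whenever it is a `p`-element there -/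
def FitLike (L U U₀ F : Subgroup G) : Prop :=
  F ≤ L ∧ ∀ x ∈ F, ∀ p : ℕ, p.Prime → (∃ k : ℕ, x ^ p ^ k ∈ secCent U U₀) →
    ∀ d ∈ ncl (zpowers x) L, ∃ k : ℕ, d ^ p ^ k ∈ secCent U U₀

theorem Mod.blk_of_fit (h : Mod L U U₀) {F : Subgroup G} (hF : FitLike L U U₀ F) {x : G}
    (hx : x ∈ F) {p : ℕ} (hp : p.Prime) (hp2 : p ≠ 2) (h1 : h.ρ x ^ p = 1)
    (h4 : Nat.card (com (h.ρ x)) = 4) : Blk L U U₀ (zpowers x ⊔ (L ⊓ secCent U U₀)) := by
  have hxN := h.L_le (hF.1 hx)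
  exact (h.blk_of (hF.1 hx) hp hp2
    (hF.2 x hx p hp ⟨1, by rw [pow_one]; exact (h.ρ_pow_eq_one hxN).1 h1⟩)
    (by rw [h.relIndex_bW (zpowers_le.2 hxN), h.BW_zpowers hxN, h4])).2.1

theorem Mod.exists_dih (h : Mod L U U₀) {A : Subgroup G} (hA : A ≤ L)
    (hE : EAMod A (secCent U U₀)) : ∃ (F : Subgroup G) (k : ℕ) (a x : Fin k → G) (p : Fin k → ℕ),
      FitLike L U U₀ F ∧ (secCent U U₀).relIndex A = 2 ^ k ∧ (∀ i, a i ∈ A) ∧ (∀ i, x i ∈ F) ∧
      Dih (fun i => h.ρ (a i)) (fun i => h.ρ (x i)) p ∧ A ≤ secCent U U₀ ⊔ ⨆ i, zpowers (a i) ∧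
      h.FX A = fixs (fun i => h.ρ (a i)) Finset.univ ∧ h.BW A = ⨆ i, com (h.ρ (a i)) := by
  obtain ⟨F, f1, f2, f3, f4, f5, f6, -⟩ := exists_fit h.solv h.norm_ker h.red
  obtain ⟨k, hk⟩ := hE.relIndex_pow (hA.trans h.norm_ker)
  obtain ⟨a, x, d1, d2, d3⟩ := dihedral_mod h.solv h.norm_ker f1 f2
    ((le_inf le_normalizer h.norm_ker).trans f3) f4 f5 hA hE hk
  choose p hp hp' using fun i => (d1 i).2.2.2.2.1
  have aN : ∀ i, a i ∈ NN U U₀ := fun i => h.L_le (hA (d1 i).1)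
  have xN : ∀ i, x i ∈ NN U U₀ := fun i => h.L_le (f2 (d1 i).2.1)
  have zN : ∀ i, zpowers (a i) ≤ NN U U₀ := fun i => zpowers_le.2 (aN i)
  refine ⟨F, k, a, x, p, ⟨f2, f6⟩, hk, fun i => (d1 i).1, fun i => (d1 i).2.1,
    ⟨fun i => h.inv_of (hA (d1 i).1) (f2 (d1 i).2.1) (hE.2 _ (d1 i).1) (d1 i).2.2.1 (d1 i).2.2.2.1
      (hp i) (hp' i) (d1 i).2.2.2.2.2,
    fun i j => (h.ρ_comm (aN i) (aN j)).2 (hE.1 (commutator_mem_commutator (d1 i).1 (d1 j).1)),
    fun i j hij => (h.ρ_comm (aN i) (xN j)).2 (d2 i j hij).1, fun i j => ?_⟩, d3, ?_, ?_⟩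
  · by_cases hij : i = j
    · rw [hij]
    · exact (h.ρ_comm (xN i) (xN j)).2 (d2 i j hij).2
  · refine le_antisymm (fun w hw => mem_fixs.2 fun i _ => h.mem_FX.1 hw _ (d1 i).1)
      (le_trans ?_ (h.FX_anti d3))
    rw [h.FX_sup h.C_le (iSup_le zN), h.FX_of_le le_rfl, top_inf_eq, h.FX_iSup zN]
    refine le_iInf fun i w hw => ?_
    rw [h.FX_zpowers (aN i)]
    exact mem_fix.2 (mem_fixs.1 hw i (Finset.mem_univ i))
  · refine le_antisymm ((h.BW_mono d3).trans ?_) (iSup_le fun i => h.le_BW (d1 i).1)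
    rw [h.BW_sup h.C_le (iSup_le zN), h.BW_of_le le_rfl, bot_sup_eq, h.BW_iSup zN]
    exact iSup_mono fun i => (h.BW_zpowers (aN i)).le

theorem Mod.relIndex_fx (h : Mod L U U₀) {A : Subgroup G} (hA : A ≤ L) :
    Nat.card (h.FX A) * (fx U U₀ A).relIndex U = Nat.card h.W := by
  rw [h.fx_eq (hA.trans h.L_le), h.relIndex_up_top]

/-- M1 -/
theorem Mod.relIndex_le (h : Mod L U U₀) {A : Subgroup G} (hA : A ≤ L)
    (hE : EAMod A (secCent U U₀)) : (secCent U U₀).relIndex A ≤ (fx U U₀ A).relIndex U := by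
  obtain ⟨F, k, a, x, p, -, hk, -, -, hd, -, e, -⟩ := h.exists_dih hA hE
  have e1 := hd.drops_univ h.two ∅
  rw [fixs_empty, Lin.card_top, ← h.relIndex_fx hA, ← e, Fintype.card_fin, Finset.card_empty,
    Nat.sub_zero, mul_comm] at e1
  rw [hk]
  exact Nat.le_of_mul_le_mul_left e1 (Lin.card_pos _)

theorem Mod.tv_of (h : Mod L U U₀) {F : Subgroup G} (hF : FitLike L U U₀ F) {t x : G} (ht : t ∈ L)
    (hx : x ∈ F) {p : ℕ} (hi : Lin.Inv (h.ρ t) (h.ρ x) p) (h2 : Nat.card (com (h.ρ t)) = 2) :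
    Tv L U U₀ (zpowers x ⊔ (L ⊓ secCent U U₀)) t := by
  have htN := h.L_le ht
  have hxL := hF.1 hx
  have hxN := h.L_le hxL
  obtain ⟨e1, e2, -⟩ := hi.card_com h.two
  have e3 : (com (h.ρ x)).map (h.ρ t - 1) ≤ com (h.ρ t) := LinearMap.map_le_range
  have e4 := Lin.card_le e3
  have e5 := hi.card_ne_one h.two
  have e6 := Lin.card_pos ((com (h.ρ x)).map (h.ρ t - 1))
  have e7 : Nat.card ((com (h.ρ x)).map (h.ρ t - 1)) = 2 := by omega
  have e8 := eq_of_le_of_card_le e3 (by omega)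
  rw [e7] at e1
  have hK := h.blk_of_fit hF hx hi.prime hi.ne hi.pow e1
  have e9 : h.ρ t⁻¹ = h.ρ t := by
    rw [← mul_one (h.ρ t⁻¹), ← hi.sq, ← mul_assoc, h.ρ_inv_mul htN, one_mul]
  have e10 : ∀ k ∈ zpowers x ⊔ (L ⊓ secCent U U₀), t * k * t⁻¹ * k ∈ secCent U U₀ := fun k hk => by
    have hkN := h.blkN hK hk
    obtain ⟨i, e⟩ := h.ρ_eq_pow hxL hk
    rw [← h.ρ_eq_one (mul_mem (mul_mem (mul_mem htN hkN) (inv_mem htN)) hkN),
      h.ρ_mul (mul_mem (mul_mem htN hkN) (inv_mem htN)) hkN,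
      h.ρ_mul (mul_mem htN hkN) (inv_mem htN), h.ρ_mul htN hkN, e9, e]
    exact hi.inv_pow i
  have hz : zpowers t ≤ NN U U₀ := zpowers_le.2 htN
  have hz' : zpowers x ≤ NN U U₀ := zpowers_le.2 hxN
  refine ⟨hK, ht, mem_normalizer_of_cj_le (cj_le_iff_forall.2 fun k hk => ?_), ?_, e10, ?_, ?_⟩
  · have hkL := hK.le hk
    refine (Subgroup.mul_mem_cancel_right _ hk).1 (hK.ge ⟨?_, e10 k hk⟩)
    exact L.mul_mem (L.mul_mem (L.mul_mem ht hkL) (L.inv_mem ht)) hkL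
  · rw [← h.ρ_eq_one (mul_mem htN htN), h.ρ_mul htN htN, hi.sq]
  · rw [h.fx_eq (h.blkN hK), h.fx_eq hz, h.up_le_up, h.FX_sup_D hz', h.FX_zpowers htN,
      h.FX_zpowers hxN]
    exact hi.fix_le h.two (by rw [← e8, e2]; exact inf_le_left)
  · rw [h.bW_eq (h.blkN hK), h.fx_eq hz, h.up_le_up, h.BW_sup_D hz', h.FX_zpowers htN,
      h.BW_zpowers hxN]
    intro e
    rw [e2, inf_eq_left.2 e, e1] at e7
    exact absurd e7 (by decide)

/-- M3 -/
theorem Mod.exists_tv (h : Mod L U U₀) {t : G} (ht : t ∈ L)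
    (h2 : (fx U U₀ (zpowers t)).relIndex U = 2) : ∃ K, Tv L U U₀ K t := by
  have htN := h.L_le ht
  rw [h.relIndex_fx_zp htN] at h2
  have e1 := sq_of_card_two h.two (fun w => h.ρ_inj htN) h2
  have e2 : t * t ∈ secCent U U₀ := by rwa [← h.ρ_eq_one (mul_mem htN htN), h.ρ_mul htN htN]
  have hE : EAMod (zpowers t) (secCent U U₀) := by
    constructor
    · rw [commutator_le]
      rintro _ ⟨i, rfl⟩ _ ⟨j, rfl⟩
      rw [commutatorElement_eq_one_iff_commute.2 (Commute.zpow_zpow_self t i j)]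
      exact one_mem _
    · rintro _ ⟨i, rfl⟩
      rw [← (Commute.refl t).mul_zpow]
      exact zpow_mem e2 i
  have hne : ¬ zpowers t ≤ secCent U U₀ := fun e => by
    rw [h.ρ_of_mem (e (mem_zpowers t)), com_one] at h2
    simp at h2
  obtain ⟨F, f1, f2, f3, f4, f5, f6, -⟩ := exists_fit h.solv h.norm_ker h.red
  obtain ⟨A₀, x, -, a1, a2, a3, a4, a5, ⟨p, hp, a6⟩, -, a7⟩ := hyperplane_mod h.solv h.norm_ker f1 f2
    ((le_inf le_normalizer h.norm_ker).trans f3) f4 f5 (zpowers_le.2 ht) hE hne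
  have a8 : t ∉ A₀ := fun e => by
    rw [relIndex_eq_one.2 (zpowers_le.2 e)] at a2
    exact absurd a2 (by decide)
  exact ⟨_, h.tv_of ⟨f2, f6⟩ ht a3
    (h.inv_of ht (f2 a3) e2 a4 a5 hp a6 (a7 t (mem_zpowers t) a8)) h2⟩

/-- M2 -/
theorem Mod.offender (h : Mod L U U₀) {A : Subgroup G} (hA : A ≤ L)
    (hE : EAMod A (secCent U U₀)) (ho : (fx U U₀ A).relIndex U ≤ (secCent U U₀).relIndex A) :
    ∃ (I : Finset (Subgroup G)) (t : Subgroup G → G), (∀ K ∈ I, t K ∈ A ∧ Tv L U U₀ K (t K)) ∧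
      A ≤ secCent U U₀ ⊔ ⨆ K ∈ I, zpowers (t K) ∧ (secCent U U₀).relIndex A = 2 ^ I.card ∧
      (fx U U₀ A).relIndex U = 2 ^ I.card ∧
      bW U U₀ A = U₀ ⊔ ⨆ K ∈ I, bW U U₀ (zpowers (t K)) := by
  classical
  have heq := le_antisymm ho (h.relIndex_le hA hE)
  obtain ⟨F, k, a, x, p, hF, hk, ha, hx, hd, hg, e, e'⟩ := h.exists_dih hA hE
  have aN : ∀ i, a i ∈ NN U U₀ := fun i => h.L_le (hA (ha i))
  have h2 : ∀ i, Nat.card (com (h.ρ (a i))) = 2 := fun i => by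
    have e1 := hd.drops_univ h.two {i}
    rw [fixs_singleton, ← e, Fintype.card_fin, Finset.card_singleton] at e1
    have e2 := card_fix_mul_card_com (h.ρ (a i))
    rw [← h.relIndex_fx hA, heq, hk] at e2
    have e3 : Nat.card (com (h.ρ (a i))) ≠ 1 := fun e =>
      (hd.inv i).ne_one' (com_eq_bot.1 (Lin.card_eq_one.1 e))
    have e4 := Lin.card_pos (com (h.ρ (a i)))
    obtain ⟨k, rfl⟩ := Nat.exists_eq_succ_of_ne_zero (Fin.pos i).ne'
    have e5 : 0 < 2 ^ k * Nat.card (h.FX A) := Nat.mul_pos (by positivity) (Lin.card_pos _)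
    have e6 : 2 ^ k * Nat.card (h.FX A) * Nat.card (com (h.ρ (a i))) ≤
        2 ^ k * Nat.card (h.FX A) * 2 := by
      calc _ ≤ Nat.card (fix (h.ρ (a i))) * Nat.card (com (h.ρ (a i))) :=
            Nat.mul_le_mul_right _ e1
        _ = _ := by rw [e2, pow_succ]; ring
    have := Nat.le_of_mul_le_mul_left e6 e5
    omega
  let K : Fin k → Subgroup G := fun i => zpowers (x i) ⊔ (L ⊓ secCent U U₀)
  have tv : ∀ i, Tv L U U₀ (K i) (a i) := fun i => h.tv_of hF (hA (ha i)) (hx i) (hd.inv i) (h2 i)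
  have inj : Function.Injective K := fun i j hij => by
    by_contra hne
    have xN := h.L_le (hF.1 (hx j))
    have e1 := (tv i).inv (x j) (hij ▸ mem_sup_left (mem_zpowers _) : x j ∈ K i)
    have e2 := h.ρ_of_mem e1
    rw [h.ρ_mul (mul_mem (mul_mem (aN i) xN) (inv_mem (aN i))) xN,
      h.ρ_mul (mul_mem (aN i) xN) (inv_mem (aN i)), h.ρ_mul (aN i) xN, hd.ax i j hne,
      mul_assoc (h.ρ (x j)), h.ρ_mul_inv (aN i), mul_one] at e2
    exact (hd.inv j).ne_one (eq_one_of_sq (hd.inv j).odd (hd.inv j).pow e2)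
  let t : Subgroup G → G := Function.extend K a fun _ => 1
  have ht : ∀ i, t (K i) = a i := fun i => inj.extend_apply _ _ i
  have hc : (Finset.univ.image K).card = k := by
    rw [Finset.card_image_of_injective _ inj, Finset.card_fin]
  have hs : ∀ f : G → Subgroup G, ⨆ K' ∈ Finset.univ.image K, f (t K') = ⨆ i, f (a i) := fun f => by
    rw [Finset.iSup_finset_image]
    simp only [Finset.mem_univ, iSup_pos, ht]
  refine ⟨Finset.univ.image K, t, ?_, by rw [hs zpowers]; exact hg, by rw [hc, hk],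
    by rw [hc, heq, hk], ?_⟩
  · intro K' hK'
    obtain ⟨i, -, rfl⟩ := Finset.mem_image.1 hK'
    rw [ht]
    exact ⟨ha i, tv i⟩
  · rw [hs fun g => bW U U₀ (zpowers g), h.bW_eq (hA.trans h.L_le), e', h.up_iSup]
    congr 1
    exact iSup_congr fun i => by rw [h.bW_eq (zpowers_le.2 (aN i)), h.BW_zpowers (aN i)]

/-- members of `𝒜(T)` are offenders -/
theorem offender_of_maxEA {V T A : Subgroup G} (hV : IsElementaryAbelian 2 V) (hVT : V ≤ T)
    (hA : A ∈ maxEA 2 T) : EAMod A (secCent V ⊥) ∧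
      (fx V ⊥ A).relIndex V ≤ (secCent V ⊥).relIndex A := by
  have := Fact.mk Nat.prime_two
  obtain ⟨h1, h2, h3⟩ := isBestOffenderOn_of_mem_maxEA hV hVT hA
  rw [secCent_bot, fx_bot]
  refine ⟨⟨h2, fun a ha => by rw [← pow_two]; exact h3 a ha⟩, ?_⟩
  have e1 := h1 (𝐂[V] ⊓ A) inf_le_right
  rw [inf_eq_left.2 (le_centralizer_iff.1 (inf_le_left : 𝐂[V] ⊓ A ≤ 𝐂[V]))] at e1
  have e2 := Grp.card_inf_mul_relIndex' 𝐂[V] A
  have e3 := Grp.card_mul_relIndex (inf_le_left : V ⊓ 𝐂[A] ≤ V)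
  rw [← e2, ← e3] at e1
  have e4 : 0 < Nat.card ↥(𝐂[V] ⊓ A) * Nat.card ↥(V ⊓ 𝐂[A]) := Nat.mul_pos Nat.card_pos Nat.card_pos
  refine Nat.le_of_mul_le_mul_left ?_ e4
  calc _ = Nat.card ↥(𝐂[V] ⊓ A) * (Nat.card ↥(V ⊓ 𝐂[A]) * (V ⊓ 𝐂[A]).relIndex V) := by ring
    _ ≤ _ := e1
    _ = _ := by ring

end Cfsg.Agent.NG
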