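import Mathlib
import Cfsg.Agent.NG.Mod2

/-!
Modules without blocks: elementary abelian 2-groups have large index on their fixed points.
-/

set_option autoImplicit false
set_option linter.unusedSectionVars false

namespace Cfsg.Agent.NG

namespace Lin

variable {W : Type*} [AddCommGroup W] [Finite W] (h2 : ∀ w : W, w + w = 0)
include h2

theorem Inv.sixteen {α ξ : Module.End ℤ W} {p : ℕ} (h : Inv α ξ p) (h4 : Nat.card (com α) ≤ 4)
    (hn : Nat.card (com ξ) ≠ 4) : Nat.card (com ξ) = 16 ∧ (com ξ).map (α - 1) = com α ∧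
      Nat.card (com α) = 4 ∧ com ξ = com α ⊔ (com α).map ξ := by
  obtain ⟨e1, e2, e3⟩ := h.card_com h2
  have e4 : (com ξ).map (α - 1) ≤ com α := LinearMap.map_le_range
  have e5 := card_le e4
  have e6 := h.card_ne_one h2
  obtain ⟨j, hj⟩ := card_pow h2 ((com ξ).map (α - 1))
  have e7 : Nat.card ((com ξ).map (α - 1)) = 4 := by
    rw [hj] at e1 e5 e6 ⊢
    have : j < 3 := by
      by_contra hh
      have : 2 ^ 3 ≤ 2 ^ j := Nat.pow_le_pow_right (by norm_num) (by omega)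
      omega
    interval_cases j
    · exact absurd rfl e6
    · exact absurd e1 hn
    · rfl
  have e8 := eq_of_le_of_card_le e4 (by omega)
  refine ⟨by rw [e1, e7]; rfl, e8, by rw [← e8, e7], ?_⟩
  rw [← e8, e2]
  exact e3

/-- the key step for two commuting dihedral pairs -/
theorem pair_step {α₁ ξ₁ α₂ ξ₂ : Module.End ℤ W} {p₁ p₂ : ℕ} (i₁ : Inv α₁ ξ₁ p₁) (i₂ : Inv α₂ ξ₂ p₂)
    (c₁ : α₁ * ξ₂ = ξ₂ * α₁) (cx : ξ₁ * ξ₂ = ξ₂ * ξ₁)
    (f₁ : Nat.card (com α₁) ≤ 4) (f₂ : Nat.card (com α₂) ≤ 4) (n₁ : Nat.card (com ξ₁) ≠ 4)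
    (n₂ : Nat.card (com ξ₂) ≠ 4) (hi : Nat.card W < 16 * Nat.card ↥(fix α₂ ⊓ fix α₁)) :
    p₂ = 3 ∧ com ξ₁ ≤ com ξ₂ := by
  obtain ⟨-, a2, a3, a4⟩ := i₁.sixteen h2 f₁ n₁
  obtain ⟨-, b2, b3, -⟩ := i₂.sixteen h2 f₂ n₂
  have hR : ∀ w ∈ com α₁, ξ₂ w ∈ com α₁ := fun w hw => apply_mem_com c₁.symm hw
  have hne : ¬ com α₁ ≤ fix ξ₂ := fun e => by
    have e1 : com ξ₁ ≤ fix ξ₂ := by
      rw [a4]
      refine sup_le e ?_
      rintro _ ⟨w, hw, rfl⟩
      exact apply_mem_fix cx (e hw)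
    have e2 : fix ξ₂ ≤ fix α₂ := i₂.fix_le h2 (by
      rw [← b2, (i₂.card_com h2).2.1]; exact inf_le_left)
    have e3 : com α₁ ≤ (fix α₂).map (α₁ - 1) := a2 ▸ Submodule.map_mono (e1.trans e2)
    have e4 := card_le e3
    have e5 := card_inf_mul_card_map (α₁ - 1) (fix α₂)
    change Nat.card ↥(fix α₂ ⊓ fix α₁) * _ = _ at e5
    have e6 := card_fix_mul_card_com α₂
    rw [b3, ← e5] at e6
    rw [a3] at e4
    nlinarith
  have e1 : (com α₁).map (ξ₂ - 1) ≤ com α₁ := by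
    rintro _ ⟨w, hw, rfl⟩
    exact sub_mem (hR w hw) hw
  have e2 : (com α₁).map (ξ₂ - 1) ≤ com ξ₂ := LinearMap.map_le_range
  have e3 := fpf_dvd_prime i₂.prime i₂.pow (S := (com α₁).map (ξ₂ - 1)) (by
    rintro _ ⟨w, hw, rfl⟩
    exact ⟨ξ₂ w, hR w hw, by simp⟩)
    (eq_bot_iff.2 ((inf_le_inf_right _ e2).trans (com_inf_fix h2 i₂.odd i₂.pow).le))
  have e4 : Nat.card ((com α₁).map (ξ₂ - 1)) ≠ 1 := fun e => hne fun w hw => by
    have : (ξ₂ - 1) w ∈ (com α₁).map (ξ₂ - 1) := Submodule.mem_map_of_mem hw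
    rw [card_eq_one.1 e] at this
    exact this
  have e5 := card_dvd e1
  rw [a3] at e5
  have e6 := Nat.le_of_dvd (by norm_num) e5
  have e7 := card_pos ((com α₁).map (ξ₂ - 1))
  generalize hc : Nat.card ((com α₁).map (ξ₂ - 1)) = c at e3 e4 e5 e6 e7
  interval_cases c
  · exact absurd rfl e4
  · exact absurd (Nat.dvd_one.1 e3) i₂.prime.ne_one
  · exact absurd e5 (by decide)
  · refine ⟨(Nat.prime_dvd_prime_iff_eq i₂.prime Nat.prime_three).1 e3, ?_⟩
    have e8 : com α₁ ≤ com ξ₂ := eq_of_le_of_card_le e1 (by rw [hc, a3]) ▸ e2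
    rw [a4]
    refine sup_le e8 ?_
    rintro _ ⟨w, hw, rfl⟩
    exact apply_mem_com cx (e8 hw)

/-- a group of type `3 × 3` on a space of order 16 contains a block -/
theorem exists_four {σ τ : Module.End ℤ W} (hσ : σ ^ 3 = 1) (hτ : τ ^ 3 = 1) (c : σ * τ = τ * σ)
    (e : com σ = com τ) (h16 : Nat.card (com σ) = 16) (n₁ : σ * τ ≠ 1) (n₂ : σ * τ ^ 2 ≠ 1) :
    Nat.card (com (σ * τ)) = 4 := by
  have cm : Commute σ τ := c
  have p₁ : (σ * τ) ^ 3 = 1 := by rw [cm.mul_pow, hσ, hτ, one_mul]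
  have p₂ : (σ * τ ^ 2) ^ 3 = 1 := by
    rw [(cm.pow_right 2).mul_pow, hσ, ← pow_mul, mul_comm 2, pow_mul, hτ, one_pow, one_mul]
  have l₁ : com (σ * τ) ≤ com σ := (com_mul_le' _ _).trans (sup_le le_rfl e.ge)
  have l₂ : com (σ * τ ^ 2) ≤ com σ :=
    (com_mul_le' _ _).trans (sup_le le_rfl ((com_pow_le τ 2).trans e.ge))
  -- `σ τ² - 1` kills the commutator space of `σ τ`
  have k : com (σ * τ) ≤ fix (σ * τ ^ 2) := by
    intro w hw
    obtain ⟨v, rfl⟩ := mem_com.1 hw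
    obtain ⟨a, ha, b, hb, rfl⟩ := Submodule.mem_sup.1
      (com_sup_fix h2 (by decide : Odd 3) hσ ▸ Submodule.mem_top : v ∈ com σ ⊔ fix σ)
    have hb' : τ b = b := by
      have : τ b - b ∈ com σ ⊓ fix σ :=
        ⟨e ▸ sub_mem_com τ b, sub_mem (apply_mem_fix c.symm hb) hb⟩
      rwa [com_inf_fix h2 (by decide : Odd 3) hσ, Submodule.mem_bot, sub_eq_zero] at this
    have r0 : ∀ u, τ (σ u) = σ (τ u) := fun u => by
      rw [← Module.End.mul_apply, ← c, Module.End.mul_apply]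
    have r1 : τ (τ (τ a)) = a := by
      have := congrArg (fun f : Module.End ℤ W => f a) hτ
      simpa [pow_succ] using this
    have r2 := cube_rel h2 hτ (e ▸ ha : a ∈ com τ)
    have r3 := cube_rel h2 hσ ha
    rw [mem_fix]
    simp only [map_add, Module.End.mul_apply, hb', mem_fix.1 hb, add_sub_add_right_eq_sub, map_sub,
      pow_succ, pow_zero, one_mul, r0, r1]
    rw [r2, map_add, r3, sub_eq h2, sub_eq h2]
    calc σ a + a + (σ (τ a) + σ a) = σ (τ a) + a + (σ a + σ a) := by abel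
      _ = _ := by rw [h2, add_zero]
  have d : com (σ * τ) ⊓ com (σ * τ ^ 2) = ⊥ := eq_bot_iff.2 (by
    rw [inf_comm]
    exact (inf_le_inf_left _ k).trans (com_inf_fix h2 (by decide : Odd 3) p₂).le)
  have e1 := card_le (sup_le l₁ l₂)
  rw [card_sup_of_inf d, h16] at e1
  have four : ∀ γ : Module.End ℤ W, γ ^ 3 = 1 → γ ≠ 1 → 4 ≤ Nat.card (com γ) := fun γ h3 h1 => by
    have a1 := fpf_dvd_prime Nat.prime_three h3 (fun _ hw => apply_mem_com rfl hw)
      (com_inf_fix h2 (by decide : Odd 3) h3)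
    have a2 : Nat.card (com γ) ≠ 1 := fun e => h1 (com_eq_bot.1 (card_eq_one.1 e))
    have a3 := card_pos (com γ)
    omega
  have a1 := four _ p₁ n₁
  have a2 := four _ p₂ n₂
  nlinarith

end Lin

open Subgroup Cfsg.Agent.PLocal Cfsg.Agent.PLocal.Amb Cfsg.Agent.PLocal.CP Cfsg.Agent.PLocal.JC
open Cfsg.Agent.NG.Lin
open scoped commutatorElement

variable {G : Type*} [Group G] [Finite G]

variable {L U U₀ : Subgroup G}

/-- M4 -/
theorem Mod.nf (h : Mod L U U₀) (hnf : ∀ K, ¬ Blk L U U₀ K) {A : Subgroup G} (hA : A ≤ L)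
    (hE : EAMod A (secCent U U₀)) (hne : ¬ A ≤ secCent U U₀) :
    2 * (secCent U U₀).relIndex A ≤ (fx U U₀ A).relIndex U ∧
      (2 < (secCent U U₀).relIndex A → 4 * (secCent U U₀).relIndex A ≤ (fx U U₀ A).relIndex U) := by
  classical
  obtain ⟨F, k, a, x, p, hF, hk, ha, hx, hd, -, e, -⟩ := h.exists_dih hA hE
  have xN : ∀ i, x i ∈ NN U U₀ := fun i => h.L_le (hF.1 (hx i))
  have hidx := h.relIndex_fx hA
  have hpos := Lin.card_pos (h.FX A)
  have n4 : ∀ i, Nat.card (com (h.ρ (x i))) ≠ 4 := fun i e =>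
    hnf _ (h.blk_of_fit hF (hx i) (hd.inv i).prime (hd.inv i).ne (hd.inv i).pow e)
  have g4 : ∀ i, 4 ≤ Nat.card (com (h.ρ (a i))) := fun i => by
    obtain ⟨j, hj⟩ := card_pow h.two (com (h.ρ (a i)))
    have e1 : Nat.card (com (h.ρ (a i))) ≠ 1 := fun e =>
      (hd.inv i).ne_one' (com_eq_bot.1 (Lin.card_eq_one.1 e))
    have e2 : Nat.card (com (h.ρ (a i))) ≠ 2 := fun e =>
      hnf _ (h.tv_of hF (hA (ha i)) (hx i) (hd.inv i) e).blk
    rw [hj] at e1 e2 ⊢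
    rcases j with _ | _ | j
    · exact absurd rfl e1
    · exact absurd rfl e2
    · rw [pow_add, pow_add]; have := Nat.one_le_two_pow (n := j); omega
  rw [hk]
  rcases k with _ | k
  · exact absurd (relIndex_eq_one.1 hk) hne
  constructor
  · have e1 := hd.drops_univ h.two {0}
    rw [fixs_singleton, ← e, Fintype.card_fin, Finset.card_singleton, Nat.add_sub_cancel] at e1
    have e2 := card_fix_mul_card_com (h.ρ (a 0))
    refine Nat.le_of_mul_le_mul_left ?_ hpos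
    rw [hidx, ← e2, pow_succ]
    calc _ = 2 ^ k * Nat.card (h.FX A) * 4 := by ring
      _ ≤ _ := Nat.mul_le_mul e1 (g4 0)
  intro h2
  rcases k with _ | k
  · exact absurd h2 (by decide)
  have h01 : (0 : Fin (k + 1 + 1)) ≠ 1 := zero_ne_one
  have key : 16 * Nat.card ↥(fix (h.ρ (a 1)) ⊓ fix (h.ρ (a 0))) ≤ Nat.card h.W := by
    by_contra hlt
    rw [not_le] at hlt
    have f4 : ∀ i j, i ≠ j → Nat.card h.W < 16 * Nat.card ↥(fix (h.ρ (a j)) ⊓ fix (h.ρ (a i))) →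
        Nat.card (com (h.ρ (a i))) ≤ 4 := fun i j hij hl => by
      have e1 := hd.drop h.two (S := {i}) (j := j) (by simpa using hij.symm)
      have e2 : fixs (fun i => h.ρ (a i)) (insert j {i}) = fix (h.ρ (a j)) ⊓ fix (h.ρ (a i)) := by
        simp [fixs, iInf_or, iInf_inf_eq]
      rw [fixs_singleton, e2] at e1
      have e3 := card_fix_mul_card_com (h.ρ (a i))
      obtain ⟨j, hj⟩ := card_pow h.two (com (h.ρ (a i)))
      have e4 : Nat.card (com (h.ρ (a i))) < 8 := by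
        by_contra hh
        have := Nat.mul_le_mul e1 (not_lt.1 hh)
        omega
      rw [hj] at e4 ⊢
      have : j < 3 := (Nat.pow_lt_pow_iff_right (by norm_num : 1 < 2)).1 e4
      exact Nat.pow_le_pow_right (by norm_num) (by omega : j ≤ 2)
    have hlt' := hlt
    rw [inf_comm] at hlt'
    have f0 := f4 0 1 h01 hlt
    have f1 := f4 1 0 h01.symm hlt'
    obtain ⟨q1, l1⟩ := pair_step h.two (hd.inv 0) (hd.inv 1) (hd.ax 0 1 h01) (hd.xx 0 1) f0 f1 (n4 0)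
      (n4 1) hlt
    obtain ⟨q0, l0⟩ := pair_step h.two (hd.inv 1) (hd.inv 0) (hd.ax 1 0 h01.symm) (hd.xx 1 0) f1 f0
      (n4 1) (n4 0) hlt'
    have c0 : h.ρ (x 0) ^ 3 = 1 := q0 ▸ (hd.inv 0).pow
    have c1 : h.ρ (x 1) ^ 3 = 1 := q1 ▸ (hd.inv 1).pow
    have nc : ∀ n m : ℕ, h.ρ (x 1) ^ n * h.ρ (x 1) ^ m = 1 → h.ρ (x 0) * h.ρ (x 1) ^ n ≠ 1 :=
      fun n m e1 e2 => (hd.inv 0).not_comm (by
        have e3 : h.ρ (x 0) = h.ρ (x 1) ^ m := by
          rw [← mul_one (h.ρ (x 0)), ← e1, ← mul_assoc, e2, one_mul]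
        have e4 : Commute (h.ρ (a 0)) (h.ρ (x 1)) := hd.ax 0 1 h01
        rw [e3]
        exact (e4.pow_right m).eq)
    have e4 := exists_four h.two c0 c1 (hd.xx 0 1) (le_antisymm l1 l0)
      ((hd.inv 0).sixteen h.two f0 (n4 0)).1
      (by simpa using nc 1 2 (by rw [← pow_add, c1])) (nc 2 1 (by rw [← pow_add, c1]))
    rw [← h.ρ_mul (xN 0) (xN 1)] at e4
    refine hnf _ (h.blk_of_fit hF (mul_mem (hx 0) (hx 1)) Nat.prime_three (by decide) ?_ e4)
    rw [h.ρ_mul (xN 0) (xN 1), (show Commute (h.ρ (x 0)) (h.ρ (x 1)) from hd.xx 0 1).mul_pow, c0, c1,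
      one_mul]
  have e1 := hd.drops_univ h.two {1, 0}
  have e2 : fixs (fun i => h.ρ (a i)) {1, 0} = fix (h.ρ (a 1)) ⊓ fix (h.ρ (a 0)) := by
    simp [fixs, iInf_or, iInf_inf_eq]
  rw [e2, ← e, Fintype.card_fin, Finset.card_pair h01.symm] at e1
  refine Nat.le_of_mul_le_mul_left ?_ hpos
  rw [hidx, pow_succ, pow_succ]
  calc _ = 16 * (2 ^ k * Nat.card (h.FX A)) := by ring
    _ ≤ _ := (Nat.mul_le_mul_left _ e1).trans key

end Cfsg.Agent.NG
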