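import Mathlib
import Cfsg.Agent.NG.Mod2
import Cfsg.Agent.Solv.FrobeniusAction

/-! Auxiliary facts for `NG/T3`: dihedral sections, four-groups, members of `𝒜(T)`. -/

set_option autoImplicit false

namespace Cfsg.Agent.NG

open Subgroup Cfsg.Agent.PLocal Cfsg.Agent.PLocal.Amb Cfsg.Agent.PLocal.CP Cfsg.Agent.PLocal.JC
open scoped commutatorElement

variable {G : Type*} [Group G] [Finite G]

theorem odd_of_three {x : G} (h : ∃ k : ℕ, x ^ 3 ^ k = 1) : Odd (orderOf x) :=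
  h.elim fun _ hk => Odd.of_dvd_nat (Odd.pow (by decide)) (orderOf_dvd_of_pow_eq_one hk)

theorem mem_of_sq_mem {K : Subgroup G} {x : G} (ho : Odd (orderOf x)) (h : x * x ∈ K) : x ∈ K :=
  mem_of_pow_mem_of_coprime (n := 2) (by rwa [sq]) (Nat.coprime_two_right.2 ho)

/-- `⟨x⟩ B / Q` is cyclic or dihedral -/
structure Dh (B Q : Subgroup G) (x : G) : Prop where
  two : IsPGroup 2 B
  le : Q ≤ B
  nB : B ≤ 𝐍[Q]
  nx : x ∈ 𝐍[Q]
  odd : Odd (orderOf x)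
  inv : ∀ b ∈ B, b ∉ Q → b * x * b⁻¹ * x ∈ Q

namespace Dh

variable {B Q : Subgroup G} {x : G} (h : Dh B Q x)
include h

theorem inv_pow {b : G} (hb : b ∈ B) (hb' : b ∉ Q) (n : ℕ) : b * x ^ n * b⁻¹ * x ^ n ∈ Q := by
  induction n with
  | zero => simp
  | succ n ih =>
    have := mul_mem (h.inv b hb hb') (Amb.inv_conj_mem_of_mem_normalizer h.nx ih)
    convert this using 1
    rw [pow_succ' x n]
    nth_rewrite 2 [← pow_succ' x n]
    rw [pow_succ]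
    group

theorem normR : zpowers x ⊔ B ≤ 𝐍[zpowers x ⊔ Q] := by
  refine sup_le (le_sup_left.trans le_normalizer) fun b hb => ?_
  by_cases hb' : b ∈ Q
  · exact le_normalizer (mem_sup_right hb')
  refine Amb.mem_normalizer_of_cj_le ?_
  rw [cj_sup, cj_of_mem_normalizer (h.nB hb), MonoidHom.map_zpowers]
  refine sup_le (zpowers_le.2 ?_) le_sup_right
  simpa [mul_assoc] using mul_mem (mem_sup_right (h.inv b hb hb'))
    (inv_mem (mem_sup_left (mem_zpowers x) : x ∈ zpowers x ⊔ Q))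

theorem normQ : zpowers x ⊔ B ≤ 𝐍[Q] := sup_le (zpowers_le.2 h.nx) h.nB

theorem exists_mul {y : G} (hy : y ∈ zpowers x ⊔ B) : ∃ n : ℕ, ∃ b ∈ B, y = x ^ n * b := by
  have h1 : zpowers x ⊔ B ≤ (zpowers x ⊔ Q) ⊔ B := sup_le_sup_right le_sup_left _
  obtain ⟨r, hr, b, hb, rfl⟩ := (mem_sup_of_le_normalizer_left (le_sup_right.trans h.normR)).1 (h1 hy)
  obtain ⟨u, hu, q, hq, rfl⟩ := (mem_sup_of_le_normalizer_right (zpowers_le.2 h.nx)).1 hr
  obtain ⟨n, rfl⟩ := (mem_powers_iff_mem_zpowers.2 hu : u ∈ Submonoid.powers x)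
  exact ⟨n, q * b, mul_mem (h.le hq) hb, mul_assoc _ _ _⟩

theorem pRes_le : 𝐎[2, zpowers x ⊔ B] ≤ zpowers x ⊔ Q :=
  (pRes_mono (sup_le_sup_right le_sup_left _)).trans (pRes_sup_le h.two (le_sup_right.trans h.normR))

theorem mem_pRes : x ∈ 𝐎[2, zpowers x ⊔ B] :=
  Amb.mem_pRes (mem_sup_left (mem_zpowers x)) (Nat.coprime_two_right.2 h.odd)

theorem isSyl : IsSyl 2 B (zpowers x ⊔ B) := by
  refine ⟨le_sup_right, h.two, fun P hP h1 h2 y hy => ?_⟩
  obtain ⟨n, b, hb, rfl⟩ := h.exists_mul (h2 hy)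
  have h3 := eq_one_of_isPGroup_of_coprime hP ((mul_mem_cancel_right (h1 hb)).1 hy)
    (Nat.coprime_two_right.2 (h.odd.of_dvd_nat (orderOf_pow_dvd n)))
  rwa [h3, one_mul]

/-- a normal subgroup above `Q` not containing `x` meets `B` in `Q` -/
theorem mem_of_normal {D : Subgroup G} (hQ : Q ≤ D) (hn : x ∈ 𝐍[D]) (hx : x ∉ D) {n : ℕ} {b : G}
    (hb : b ∈ B) (hD : x ^ n * b ∈ D) : b ∈ Q := by
  by_contra hb'
  have h1 := mul_mem (inv_mem hD) (Amb.conj_mem_of_mem_normalizer hn hD)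
  have h2 := hQ (h.inv _ (inv_mem hb) (mt inv_mem_iff.1 hb'))
  refine hx (mem_of_sq_mem h.odd ?_)
  convert mul_mem (inv_mem h1) h2 using 1
  group

theorem eq_pCoreOf (hx : x ≠ 1) : 𝐐[zpowers x ⊔ B] = Q := by
  have h1 := Amb.le_pCoreOf (h.two.to_le h.le) (h.le.trans le_sup_right) h.normQ
  refine le_antisymm (fun b hb => h.mem_of_normal h1 (Amb.le_normalizer_pCoreOf 2 _
    (mem_sup_left (mem_zpowers x))) (fun e => hx (eq_one_of_isPGroup_of_coprime (Amb.isPGroup_pCoreOf 2 _) e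
      (Nat.coprime_two_right.2 h.odd))) (n := 0) (h.isSyl.pCoreOf_le hb) (by simpa using hb)) h1

theorem solvable : Group.IsSolvable ↥(zpowers x ⊔ B) := by
  have h1 := h.two.isNilpotent
  have h2 := (h.two.to_le h.le).isNilpotent
  have h3 := Solv.Frob.isSolvable_sup_of_le_normalizer (le_sup_right.trans h.normR) inferInstance
    (Solv.Frob.isSolvable_sup_of_le_normalizer (zpowers_le.2 h.nx) inferInstance inferInstance)
  rwa [sup_comm, sup_assoc, sup_of_le_right h.le] at h3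

end Dh

section Four
variable {V : Subgroup G} (hV : ∀ v ∈ V, v * v = 1) (h4 : Nat.card V = 4) {x : G}
  (ho : Odd (orderOf x)) (hn : x ∈ 𝐍[V]) (hx : x ∉ 𝐂[V])
include hV h4 ho hn hx

theorem four_ne {v : G} (hv : v ∈ V) (h1 : v ≠ 1) : x * v * x⁻¹ ≠ v := fun e => by
  have h2 := four_stab_le_two hV h4 (zpowers_le.2 hn) hv h1 (zpowers_le.2
    (mem_centralizer_singleton_iff.2 (mul_inv_eq_iff_eq_mul.1 e)))
  have h3 := ho.of_dvd_nat (Nat.card_zpowers x ▸ relIndex_dvd_card 𝐂[V] (zpowers x))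
  have h5 : (𝐂[V]).relIndex (zpowers x) ≠ 1 := fun e => hx (relIndex_eq_one.1 e (mem_zpowers x))
  obtain ⟨k, hk⟩ := h3
  omega

theorem four_orbit {v w : G} (hv : v ∈ V) (h1 : v ≠ 1) (hw : w ∈ V) (h2 : w ≠ 1) :
    w = v ∨ w = x * v * x⁻¹ ∨ w = x * (x * v * x⁻¹) * x⁻¹ := by
  have c := fun {u} (hu : u ∈ V) => Amb.conj_mem_of_mem_normalizer hn hu
  have e : ∀ {u : G}, u ≠ 1 → x * u * x⁻¹ ≠ 1 := fun hu => by simpa using hu
  have h3 := four_ne hV h4 (x := x * x) (ho.of_dvd_nat (by rw [← sq]; exact orderOf_pow_dvd 2))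
    (mul_mem hn hn) (mt (mem_of_sq_mem ho) hx) hv h1
  exact (four_eq h4 hv (c hv) (c (c hv)) hw h1 (e h1) (e (e h1)) (four_ne hV h4 ho hn hx hv h1).symm
    (fun e' => h3 (by rw [mul_inv_rev]; nth_rewrite 2 [e']; group))
    (four_ne hV h4 ho hn hx (c hv) (e h1)).symm).resolve_left h2

theorem four_trans {v w : G} (hv : v ∈ V) (h1 : v ≠ 1) (hw : w ∈ V) (h2 : w ≠ 1) :
    ∃ g ∈ zpowers x, g * v * g⁻¹ = w := by
  rcases four_orbit hV h4 ho hn hx hv h1 hw h2 with h | h | h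
  · exact ⟨1, one_mem _, by simp [h]⟩
  · exact ⟨x, mem_zpowers x, h.symm⟩
  · exact ⟨x * x, mul_mem (mem_zpowers x) (mem_zpowers x), by rw [h]; group⟩

theorem four_le_of_mem {U : Subgroup G} (hU : x ∈ 𝐍[U]) {v : G} (hv : v ∈ V) (h1 : v ≠ 1) (hvU : v ∈ U) :
    V ≤ U := fun w hw => by
  by_cases h2 : w = 1
  · exact h2 ▸ one_mem U
  obtain ⟨g, hg, rfl⟩ := four_trans hV h4 ho hn hx hv h1 hw h2
  exact Amb.conj_mem_of_mem_normalizer (zpowers_le.2 hU hg) hvU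

theorem four_cube : x ^ 3 ∈ 𝐂[V] := fun v hv => by
  by_cases h1 : v = 1
  · simp [h1]
  have c := fun {u} (hu : u ∈ V) => Amb.conj_mem_of_mem_normalizer hn hu
  have e : ∀ {u : G}, u ≠ 1 → x * u * x⁻¹ ≠ 1 := fun hu => by simpa using hu
  have h2 := four_orbit hV h4 ho hn hx (c hv) (e h1) hv h1
  have h3 := four_ne hV h4 (x := x * x) (ho.of_dvd_nat (by rw [← sq]; exact orderOf_pow_dvd 2))
    (mul_mem hn hn) (mt (mem_of_sq_mem ho) hx) hv h1
  rw [or_iff_right (four_ne hV h4 ho hn hx hv h1).symm,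
    or_iff_right (fun e' => h3 (by rw [mul_inv_rev]; nth_rewrite 2 [e']; group))] at h2
  nth_rewrite 1 [h2]
  rw [pow_three]
  group

end Four

/-- `𝐁[T]` centralizes every elementary abelian subgroup of `T` centralized by `J(T)`. -/
theorem le_omegaJ {T U : Subgroup G} (hU : IsElementaryAbelian 2 U) (hT : U ≤ T) (hc : U ≤ 𝐂[𝐉[T]]) :
    U ≤ ΩZ[2, 𝐉[T]] := by
  obtain ⟨A, hA⟩ := maxEA_nonempty 2 T
  exact le_omegaZ hU ((le_of_mem_maxEA_of_centralizes hA hT hU.2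
    (hc.trans (centralizer_anti (le_thompsonSubgroupOf hA)))).trans (le_thompsonSubgroupOf hA)) hc

theorem bau_le_cent {T U : Subgroup G} (hU : IsElementaryAbelian 2 U) (hT : U ≤ T)
    (hc : U ≤ 𝐂[𝐉[T]]) : 𝐁[T] ≤ 𝐂[U] := inf_le_right.trans (centralizer_anti (le_omegaJ hU hT hc))

variable {L V T A K : Subgroup G}

/-- members of `𝒜(T)` are generated by transvections modulo the kernel -/
theorem Mod.maxEA_le (h : Mod L V ⊥) (hV : IsElementaryAbelian 2 V) (hVT : V ≤ T) (hTL : T ≤ L)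
    (hA : A ∈ maxEA 2 T) {N : Subgroup G} (hN : 𝐂[V] ≤ N)
    (ht : ∀ t ∈ A, ∀ K, Tv L V ⊥ K t → t ∈ N) : A ≤ N := by
  obtain ⟨h1, h2⟩ := offender_of_maxEA hV hVT hA
  obtain ⟨I, t, h3, h4, -⟩ := h.offender (hA.1.trans hTL) h1 h2
  refine h4.trans (sup_le (secCent_bot V ▸ hN) (iSup₂_le fun K hK => zpowers_le.2 ?_))
  exact ht _ (h3 K hK).1 K (h3 K hK).2

theorem Mod.maxEA_norm (h : Mod L V ⊥) (hV : IsElementaryAbelian 2 V) (hVT : V ≤ T) (hTL : T ≤ L)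
    (hA : A ∈ maxEA 2 T) (hK : Blk L V ⊥ K) {g : G} (hg : g ∈ L) : cj(g, A) ≤ 𝐍[bW V ⊥ K] := by
  obtain ⟨h1, h2, -⟩ := h.blk_cj hK (inv_mem hg)
  rw [cj_le_iff, ← normalizer_cj, ← h2]
  exact h.maxEA_le hV hVT hTL hA ((centralizer_anti (h.bW_le h1.le)).trans (centralizer_le_normalizer' _))
    fun t _ K' ht => ((h.tv_facts ht).2.2.2.2 _ h1).2

end Cfsg.Agent.NG
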