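import Mathlib
import Cfsg.Agent.NG.T3_a

/-! Auxiliary facts for `NG/T3`: blocks of an elementary abelian normal subgroup. -/

set_option autoImplicit false

namespace Cfsg.Agent.NG

open Subgroup Cfsg.Agent.PLocal Cfsg.Agent.PLocal.Amb Cfsg.Agent.PLocal.CP Cfsg.Agent.PLocal.JC
open scoped commutatorElement

variable {G : Type*} [Group G] [Finite G]

theorem mem_of_inverted {S : Subgroup G} {x t : G} (ho : Odd (orderOf x)) (hx : x ∈ 𝐍[S]) (ht : t ∈ S)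
    (hi : t * x * t⁻¹ = x⁻¹) : x ∈ S := by
  refine mem_of_sq_mem ho ?_
  convert mul_mem (Amb.conj_mem_of_mem_normalizer hx ht) (inv_mem ht) using 1
  rw [mul_assoc, mul_assoc, ← mul_assoc t, ← conj_inv, hi, inv_inv]

theorem exists_three_part {C : Subgroup G} {y : G} (ho : Odd (orderOf y)) (h3 : y ^ 3 ∈ C) (hy : y ∉ C) :
    ∃ m : ℕ, (∃ k : ℕ, (y ^ m) ^ 3 ^ k = 1) ∧ y ^ m ∉ C := by
  obtain ⟨k, m, hm, e⟩ := Nat.exists_eq_pow_mul_and_not_dvd (orderOf_pos y).ne' 3 (by norm_num)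
  refine ⟨m, ⟨k, by rw [← pow_mul, mul_comm, ← e, pow_orderOf_eq_one]⟩, fun h => hy ?_⟩
  rw [← Nat.div_add_mod m 3, pow_add, pow_mul, mul_mem_cancel_left (pow_mem h3 _)] at h
  obtain h1 | h1 : m % 3 = 1 ∨ m % 3 = 2 := by omega
  · rwa [h1, pow_one] at h
  · exact mem_of_sq_mem ho (by rwa [h1, sq] at h)

theorem le_normalizer_biInf {L : Subgroup G} {I : Set (Subgroup G)} {f : Subgroup G → Subgroup G}
    (h : ∀ g ∈ L, ∀ K ∈ I, cj(g, K) ∈ I ∧ f cj(g, K) = cj(g, f K)) : L ≤ 𝐍[⨅ K ∈ I, f K] := by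
  refine fun g hg => Amb.mem_normalizer_of_cj_le (le_iInf₂ fun K hK => ?_)
  obtain ⟨h1, h2⟩ := h _ (inv_mem hg) K hK
  rw [cj_le_iff, ← h2]
  exact iInf₂_le _ h1

variable {L V T A K : Subgroup G} {t : G}

omit [Finite G] in
theorem Blk.card_bot (hK : Blk L V ⊥ K) : Nat.card (bW V ⊥ K) = 4 := by
  rw [← hK.card, relIndex_bot_left]

theorem Mod.sq_bW (h : Mod L V ⊥) (hK : Blk L V ⊥ K) : ∀ w ∈ bW V ⊥ K, w * w = 1 :=
  fun w hw => h.sq w (h.bW_le hK.le hw)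

theorem Mod.norm_blk (h : Mod L V ⊥) (hK : Blk L V ⊥ K) : L ⊓ 𝐍[bW V ⊥ K] ≤ 𝐍[K] := fun g hg => by
  obtain ⟨w, hw, h1⟩ := exists_ne_one (ne_bot_of_card hK.card_bot (by norm_num))
  exact (h.mem_normalizer_blk hK hg.1 hw h1 (Amb.conj_mem_of_mem_normalizer hg.2 hw)).1

theorem Mod.blk_le_norm (h : Mod L V ⊥) (hK : Blk L V ⊥ K) : K ≤ 𝐍[bW V ⊥ K] :=
  (h.bN_norm_blk hK).1.trans (h.bN_norm_blk hK).2.2

theorem Mod.mem_cent (h : Mod L V ⊥) (hK : Blk L V ⊥ K) {g : G} (h1 : g ∈ 𝐂[bW V ⊥ K])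
    (h2 : g ∈ 𝐂[fx V ⊥ K]) : g ∈ 𝐂[V] := by
  rw [← (h.blk_compl hK).1, Amb.centralizer_sup]; exact ⟨h1, h2⟩

omit [Finite G] in
theorem le_cent_fx (V K : Subgroup G) : K ≤ 𝐂[fx V ⊥ K] := by
  rw [fx_bot]; exact le_centralizer_iff.1 inf_le_right

omit [Finite G] in
theorem Tv.mem_cent (ht : Tv L V ⊥ K t) : t ∈ 𝐂[fx V ⊥ K] :=
  centralizer_anti ht.fix (le_cent_fx V _ (mem_zpowers t))

theorem Mod.tv_notMem (h : Mod L V ⊥) (ht : Tv L V ⊥ K t) : t ∉ 𝐂[bW V ⊥ K] := fun e => ht.act (by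
  rw [fx_bot]; exact le_inf (h.bW_le ht.blk.le) (le_centralizer_iff.1 (zpowers_le.2 e)))

theorem Mod.J_norm (h : Mod L V ⊥) (hV : IsElementaryAbelian 2 V) (hVT : V ≤ T) (hTL : T ≤ L)
    (hK : Blk L V ⊥ K) : 𝐉[T] ≤ 𝐍[bW V ⊥ K] := thompsonSubgroupOf_le_iff.2 fun A hA => by
  simpa only [cj_one] using h.maxEA_norm hV hVT hTL hA hK L.one_mem

theorem Mod.bau_norm (h : Mod L V ⊥) (hV : IsElementaryAbelian 2 V) (hT : IsPGroup 2 T) (hVT : V ≤ T)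
    (hTL : T ≤ L) (hK : Blk L V ⊥ K) : 𝐁[T] ≤ 𝐍[bW V ⊥ K] := fun b hb => by
  have hW := h.bW_le hK.le
  obtain ⟨w, hw, h1⟩ := exists_ne_one (inf_centralizer_ne_bot (hT.to_le (inf_le_left : T ⊓ _ ≤ T))
    (isEA_isPGroup (isEA_mono hV hW)) inf_le_right (ne_bot_of_card hK.card_bot (by norm_num)))
  have h2 := bau_le_cent (isEA_mono hV (zpowers_le.2 (hW hw.1))) (zpowers_le.2 (hVT (hW hw.1)))
    (zpowers_le.2 (centralizer_anti (le_inf (thompsonSubgroupOf_le T) (h.J_norm hV hVT hTL hK)) hw.2)) hb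
  refine (h.mem_normalizer_blk hK (hTL hb.1) hw.1 h1 ?_).2
  rw [← h2 w (mem_zpowers w), mul_inv_cancel_right]
  exact hw.1

/-- `K ⟨t⟩` induces the full automorphism group on its block -/
theorem Mod.tv_full (h : Mod L V ⊥) (ht : Tv L V ⊥ K t) {d : G} (hd : d ∈ 𝐍[bW V ⊥ K]) :
    ∃ n ∈ K ⊔ zpowers t, n⁻¹ * d ∈ 𝐂[bW V ⊥ K] := by
  obtain ⟨-, h1, h2, h3, h4⟩ := h.tv_facts ht
  have htN := (h4 K ht.blk).2
  obtain ⟨w, hw, hw1⟩ := exists_ne_one (ne_bot_of_card ((relIndex_bot_left _).symm.trans h2) (by norm_num))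
  obtain ⟨k, hk, h5⟩ := h.blk_trans ht.blk (h1 hw) hw1 (Amb.conj_mem_of_mem_normalizer hd (h1 hw))
    (by simpa using hw1)
  have hkd := mul_mem (inv_mem (h.blk_le_norm ht.blk hk)) hd
  have hH : zpowers (k⁻¹ * d) ⊔ zpowers t ≤ centralizer {w} := by
    refine sup_le (zpowers_le.2 (mem_centralizer_singleton_iff.2 ?_)) (zpowers_le.2 ?_)
    · rw [mem_bot, mul_inv_eq_one] at h5
      calc _ = k⁻¹ * (d * w * d⁻¹) * d := by group
        _ = _ := by rw [← h5]; group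
    · have := (h3.ge hw).2
      rw [fx_bot] at this
      exact mem_centralizer_singleton_iff.2 (this.2 t (mem_zpowers t))
  have h6 := four_stab_le_two (h.sq_bW ht.blk) ht.blk.card_bot
    (sup_le (zpowers_le.2 hkd) (zpowers_le.2 htN)) (h1 hw) hw1 hH
  have h7 : t ∈ zpowers (k⁻¹ * d) ⊔ zpowers t := mem_sup_right (mem_zpowers t)
  by_cases h8 : k⁻¹ * d ∈ 𝐂[bW V ⊥ K]
  · exact ⟨k, mem_sup_left hk, h8⟩
  refine ⟨k * t, mul_mem (mem_sup_left hk) (mem_sup_right (mem_zpowers t)), ?_⟩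
  rw [mul_inv_rev, mul_assoc]
  refine Amal.mul_mem_of_relIndex_two ?_ (inv_mem h7) (mem_sup_left (mem_zpowers _))
    (mt inv_mem_iff.1 (h.tv_notMem ht)) h8
  have h9 := mt relIndex_eq_one.1 fun e => h.tv_notMem ht (e h7)
  have : (𝐂[bW V ⊥ K]).relIndex (zpowers (k⁻¹ * d) ⊔ zpowers t) ≠ 0 := FiniteIndex.index_ne_zero
  omega

/-- an element acting blockwise like members of `N` lies in `N` -/
theorem Mod.mem_of_blocks (h : Mod L V ⊥) {N : Subgroup G} (hN : L ⊓ 𝐂[V] ≤ N) {S : Set (Subgroup G)}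
    (hS : ∀ K ∈ S, Blk L V ⊥ K) {d : G} (hd : d ∈ L) (h1 : d ∈ 𝐂[V ⊓ ⨅ K ∈ S, fx V ⊥ K])
    (h2 : ∀ K ∈ S, ∃ n ∈ L ⊓ N, n ∈ 𝐂[fx V ⊥ K] ∧ n ∈ 𝐍[bW V ⊥ K] ∧ n⁻¹ * d ∈ 𝐂[bW V ⊥ K]) :
    d ∈ N := by
  induction S, S.toFinite using Set.Finite.induction_on generalizing d with
  | empty => exact hN ⟨hd, by simpa using h1⟩
  | @insert K S hK _ ih =>
    have hB := hS K (Set.mem_insert _ _)
    have hne : ∀ K' ∈ S, bW V ⊥ K' ≤ fx V ⊥ K ∧ bW V ⊥ K ≤ fx V ⊥ K' := fun K' hK' =>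
      have := hS K' (Set.mem_insert_of_mem _ hK')
      ⟨(h.blk_ne hB this fun e => hK (e ▸ hK')).1, (h.blk_ne this hB fun e => hK (e ▸ hK')).1⟩
    obtain ⟨n, hn, h3, -, h4⟩ := h2 K (Set.mem_insert _ _)
    rw [mem_inf] at hn
    refine (mul_mem_cancel_left (inv_mem hn.2)).1 (ih (fun K' hK' => hS K' (Set.mem_insert_of_mem _ hK'))
      (mul_mem (inv_mem hn.1) hd) ?_ fun K' hK' => ?_)
    · refine centralizer_anti (R := bW V ⊥ K ⊔ (V ⊓ ⨅ K' ∈ insert K S, fx V ⊥ K')) (fun u hu => ?_) ?_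
      · obtain ⟨w, hw, h5⟩ := h.exists_comp hB hu.1
        rw [show u = u * w⁻¹ * w by group]
        refine mul_mem (mem_sup_right ⟨h5.1, ?_⟩) (mem_sup_left hw)
        rw [iInf_insert]
        exact ⟨h5, mem_iInf.2 fun K' => mem_iInf.2 fun hK' => mul_mem
          (mem_iInf.1 (mem_iInf.1 hu.2 K') hK') (inv_mem ((hne K' hK').2 hw))⟩
      · rw [Amb.centralizer_sup]
        exact mem_inf.2 ⟨h4, mul_mem (inv_mem (centralizer_anti
          (inf_le_right.trans (iInf₂_le K (Set.mem_insert _ _))) h3)) h1⟩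
    · obtain ⟨m, hm, h5, h6, h7⟩ := h2 K' (Set.mem_insert_of_mem _ hK')
      refine ⟨m, hm, h5, h6, ?_⟩
      rw [show m⁻¹ * (n⁻¹ * d) = m⁻¹ * n⁻¹ * m * (m⁻¹ * d) by group]
      exact mul_mem (Amb.inv_conj_mem_of_mem_normalizer (Amb.normalizer_le_normalizer_centralizer _ h6)
        (inv_mem (centralizer_anti (hne K' hK').1 h3))) h7

/-- the member of `𝓑(B)` attached to a transvection from a member of `𝒜(T)` -/
theorem Mod.exists_isB (h : Mod L V ⊥) (hc : IsCharP 2 L) (hT : IsSyl 2 T L) (hV : IsPRed 2 V L)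
    (hA : A ∈ maxEA 2 T) (htA : t ∈ A) (ht : Tv L V ⊥ K t) :
    ∃ X, IsB 𝐁[T] X ∧ X ≤ L ∧ K ≤ X ⊔ (L ⊓ 𝐂[V]) := by
  have hK := ht.blk
  have hVT := hV.le_syl hT
  have hWV := h.bW_le hK.le
  have hBW := h.bau_norm hV.ea hT.pgrp hVT hT.le hK
  have hJW := h.J_norm hV.ea hVT hT.le hK
  have hKW := h.blk_le_norm hK
  have hKn := h.norm_blk hK
  have htW := h.tv_notMem ht
  have h4 := hK.card_bot
  have hsq := h.sq_bW hK
  have hKC : ∀ g ∈ K, g ∈ 𝐂[bW V ⊥ K] → g ∈ 𝐂[V] := fun g hg e => h.mem_cent hK e (le_cent_fx V K hg)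
  generalize bW V ⊥ K = W at *
  have hWe := isEA_of_sq hsq
  have hWC := isEA_le_centralizer hWe
  have hCN : 𝐂[W] ≤ 𝐍[W] := centralizer_le_normalizer' W
  have hAJ := le_thompsonSubgroupOf hA
  have htB := J_le_bau T (hAJ htA)
  have ht2 := sq_eq_one_of_isEA hA.2.1 t htA
  -- the Sylow subgroup `T₁` of `L₁ = K T₁`
  obtain ⟨T₁, hT₁⟩ : ∃ T₁, T₁ = T ⊓ 𝐍[W] := ⟨_, rfl⟩
  have hT₁T : T₁ ≤ T := hT₁ ▸ inf_le_left
  have hBT₁ : 𝐁[T] ≤ T₁ := hT₁ ▸ le_inf (bau_le T) hBW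
  have hT₁K : T₁ ≤ 𝐍[K] := (hT₁ ▸ inf_le_inf_right _ hT.le).trans hKn
  have hL₁ : K ⊔ T₁ ≤ 𝐍[W] := sup_le hKW (hT₁ ▸ inf_le_right)
  have hS : IsSyl 2 T₁ (K ⊔ T₁) := by
    refine ⟨le_sup_right, hT.pgrp.to_le hT₁T, fun P hP h1 h2 y hy => ?_⟩
    obtain ⟨k, hk, s, hs, rfl⟩ := (mem_sup_of_le_normalizer_left hT₁K).1 (h2 hy)
    have h3 : T ⊓ K ≤ T₁ := hT₁ ▸ inf_le_inf_left _ hKW
    have h5 := isSyl_inf_of_snIn hT (.step (h.bN_norm_blk hK).1 (h.bN_norm_blk hK).2.1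
      (.step h.bN_norm.1 h.bN_norm.2 (.refl L)))
    exact mul_mem (h3 (h5.max (P ⊓ K) (hP.to_le inf_le_left) (le_inf (h3.trans h1) inf_le_right)
      inf_le_right ⟨(mul_mem_cancel_right (h1 hs)).1 hy, hk⟩)) hs
  have hQ := isSyl_inf_centralizer hS hL₁
  have hDn : K ⊔ T₁ ≤ 𝐍[(K ⊔ T₁) ⊓ 𝐂[W]] :=
    Amb.le_normalizer_inf le_normalizer (Amb.le_normalizer_centralizer hL₁)
  have hQn : T₁ ≤ 𝐍[T₁ ⊓ 𝐂[W]] :=
    Amb.le_normalizer_inf le_normalizer (Amb.le_normalizer_centralizer (le_sup_right.trans hL₁))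
  have hTQ : T ⊓ 𝐂[W] ≤ T₁ ⊓ 𝐂[W] := le_inf (hT₁ ▸ inf_le_inf_left _ hCN) inf_le_right
  generalize hQe : T₁ ⊓ 𝐂[W] = Q at hQ hQn hTQ
  have hQT : Q ≤ T := (hQe ▸ inf_le_left).trans hT₁T
  have hQW : Q ≤ 𝐂[W] := hQe ▸ inf_le_right
  -- the element `x`
  obtain ⟨x, hx3, hxK, hxQ, hxW, hxt⟩ : ∃ x : G, (∃ k : ℕ, x ^ 3 ^ k = 1) ∧ x ∈ K ∧ x ∈ 𝐍[Q] ∧
      x ∉ 𝐂[W] ∧ t * x * t⁻¹ = x⁻¹ := by
    obtain ⟨k, hk, -, h1, h2, -⟩ := h.blk_gen hK
    have h3 := ht.inv k hk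
    rw [secCent_bot] at h1 h2 h3
    have hkL := (mem_sup_left hk : k ∈ K ⊔ T₁)
    have htL := (mem_sup_right (hBT₁ htB) : t ∈ K ⊔ T₁)
    obtain ⟨n, hn, d, hd, e⟩ := hQ.frattini' (hDn hkL)
    obtain rfl : n = k * d⁻¹ := by rw [e, mul_inv_cancel_right]
    have hnL := mul_mem hkL (inv_mem hd.1)
    have hN := fun {g} (hg : g ∈ K ⊔ T₁) (hg' : g ∈ 𝐍[Q]) => Amb.le_normalizer_inf
      (zpowers_le.2 (hDn hg)) (zpowers_le.2 (le_normalizer hg')) (mem_zpowers g)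
    obtain ⟨y, hy1, hy2, hy3, -⟩ := exists_odd_inverted ht2 (hN htL (hQn (hBT₁ htB))) (hN hnL hn)
      ⟨3, by decide, mem_inf.2 ⟨by
        obtain ⟨c, hc, e⟩ := exists_mul_pow_eq (hDn hkL) (inv_mem hd) 3
        exact e ▸ mul_mem (mem_inf.2 ⟨pow_mem hkL 3, centralizer_anti hWV h2⟩) hc, pow_mem hn 3⟩⟩
      (mem_inf.2 ⟨by
        rw [show t * (k * d⁻¹) * t⁻¹ * (k * d⁻¹) = t * k * t⁻¹ * k * (k⁻¹ * (t * d⁻¹ * t⁻¹) * k) * d⁻¹ by group]
        exact mul_mem (mul_mem (mem_inf.2 ⟨mul_mem (mul_mem (mul_mem htL hkL) (inv_mem htL)) hkL,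
          centralizer_anti hWV h3⟩) (Amb.inv_conj_mem_of_mem_normalizer (hDn hkL)
            (Amb.conj_mem_of_mem_normalizer (hDn htL) (inv_mem hd)))) (inv_mem hd),
        mul_mem (Amb.conj_mem_of_mem_normalizer (le_normalizer (hQn (hBT₁ htB))) hn) hn⟩)
    rw [mem_inf, mem_inf] at hy3
    have hyL := (mul_mem_cancel_right (inv_mem hnL)).1 hy3.1.1
    have hyW : y ∉ 𝐂[W] := fun e => h1 (hKC k hk ((mul_mem_cancel_right (inv_mem (mem_inf.1 hd).2)).1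
      (inv_mem_iff.1 ((mul_mem_cancel_left e).1 hy3.1.2))))
    obtain ⟨m, hm1, hm2⟩ := exists_three_part hy1 (four_cube hsq h4 hy1 (hL₁ hyL) hyW) hyW
    exact ⟨y ^ m, hm1, pRes_sup_le hS.pgrp hT₁K (Amb.mem_pRes (pow_mem hyL m)
      (Nat.coprime_two_right.2 (odd_of_three hm1))), pow_mem ((mul_mem_cancel_right (inv_mem hn)).1 hy3.2) m,
      hm2, by rw [← conj_pow, hy2, inv_pow]⟩
  have hxo := odd_of_three hx3
  -- the replacement `A' = C_A(W) W`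
  have hA' : (A ⊓ 𝐂[W]) ⊔ W ∈ maxEA 2 T := by
    refine mem_maxEA_of_card_le hA (sup_le (inf_le_left.trans hA.1) (hWV.trans hVT))
      (isEA_sup (isEA_mono hA.2.1 inf_le_left) hWe inf_le_right) ?_
    have h1 := card_sup_mul_card_inf (A := A ⊓ 𝐂[W]) (inf_le_right.trans hCN)
    have h2 := card_inf_mul_relIndex 𝐂[W] A
    have h3 := four_two_group hsq h4 (hAJ.trans hJW) (isEA_isPGroup hA.2.1)
    have h5 : Nat.card ↥(A ⊓ 𝐂[W] ⊓ W) ≤ 2 := by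
      rcases four_cases h4 (inf_le_right : A ⊓ 𝐂[W] ⊓ W ≤ W) with e | e | e
      · rw [e, card_bot]; norm_num
      · exact e.le
      · exact absurd (fun w hw => isEA_comm hA.2.1 (e.ge hw).1.1 htA) htW
    rw [inf_comm] at h2
    rw [h4] at h1
    nlinarith
  have hA'Q : (A ⊓ 𝐂[W]) ⊔ W ≤ Q := (le_inf hA'.1 (sup_le inf_le_right hWC)).trans hTQ
  have hA'J := le_thompsonSubgroupOf (mem_maxEA_of_le hA' hA'Q hQT)
  have hJQ := thompsonSubgroupOf_le_of_mem hA' hA'Q hQT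
  have hle : ∀ U : Subgroup G, IsElementaryAbelian 2 U → U ≤ T → U ≤ 𝐂[𝐉[Q]] → U ≤ ΩZ[2, 𝐉[Q]] :=
    fun U h1 h2 h3 => le_omegaJ h1 ((le_of_mem_maxEA_of_centralizes hA' h2 h1.2
      (h3.trans (centralizer_anti hA'J))).trans hA'Q) h3
  have hW₁ : ΩZ[2, 𝐉[T]] ⊔ W ≤ ΩZ[2, 𝐉[Q]] := sup_le
    (hle _ (omegaZ_isEA _) ((omegaZ_le _).trans (thompsonSubgroupOf_le T))
      ((omegaZ_le_centralizer _).trans (centralizer_anti hJQ)))
    (hle _ hWe (hWV.trans hVT) (le_centralizer_iff.1 ((thompsonSubgroupOf_le Q).trans hQW)))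
  have hx₁ : x ∈ secCent ΩZ[2, 𝐉[Q]] W := by
    refine mem_of_inverted hxo (le_normalizer_secCent (zpowers_le.2 (normalizer_le_normalizer_omegaZ _
      (normalizer_le_normalizer_thompsonSubgroupOf Q hxQ))) (zpowers_le.2 (hKW hxK)) (mem_zpowers x))
      ⟨hBW htB, fun a ha => ?_⟩ hxt
    obtain ⟨b, hb, w, hw, rfl⟩ := (mem_sup_of_le_normalizer_right (inf_le_right.trans hCN)).1
      (le_of_mem_maxEA_of_centralizes hA' ((omegaZ_le _).trans ((thompsonSubgroupOf_le Q).trans hQT))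
        (omegaZ_isEA _).2 ((omegaZ_le_centralizer _).trans (centralizer_anti hA'J)) ha)
    rw [commutatorElement_def, ← mul_assoc t, isEA_comm hA.2.1 htA hb.1,
      show b * t * w * t⁻¹ * (b * w)⁻¹ = b * (t * w * t⁻¹ * w⁻¹) * b⁻¹ by group]
    exact Amb.conj_mem_of_mem_normalizer (hCN hb.2)
      (mul_mem (Amb.conj_mem_of_mem_normalizer (hBW htB) hw) (inv_mem hw))
  -- the subgroup `R = C_B(W)`
  have hR : 𝐁[T] ⊓ 𝐂[W] = Q ⊓ 𝐂[ΩZ[2, 𝐉[T]] ⊔ W] := by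
    rw [Amb.centralizer_sup]
    exact le_antisymm (le_inf ((inf_le_inf_right _ (bau_le T)).trans hTQ) (inf_le_inf_right _ inf_le_right))
      (le_inf (inf_le_inf hQT inf_le_left) (inf_le_left.trans hQW))
  have hxR : x ∈ 𝐍[𝐁[T] ⊓ 𝐂[W]] := by
    rw [hR]
    refine Amb.le_normalizer_inf (zpowers_le.2 hxQ) (zpowers_le.2 (Amb.normalizer_le_normalizer_centralizer _
      (mem_normalizer_of_conj_mem fun u hu => ?_))) (mem_zpowers x)
    simpa [commutatorElement_def] using mul_mem (mem_sup_right (hx₁.2 u (hW₁ hu))) hu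
  have hJB := J_le_bau T
  have hbau := bau_eq_of_le le_rfl (bau_le T)
  have hJJ := thompsonSubgroupOf_eq_of_le hJB (bau_le T)
  have hTB := le_normalizer.trans (normalizer_le_normalizer_bau T)
  have hBT := bau_le T
  generalize 𝐁[T] = B at *
  have hB2 := hT.pgrp.to_le hBT
  have hidx : (B ⊓ 𝐂[W]).relIndex B = 2 := by
    have h1 := four_two_group hsq h4 hBW hB2
    have h2 := mt relIndex_eq_one.1 fun e => htW (e htB)
    have : (𝐂[W]).relIndex B ≠ 0 := FiniteIndex.index_ne_zero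
    rw [inf_relIndex_left]
    omega
  have hBR : B ≤ 𝐍[B ⊓ 𝐂[W]] := Amb.le_normalizer_inf le_normalizer (Amb.le_normalizer_centralizer hBW)
  have hD : Dh B (B ⊓ 𝐂[W]) x := ⟨hB2, inf_le_left, hBR, hxR, hxo, fun b hb hb' => by
    have h1 := Amal.mul_mem_of_relIndex_two hidx hb (inv_mem htB) hb' fun e => htW (inv_mem_iff.1 e).2
    rw [show b * x * b⁻¹ * x = b * t⁻¹ * (t * x * t⁻¹ * (b * t⁻¹)⁻¹ * x) by group, hxt]
    exact mul_mem h1 (Amb.inv_conj_mem_of_mem_normalizer hxR (inv_mem h1))⟩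
  have hO := hD.eq_pCoreOf fun e => hxW (e ▸ one_mem _)
  have hXL : zpowers x ⊔ B ≤ L := sup_le (zpowers_le.2 (hK.le hxK)) (hBT.trans hT.le)
  refine ⟨zpowers x ⊔ B, ⟨hD.isSyl, hbau, isCharP_of_coprime fun y hy h1 h2 => ?_, hO ▸ hidx,
    ⟨x, mem_sup_left (mem_zpowers x), hx3, rfl, hO ▸ hD.inv⟩, fun e => ?_, ?_⟩, hXL, ?_⟩
  · have h3 : B ≤ secCent Q (B ⊓ 𝐂[W]) := fun b hb => ⟨hBR hb, fun q hq => mem_inf.2 ⟨by
      rw [commutatorElement_def, mul_assoc, mul_assoc, ← mul_assoc q]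
      exact mul_mem hb (Amb.conj_mem_of_mem_normalizer (hTB (hQT hq)) (inv_mem hb)),
      hQW (mul_mem (Amb.conj_mem_of_mem_normalizer (hQn (hBT₁ hb)) hq) (inv_mem hq))⟩⟩
    have h5 := sup_le (zpowers_le.2 (mem_of_inverted hxo (le_normalizer_secCent (zpowers_le.2 hxQ)
      (zpowers_le.2 hxR) (mem_zpowers x)) (h3 htB) hxt)) h3 hy
    rw [hO] at h2
    exact hc.eq_one (hXL hy) h1 (centralizer_anti ((le_inf hT.pCoreOf_le (hV.pCoreOf_le.trans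
      (centralizer_anti hWV))).trans hTQ)
      (mem_centralizer_of_commutator_mem (hB2.to_le inf_le_left) h1 h2 h5.2))
  · rw [hO, hJJ] at e
    exact htW (e (hAJ htA)).2
  · have hWR : W ≤ B ⊓ 𝐂[W] := le_inf (le_sup_right.trans (hA'J.trans (hJQ.trans hJB))) hWC
    have h1 : VB (zpowers x ⊔ B) ≤ W := by
      rw [VB, hO]
      refine le_secCent_iff'.1 (hD.pRes_le.trans (sup_le (zpowers_le.2 ⟨hx₁.1, fun a ha => hx₁.2 a
        (hle _ (omegaZ_isEA _) ((omegaZ_le _).trans (inf_le_left.trans hBT)) ((omegaZ_le_centralizer _).trans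
          (centralizer_anti (le_inf (hJQ.trans hJB) ((thompsonSubgroupOf_le Q).trans hQW)))) ha)⟩)
        fun b hb => ⟨hCN hb.2, fun a ha => ?_⟩)) |>.2
      rw [commutatorElement_eq_one_iff_mul_comm.2 (omegaZ_le_centralizer _ ha b hb)]
      exact one_mem W
    obtain ⟨w, hw, hw1⟩ := exists_ne_one (ne_bot_of_card h4 (by norm_num))
    have h2 : ⁅w, x⁆ ∈ VB (zpowers x ⊔ B) := by
      rw [VB, hO]
      exact commutator_mem_commutator (le_omegaZ hWe hWR (le_centralizer_iff.1 inf_le_right) hw) hD.mem_pRes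
    rw [le_antisymm h1 (four_le_of_mem hsq h4 hxo (hKW hxK) hxW (Amb.le_normalizer_commutator
      (le_normalizer.trans (normalizer_le_normalizer_omegaQ _)) (le_normalizer_pRes 2 _)
        (mem_sup_left (mem_zpowers x))) (h1 h2) (fun e => four_ne hsq h4 hxo (hKW hxK) hxW hw hw1 (by
          rw [← commutatorElement_eq_one_iff_mul_comm.1 e, mul_inv_cancel_right])) h2), h4]
  · have h1 := sup_zpowers_eq (C := secCent V ⊥ ⊓ K) (by rw [inf_relIndex_right, hK.idx]; norm_num)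
      inf_le_right hxK fun e => hxW (centralizer_anti hWV (secCent_bot V ▸ e.1))
    exact h1.ge.trans (sup_le_sup le_sup_left (secCent_bot V ▸ le_inf (inf_le_right.trans hK.le) inf_le_left))

end Cfsg.Agent.NG
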