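import Mathlib
import Cfsg.Agent.NG.T3_b

set_option autoImplicit false

namespace Cfsg.Agent.NG

open Subgroup Cfsg.Agent.PLocal Cfsg.Agent.PLocal.Amb Cfsg.Agent.PLocal.CP Cfsg.Agent.PLocal.JC
open scoped commutatorElement

variable {G : Type*} [Group G] [Finite G]

variable {B X : Subgroup G}

theorem VB_cj (g : G) (X : Subgroup G) : VB cj(g, X) = cj(g, VB X) := by
  rw [VB, VB, pCoreOf_cj, omegaZ_cj, pRes_cj, commutator_cj]

theorem IsB.cj (h : IsB B X) (g : G) : IsB cj(g, B) cj(g, X) := by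
  obtain ⟨x, hx, ⟨k, hk⟩, h1, h2⟩ := h.cyc
  refine ⟨h.syl.cj g, by rw [bau_cj, h.bau], h.char.conj g, ?_, ⟨g * x * g⁻¹, conj_mem_cj g hx,
    ⟨k, by rw [conj_pow, hk]; simp⟩, ?_, ?_⟩, ?_, by rw [VB_cj, card_cj, h.card]⟩
  · rw [pCoreOf_cj, relIndex_map_map_of_injective _ _ (MulAut.conj g).injective, h.idx]
  · rw [h1, cj_sup, MonoidHom.map_zpowers]; rfl
  · rintro _ ⟨b, hb, rfl⟩ hb'
    rw [pCoreOf_cj] at hb' ⊢
    have := conj_mem_cj g (h2 b hb fun e => hb' (conj_mem_cj g e))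
    convert this using 1
    simp [mul_assoc]
  · rw [J_cj, pCoreOf_cj, cj_le_cj_iff]; exact h.notJ

theorem IsB.dh (h : IsB B X) : ∃ x : G, (∃ k : ℕ, x ^ 3 ^ k = 1) ∧ X = zpowers x ⊔ B ∧ Dh B 𝐐[X] x := by
  obtain ⟨x, hx, h1, h2, h3⟩ := h.cyc
  exact ⟨x, h1, h2, h.syl.pgrp, h.syl.pCoreOf_le, h.syl.le.trans (Amb.le_normalizer_pCoreOf 2 X),
    Amb.le_normalizer_pCoreOf 2 X hx, odd_of_three h1, h3⟩

theorem IsB.solvable (h : IsB B X) : Group.IsSolvable X := by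
  obtain ⟨x, -, h1, h2⟩ := h.dh
  exact h1 ▸ h2.solvable

omit [Finite G] in
theorem normalizer_le_VB (X : Subgroup G) : 𝐍[X] ≤ 𝐍[VB X] :=
  Amb.le_normalizer_commutator (normalizer_le_normalizer_omegaQ X) (normalizer_le_normalizer_pRes 2 X)

omit [Finite G] in
theorem VB_le (X : Subgroup G) : VB X ≤ ΩZ[2, 𝐐[X]] := Solv.commutator_le_of_le_normalizer
  ((pRes_le 2 X).trans (le_normalizer.trans (normalizer_le_normalizer_omegaQ X)))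

omit [Finite G] in
theorem VB_sq (X : Subgroup G) : ∀ v ∈ VB X, v * v = 1 :=
  fun v hv => sq_eq_one_of_isEA (omegaZ_isEA _) v (VB_le X hv)

theorem VB_comm (X : Subgroup G) : ⁅VB X, 𝐎[2, X]⁆ = VB X :=
  commutator_pRes_pRes (isPGroup_omegaZ _) (le_normalizer.trans (normalizer_le_normalizer_omegaQ X))

theorem IsB.notMem (h : IsB B X) {x : G} (h1 : X = zpowers x ⊔ B) (h2 : Dh B 𝐐[X] x) : x ∉ 𝐂[VB X] := by
  intro hx
  have h3 : 𝐎[2, X] ≤ 𝐂[VB X] := ((pRes_mono h1.le).trans h2.pRes_le).trans (sup_le (zpowers_le.2 hx)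
    ((le_centralizer_omegaZ _).trans (centralizer_anti (VB_le X))))
  exact ne_bot_of_card h.card (by norm_num) ((VB_comm X).symm.trans
    (commutator_eq_bot_iff_le_centralizer.2 (le_centralizer_iff.1 h3)))

theorem IsB.V_facts (h : IsB B X) : VB X ≤ ΩZ[2, 𝐐[X]] ∧ X ≤ 𝐍[VB X] ∧
    ⁅VB X, 𝐎[2, X]⁆ = VB X ∧ VB X ⊓ 𝐂[𝐎[2, X]] = ⊥ ∧ B ⊓ 𝐂[VB X] = 𝐐[X] ∧
    (∀ P : Subgroup G, IsPGroup 2 P → P ≤ X → P ≤ 𝐂[VB X] → P ≤ 𝐐[X]) ∧
    (∀ v ∈ VB X, v ≠ 1 → ∀ w ∈ VB X, w ≠ 1 → ∃ g ∈ 𝐎[2, X], g * v * g⁻¹ = w) := by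
  obtain ⟨x, -, h1, h2⟩ := h.dh
  have h3 := h.notMem h1 h2
  have hx : x ∈ 𝐎[2, X] := pRes_mono h1.ge h2.mem_pRes
  have hn := normalizer_le_VB X (le_normalizer (pRes_le 2 X hx))
  have hQ : 𝐐[X] ≤ 𝐂[VB X] := (le_centralizer_omegaZ _).trans (centralizer_anti (VB_le X))
  have h4 : ∀ P : Subgroup G, IsPGroup 2 P → P ≤ X → P ≤ 𝐂[VB X] → P ≤ 𝐐[X] := fun P hP h4 h5 y hy => by
    obtain ⟨n, b, hb, rfl⟩ := h2.exists_mul (h1.le (h4 hy))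
    have h6 := h2.mem_of_normal hQ (Amb.normalizer_le_normalizer_centralizer _ hn) h3 hb (h5 hy)
    have h7 := isPGroup_sup hP (Amb.isPGroup_pCoreOf 2 X) (h4.trans (Amb.le_normalizer_pCoreOf 2 X))
    rw [eq_one_of_isPGroup_of_coprime h7 ((mul_mem_cancel_right (mem_sup_right h6)).1 (mem_sup_left hy))
      (Nat.coprime_two_right.2 (h2.odd.of_dvd_nat (orderOf_pow_dvd n))), one_mul]
    exact h6
  refine ⟨VB_le X, le_normalizer.trans (normalizer_le_VB X), VB_comm X, eq_bot_iff.2 fun v hv => ?_,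
    le_antisymm (h4 _ (h.syl.pgrp.to_le inf_le_left) (inf_le_left.trans h.syl.le) inf_le_right)
      (le_inf h2.le hQ), h4, fun v hv h5 w hw h6 => ?_⟩
  · by_contra h5
    exact four_ne (VB_sq X) h.card h2.odd hn h3 hv.1 h5 (mul_inv_eq_iff_eq_mul.2 (hv.2 x hx))
  · obtain ⟨g, hg, e⟩ := four_trans (VB_sq X) h.card h2.odd hn h3 hv h5 hw h6
    exact ⟨g, zpowers_le.2 hx hg, e⟩

theorem IsB.exists_maxEA (h : IsB B X) : ∃ A ∈ maxEA 2 B, ¬ A ≤ 𝐐[X] := by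
  simpa [thompsonSubgroupOf_le_iff] using h.notJ

theorem IsB.omega (h : IsB B X) : ΩZ[2, 𝐐[X]] = (ΩZ[2, 𝐐[X]] ⊓ 𝐂[X]) ⊔ VB X ∧
    ΩZ[2, B] = (ΩZ[2, 𝐐[X]] ⊓ 𝐂[X]) ⊔ (VB X ⊓ 𝐂[B]) ∧ Nat.card ↥(VB X ⊓ 𝐂[B]) = 2 ∧
    (ΩZ[2, B] ⊓ 𝐂[X]).relIndex ΩZ[2, B] = 2 := by
  obtain ⟨x, -, h1, h2⟩ := h.dh
  obtain ⟨v1, v2, -, v4, v5, -⟩ := h.V_facts
  obtain ⟨A, hA, hAQ⟩ := h.exists_maxEA
  have hx : x ∈ 𝐎[2, X] := pRes_mono h1.ge h2.mem_pRes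
  have hZB := (omegaZ_le (p := 2) 𝐐[X]).trans h2.le
  have hn := le_normalizer.trans (normalizer_le_normalizer_omegaQ X)
  have hE : ΩZ[2, 𝐐[X]] ⊓ 𝐂[zpowers x] ≤ 𝐂[𝐎[2, X]] := le_centralizer_iff.1 (((pRes_mono h1.le).trans h2.pRes_le).trans
    (sup_le (le_centralizer_iff.1 inf_le_right) ((le_centralizer_omegaZ _).trans
      (centralizer_anti inf_le_left))))
  have h3 : (ΩZ[2, 𝐐[X]] ⊓ 𝐂[A]).relIndex ΩZ[2, 𝐐[X]] ≤ 2 := by
    have := (offender_of_maxEA (omegaZ_isEA _) hZB hA).2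
    rw [fx_bot, secCent_bot] at this
    exact this.trans ((relIndex_le_of_le_left (le_centralizer_omegaZ _) FiniteIndex.index_ne_zero).trans
      (Amal.relIndex_le_two h.idx hA.1))
  obtain ⟨v, hv, hvA⟩ : ∃ v ∈ VB X, v ∉ 𝐂[A] := SetLike.not_le_iff_exists.1 fun e =>
    hAQ (v5 ▸ le_inf hA.1 (le_centralizer_iff.1 e))
  have h4 : (ΩZ[2, 𝐐[X]] ⊓ 𝐂[A]).relIndex ΩZ[2, 𝐐[X]] = 2 := by
    have : (ΩZ[2, 𝐐[X]] ⊓ 𝐂[A]).relIndex ΩZ[2, 𝐐[X]] ≠ 1 := fun e => hvA (relIndex_eq_one.1 e (v1 hv)).2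
    have : (ΩZ[2, 𝐐[X]] ⊓ 𝐂[A]).relIndex ΩZ[2, 𝐐[X]] ≠ 0 := FiniteIndex.index_ne_zero
    omega
  have h5 : ΩZ[2, 𝐐[X]] ⊓ 𝐂[zpowers x] ≤ 𝐂[A] := fun e he => by_contra fun heA => hvA fun a ha => by
    have h5 := (Amal.mul_mem_of_relIndex_two h4 he.1 (v1 hv) (fun e => heA e.2) fun e => hvA e.2).2 a ha
    have haX := h.syl.le (hA.1 ha)
    have h6 : a * v * a⁻¹ * v⁻¹ ∈ VB X ⊓ 𝐂[𝐎[2, X]] := by
      refine mem_inf.2 ⟨mul_mem (Amb.conj_mem_of_mem_normalizer (v2 haX) hv) (inv_mem hv), ?_⟩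
      rw [show a * v * a⁻¹ * v⁻¹ = (a * e * a⁻¹)⁻¹ * (a * (e * v) * a⁻¹) * v⁻¹ by group, h5,
        mul_inv_cancel_right, mul_assoc, mul_inv_cancel_right]
      exact mul_mem (inv_mem (Amb.conj_mem_of_mem_normalizer (Amb.le_normalizer_centralizer
        (le_normalizer_pRes 2 X) haX) (hE he))) (hE he)
    rwa [v4, mem_bot, mul_inv_eq_one, mul_inv_eq_iff_eq_mul] at h6
  have h6 : ΩZ[2, 𝐐[X]] ⊓ 𝐂[zpowers x] ≤ 𝐂[X] := by
    obtain ⟨a, ha, haQ⟩ := SetLike.not_le_iff_exists.1 hAQ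
    have hQ : 𝐐[X] ≤ 𝐂[ΩZ[2, 𝐐[X]] ⊓ 𝐂[zpowers x]] :=
      (le_centralizer_omegaZ _).trans (centralizer_anti inf_le_left)
    refine le_centralizer_iff.1 (h1.le.trans (sup_le (le_centralizer_iff.1 inf_le_right) fun b hb => ?_))
    by_cases hb' : b ∈ 𝐐[X]
    · exact hQ hb'
    · exact (mul_mem_cancel_right (le_centralizer_iff.1 h5 ha)).1
        (hQ (Amal.mul_mem_of_relIndex_two h.idx hb (hA.1 ha) hb' haQ))
  have h7 : ΩZ[2, 𝐐[X]] = (ΩZ[2, 𝐐[X]] ⊓ 𝐂[X]) ⊔ VB X := by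
    refine le_antisymm ?_ (sup_le inf_le_left v1)
    have := Solv.coprime_commutator_sup_centralizer (zpowers x) ΩZ[2, 𝐐[X]]
      ((zpowers_le.2 (pRes_le 2 X hx)).trans hn)
      (coprime_card_zpowers (isPGroup_omegaZ _) (Nat.coprime_two_right.2 h2.odd)) (Or.inl inferInstance)
    exact this.ge.trans (sup_le ((commutator_mono le_rfl (zpowers_le.2 hx)).trans le_sup_right)
      ((le_inf inf_le_left h6).trans le_sup_left))
  have hXB : 𝐂[X] ≤ 𝐂[B] := centralizer_anti h.syl.le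
  have h8 : ΩZ[2, B] = (ΩZ[2, 𝐐[X]] ⊓ 𝐂[X]) ⊔ (VB X ⊓ 𝐂[B]) := by
    rw [← inf_centralizer_eq_omegaZ (omegaZ_isEA _) hZB (h.char.omegaZ_le h.syl)]
    nth_rewrite 1 [h7]
    exact sup_inf_of_le_normalizer (inf_le_right.trans hXB)
      ((inf_le_left.trans (hZB.trans h.syl.le)).trans v2)
  have h9 : Nat.card ↥(VB X ⊓ 𝐂[B]) = 2 := by
    refine ((four_cases h.card inf_le_left).resolve_left (inf_centralizer_ne_bot h.syl.pgrp
      ((isPGroup_omegaZ _).to_le v1) (h.syl.le.trans v2) (ne_bot_of_card h.card (by norm_num)))).resolve_right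
      fun e => hvA (centralizer_anti hA.1 (e.ge hv).2)
  refine ⟨h7, h8, h9, ?_⟩
  have h10 : ΩZ[2, B] ⊓ 𝐂[X] = ΩZ[2, 𝐐[X]] ⊓ 𝐂[X] := le_antisymm
    (inf_le_inf_right _ (h.char.omegaZ_le h.syl)) (le_inf (h8.ge.trans' le_sup_left) inf_le_right)
  rw [h10, h8, sup_comm, relIndex_sup_of_le_normalizer ((inf_le_left.trans (v1.trans
    (isEA_le_centralizer (omegaZ_isEA _)))).trans ((centralizer_anti inf_le_left).trans
    (centralizer_le_normalizer' _))), ← inf_relIndex_right, ← h9, ← relIndex_bot_left]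
  congr 1
  exact eq_bot_iff.2 (v4.le.trans' fun y hy => ⟨hy.2.1, centralizer_anti (pRes_le 2 X) hy.1.2⟩)

/-- `X` is generated by `O₂(X)` and the conjugates of any `A ≤ B` outside `O₂(X)` -/
theorem IsB.le_ncl (h : IsB B X) {A : Subgroup G} (hA : A ≤ B) (hA' : ¬ A ≤ 𝐐[X]) :
    X ≤ ncl A X ⊔ 𝐐[X] := by
  obtain ⟨x, -, h1, h2⟩ := h.dh
  obtain ⟨a, ha, haQ⟩ := SetLike.not_le_iff_exists.1 hA'
  have hx : x ∈ X := h1.ge (mem_sup_left (mem_zpowers x))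
  have h3 : a ∈ ncl A X ⊔ 𝐐[X] := mem_sup_left (CP.le_ncl A X ha)
  refine h1.le.trans (sup_le (zpowers_le.2 (mem_of_sq_mem h2.odd ?_)) fun b hb => ?_)
  · have h4 : x * a⁻¹ * x⁻¹ ∈ ncl A X ⊔ 𝐐[X] := mem_sup_left (cj_le_ncl A hx (conj_mem_cj x (inv_mem ha)))
    convert mul_mem (inv_mem (mul_mem h3 h4)) (mem_sup_right (h2.inv a (hA ha) haQ)) using 1
    group
  · by_cases hb' : b ∈ 𝐐[X]
    · exact mem_sup_right hb'
    · exact (mul_mem_cancel_right h3).1 (mem_sup_right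
        (Amal.mul_mem_of_relIndex_two h.idx hb (hA ha) hb' haQ))

/-- two different Sylow 2-subgroups that act differently on `VB X` generate `X` -/
theorem IsB.le_sup (h : IsB B X) {g : G} (hg : g ∈ X) (hne : g ∉ 𝐍[VB X ⊓ 𝐂[B]]) :
    X ≤ B ⊔ cj(g, B) := by
  obtain ⟨x, ⟨k, hk⟩, h1, h2⟩ := h.dh
  obtain ⟨n, b, hb, rfl⟩ := h2.exists_mul (h1.le hg)
  have hx : x ∈ X := h1.ge (mem_sup_left (mem_zpowers x))
  have v2 := h.V_facts.2.1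
  have h3 : ¬ 3 ∣ n := by
    rintro ⟨m, rfl⟩
    refine hne (mul_mem (centralizer_le_normalizer' _ (centralizer_anti inf_le_left ?_))
      (Amb.le_normalizer_inf (h.syl.le.trans v2) (Amb.le_normalizer_centralizer le_normalizer) hb))
    rw [pow_mul]
    exact pow_mem (four_cube (VB_sq X) h.card h2.odd (v2 hx) (h.notMem h1 h2)) m
  obtain ⟨a, ha, haQ⟩ := SetLike.not_le_iff_exists.1 fun e => h.notJ ((thompsonSubgroupOf_le B).trans e)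
  rw [cj_mul, cj_of_mem hb]
  refine h1.le.trans (sup_le (zpowers_le.2 (mem_of_pow_mem_of_coprime (n := n)
    (mem_of_sq_mem (h2.odd.of_dvd_nat (orderOf_pow_dvd n)) ?_) ?_)) le_sup_left)
  · have h4 : a * (x ^ n * a⁻¹ * (x ^ n)⁻¹) ∈ B ⊔ cj(x ^ n, B) :=
      mul_mem (mem_sup_left ha) (mem_sup_right (conj_mem_cj _ (inv_mem ha)))
    convert mul_mem (inv_mem h4) (mem_sup_left (h2.le (h2.inv_pow ha haQ n))) using 1
    group
  · exact Nat.Coprime.of_dvd_left (orderOf_dvd_of_pow_eq_one hk)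
      (Nat.Coprime.pow_left k ((Nat.Prime.coprime_iff_not_dvd Nat.prime_three).2 h3))

/-- T3 -/
theorem t3 {L T N : Subgroup G} (hs : Group.IsSolvable L) (hc : IsCharP 2 L) (hT : IsSyl 2 T L)
    (h1 : L ⊓ 𝐂[ncl ΩZ[2, T] L] ≤ N) (h2 : L ⊓ 𝐍[𝐁[T]] ≤ N)
    (h3 : ∀ X, IsB 𝐁[T] X → X ≤ L → X ≤ N) : L ≤ N := by
  have hV := (isPRed_omegaZ T).ncl hc hT le_rfl hT.le
  generalize ncl ΩZ[2, T] L = V at h1 hV
  have h := mod_of_isPRed hs hV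
  have hVT := hV.le_syl hT
  have hTN : T ≤ N := (le_inf hT.le (le_normalizer.trans (normalizer_le_normalizer_bau T))).trans h2
  let I := {K | ∃ A ∈ maxEA 2 T, ∃ t ∈ A, Tv L V ⊥ K t}
  have hB : ∀ K ∈ I, Blk L V ⊥ K := fun K ⟨_, _, _, _, ht⟩ => ht.blk
  have hI : ∀ g ∈ L, ∀ K ∈ I, cj(g, K) ∈ I := by
    rintro g hg K ⟨A, hA, t, htA, ht⟩
    have hn : L ≤ 𝐍[L ⊓ ⨅ K ∈ {K | Blk L V ⊥ K}, 𝐍[bW V ⊥ K]] :=
      Amb.le_normalizer_inf le_normalizer (le_normalizer_biInf fun g hg K hK =>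
        ⟨(h.blk_cj hK hg).1, by rw [(h.blk_cj hK hg).2.1, normalizer_cj]⟩)
    obtain ⟨d, hd, h4⟩ := (hT.inf_of_le inf_le_left hn).exists_cj_le
      (isPGroup_cj g (isEA_isPGroup hA.2.1)) (le_inf (cj_le_of_mem (hA.1.trans hT.le) hg)
        (le_iInf₂ fun K hK => h.maxEA_norm hV.ea hVT hT.le hA hK hg))
    have hK := (h.blk_cj ht.blk hg).1
    have h5 := (ht.cj g).cj d
    rw [cj_of_mem hg, cj_of_mem hd.1, cj_of_mem_normalizer (hV.norm hg), cj_of_mem_normalizer (hV.norm hd.1),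
      cj_bot, cj_bot, cj_of_mem_normalizer (h.norm_blk hK ⟨hd.1, mem_iInf.1 (mem_iInf.1 hd.2 _) hK⟩)] at h5
    exact ⟨_, mem_maxEA_of_card_le hA (h4.trans inf_le_left) (isEA_map (isEA_map hA.2.1 _) _)
      (by rw [card_cj, card_cj]), _, conj_mem_cj d (conj_mem_cj g htA), h5⟩
  let D := L ⊓ (𝐂[V ⊓ ⨅ K ∈ I, fx V ⊥ K] ⊓ ⨅ K ∈ I, 𝐍[bW V ⊥ K])
  have hn : L ≤ 𝐍[D] := Amb.le_normalizer_inf le_normalizer (Amb.le_normalizer_inf
    (Amb.le_normalizer_centralizer (Amb.le_normalizer_inf hV.norm (le_normalizer_biInf fun g hg K hK =>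
      ⟨hI g hg K hK, (h.blk_cj (hB K hK) hg).2.2⟩))) (le_normalizer_biInf fun g hg K hK =>
        ⟨hI g hg K hK, by rw [(h.blk_cj (hB K hK) hg).2.1, normalizer_cj]⟩))
  have hBD : 𝐁[T] ≤ D := le_inf ((bau_le T).trans hT.le) (le_inf (bau_le_cent
    (isEA_mono hV.ea inf_le_left) (inf_le_left.trans hVT) (le_centralizer_iff.1
      (thompsonSubgroupOf_le_iff.2 fun A hA => h.maxEA_le hV.ea hVT hT.le hA (centralizer_anti inf_le_left)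
        fun t htA K ht => centralizer_anti (inf_le_right.trans (iInf₂_le K ⟨A, hA, t, htA, ht⟩))
          ht.mem_cent))) (le_iInf₂ fun K hK => h.bau_norm hV.ea hT.pgrp hVT hT.le (hB K hK)))
  have hDN : D ≤ N := fun d hd => h.mem_of_blocks h1 hB hd.1 hd.2.1 fun K hK => by
    obtain ⟨A, hA, t, htA, ht⟩ := id hK
    obtain ⟨n, hn, h4⟩ := h.tv_full ht (mem_iInf.1 (mem_iInf.1 hd.2.2 K) hK)
    obtain ⟨X, h5, h6, h7⟩ := h.exists_isB hc hT hV hA htA ht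
    exact ⟨n, sup_le (le_inf ht.blk.le (h7.trans (sup_le (h3 X h5 h6) h1)))
      (zpowers_le.2 ⟨ht.mem, hTN (hA.1 htA)⟩) hn, sup_le (le_cent_fx V K) (zpowers_le.2 ht.mem_cent) hn,
      sup_le (h.blk_le_norm ht.blk) (zpowers_le.2 ((h.tv_facts ht).2.2.2.2 K ht.blk).2) hn, h4⟩
  rw [← (hT.inf_of_le inf_le_left hn).frattini_sup inf_le_left hn]
  refine sup_le hDN ((inf_le_inf_left _ ?_).trans h2)
  rw [← bau_eq_of_le (le_inf (bau_le T) hBD) inf_le_left]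
  exact normalizer_le_normalizer_bau _

end Cfsg.Agent.NG
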