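import Mathlib
import Cfsg.Agent.NG.T3
import Cfsg.Agent.NG.Mod3

set_option autoImplicit false

namespace Cfsg.Agent.NG

open Subgroup Cfsg.Agent.PLocal Cfsg.Agent.PLocal.Amb Cfsg.Agent.PLocal.CP Cfsg.Agent.PLocal.JC
open scoped commutatorElement

variable {G : Type*} [Group G] [Finite G]

variable {S M V : Subgroup G}

local instance factTwo : Fact (Nat.Prime 2) := ⟨Nat.prime_two⟩

theorem relIndex_ne_zero' (A B : Subgroup G) : A.relIndex B ≠ 0 := index_ne_zero_of_finite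

theorem isSolvable_cj {L : Subgroup G} (h : Group.IsSolvable L) (g : G) :
    Group.IsSolvable cj(g, L) :=
  Group.isSolvable_of_surjective ((MulAut.conj g).toMonoidHom.subgroupMap_surjective L)

theorem Two.cj (h : Two S M V) (g : G) : Two cj(g, S) cj(g, M) cj(g, V) := by
  refine ⟨h.hyp, by have := h.syl.cj g; rwa [cj_top] at this, cj_mono g h.le,
    ⟨isTwoLocal_cj h.max.1 g, fun N hN hle => ?_⟩, by rw [omegaZ_cj, ← cj_ncl, ← h.V_eq],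
    by rw [bau_cj, normalizer_cj]; exact cj_mono g h.nB, fun L T h1 h2 h3 h4 => ?_,
    by rw [omegaZ_cj, centralizer_cj, cj_le_cj_iff]; exact h.notC⟩
  · rw [← h.max.2 _ (isTwoLocal_cj hN g⁻¹) (cj_le_iff.1 hle), cj_cj_inv]
  · rw [bau_cj, cj_le_iff] at h4
    have := cj_mono g (h.pu _ _ (isSolvable_cj h1 g⁻¹) (h2.conj g⁻¹) (h3.cj g⁻¹) h4)
    rwa [omegaZ_cj, ← cj_ncl, centralizer_cj, cj_sup, cj_inf, cj_inf, cj_cj_inv, cj_cj_inv] at this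

theorem Two.solv (h : Two S M V) : Group.IsSolvable M := h.hyp.solv_twoLocal h.max.1

theorem Two.char (h : Two S M V) : IsCharP 2 M := h.hyp.char_twoLocal h.max.1

theorem Two.sylM (h : Two S M V) : IsSyl 2 S M := h.syl.mono h.le le_top

theorem Two.red (h : Two S M V) : IsPRed 2 V M :=
  h.V_eq ▸ (isPRed_omegaZ S).ncl h.char h.sylM le_rfl h.le

theorem Two.mod (h : Two S M V) : Mod M V ⊥ := mod_of_isPRed h.solv h.red

theorem Two.ea (h : Two S M V) : IsElementaryAbelian 2 V := h.red.ea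

theorem Two.cj_mem (h : Two S M V) {m : G} (hm : m ∈ M) : Two cj(m, S) M V := by
  have := h.cj m
  rwa [cj_of_mem hm, cj_of_mem_normalizer (h.red.norm hm)] at this

/-- `M` is the normalizer of each of its nontrivial normal 2-subgroups -/
theorem Two.normalizer_eq (h : Two S M V) {N : Subgroup G} (hN : IsPGroup 2 N) (h1 : N ≠ ⊥)
    (h2 : M ≤ 𝐍[N]) : 𝐍[N] = M := normalizer_eq_of_max h.max hN h1 h2

theorem Two.Z_ne (h : Two S M V) : ΩZ[2, S] ≠ ⊥ := by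
  refine omegaZ_ne_bot h.syl.pgrp fun e => ?_
  obtain ⟨E, h1, -, h2⟩ := h.hyp.exists_eight h.syl
  rw [e, le_bot_iff] at h1
  rw [h1, card_bot] at h2
  omega

theorem Two.Z_le (h : Two S M V) : ΩZ[2, S] ≤ V := h.V_eq ▸ le_ncl _ _

theorem Two.V_ne (h : Two S M V) : V ≠ ⊥ := fun e => h.Z_ne (le_bot_iff.1 (e ▸ h.Z_le))

theorem Two.V_le (h : Two S M V) : V ≤ S := h.red.le_syl h.sylM

theorem Two.V_two (h : Two S M V) : IsPGroup 2 V := h.red.isPGroup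

theorem Two.V_comm (h : Two S M V) : V ≤ 𝐂[V] := isEA_le_centralizer h.ea

theorem Two.norm_V (h : Two S M V) : 𝐍[V] = M := h.normalizer_eq h.V_two h.V_ne h.red.norm

theorem Two.C_le (h : Two S M V) : 𝐂[V] ≤ M := (centralizer_le_normalizer' V).trans h.norm_V.le

theorem Two.inf_C (h : Two S M V) : V ⊓ 𝐂[S] = ΩZ[2, S] :=
  inf_centralizer_eq_omegaZ h.ea h.V_le h.Z_le

theorem Two.not_le_Z (h : Two S M V) : ¬ V ≤ ΩZ[2, S] := fun e =>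
  h.notC ((centralizer_anti e).trans h.C_le)

theorem Two.sylR (h : Two S M V) : IsSyl 2 (S ⊓ 𝐂[V]) 𝐂[V] := by
  have := isSyl_inf_centralizer h.sylM h.red.norm
  rwa [inf_eq_right.2 h.C_le] at this

theorem Two.basic (h : Two S M V) : V ≠ ⊥ ∧ ΩZ[2, S] ≤ V ∧ V ≤ S ∧ 𝐍[V] = M ∧ 𝐂[V] ≤ M ∧
    V ⊓ 𝐂[S] = ΩZ[2, S] ∧ ¬ V ≤ ΩZ[2, S] ∧ ¬ S ≤ 𝐂[V] ∧ IsSyl 2 (S ⊓ 𝐂[V]) 𝐂[V] ∧
    M ≤ 𝐂[V] ⊔ (M ⊓ 𝐍[S ⊓ 𝐂[V]]) :=
  ⟨h.V_ne, h.Z_le, h.V_le, h.norm_V, h.C_le, h.inf_C, h.not_le_Z,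
    fun e => h.not_le_Z (h.inf_C ▸ le_inf le_rfl (le_centralizer_iff.1 e)), h.sylR, by
      rw [sup_comm, inf_normalizer_sup_centralizer h.sylM h.red.norm]; exact le_sup_left⟩

theorem Two.V_le_R (h : Two S M V) : V ≤ S ⊓ 𝐂[V] := le_inf h.V_le h.V_comm

theorem Two.le_M_of_bau (h : Two S M V) {T : Subgroup G} (hT : IsPGroup 2 T) (hB : 𝐁[S] ≤ T) :
    T ≤ M := by
  refine (le_normalizer.trans (normalizer_le_normalizer_bau T)).trans ?_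
  rw [bau_eq_of_syl h.syl hT hB]
  exact h.nB

/-- the pushing up property in the form in which it is used -/
theorem Two.push (h : Two S M V) {L T X : Subgroup G} (hs : Group.IsSolvable L) (hc : IsCharP 2 L)
    (hT : IsSyl 2 T L) (hB : 𝐁[S] ≤ T) (hX : X ≤ ncl ΩZ[2, T] L) (hXM : 𝐂[X] ≤ M) : L ≤ M :=
  (h.pu L T hs hc hT hB).trans
    (sup_le (inf_le_right.trans ((centralizer_anti hX).trans hXM)) inf_le_right)

/-- (UQ) -/
theorem Two.uq (h : Two S M V) {P N : Subgroup G} (h1 : S ≤ P) (h2 : P ≤ M)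
    (h3 : V ≤ ncl ΩZ[2, S] P) (hN : IsPGroup 2 N) (hN1 : N ≠ ⊥) (hP : P ≤ 𝐍[N]) : 𝐍[N] ≤ M :=
  have _ := h2
  h.push (h.hyp.solv N hN hN1) (h.hyp.char N hN hN1) (h.syl.mono (h1.trans hP) le_top) (bau_le S)
    (h3.trans (ncl_mono le_rfl hP)) h.C_le

theorem Two.uqR (h : Two S M V) {N : Subgroup G} (hN : IsPGroup 2 N) (hN1 : N ≠ ⊥)
    (hP : M ⊓ 𝐍[S ⊓ 𝐂[V]] ≤ 𝐍[N]) : 𝐍[N] ≤ M := by
  refine h.uq (le_inf_normalizer_inf_centralizer h.le (h.le.trans h.red.norm)) inf_le_left ?_ hN hN1 hP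
  refine h.V_eq.le.trans (ncl_le_iff.2 fun g hg => ?_)
  have h1 := h.basic.2.2.2.2.2.2.2.2.2 hg
  rw [sup_comm] at h1
  obtain ⟨n, hn, c, hc, rfl⟩ :=
    (mem_sup_of_le_normalizer_right (inf_le_left.trans h.red.norm_centralizer)).1 h1
  rw [cj_mul, cj_of_mem_normalizer (centralizer_le_normalizer' _ (centralizer_anti h.Z_le hc))]
  exact cj_le_ncl _ hn

/-- an elementary abelian subgroup centralized by `J(T)` is centralized by the Baumann subgroup -/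
theorem bau_le_centralizer {T X : Subgroup G} (hX : IsElementaryAbelian 2 X) (hXT : X ≤ T)
    (hc : X ≤ 𝐂[𝐉[T]]) : 𝐁[T] ≤ 𝐂[X] := by
  obtain ⟨A, hA⟩ := maxEA_nonempty 2 T
  have h1 : X ≤ A := le_of_mem_maxEA_of_centralizes hA hXT (isEA_iff.1 hX).2
    (hc.trans (centralizer_anti (le_thompsonSubgroupOf hA)))
  exact inf_le_right.trans (centralizer_anti
    (le_omegaZ hX (h1.trans (le_thompsonSubgroupOf hA)) hc))

/-- members of `𝒜(T)` are generated by transvections modulo `C(V)` -/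
theorem Two.le_of_tv (h : Two S M V) {T A X : Subgroup G} (hVT : V ≤ T) (hTM : T ≤ M)
    (hA : A ∈ maxEA 2 T) (hC : 𝐂[V] ≤ X) (ht : ∀ K, ∀ t ∈ A, Tv M V ⊥ K t → t ∈ X) : A ≤ X := by
  obtain ⟨h1, h2⟩ := offender_of_maxEA h.ea hVT hA
  obtain ⟨I, t, h3, h4, -⟩ := h.mod.offender (hA.1.trans hTM) h1 h2
  rw [secCent_bot] at h4
  exact h4.trans (sup_le hC (iSup₂_le fun K hK =>
    zpowers_le_of_mem (ht K _ (h3 K hK).1 (h3 K hK).2)))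

theorem Two.nf_bau (h : Two S M V) (hn : NF M V) : 𝐁[S] ≤ 𝐂[V] :=
  bau_le_centralizer h.ea h.V_le (le_centralizer_iff.1 (thompsonSubgroupOf_le_iff.2 fun _ hA =>
    h.le_of_tv h.V_le h.le hA le_rfl fun K _ _ ht => absurd ht.blk (hn K)))

theorem Blk.card_W {K : Subgroup G} (hK : Blk M V ⊥ K) : Nat.card (bW V ⊥ K) = 4 := by
  rw [← relIndex_bot_left]; exact hK.card

theorem Blk.W_ne {K : Subgroup G} (hK : Blk M V ⊥ K) : bW V ⊥ K ≠ ⊥ :=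
  ne_bot_of_card hK.card_W (by decide)

theorem Two.W_le (h : Two S M V) {K : Subgroup G} (hK : Blk M V ⊥ K) : bW V ⊥ K ≤ V :=
  h.mod.bW_le hK.le

/-- `B` normalizes each block and fixes a full vector -/
theorem Two.bau_blk (h : Two S M V) {K : Subgroup G} (hK : Blk M V ⊥ K) :
    𝐁[S] ≤ 𝐍[K] ∧ bW V ⊥ K ⊓ 𝐂[𝐁[S]] ≠ ⊥ := by
  have hJ : 𝐉[S] ≤ 𝐍[bW V ⊥ K] := thompsonSubgroupOf_le_iff.2 fun _ hA =>
    h.le_of_tv h.V_le h.le hA ((centralizer_anti (h.W_le hK)).trans (centralizer_le_normalizer' _))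
      fun K' _ _ ht => ((h.mod.tv_facts ht).2.2.2.2 K hK).2
  have h1 := inf_centralizer_ne_bot (J_two h.syl.pgrp) (h.V_two.to_le (h.W_le hK)) hJ hK.W_ne
  have h2 : bW V ⊥ K ⊓ 𝐂[𝐉[S]] ≤ 𝐂[𝐁[S]] := le_centralizer_iff.1 (bau_le_centralizer
    (isEA_mono h.ea (inf_le_left.trans (h.W_le hK))) (inf_le_left.trans ((h.W_le hK).trans h.V_le))
    inf_le_right)
  obtain ⟨w, hw, hw1⟩ := exists_ne_one h1
  refine ⟨fun b hb => (h.mod.mem_normalizer_blk hK (h.le (bau_le S hb)) hw.1 hw1 ?_).1,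
    fun e => h1 (le_bot_iff.1 ((le_inf inf_le_left h2).trans e.le))⟩
  rw [mem_centralizer_iff.1 (h2 hw) b hb, mul_inv_cancel_right]
  exact hw.1

theorem Two.mem_normalizer_bWs (h : Two S M V) {I : Set (Subgroup G)}
    (hI : ∀ K ∈ I, Blk M V ⊥ K) {g : G} (hg : g ∈ M) (hgI : ∀ K ∈ I, cj(g, K) ∈ I) :
    g ∈ 𝐍[bWs V ⊥ I] := by
  refine mem_normalizer_of_cj_le ?_
  rw [cj_le_iff]
  refine sup_le bot_le (iSup₂_le fun K hK => ?_)
  rw [← cj_le_iff, ← (h.mod.blk_cj (hI K hK) hg).2.1]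
  exact le_sup_of_le_right (le_iSup₂ (f := fun K (_ : K ∈ I) => bW V ⊥ K) _ (hgI K hK))

theorem W_le_bWs {I : Set (Subgroup G)} {K : Subgroup G} (hK : K ∈ I) : bW V ⊥ K ≤ bWs V ⊥ I :=
  le_sup_of_le_right (le_iSup₂ (f := fun K (_ : K ∈ I) => bW V ⊥ K) _ hK)

theorem Two.bWs_le (h : Two S M V) {I : Set (Subgroup G)} (hI : ∀ K ∈ I, Blk M V ⊥ K) :
    bWs V ⊥ I ≤ V := sup_le bot_le (iSup₂_le fun K hK => h.W_le (hI K hK))

theorem bWs_ne {I : Set (Subgroup G)} (hI : ∀ K ∈ I, Blk M V ⊥ K) (hne : I.Nonempty) :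
    bWs V ⊥ I ≠ ⊥ := fun e => by
  obtain ⟨K, hK⟩ := hne
  exact (hI K hK).W_ne (le_bot_iff.1 ((W_le_bWs hK).trans e.le))

/-- an `S`-invariant nontrivial subgroup of `V` meets `Z` -/
theorem Two.exists_Z (h : Two S M V) {X : Subgroup G} (hX : X ≤ V) (h1 : X ≠ ⊥) (hn : S ≤ 𝐍[X]) :
    ∃ z ∈ X, z ≠ 1 ∧ z ∈ ΩZ[2, S] := by
  obtain ⟨z, hz, hz1⟩ := exists_ne_one (inf_centralizer_ne_bot h.syl.pgrp (h.V_two.to_le hX) hn h1)
  exact ⟨z, hz.1, hz1, h.inf_C ▸ ⟨hX hz.1, hz.2⟩⟩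

theorem Two.mem_fx_cj (h : Two S M V) {K : Subgroup G} (hK : Blk M V ⊥ K) {z s : G}
    (hz : z ∈ ΩZ[2, S]) (hs : s ∈ S) (h1 : z ∈ fx V ⊥ K) : z ∈ fx V ⊥ cj(s, K) := by
  rw [(h.mod.blk_cj hK (h.le hs)).2.2]
  have := conj_mem_cj s h1
  rwa [mem_centralizer_iff.1 (omegaZ_le_centralizer S hz) s hs, mul_inv_cancel_right] at this

theorem Two.Z_not_le (h : Two S M V) {K : Subgroup G} (hK : Blk M V ⊥ K) :
    ¬ ΩZ[2, S] ≤ fx V ⊥ K := by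
  intro hle
  have hI : ∀ K' ∈ {K' | ∃ s ∈ S, cj(s, K) = K'}, Blk M V ⊥ K' := by
    rintro _ ⟨s, hs, rfl⟩
    exact (h.mod.blk_cj hK (h.le hs)).1
  obtain ⟨z, hz, hz1, hzZ⟩ := h.exists_Z (h.bWs_le hI) (bWs_ne hI ⟨K, 1, one_mem _, cj_one K⟩)
    fun s hs => h.mem_normalizer_bWs hI (h.le hs) (by
      rintro _ ⟨s', hs', rfl⟩
      exact ⟨s * s', mul_mem hs hs', cj_mul _ _ _⟩)
  obtain ⟨h1, h2⟩ := (h.mod.mem_bWs hI).1 hz
  refine hz1 (mem_bot.1 (h.mod.bWs_all.2.2.1 ▸ ⟨h1, h.mod.mem_fx_bN.2 ⟨h.Z_le hzZ, fun K' hK' => ?_⟩⟩))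
  by_cases h3 : K' ∈ {K' | ∃ s ∈ S, cj(s, K) = K'}
  · obtain ⟨s, hs, rfl⟩ := h3
    exact h.mem_fx_cj hK hzZ hs (hle hzZ)
  · exact h2 K' hK' h3

theorem Two.W_le_ncl (h : Two S M V) {K : Subgroup G} (hK : Blk M V ⊥ K) :
    bW V ⊥ K ≤ ncl ΩZ[2, S] K :=
  (h.mod.blk_inv hK bot_le (ncl_le h.Z_le (hK.le.trans h.red.norm))
    (le_normalizer_ncl _ _)).resolve_left fun e => h.Z_not_le hK ((le_ncl _ _).trans e)

/-- pushing up with blocks -/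
theorem Two.push_blk (h : Two S M V) {L : Subgroup G} (hs : Group.IsSolvable L) (hc : IsCharP 2 L)
    (hB : 𝐁[S] ≤ L) (hV : V ≤ L) {I : Set (Subgroup G)} (hI : ∀ K ∈ I, Blk M V ⊥ K)
    (hIL : ∀ K ∈ I, K ≤ L) (hC : 𝐂[bWs V ⊥ I] ≤ M) : L ≤ M := by
  obtain ⟨T, hT, hle⟩ := exists_isSyl_ge (h.syl.pgrp.to_le (sup_le (bau_le S) h.V_le)) (sup_le hB hV)
  have hBT : 𝐁[S] ≤ T := le_sup_left.trans hle
  obtain ⟨m, hm, hTm⟩ := h.sylM.exists_le_cj hT.pgrp (h.le_M_of_bau hT.pgrp hBT)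
  have h' := h.cj_mem hm
  have h1 : ΩZ[2, cj(m, S)] ≤ ΩZ[2, T] :=
    omegaZ_le_omegaZ hTm (h'.Z_le.trans (le_sup_right.trans hle))
  exact h.push hs hc hT hBT (sup_le bot_le (iSup₂_le fun K hK =>
    (h'.W_le_ncl (hI K hK)).trans (ncl_mono h1 (hIL K hK)))) hC

theorem Two.sq_eq_one (h : Two S M V) {v : G} (hv : v ∈ V) : v * v = 1 := sq_eq_one_of_isEA h.ea v hv

theorem le_C₁_of_mem_fx {K : Subgroup G} {v : G} (hv : v ∈ fx V ⊥ K) : K ≤ 𝐂₁[v] := by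
  rw [fx_bot] at hv
  exact fun k hk => mem_centralizer_singleton_iff.2 (mem_centralizer_iff.1 hv.2 k hk)

theorem le_C₁ {X : Subgroup G} {v : G} (hv : v ∈ X) : 𝐂[X] ≤ 𝐂₁[v] :=
  centralizer_le (Set.singleton_subset_iff.2 hv)

/-- pushing up in the centralizer of a vector fixed by `B` -/
theorem Two.push_vec (h : Two S M V) {v : G} (hv : v ∈ V) (h1 : v ≠ 1) (hB : v ∈ 𝐂[𝐁[S]])
    {I : Set (Subgroup G)} (hI : ∀ K ∈ I, Blk M V ⊥ K) (hvI : ∀ K ∈ I, v ∈ fx V ⊥ K)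
    (hC : 𝐂[bWs V ⊥ I] ≤ M) : 𝐂₁[v] ≤ M :=
  h.push_blk (h.hyp.solvC₁ (h.sq_eq_one hv) h1 le_rfl) (h.hyp.charC₁ (h.sq_eq_one hv) h1)
    (fun b hb => mem_centralizer_singleton_iff.2 (mem_centralizer_iff.1 hB b hb))
    (h.V_comm.trans (le_C₁ hv)) hI (fun K hK => le_C₁_of_mem_fx (hvI K hK)) hC

theorem Two.not_mem_fx (h : Two S M V) {z : G} (hz : z ∈ ΩZ[2, S]) (h1 : z ≠ 1)
    {I : Set (Subgroup G)} (hI : ∀ K ∈ I, Blk M V ⊥ K) (hC : 𝐂[bWs V ⊥ I] ≤ M) :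
    ¬ ∀ K ∈ I, z ∈ fx V ⊥ K := fun hzI =>
  h.notC ((le_C₁ hz).trans (h.push_vec (h.Z_le hz) h1
    (centralizer_anti (bau_le S) (omegaZ_le_centralizer S hz)) hI hzI hC))

theorem Two.fx_bN (h : Two S M V) {K : Subgroup G} (hK : Blk M V ⊥ K) :
    fx V ⊥ (bN M V ⊥) = ⊥ := by
  by_contra hne
  have hI : ∀ K ∈ {K | Blk M V ⊥ K}, Blk M V ⊥ K := fun _ hK => hK
  obtain ⟨z, hz, hz1, hzZ⟩ := h.exists_Z (X := fx V ⊥ (bN M V ⊥)) inf_le_left hne (by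
    rw [fx_bot]
    exact h.le.trans (Amb.le_normalizer_inf h.red.norm
      (Amb.le_normalizer_centralizer h.mod.bN_norm.2)))
  refine h.not_mem_fx hzZ hz1 hI ((centralizer_le_normalizer' _).trans (h.normalizer_eq
    (h.V_two.to_le (h.bWs_le hI)) (bWs_ne hI ⟨K, hK⟩) fun m hm => ?_).le) (h.mod.mem_fx_bN.1 hz).2
  exact h.mem_normalizer_bWs hI hm fun K' hK' => (h.mod.blk_cj hK' hm).1

theorem Two.bW_bN (h : Two S M V) {K : Subgroup G} (hK : Blk M V ⊥ K) :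
    bW V ⊥ (bN M V ⊥) = V := by
  have := h.mod.bWs_all.2.1
  rwa [h.fx_bN hK, sup_bot_eq] at this

theorem Two.eq_one_of_fx (h : Two S M V) {K : Subgroup G} (hK : Blk M V ⊥ K) {v : G} (hv : v ∈ V)
    (h1 : ∀ K, Blk M V ⊥ K → v ∈ fx V ⊥ K) : v = 1 :=
  mem_bot.1 (h.fx_bN hK ▸ h.mod.mem_fx_bN.2 ⟨hv, h1⟩)

theorem Two.normalizer_bWs (h : Two S M V) {I : Set (Subgroup G)} (hI : ∀ K ∈ I, Blk M V ⊥ K)
    (hne : I.Nonempty) : 𝐍[bWs V ⊥ I] ≤ M := by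
  have h2 := h.V_two.to_le (h.bWs_le hI)
  have h3 := bWs_ne hI hne
  obtain ⟨K, hK⟩ := hne
  have key : ∀ X : Subgroup G, X ≤ M → (∀ K ∈ I, X ≤ 𝐍[K]) → X ≤ 𝐍[bWs V ⊥ I] :=
    fun X hX hn g hg => h.mem_normalizer_bWs hI (hX hg) fun K hK => by
      rwa [cj_of_mem_normalizer (hn K hK hg)]
  refine h.push_blk (h.hyp.solv _ h2 h3) (h.hyp.char _ h2 h3)
    (key _ ((bau_le S).trans h.le) fun K hK => (h.bau_blk (hI K hK)).1)
    (h.V_comm.trans ((centralizer_anti (h.bWs_le hI)).trans (centralizer_le_normalizer' _)))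
    (I := {K | Blk M V ⊥ K}) (fun _ hK => hK) (fun K' hK' => key _ hK'.le fun K hK =>
      (h.mod.bN_norm_blk hK').1.trans (h.mod.bN_norm_blk (hI K hK)).2.1) ?_
  rw [h.mod.bWs_all.1, h.bW_bN (hI K hK)]
  exact h.C_le

theorem Two.centralizer_bWs (h : Two S M V) {I : Set (Subgroup G)} (hI : ∀ K ∈ I, Blk M V ⊥ K)
    (hne : I.Nonempty) : 𝐂[bWs V ⊥ I] ≤ M :=
  (centralizer_le_normalizer' _).trans (h.normalizer_bWs hI hne)

/-- `V` is the product of its blocks, permuted transitively by `S` -/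
theorem Two.blocks (h : Two S M V) {K : Subgroup G} (hK : Blk M V ⊥ K) :
    bW V ⊥ (bN M V ⊥) = V ∧ ∀ K', Blk M V ⊥ K' → ∃ s ∈ S, cj(s, K) = K' := by
  refine ⟨h.bW_bN hK, fun K' hK' => ?_⟩
  by_contra hne
  have hI : ∀ K' ∈ {K' | ∃ s ∈ S, cj(s, K) = K'}, Blk M V ⊥ K' := by
    rintro _ ⟨s, hs, rfl⟩
    exact (h.mod.blk_cj hK (h.le hs)).1
  have hJ : ∀ K' ∈ {K' | Blk M V ⊥ K' ∧ ¬ ∃ s ∈ S, cj(s, K) = K'}, Blk M V ⊥ K' := fun _ h => h.1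
  obtain ⟨z, hz, hz1, hzZ⟩ := h.exists_Z (h.bWs_le hJ) (bWs_ne hJ ⟨K', hK', hne⟩)
    fun s hs => h.mem_normalizer_bWs hJ (h.le hs) (by
      rintro K'' ⟨h1, h2⟩
      refine ⟨(h.mod.blk_cj h1 (h.le hs)).1, fun ⟨s', hs', e⟩ =>
        h2 ⟨s⁻¹ * s', mul_mem (inv_mem hs) hs', ?_⟩⟩
      rw [cj_mul, e, cj_inv_cj])
  exact h.not_mem_fx hzZ hz1 hI (h.centralizer_bWs hI ⟨K, 1, one_mem _, cj_one K⟩) fun K'' hK'' =>
    ((h.mod.mem_bWs hJ).1 hz).2 K'' (hI K'' hK'') fun e => e.2 hK''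

theorem Two.card_V (h : Two S M V) {K : Subgroup G} (hK : Blk M V ⊥ K) :
    Nat.card V = 4 ^ {K | Blk M V ⊥ K}.ncard := by
  rw [← h.mod.card_bWs (I := {K | Blk M V ⊥ K}) (fun _ hK => hK), h.mod.bWs_all.1, h.bW_bN hK, relIndex_bot_left]

theorem Two.cases (h : Two S M V) : NF M V ∨ F2 M V ∨ Nat.card V = 4 := by
  by_cases hn : NF M V
  · exact Or.inl hn
  obtain ⟨K, hK⟩ : ∃ K, Blk M V ⊥ K := by
    by_contra hc
    exact hn fun K hK => hc ⟨K, hK⟩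
  by_cases h2 : F2 M V
  · exact Or.inr (Or.inl h2)
  have e : {K | Blk M V ⊥ K} = {K} := Set.eq_singleton_iff_unique_mem.2 ⟨hK, fun K' hK' => by
    by_contra hne
    exact h2 ⟨K', K, hK', hK, hne⟩⟩
  exact Or.inr (Or.inr (by rw [h.card_V hK, e, Set.ncard_singleton, pow_one]))

theorem Two.card_F2 (h : Two S M V) (h2 : F2 M V) :
    Nat.card V = 4 ^ {K | Blk M V ⊥ K}.ncard ∧ 2 ≤ {K | Blk M V ⊥ K}.ncard := by
  obtain ⟨K, K', hK, hK', hne⟩ := h2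
  exact ⟨h.card_V hK, (Set.one_lt_ncard (Set.toFinite _)).2 ⟨K, hK, K', hK', hne⟩⟩

/-- in case `NF` an element of `M` centralizing a hyperplane centralizes `V` -/
theorem Two.mem_C_of_nf (h : Two S M V) (hn : NF M V) {D : Subgroup G} (hD : D ≤ V)
    (h2 : D.relIndex V ≤ 2) {t : G} (ht : t ∈ M) (htD : t ∈ 𝐂[D]) : t ∈ 𝐂[V] := by
  have h3 : D ≤ fx V ⊥ (zpowers t) := by
    rw [fx_bot]
    exact le_inf hD (le_centralizer_iff.1 (zpowers_le_of_mem htD))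
  have h4 := Nat.le_of_dvd (Nat.pos_of_ne_zero (relIndex_ne_zero' D V)) (relIndex_dvd_of_le_left V h3)
  have h5 : (fx V ⊥ (zpowers t)).relIndex V ≠ 0 := relIndex_ne_zero' _ _
  have h6 : (fx V ⊥ (zpowers t)).relIndex V ≠ 2 := fun e => by
    obtain ⟨K, hK⟩ := h.mod.exists_tv ht e
    exact hn K hK.blk
  have h7 := relIndex_eq_one.1 (show (fx V ⊥ (zpowers t)).relIndex V = 1 by omega)
  rw [fx_bot] at h7
  exact le_centralizer_iff.1 (h7.trans inf_le_right) (mem_zpowers t)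

theorem Two.card_Z (h : Two S M V) (h4 : Nat.card V = 4) : Nat.card ΩZ[2, S] = 2 :=
  ((four_cases h4 h.Z_le).resolve_left h.Z_ne).resolve_right fun e => h.not_le_Z e.ge

theorem Two.not_four (h : Two S M V) (h' : NF M V ∨ F2 M V) : Nat.card V ≠ 4 := by
  intro h4
  rcases h' with hn | h2
  · have h5 := card_mul_relIndex_of_le h.Z_le
    rw [h.card_Z h4, h4] at h5
    exact h.basic.2.2.2.2.2.2.2.1 fun t ht =>
      h.mem_C_of_nf hn h.Z_le (by omega) (h.le ht) (le_centralizer_omegaZ S ht)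
  · obtain ⟨h5, h6⟩ := h.card_F2 h2
    have := Nat.pow_le_pow_right (show 0 < 4 by decide) h6
    omega

theorem Two.four (h : Two S M V) (h4 : Nat.card V = 4) : ∃ z, One S M V z := by
  obtain ⟨z, h1, h2, h3⟩ := exists_zpowers_of_card_two (h.card_Z h4)
  exact ⟨z, h, h4, h3, h1, h2⟩

theorem Two.full_of_mem (h : Two S M V) {z : G} (hz : z ∈ ΩZ[2, S]) (h1 : z ≠ 1) :
    Full M V ⊥ z := fun K hK hzK => h1 (h.eq_one_of_fx hK (h.Z_le hz) fun K' hK' => by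
  obtain ⟨s, hs, rfl⟩ := (h.blocks hK).2 K' hK'
  exact h.mem_fx_cj hK hz hs hzK)

/-- (b) -/
theorem Two.centralizer_le (h : Two S M V) {v : G} (hv : v ∈ V) (h1 : v ≠ 1)
    (hf : ¬ Full M V ⊥ v) : 𝐂₁[v] ≤ M := by
  classical
  obtain ⟨K₀, hK₀, hvK₀⟩ : ∃ K, Blk M V ⊥ K ∧ v ∈ fx V ⊥ K := by
    by_contra hc
    exact hf fun K hK hvK => hc ⟨K, hK, hvK⟩
  have hex : ∀ K : Subgroup G, ∃ w : G, Blk M V ⊥ K →
      w ∈ bW V ⊥ K ∧ w ∈ 𝐂[𝐁[S]] ∧ (w = 1 ↔ v ∈ fx V ⊥ K) := by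
    intro K
    by_cases hK : Blk M V ⊥ K
    · by_cases hvK : v ∈ fx V ⊥ K
      · exact ⟨1, fun _ => ⟨one_mem _, one_mem _, iff_of_true rfl hvK⟩⟩
      · obtain ⟨w, hw, hw1⟩ := exists_ne_one (h.bau_blk hK).2
        exact ⟨w, fun _ => ⟨hw.1, hw.2, iff_of_false hw1 hvK⟩⟩
    · exact ⟨1, fun e => absurd e hK⟩
  choose w hw using hex
  obtain ⟨u, hu, huc⟩ := h.mod.exists_of_comp w fun K hK => (hw K hK).1
  rw [h.bW_bN hK₀] at hu
  have hiff : ∀ K, Blk M V ⊥ K → (v ∈ fx V ⊥ K ↔ u ∈ fx V ⊥ K) := fun K hK =>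
    (hw K hK).2.2.symm.trans (mem_bot.symm.trans (h.mod.comp_mem_iff hK hu (huc K hK)))
  obtain ⟨n, hn, e⟩ := h.mod.bN_trans hv hu
    (by rw [h.bW_bN hK₀]; exact V.mul_mem hv (V.inv_mem hu)) hiff
  rw [mem_bot, mul_inv_eq_one] at e
  have hnM : n ∈ M := h.mod.bN_norm.1 hn
  have hu1 : u ≠ 1 := fun e1 => h1 (by rwa [e1, conj_eq_one_iff] at e)
  have huB : u ∈ 𝐂[𝐁[S]] := by
    rw [mem_centralizer_iff]
    intro b hb
    have hbM : b ∈ M := h.le (bau_le S hb)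
    rw [← mul_inv_eq_iff_eq_mul, ← mul_inv_eq_one]
    refine h.eq_one_of_fx hK₀ (V.mul_mem (Amb.conj_mem_of_mem_normalizer (h.red.norm hbM) hu)
      (V.inv_mem hu)) fun K hK => ?_
    have h2 := (h.mod.comp_cj hK hbM (huc K hK)).2
    rw [cj_of_mem_normalizer ((h.bau_blk hK).1 hb), mem_centralizer_iff.1 (hw K hK).2.1 b hb,
      mul_inv_cancel_right] at h2
    have := mul_mem h2 (inv_mem (huc K hK).2)
    rwa [mul_inv_rev, inv_inv, mul_assoc, inv_mul_cancel_left] at this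
  have hI : ∀ K ∈ {K | Blk M V ⊥ K ∧ u ∈ fx V ⊥ K}, Blk M V ⊥ K := fun _ h => h.1
  have h3 := h.push_vec hu hu1 huB hI (fun _ h => h.2)
    (h.centralizer_bWs hI ⟨K₀, hK₀, (hiff K₀ hK₀).1 hvK₀⟩)
  rw [← e, centralizer_singleton_conj, cj_le_iff, cj_of_mem (M.inv_mem hnM)] at h3
  exact h3

theorem cj_le_C₁ {z g : G} (hz : z ∈ ΩZ[2, S]) : cj(g, S) ≤ 𝐂₁[g * z * g⁻¹] := by
  rw [centralizer_singleton_conj]
  exact cj_mono g ((le_centralizer_omegaZ S).trans (le_C₁ hz))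

/-- (c) -/
theorem Two.full_of_conj (h : Two S M V) {v z : G} (hv : v ∈ V) (hz : z ∈ ΩZ[2, S]) (h1 : z ≠ 1)
    (hc : IsConj z v) : Full M V ⊥ v := by
  by_contra hf
  obtain ⟨g, rfl⟩ := isConj_iff.1 hc
  have h2 : g * z * g⁻¹ ≠ 1 := by rwa [Ne, conj_eq_one_iff]
  have h3 := (cj_le_C₁ hz).trans (h.centralizer_le hv h2 hf)
  have h4 : IsSyl 2 cj(g, S) ⊤ := (h.cj g).syl
  obtain ⟨m, hm, e⟩ := (h4.mono h3 le_top).exists_cj_eq h.sylM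
  refine hf ((h.cj_mem hm).full_of_mem ?_ h2)
  rw [e, omegaZ_cj]
  exact conj_mem_cj g hz

theorem Two.C_le_bN (h : Two S M V) : 𝐂[V] ≤ bN M V ⊥ :=
  le_sup_of_le_left (le_inf h.C_le (secCent_bot V).ge)

theorem Two.conj_of_full (h : Two S M V) {K : Subgroup G} (hK : Blk M V ⊥ K) {v w : G}
    (hv : v ∈ V) (hw : w ∈ V) (h1 : Full M V ⊥ v) (h2 : Full M V ⊥ w) :
    ∃ n ∈ bN M V ⊥, n ∈ 𝐍[S ⊓ 𝐂[V]] ∧ n * v * n⁻¹ = w := by
  obtain ⟨n, hn, e⟩ := h.mod.bN_trans hv hw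
    (by rw [h.bW_bN hK]; exact V.mul_mem hv (V.inv_mem hw))
    fun K hK => iff_of_false (h1 K hK) (h2 K hK)
  rw [mem_bot, mul_inv_eq_one] at e
  obtain ⟨x, hx, c, hc, rfl⟩ := h.sylR.frattini' (h.red.norm_centralizer (h.mod.bN_norm.1 hn))
  refine ⟨x, ((bN M V ⊥).mul_mem_cancel_right (h.C_le_bN hc)).1 hn, hx, ?_⟩
  rw [← e, mul_assoc x c, ← mem_centralizer_iff.1 hc v hv]
  group

theorem Two.relIndex_fx (h : Two S M V) {K : Subgroup G} (hK : Blk M V ⊥ K) :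
    (fx V ⊥ K).relIndex V = 4 := by
  obtain ⟨h1, h2⟩ := h.mod.blk_compl hK
  have h3 : bW V ⊥ K ≤ 𝐍[fx V ⊥ K] := (h.W_le hK).trans (h.V_comm.trans
    ((centralizer_anti inf_le_left).trans (centralizer_le_normalizer' _)))
  have h4 := relIndex_sup_of_le_normalizer h3
  rw [h1] at h4
  rw [h4, ← inf_relIndex_right, inf_comm, h2, relIndex_bot_left, hK.card_W]

/-- (d) -/
theorem Two.card_le_four (h : Two S M V) {K D : Subgroup G} (hK : Blk M V ⊥ K) (hD : D ≤ V)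
    (hc : ¬ 𝐂[D] ≤ M) : (∀ d ∈ D, d ≠ 1 → Full M V ⊥ d) ∧ D ⊓ fx V ⊥ K = ⊥ ∧ Nat.card D ≤ 4 := by
  have h1 : ∀ d ∈ D, d ≠ 1 → Full M V ⊥ d := fun d hd hd1 => by
    by_contra hf
    exact hc ((le_C₁ hd).trans (h.centralizer_le (hD hd) hd1 hf))
  have h2 : D ⊓ fx V ⊥ K = ⊥ := by
    by_contra hne
    obtain ⟨d, hd, hd1⟩ := exists_ne_one hne
    exact h1 d hd.1 hd1 K hK hd.2
  refine ⟨h1, h2, ?_⟩
  rw [← relIndex_bot_left, ← h2, inf_comm, inf_relIndex_right, ← h.relIndex_fx hK]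
  exact relIndex_le_of_le_right hD (relIndex_ne_zero' _ _)

/-- in case `F2` each hyperplane contains a vector whose centralizer lies in `M` -/
theorem Two.exists_of_F2 (h : Two S M V) (h2 : F2 M V) {D E : Subgroup G} (hE : V ≤ E)
    (hD : D.relIndex E ≤ 2) : ∃ v ∈ D, 𝐂₁[v] ≤ M := by
  obtain ⟨K, K', hK, hK', hne⟩ := h2
  have h1 : D ⊓ bW V ⊥ K' ≠ ⊥ := fun e => by
    have h3 := relIndex_le_of_le_right (H := D) ((h.W_le hK').trans hE) (relIndex_ne_zero' _ _)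
    rw [← inf_relIndex_right, e, relIndex_bot_left, hK'.card_W] at h3
    omega
  obtain ⟨v, hv, hv1⟩ := exists_ne_one h1
  exact ⟨v, hv.1, h.centralizer_le (h.W_le hK' hv.2) hv1 fun hf =>
    hf K hK ((h.mod.blk_ne hK hK' hne).1 hv.2)⟩

theorem Two.V_le_omegaZ (h : Two S M V) : V ≤ ΩZ[2, S ⊓ 𝐂[V]] :=
  le_omegaZ h.ea h.V_le_R (le_centralizer_iff.1 inf_le_right)

theorem Two.R_ne (h : Two S M V) : S ⊓ 𝐂[V] ≠ ⊥ := fun e =>
  h.V_ne (le_bot_iff.1 (h.V_le_R.trans e.le))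

/-- (PU_R) -/
theorem Two.puR (h : Two S M V) (h4 : Nat.card V ≠ 4) {L : Subgroup G} (hs : Group.IsSolvable L)
    (hc : IsCharP 2 L) (hT : IsSyl 2 (S ⊓ 𝐂[V]) L) : L ≤ M := by
  have h1 : V ≤ ncl ΩZ[2, S ⊓ 𝐂[V]] L := h.V_le_omegaZ.trans (le_ncl _ _)
  rcases h.cases with hn | h2 | h2
  · exact h.push hs hc hT (le_inf (bau_le S) (h.nf_bau hn)) h1 h.C_le
  · refine t3 hs hc hT (inf_le_right.trans ((centralizer_anti h1).trans h.C_le))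
      (inf_le_right.trans (h.uqR (hT.pgrp.to_le (bau_le _)) (bau_ne_bot hT.pgrp h.R_ne)
        (inf_le_right.trans (normalizer_le_normalizer_bau _)))) fun X hX _ => ?_
    obtain ⟨v, hv, h3⟩ := h.exists_of_F2 h2 (h.V_le_omegaZ.trans (omegaZ_le_omegaZ (bau_le _)
      ((omegaOne_center_le_thompsonSubgroupOf _).trans (J_le_bau _)))) hX.omega.2.2.2.le
    exact fun x hx => h3 (mem_centralizer_singleton_iff.2 (mem_centralizer_iff.1 hv.2 x hx))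
  · exact absurd h2 h4

theorem Two.syl_of_nf (h : Two S M V) (hn : NF M V) {X : Subgroup G} (hX : 𝐂[V] ≤ X) :
    ∃ T, IsSyl 2 T X ∧ T ≤ M ∧ S ⊓ 𝐂[V] ≤ T := by
  obtain ⟨T, hT, hle⟩ := exists_isSyl_ge h.sylR.pgrp (inf_le_right.trans hX)
  exact ⟨T, hT, h.le_M_of_bau hT.pgrp ((le_inf (bau_le S) (h.nf_bau hn)).trans hle), hle⟩

/-- (G2) -/
theorem Two.hyperplane (h : Two S M V) (h4 : Nat.card V ≠ 4) {D : Subgroup G} (hD : D ≤ V)
    (h2 : D.relIndex V ≤ 2) : 𝐂[D] ≤ M := by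
  rcases h.cases with hn | h3 | h3
  · have hD1 : D ≠ ⊥ := fun e => by
      rw [e, relIndex_bot_left] at h2
      have h5 := (one_lt_card_iff_ne_bot _).2 h.Z_ne
      exact h.not_le_Z (eq_of_le_of_card_le h.Z_le (by omega)).ge
    have hD2 := h.V_two.to_le hD
    obtain ⟨T, hT, hTM, hle⟩ := h.syl_of_nf hn (centralizer_anti hD)
    rw [h.sylR.eq hT.pgrp hle fun t ht => h.mem_C_of_nf hn hD h2 (hTM ht) (hT.le ht)] at hT
    exact h.puR h4 (h.hyp.solv_of_le hD2 hD1 (centralizer_le_normalizer' D)) (h.hyp.charC hD2 hD1) hT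
  · obtain ⟨v, hv, h5⟩ := h.exists_of_F2 h3 le_rfl h2
    exact (le_C₁ hv).trans h5
  · exact absurd h3 h4

/-- (G3) -/
theorem Two.syl_centralizer (h : Two S M V) {d : G} (hd : d ∈ V) (h1 : d ≠ 1) :
    ∃ T, IsSyl 2 T 𝐂₁[d] ∧ T ≤ M ∧ S ⊓ 𝐂[V] ≤ T := by
  by_cases hn : NF M V
  · exact h.syl_of_nf hn (le_C₁ hd)
  obtain ⟨K, hK⟩ : ∃ K, Blk M V ⊥ K := by
    by_contra hc
    exact hn fun K hK => hc ⟨K, hK⟩
  by_cases hf : Full M V ⊥ d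
  · obtain ⟨z, hz, hz1⟩ := exists_ne_one h.Z_ne
    obtain ⟨n, hn, hnR, rfl⟩ := h.conj_of_full hK (h.Z_le hz) hd (h.full_of_mem hz hz1) hf
    refine ⟨cj(n, S), (h.cj n).syl.mono (cj_le_C₁ hz) le_top,
      cj_le_of_mem h.le (h.mod.bN_norm.1 hn), ?_⟩
    rw [← cj_of_mem_normalizer hnR]
    exact cj_mono n inf_le_left
  · obtain ⟨T, hT, hle⟩ := exists_isSyl_ge h.sylR.pgrp (inf_le_right.trans (le_C₁ hd))
    exact ⟨T, hT, hT.le.trans (h.centralizer_le hd h1 hf), hle⟩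

/-- (G3') -/
theorem Two.exists_maxD (h : Two S M V) (h4 : Nat.card V ≠ 4) :
    ∃ D, MaxD M V D ∧ D ≠ ⊥ ∧ ∃ T, IsSyl 2 T 𝐂[D] ∧ T ≤ M ∧ S ⊓ 𝐂[V] ≤ T := by
  obtain ⟨D, ⟨hD, hc⟩, hmax⟩ := Set.exists_max_image {E : Subgroup G | E ≤ V ∧ ¬ 𝐂[E] ≤ M}
    (fun E => Nat.card E) (Set.toFinite _) ⟨_, h.Z_le, h.notC⟩
  have h1 : 1 < Nat.card D :=
    ((one_lt_card_iff_ne_bot _).2 h.Z_ne).trans_le (hmax _ ⟨h.Z_le, h.notC⟩)
  refine ⟨D, ⟨hD, hc, fun E h2 h3 => hmax E ⟨h2, h3⟩⟩, (one_lt_card_iff_ne_bot _).1 h1, ?_⟩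
  rcases h.cases with hn | ⟨K, -, hK, -⟩ | h3
  · exact h.syl_of_nf hn (centralizer_anti hD)
  swap
  · exact absurd h3 h4
  obtain ⟨-, -, h3⟩ := h.card_le_four hK hD hc
  obtain ⟨k, hk⟩ := isEA_card (isEA_mono h.ea hD)
  have hk2 : k ≤ 2 := by
    rw [hk] at h3
    exact (Nat.pow_le_pow_iff_right (by decide : 1 < 2)).1 h3
  interval_cases k
  · omega
  · obtain ⟨d, hd1, -, rfl⟩ := exists_zpowers_of_card_two hk
    rw [Amb.centralizer_zpowers]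
    exact h.syl_centralizer (hD (mem_zpowers d)) hd1
  have hsup : ∀ K, Blk M V ⊥ K → D ⊔ fx V ⊥ K = V := fun K hK => by
    have h5 := card_sup_mul_card_inf (A := D) (B := fx V ⊥ K) (hD.trans (h.V_comm.trans
      ((centralizer_anti inf_le_left).trans (centralizer_le_normalizer' _))))
    have h6 := card_mul_relIndex_of_le (show fx V ⊥ K ≤ V from inf_le_left)
    rw [(h.card_le_four hK hD hc).2.1, card_bot, hk] at h5
    rw [h.relIndex_fx hK] at h6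
    exact eq_of_le_of_card_le (sup_le hD inf_le_left) (by omega)
  obtain ⟨T, hT, hle⟩ := exists_isSyl_ge (L := 𝐂[D] ⊓ M) h.sylR.pgrp
    (inf_le_right.trans (le_inf (centralizer_anti hD) h.C_le))
  have hTM : T ≤ M := hT.le.trans inf_le_right
  have hJ : 𝐉[T] ≤ 𝐂[V] := thompsonSubgroupOf_le_iff.2 fun A hA =>
    h.le_of_tv (h.V_le_R.trans hle) hTM hA le_rfl fun K' t ht htv => by
      have h5 := htv.fix
      rw [fx_bot V (zpowers t)] at h5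
      refine le_centralizer_iff.1 ((hsup K' htv.blk).ge.trans (sup_le ?_ (h5.trans inf_le_right)))
        (mem_zpowers t)
      exact le_centralizer_iff.1 (zpowers_le_of_mem (hT.le (hA.1 ht)).1)
  have hR : T ⊓ 𝐂[V] = S ⊓ 𝐂[V] :=
    h.sylR.eq (hT.pgrp.to_le inf_le_left) (le_inf hle inf_le_right) inf_le_right
  have hJ' : 𝐉[S ⊓ 𝐂[V]] = 𝐉[T] :=
    thompsonSubgroupOf_eq_of_le (hR ▸ le_inf (thompsonSubgroupOf_le T) hJ) hle
  have hN : 𝐍[T] ≤ M := (normalizer_le_normalizer_thompsonSubgroupOf T).trans (hJ' ▸ h.uqR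
    (J_two h.sylR.pgrp) (J_ne_bot h.sylR.pgrp h.R_ne)
    (inf_le_right.trans (normalizer_le_normalizer_thompsonSubgroupOf _)))
  exact ⟨T, isSyl_of_isSyl_normalizer (hT.mono (le_inf (hT.le.trans inf_le_left) le_normalizer)
    (inf_le_inf_left _ hN)), hTM, hle⟩

end Cfsg.Agent.NG
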