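import Mathlib
import Cfsg.Agent.NG.Two
import Cfsg.Agent.NG.B1a

/-! Lemma B1: the setup in `C(d)`. -/

set_option autoImplicit false

namespace Cfsg.Agent.NG

open Subgroup Cfsg.Agent.PLocal Cfsg.Agent.PLocal.Amb Cfsg.Agent.PLocal.JC
open scoped commutatorElement

variable {G : Type*} [Group G] [Finite G]

variable {S M V : Subgroup G} {d : G}

theorem Two.b1_sq (h : Two S M V) {u : G} (hu : u ∈ V) : u * u = 1 := by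
  rw [← pow_two]; exact h.ea.2 u hu

theorem Two.b1_comm (h : Two S M V) {u w : G} (hu : u ∈ V) (hw : w ∈ V) : u * w = w * u :=
  congrArg Subtype.val (h.ea.1.is_comm.comm (⟨u, hu⟩ : V) ⟨w, hw⟩)

theorem Two.b1_VL (h : Two S M V) (hd : d ∈ V) : V ≤ 𝐂₁[d] := fun _ hu =>
  mem_centralizer_singleton_iff.2 (h.b1_comm hu hd)

theorem Two.b1_VM (h : Two S M V) : V ≤ M := h.basic.2.2.1.trans h.le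

theorem Two.b1_OM (h : Two S M V) (hd : d ∈ V) (h1 : d ≠ 1) : 𝐐[𝐂₁[d]] ≤ M := by
  obtain ⟨T, hT, hM, -⟩ := h.syl_centralizer hd h1
  exact hT.pCoreOf_le.trans hM

theorem Two.tri (h : Two S M V) (hd : d ∈ V) (h1 : d ≠ 1) {V₀ : Subgroup G} {v x : G}
    (a1 : V ⊓ 𝐐[𝐂₁[d]] ≤ V₀) (a2 : V₀ ≤ V) (a3 : V₀.relIndex V = 2) (a4 : v ∈ V) (a5 : v ∉ V₀)
    (a6 : x ∈ 𝐂₁[d]) (a7 : x ≠ 1) (a8 : Odd (orderOf x)) (a9 : v * x * v⁻¹ = x⁻¹)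
    (a10 : ∀ w ∈ V₀, ⁅w, x⁆ ∈ 𝐐[𝐂₁[d]]) : Tri V 𝐐[𝐂₁[d]] M V₀ v x :=
  ⟨fun _ => h.b1_sq, isPGroup_pCoreOf 2 _, h.b1_OM hd h1, h.basic.2.2.2.1.ge, h.b1_VM,
    (h.b1_VL hd).trans (le_normalizer_pCoreOf 2 _), le_normalizer_pCoreOf 2 _ a6, a1, a2, a3, a4,
    a5, a7, a8, a9, a10⟩

theorem Two.b1_fit (h : Two S M V) (hd : d ∈ V) (h1 : d ≠ 1) : ∃ F : Subgroup G,
    𝐐[𝐂₁[d]] ⊓ 𝐂₁[d] ≤ F ∧ F ≤ 𝐂₁[d] ∧ 𝐂₁[d] ≤ 𝐍[F] ∧ Odd ((𝐐[𝐂₁[d]]).relIndex F) ∧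
      ∀ y ∈ 𝐂₁[d], (∀ f ∈ F, ⁅y, f⁆ ∈ 𝐐[𝐂₁[d]]) → y ∈ F := by
  obtain ⟨F, a1, a2, a3, a4, a5, -⟩ := exists_fit (h.hyp.solvC₁ (h.b1_sq hd) h1 le_rfl)
    (le_normalizer_pCoreOf 2 𝐂₁[d]) fun D hD hn hr =>
      le_pCoreOf (isPGroup_of_pRes_le (isPGroup_pCoreOf 2 _) hr) hD hn
  exact ⟨F, a1, a2, (le_inf le_normalizer (le_normalizer_pCoreOf 2 _)).trans a3, a4, a5⟩

theorem Two.b1_eamod (h : Two S M V) (C : Subgroup G) : EAMod V C :=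
  ⟨commutator_le.2 fun a ha b hb => by
    rw [commutatorElement_eq_one_iff_mul_comm.2 (h.b1_comm ha hb)]; exact one_mem _,
    fun a ha => by rw [h.b1_sq ha]; exact one_mem _⟩

/-- replace an element inverted modulo `O₂(C(d))` by an inverted element of odd order -/
theorem Two.b1_lift (h : Two S M V) (hd : d ∈ V) {v x : G} (hv : v ∈ V) (hx : x ∈ 𝐂₁[d])
    (ho : ∃ n : ℕ, Odd n ∧ x ^ n ∈ 𝐐[𝐂₁[d]]) (hi : v * x * v⁻¹ * x ∈ 𝐐[𝐂₁[d]]) :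
    ∃ y ∈ 𝐂₁[d], Odd (orderOf y) ∧ v * y * v⁻¹ = y⁻¹ ∧ y * x⁻¹ ∈ 𝐐[𝐂₁[d]] ∧
      ∀ w ∈ 𝐂₁[d], ⁅w, x⁆ ∈ 𝐐[𝐂₁[d]] → ⁅w, y⁆ ∈ 𝐐[𝐂₁[d]] := by
  have hN := le_normalizer_pCoreOf 2 𝐂₁[d]
  have hvL := h.b1_VL hd hv
  obtain ⟨y, a1, a2, a3, a4⟩ := exists_odd_inverted (h.b1_sq hv) (hN hvL) (hN hx) ho hi
  refine ⟨y, zpowers_le.2 (mul_mem hvL (mul_mem (mul_mem hx hvL) (inv_mem hx))) a4, a1, a2, a3,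
    fun w hw hc => ?_⟩
  rw [show ⁅w, y⁆ = w * (y * x⁻¹) * w⁻¹ * ⁅w, x⁆ * (y * x⁻¹)⁻¹ by
    simp only [commutatorElement_def]; group]
  exact mul_mem (mul_mem (conj_mem_of_mem_normalizer (hN hw) a3) hc) (inv_mem a3)

theorem Two.exists_tri (h : Two S M V) (hd : d ∈ V) (h1 : d ≠ 1) (hV : ¬ V ≤ 𝐐[𝐂₁[d]]) :
    ∃ V₀ v x, x ∈ 𝐂₁[d] ∧ Tri V 𝐐[𝐂₁[d]] M V₀ v x := by
  obtain ⟨F, a1, a2, a3, a4, a5⟩ := h.b1_fit hd h1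
  obtain ⟨V₀, x, b1, b2, b3, b4, b5, b6, -, b7, b8⟩ := hyperplane_mod
    (h.hyp.solvC₁ (h.b1_sq hd) h1 le_rfl) (le_normalizer_pCoreOf 2 𝐂₁[d]) a1 a2 a3 a4 a5
    (h.b1_VL hd) (h.b1_eamod _) hV
  obtain ⟨v, hv, hv0⟩ : ∃ v ∈ V, v ∉ V₀ := SetLike.not_le_iff_exists.1 fun e => by
    rw [relIndex_eq_one.2 e] at b3; omega
  obtain ⟨y, c1, c2, c3, c4, c5⟩ := h.b1_lift hd hv (a2 b4)
    ⟨_, b6, by rw [pow_orderOf_eq_one]; exact one_mem _⟩ (b8 v hv hv0)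
  exact ⟨V₀, v, y, c1, h.tri hd h1 b1 b2 b3 hv hv0 c1 (fun e => b5 (by simpa [e] using c4)) c2 c3
    fun w hw => c5 w (h.b1_VL hd (b2 hw)) (b7 w hw)⟩

end Cfsg.Agent.NG
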