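import Mathlib
import Cfsg.Agent.NG.B1b

/-! The `Ω₄⁺(2)` configuration: the module and the triples. -/

set_option autoImplicit false
set_option linter.unusedSectionVars false

namespace Cfsg.Agent.NG

open Subgroup Cfsg.Agent.PLocal Cfsg.Agent.PLocal.Amb Cfsg.Agent.PLocal.JC
open scoped commutatorElement

variable {G : Type*} [Group G]

theorem om_mem_zp {a b : G} (h : a * a = 1) : b ∈ zpowers a ↔ b = 1 ∨ b = a := by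
  refine ⟨?_, fun e => e.elim (· ▸ one_mem _) (· ▸ mem_zpowers _)⟩
  rintro ⟨n, rfl⟩
  have h2 : a ^ (2 : ℤ) = 1 := by rw [zpow_two, h]
  rcases Int.even_or_odd' n with ⟨k, rfl | rfl⟩
  · left; simp only [zpow_mul, h2, one_zpow]
  · right; simp only [zpow_add, zpow_mul, h2, one_zpow, zpow_one, one_mul]

theorem om_card_zp {a : G} (h : a * a = 1) (h1 : a ≠ 1) : Nat.card (zpowers a) = 2 := by
  rw [Nat.card_zpowers]; exact orderOf_eq_prime (by rw [pow_two, h]) h1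

theorem om_comm_idx {K H : Subgroup G} (h : K.relIndex H = 2) {g w : G} (h1 : g ∈ 𝐍[K])
    (h2 : g ∈ 𝐍[H]) (hw : w ∈ H) : ⁅w, g⁆ ∈ K := by
  rw [commutatorElement_def, mul_assoc, mul_assoc, ← mul_assoc g]
  exact (b1_mul_iff h hw (conj_mem_of_mem_normalizer h2 (inv_mem hw))).2
    (K.inv_mem_iff.symm.trans (mem_normalizer_iff.1 h1 _))

/-- the data of the `Ω₄⁺(2)` configuration -/
structure Om (S M V K₁ K₂ : Subgroup G) (d d₁ d₂ : G) : Prop where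
  two : Two S M V
  b₁ : Blk M V ⊥ K₁
  b₂ : Blk M V ⊥ K₂
  ne : K₁ ≠ K₂
  card : Nat.card V = 16
  m₁ : d₁ ∈ bW V ⊥ K₁
  m₂ : d₂ ∈ bW V ⊥ K₂
  n₁ : d₁ ≠ 1
  n₂ : d₂ ≠ 1
  eq : d = d₁ * d₂
  hV : ¬ V ≤ 𝐐[𝐂₁[d]]
  H : ∀ V₀ v x, x ∈ 𝐂₁[d] → Tri V 𝐐[𝐂₁[d]] M V₀ v x → V ⊓ cj(x, V) = zpowers d

variable [Finite G] {S M V K₁ K₂ : Subgroup G} {d d₁ d₂ : G}

theorem Two.om_fx (h : Two S M V) (h₁ : Blk M V ⊥ K₁) (h₂ : Blk M V ⊥ K₂) (hne : K₁ ≠ K₂)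
    (h16 : Nat.card V = 16) : fx V ⊥ K₁ = bW V ⊥ K₂ := by
  have h1 := Grp.card_mul_relIndex (show fx V ⊥ K₁ ≤ V from inf_le_left)
  rw [h.relIndex_fx h₁, h16] at h1
  exact (eq_of_le_of_card_ge (h.mod.blk_ne h₁ h₂ hne).1 (by rw [h₂.card_W]; omega)).symm

theorem Two.om_dec (h : Two S M V) (h₁ : Blk M V ⊥ K₁) (h₂ : Blk M V ⊥ K₂) (hne : K₁ ≠ K₂)
    (h16 : Nat.card V = 16) {u : G} (hu : u ∈ V) :
    ∃ w₁ ∈ bW V ⊥ K₁, ∃ w₂ ∈ bW V ⊥ K₂, u = w₁ * w₂ := by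
  obtain ⟨w, h1, h2⟩ := h.mod.exists_comp h₁ hu
  rw [h.om_fx h₁ h₂ hne h16] at h2
  exact ⟨w, h1, _, h2, by rw [h.b1_comm (h.W_le h₁ h1) (h.W_le h₂ h2), inv_mul_cancel_right]⟩

namespace Om

variable (o : Om S M V K₁ K₂ d d₁ d₂)
include o

theorem W₁ : bW V ⊥ K₁ ≤ V := o.two.W_le o.b₁

theorem W₂ : bW V ⊥ K₂ ≤ V := o.two.W_le o.b₂

theorem symm : Om S M V K₂ K₁ d d₂ d₁ :=
  ⟨o.two, o.b₂, o.b₁, o.ne.symm, o.card, o.m₂, o.m₁, o.n₂, o.n₁,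
    o.eq.trans (o.two.b1_comm (o.W₁ o.m₁) (o.W₂ o.m₂)), o.hV, o.H⟩

theorem fx₁ : fx V ⊥ K₁ = bW V ⊥ K₂ := o.two.om_fx o.b₁ o.b₂ o.ne o.card

theorem dec {u : G} (hu : u ∈ V) : ∃ w₁ ∈ bW V ⊥ K₁, ∃ w₂ ∈ bW V ⊥ K₂, u = w₁ * w₂ :=
  o.two.om_dec o.b₁ o.b₂ o.ne o.card hu

theorem disj {w : G} (h1 : w ∈ bW V ⊥ K₁) (h2 : w ∈ bW V ⊥ K₂) : w = 1 :=
  mem_bot.1 ((o.two.mod.blk_ne o.b₁ o.b₂ o.ne).2.2.le ⟨h1, h2⟩)

theorem uniq {a b a' b' : G} (ha : a ∈ bW V ⊥ K₁) (hb : b ∈ bW V ⊥ K₂) (ha' : a' ∈ bW V ⊥ K₁)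
    (hb' : b' ∈ bW V ⊥ K₂) (e : a * b = a' * b') : a = a' ∧ b = b' := by
  have h1 : a'⁻¹ * a = b' * b⁻¹ := by rw [inv_mul_eq_iff_eq_mul, ← mul_assoc, ← e]; group
  have h2 := o.disj (mul_mem (inv_mem ha') ha) (h1 ▸ mul_mem hb' (inv_mem hb))
  exact ⟨(inv_mul_eq_one.1 h2).symm, (mul_inv_eq_one.1 (h1 ▸ h2)).symm⟩

theorem blk {K : Subgroup G} (hK : Blk M V ⊥ K) : K = K₁ ∨ K = K₂ := by
  by_contra! e
  have h1 := (o.two.mod.blk_ne o.b₁ hK e.1.symm).1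
  have h2 := (o.two.mod.blk_ne o.b₂ hK e.2.symm).1
  rw [o.fx₁] at h1
  rw [o.symm.fx₁] at h2
  exact hK.W_ne (eq_bot_iff.2 fun w hw => mem_bot.2 (o.disj (h2 hw) (h1 hw)))

theorem full {u : G} : Full M V ⊥ u ↔ u ∉ bW V ⊥ K₁ ∧ u ∉ bW V ⊥ K₂ :=
  ⟨fun h => ⟨o.symm.fx₁ ▸ h _ o.b₂, o.fx₁ ▸ h _ o.b₁⟩, fun h K hK => by
    rcases o.blk hK with rfl | rfl
    · exact o.fx₁ ▸ h.2
    · exact o.symm.fx₁ ▸ h.1⟩

theorem perm {g : G} (hg : g ∈ M) :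
    (cj(g, K₁) = K₁ ∧ cj(g, K₂) = K₂) ∨ (cj(g, K₁) = K₂ ∧ cj(g, K₂) = K₁) := by
  have h1 := o.blk (o.two.mod.blk_cj o.b₁ hg).1
  have h2 := o.blk (o.two.mod.blk_cj o.b₂ hg).1
  have h3 : cj(g, K₁) ≠ cj(g, K₂) := fun e => o.ne (cj_inj.1 e)
  rcases h1 with h1 | h1 <;> rcases h2 with h2 | h2
  exacts [absurd (h1.trans h2.symm) h3, Or.inl ⟨h1, h2⟩, Or.inr ⟨h1, h2⟩,
    absurd (h1.trans h2.symm) h3]

theorem conj₁ {g w : G} {K : Subgroup G} (hg : g ∈ M) (e : cj(g, K₁) = K) (hw : w ∈ bW V ⊥ K₁) :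
    g * w * g⁻¹ ∈ bW V ⊥ K := by
  rw [← e, (o.two.mod.blk_cj o.b₁ hg).2.1]; exact conj_mem_cj g hw

theorem hd : d ∈ V := o.eq ▸ mul_mem (o.W₁ o.m₁) (o.W₂ o.m₂)

theorem d_ne : d ≠ 1 := fun e =>
  o.n₁ (o.uniq o.m₁ o.m₂ (one_mem _) (one_mem _) (by rw [← o.eq, e, one_mul])).1

theorem mem_d {u : G} : u ∈ zpowers d ↔ u = 1 ∨ u = d := om_mem_zp (o.two.b1_sq o.hd)

theorem d_comm {u g : G} (hu : u ∈ zpowers d) (hg : g ∈ 𝐂₁[d]) : g * u * g⁻¹ = u := by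
  rcases o.mem_d.1 hu with rfl | rfl
  · group
  · rw [mem_centralizer_singleton_iff.1 hg, mul_inv_cancel_right]

theorem LN : 𝐂₁[d] ≤ 𝐍[zpowers d] := by
  rw [← Amb.centralizer_zpowers]; exact centralizer_le_normalizer' _

theorem d₁_not : d₁ ∉ zpowers d := fun h => by
  rcases o.mem_d.1 h with e | e
  · exact o.n₁ e
  · exact o.n₂ (by rw [o.eq] at e; exact (mul_eq_left.1 e.symm))

theorem fix {g : G} (hg : g ∈ M) (hL : g ∈ 𝐂₁[d]) (e : cj(g, K₁) = K₁ ∧ cj(g, K₂) = K₂) :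
    g * d₁ * g⁻¹ = d₁ :=
  (o.uniq (o.conj₁ hg e.1 o.m₁) (o.symm.conj₁ hg e.2 o.m₂) o.m₁ o.m₂ (by
    rw [conj_mul, ← o.eq, o.d_comm (mem_zpowers d) hL])).1

theorem swap {g : G} (hg : g ∈ M) (hL : g ∈ 𝐂₁[d]) (e : cj(g, K₁) = K₂ ∧ cj(g, K₂) = K₁) :
    g * d₁ * g⁻¹ = d₂ :=
  (o.uniq (o.symm.conj₁ hg e.2 o.m₂) (o.conj₁ hg e.1 o.m₁) o.m₁ o.m₂ (by
    rw [conj_mul, ← o.symm.eq, ← o.eq, o.d_comm (mem_zpowers d) hL])).2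

theorem norm_of_fix {g w : G} (hg : g ∈ M) (hw : w ∈ bW V ⊥ K₁) (h1 : w ≠ 1)
    (e : g * w * g⁻¹ = w) : cj(g, K₁) = K₁ ∧ cj(g, K₂) = K₂ :=
  (o.perm hg).resolve_right fun h => h1 (o.disj hw (e ▸ o.conj₁ hg h.1 hw))

theorem idx₁ : (zpowers d₁).relIndex (bW V ⊥ K₁) = 2 := by
  have := Grp.card_mul_relIndex (zpowers_le.2 o.m₁)
  rw [o.b₁.card_W, om_card_zp (o.two.b1_sq (o.W₁ o.m₁)) o.n₁] at this
  omega

theorem exists_e : ∃ e ∈ bW V ⊥ K₁, e ∉ zpowers d₁ := SetLike.not_le_iff_exists.1 fun h => by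
  have := o.idx₁
  rw [relIndex_eq_one.2 h] at this
  omega

/-- an element fixing `d₁` and a second vector of the block centralizes the block -/
theorem cent₁ {g e w : G} (h1 : g * d₁ * g⁻¹ = d₁) (he : e ∈ bW V ⊥ K₁) (he' : e ∉ zpowers d₁)
    (h2 : g * e * g⁻¹ = e) (hw : w ∈ bW V ⊥ K₁) : g * w * g⁻¹ = w := by
  have h3 : ∀ u ∈ zpowers d₁, g * u * g⁻¹ = u := by
    rintro _ ⟨n, rfl⟩; simp only [← conj_zpow, h1]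
  by_cases h : w ∈ zpowers d₁
  · exact h3 w h
  · have := h3 _ ((b1_mul_iff o.idx₁ hw he).2 (iff_of_false h he'))
    rwa [← conj_mul, h2, mul_left_inj] at this

theorem centV {g : G} (h1 : ∀ w ∈ bW V ⊥ K₁, g * w * g⁻¹ = w)
    (h2 : ∀ w ∈ bW V ⊥ K₂, g * w * g⁻¹ = w) : g ∈ 𝐂[V] := fun u hu => by
  obtain ⟨a, ha, b, hb, rfl⟩ := o.dec hu
  rw [← mul_inv_eq_iff_eq_mul.1 (show g * (a * b) * g⁻¹ = a * b by rw [← conj_mul, h1 a ha, h2 b hb])]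

theorem OM : 𝐐[𝐂₁[d]] ≤ M := o.two.b1_OM o.hd o.d_ne

theorem d₁_O {q : G} (hq : q ∈ 𝐐[𝐂₁[d]]) : ⁅q, d₁⁆ ∈ zpowers d := by
  rw [commutatorElement_def, o.mem_d]
  rcases o.perm (o.OM hq) with e | e
  · left; rw [o.fix (o.OM hq) (pCoreOf_le _ _ hq) e, mul_inv_cancel]
  · right
    rw [o.swap (o.OM hq) (pCoreOf_le _ _ hq) e, o.symm.eq,
      inv_eq_of_mul_eq_one_right (o.two.b1_sq (o.W₁ o.m₁))]

section
variable {V₀ : Subgroup G} {v x : G} (hx : x ∈ 𝐂₁[d]) (t : Tri V 𝐐[𝐂₁[d]] M V₀ v x)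
include hx t

theorem AL : cj(x, V₀) ≤ 𝐂₁[d] := cj_le_of_mem (t.le.trans (o.two.b1_VL o.hd)) hx

theorem card₀ : Nat.card V₀ = 8 := by
  have := Grp.card_mul_relIndex t.le
  rw [t.idx, o.card] at this
  omega

theorem d_le : zpowers d ≤ V₀ := o.H _ _ _ hx t ▸ t.D_le

theorem d_le' : zpowers d ≤ cj(x, V₀) := o.H _ _ _ hx t ▸ t.D_le'

theorem exists_swap : ∃ a ∈ cj(x, V₀), cj(a, K₁) = K₂ ∧ cj(a, K₂) = K₁ := by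
  by_contra! e
  have h1 : ∀ a ∈ cj(x, V₀), cj(a, K₁) = K₁ ∧ cj(a, K₂) = K₂ := fun a ha =>
    (o.perm (t.A_le ha)).resolve_right fun h => e a ha h.1 h.2
  have key : ∀ {K₁ K₂ : Subgroup G} {d₁ d₂ : G}, Om S M V K₁ K₂ d d₁ d₂ → ∀ a ∈ cj(x, V₀),
      cj(a, K₁) = K₁ ∧ cj(a, K₂) = K₂ → ∀ w ∈ bW V ⊥ K₁, ⁅w, a⁆ ∈ zpowers d₁ :=
    fun o a ha h w hw => om_comm_idx o.idx₁
      (centralizer_le_normalizer' _ (by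
        rw [Amb.centralizer_zpowers, mem_centralizer_singleton_iff, ← mul_inv_eq_iff_eq_mul]
        exact o.fix (t.A_le ha) (o.AL hx t ha) h))
      (cj_eq_iff.1 (by rw [← (o.two.mod.blk_cj o.b₁ (t.A_le ha)).2.1, h.1])) hw
  have h2 : V₀ ≤ zpowers d₁ ⊔ zpowers d₂ := by
    rw [t.V₀_eq, o.H _ _ _ hx t]
    refine sup_le (commutator_le.2 fun u hu a ha => ?_)
      (zpowers_le.2 (o.eq ▸ mul_mem_sup (mem_zpowers _) (mem_zpowers _)))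
    obtain ⟨w₁, b₁, w₂, b₂, rfl⟩ := o.dec (zpowers_le.2 t.v_mem hu)
    have h3 := key o.symm a ha (h1 a ha).symm w₂ b₂
    rw [show ⁅w₁ * w₂, a⁆ = w₁ * ⁅w₂, a⁆ * w₁⁻¹ * ⁅w₁, a⁆ by
      simp only [commutatorElement_def]; group,
      t.comm (o.W₁ b₁) (zpowers_le.2 (o.W₂ o.m₂) h3), mul_inv_cancel_right]
    exact mul_mem (mem_sup_right h3) (mem_sup_left (key o a ha (h1 a ha) w₁ b₁))
  have h3 := Grp.card_sup_mul_card_inf_of_le_normalizer (show zpowers d₁ ≤ 𝐍[zpowers d₂] from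
    (show _ ≤ 𝐂[_] from fun a ha b hb => t.comm (zpowers_le.2 (o.W₂ o.m₂) hb)
      (zpowers_le.2 (o.W₁ o.m₁) ha)).trans (centralizer_le_normalizer' _))
  rw [om_card_zp (t.sq _ (o.W₁ o.m₁)) o.n₁, om_card_zp (t.sq _ (o.W₂ o.m₂)) o.n₂] at h3
  have h4 := card_le_of_le h2
  rw [o.card₀ hx t] at h4
  have h5 : 0 < Nat.card ↥(zpowers d₁ ⊓ zpowers d₂) := Nat.card_pos
  nlinarith

theorem mem₁ {w : G} (hw : w ∈ bW V ⊥ K₁) : w ∈ V₀ ↔ w ∈ zpowers d₁ := by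
  have h1 : ∀ w ∈ bW V ⊥ K₁, w ∈ V₀ → w ∈ zpowers d₁ := fun w hw h0 => by
    obtain ⟨a, ha, e⟩ := o.exists_swap hx t
    have h2 := t.comm_D h0 ha
    rw [o.H _ _ _ hx t, o.mem_d, commutatorElement_def, mul_assoc, mul_assoc, ← mul_assoc a] at h2
    have h3 := o.conj₁ (t.A_le ha) e.1 (inv_mem hw)
    rcases h2 with h2 | h2
    · rw [(o.uniq hw h3 (one_mem _) (one_mem _) (by rw [h2, one_mul])).1]; exact one_mem _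
    · rw [(o.uniq hw h3 o.m₁ o.m₂ (h2.trans o.eq)).1]; exact mem_zpowers _
  refine ⟨h1 w hw, fun h => zpowers_le.2 ?_ h⟩
  obtain ⟨e, he, he'⟩ := o.exists_e
  by_contra h2
  exact he' ((mul_mem_cancel_left (mem_zpowers d₁)).1 (h1 _ (mul_mem o.m₁ he)
    ((b1_mul_iff t.idx (o.W₁ o.m₁) (o.W₁ he)).2 (iff_of_false h2 fun h3 => he' (h1 e he h3)))))

theorem mem₀ {a b : G} (ha : a ∈ bW V ⊥ K₁) (hb : b ∈ bW V ⊥ K₂) :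
    a * b ∈ V₀ ↔ (a ∈ zpowers d₁ ↔ b ∈ zpowers d₂) := by
  rw [b1_mul_iff t.idx (o.W₁ ha) (o.W₂ hb), o.mem₁ hx t ha, o.symm.mem₁ hx t hb]

theorem d₁_mem : d₁ ∈ V₀ := (o.mem₁ hx t o.m₁).2 (mem_zpowers _)

theorem A_C {a : G} (ha : a ∈ cj(x, V₀)) (h : a ∈ 𝐂[V]) : a ∈ zpowers d :=
  o.H _ _ _ hx t ▸ t.inj ha (by
    rw [commutatorElement_eq_one_iff_mul_comm.2 (h v t.v_mem)]; exact one_mem _)

/-- an element of `A` fixing `d₁` and a second full vector lies in `⟨d⟩` -/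
theorem A_fix {a e₁ e₂ : G} (ha : a ∈ cj(x, V₀)) (h1 : a * d₁ * a⁻¹ = d₁) (b₁ : e₁ ∈ bW V ⊥ K₁)
    (b₂ : e₂ ∈ bW V ⊥ K₂) (c₁ : e₁ ∉ zpowers d₁) (c₂ : e₂ ∉ zpowers d₂)
    (h2 : a * (e₁ * e₂) * a⁻¹ = e₁ * e₂) : a ∈ zpowers d := by
  have h3 := o.norm_of_fix (t.A_le ha) o.m₁ o.n₁ h1
  obtain ⟨h4, h5⟩ := o.uniq (o.conj₁ (t.A_le ha) h3.1 b₁) (o.symm.conj₁ (t.A_le ha) h3.2 b₂) b₁ b₂
    (by rw [conj_mul, h2])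
  exact o.A_C hx t ha (o.centV (fun w hw => o.cent₁ h1 b₁ c₁ h4 hw) fun w hw =>
    o.symm.cent₁ (o.symm.fix (t.A_le ha) (o.AL hx t ha) h3.symm) b₂ c₂ h5 hw)

theorem A_C₀ {a : G} (ha : a ∈ cj(x, V₀)) (h : a ∈ 𝐂[V₀]) : a ∈ zpowers d := by
  obtain ⟨e₁, b₁, c₁⟩ := o.exists_e
  obtain ⟨e₂, b₂, c₂⟩ := o.symm.exists_e
  exact o.A_fix hx t ha (by rw [← h _ (o.d₁_mem hx t), mul_inv_cancel_right]) b₁ b₂ c₁ c₂
    (by rw [← h _ ((o.mem₀ hx t b₁ b₂).2 (iff_of_false c₁ c₂)), mul_inv_cancel_right])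

theorem V_C {u : G} (hu : u ∈ V) (h : u ∈ 𝐂[cj(x, V₀)]) : u ∈ zpowers d := by
  by_cases h0 : u ∈ V₀
  · have h1 := o.A_C₀ (inv_mem hx) t.symm (conj_mem_cj x⁻¹ h0) (by
      rw [centralizer_cj, mem_cj] at h; rwa [inv_inv])
    rw [← o.d_comm h1 hx] at h1
    simpa [mul_assoc] using h1
  · refine absurd (o.d₁_not) (not_not.2 ?_)
    have h1 := conj_mem_cj x (o.d₁_mem hx t)
    have h2 := t.comm_D ((b1_mul_iff t.idx t.v_mem hu).2 (iff_of_false t.v_not h0)) h1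
    rw [show ⁅v * u, x * d₁ * x⁻¹⁆ = v * ⁅u, x * d₁ * x⁻¹⁆ * v⁻¹ * ⁅v, x * d₁ * x⁻¹⁆ by
      simp only [commutatorElement_def]; group,
      commutatorElement_eq_one_iff_mul_comm.2 (h _ h1).symm, mul_one, mul_inv_cancel, one_mul] at h2
    have h3 := t.inj h1 h2
    rw [o.H _ _ _ hx t] at h3
    have h4 := o.d_comm h3 (inv_mem hx)
    rw [← h4] at h3
    simpa [mul_assoc] using h3

theorem Z_E {e : G} (he : e ∈ V₀ ⊔ cj(x, V₀)) (h : e ∈ 𝐂[V₀ ⊔ cj(x, V₀)]) : e ∈ zpowers d := by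
  obtain ⟨w, hw, a, ha, rfl⟩ := t.mem_E.1 he
  rw [Amb.centralizer_sup] at h
  have h1 := o.A_C₀ hx t ha ((mul_mem_cancel_left
    (show w ∈ 𝐂[V₀] from fun u hu => t.comm (t.le hu) (t.le hw))).1 h.1)
  exact o.V_C hx t (t.le (mul_mem hw (o.d_le hx t h1))) h.2

theorem V₀_uniq {V₁ : Subgroup G} {v' x' : G} (hx' : x' ∈ 𝐂₁[d]) (t' : Tri V 𝐐[𝐂₁[d]] M V₁ v' x') :
    V₀ ≤ V₁ := fun u hu => by
  obtain ⟨a, ha, b, hb, rfl⟩ := o.dec (t.le hu)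
  exact (o.mem₀ hx' t' ha hb).2 ((o.mem₀ hx t ha hb).1 hu)

end

end Om

end Cfsg.Agent.NG
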