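import Mathlib
import Cfsg.Agent.NG.Omega4_a
import Cfsg.Agent.PLocal.SecMod

/-! The `Ω₄⁺(2)` configuration: inverted elements of odd order. -/

set_option autoImplicit false
set_option linter.unusedSectionVars false

namespace Cfsg.Agent.NG

open Subgroup Cfsg.Agent.PLocal Cfsg.Agent.PLocal.Amb Cfsg.Agent.PLocal.JC
open scoped commutatorElement

theorem om_lemU {Q W : Type*} [Group Q] [AddCommGroup W] (ρ : Q →* Module.End ℤ W) (F : Subgroup Q)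
    [hF : F.Normal] (ho : Odd (Nat.card F)) {v : Q} {s : W} (hv : v * v = 1)
    (h2 : s + s = 0) (hs : ρ v s = s)
    (lift : ∀ u ∈ F, v * u * v⁻¹ = u⁻¹ → u ≠ 1 → s + ρ u s + ρ u⁻¹ s = 0 ∧ ρ u s ≠ s)
    (cent : ∀ c ∈ F, v * c * v⁻¹ = c → ρ c s = s) {x y : Q} (hx : x ∈ F) (hy : y ∈ F)
    (ix : v * x * v⁻¹ = x⁻¹) (iy : v * y * v⁻¹ = y⁻¹) (x1 : x ≠ 1) (y1 : y ≠ 1) :
    y = x ∨ y = x⁻¹ := by
  have hb := (Nat.coprime_two_right.2 ho).pow_left_bijective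
  have sq : ∀ a ∈ F, ∀ b ∈ F, a * a = b * b → a = b := fun a ha b hb' e =>
    congrArg Subtype.val (hb.1 (a₁ := ⟨a, ha⟩) (a₂ := ⟨b, hb'⟩) (Subtype.ext (by simpa [pow_two])))
  have mul : ∀ (a b : Q) (m : W), ρ (a * b) m = ρ a (ρ b m) := fun a b m => by rw [map_mul]; rfl
  have vv : ∀ a : Q, v * (v * a * v⁻¹) * v⁻¹ = a := fun a => by
    rw [show v * (v * a * v⁻¹) * v⁻¹ = v * v * a * (v * v)⁻¹ by group, hv]; group
  have act : ∀ u : Q, v * u * v⁻¹ = u⁻¹ → ρ v (ρ u s) = ρ u⁻¹ s := fun u e => by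
    rw [← mul, mul_inv_eq_iff_eq_mul.1 e, mul, hs]
  have inv : ∀ u : Q, v * u * v⁻¹ = u⁻¹ → v * u⁻¹ * v⁻¹ = u⁻¹⁻¹ := fun u e => by
    rw [← conj_inv, e]
  have dec : ∀ g ∈ F, ∃ u ∈ F, v * u * v⁻¹ = u⁻¹ ∧ ρ g s = ρ u s := fun g hg => by
    obtain ⟨⟨u, hu⟩, e⟩ := hb.2 ⟨g * (v * g⁻¹ * v⁻¹), mul_mem hg (hF.conj_mem _ (inv_mem hg) v)⟩
    have e1 : u * u = g * (v * g⁻¹ * v⁻¹) := by simpa [pow_two] using congrArg Subtype.val e
    have e2 : v * u * v⁻¹ = u⁻¹ := sq _ (hF.conj_mem _ hu v) _ (inv_mem hu) (by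
      rw [conj_mul, ← mul_inv_rev, e1, ← conj_mul, vv]; group)
    refine ⟨u, hu, e2, ?_⟩
    have e3 := cent _ (mul_mem (inv_mem hu) hg) (by
      rw [← conj_mul, inv u e2, inv_inv, show v * g * v⁻¹ = (u * u)⁻¹ * g by rw [e1]; group]; group)
    rw [show g = u * (u⁻¹ * g) by group, mul, e3]
  have inj : ∀ a ∈ F, ∀ b ∈ F, v * a * v⁻¹ = a⁻¹ → v * b * v⁻¹ = b⁻¹ → ρ a s = ρ b s → a = b :=
    fun a ha b hb' ia ib e => by
      have e1 : ρ a⁻¹ s = ρ b⁻¹ s := by rw [← act a ia, ← act b ib, e]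
      refine sq a ha b hb' ?_
      by_contra e2
      refine (lift (b⁻¹ * a * a * b⁻¹) (mul_mem (mul_mem (mul_mem (inv_mem hb') ha) ha) (inv_mem hb'))
        (by rw [← conj_mul, ← conj_mul, ← conj_mul, inv b ib, ia]; group) fun e3 => e2 ?_).2 ?_
      · rw [show a * a = b * (b⁻¹ * a * a * b⁻¹) * b by group, e3, mul_one]
      · rw [mul, ← e1, ← mul, mul_inv_cancel_right, mul, e, ← mul, inv_mul_cancel, map_one]; rfl
  have h3 : ∀ g, ρ g s + ρ g s = 0 := fun g => by rw [← map_add, h2, map_zero]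
  have three : ∀ (g : Q) (c : W), s + ρ g s + c = 0 → c = s + ρ g s := fun g c e => by
    rw [← add_zero c, ← add_zero (0 : W)]
    nth_rw 1 [← h2]
    rw [← h3 g, add_add_add_comm, ← add_assoc, add_comm c, e, zero_add]
  obtain ⟨u, hu, iu, e⟩ := dec _ (mul_mem (inv_mem hx) hy)
  have e0 : ρ y s = ρ x (ρ u s) := by rw [← e, ← mul, mul_inv_cancel_left]
  by_cases u1 : u = 1
  · left
    exact inj y hy x hx iy ix (by rw [e0, u1, map_one]; rfl)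
  right
  obtain ⟨u', hu', iu', e'⟩ := dec _ (mul_mem hx (inv_mem hu))
  have e1 : ρ u' s = ρ x s + ρ y s := by
    rw [← e', mul, three _ _ (lift u hu iu u1).1, map_add, e0]
  have ex := three _ _ (lift x hx ix x1).1
  have e2 := inj _ (inv_mem hu') _ hu' (inv u' iu') iu' (by
    rw [← act u' iu', e1, map_add, act x ix, act y iy, ex, three _ _ (lift y hy iy y1).1,
      add_add_add_comm, h2, zero_add])
  rw [sq u' hu' 1 (one_mem _) (by nth_rw 1 [← e2]; rw [inv_mul_cancel, one_mul]), map_one] at e1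
  refine inj y hy _ (inv_mem hx) iy (inv x ix) ?_
  rw [ex, ← zero_add (ρ y s), ← h3 x, add_assoc, ← e1, add_comm]
  rfl

variable {G : Type*} [Group G] [Finite G] {S M V K₁ K₂ : Subgroup G} {d d₁ d₂ : G}

theorem om_idx {V O : Subgroup G} {a x : G} (hV : V ≤ 𝐍[O])
    (ha : a ∈ V) (h2 : a * a = 1) (hx : x ∈ 𝐍[O]) (hi : a * x * a⁻¹ * x ∈ O) (hn : x * x ∉ O)
    (hle : V ≤ fixMod x O ⊔ zpowers a) : a ∉ fixMod x O ∧ (V ⊓ fixMod x O).relIndex V = 2 := by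
  have h1 : a ∉ fixMod x O := fun h => hn (by
    have := mul_mem (inv_mem h.2) hi
    rwa [show ⁅a, x⁆⁻¹ * (a * x * a⁻¹ * x) = x * x by
      simp only [commutatorElement_def]; group] at this)
  have h3 : zpowers a ≤ 𝐍[fixMod x O] := zpowers_le.2 (mem_normalizer_of_cj_le
    (cj_le_iff_forall.2 fun g hg => ⟨conj_mem_of_mem_normalizer (le_normalizer (hV ha)) hg.1, by
      have h4 := inv_conj_mem_of_mem_normalizer (hV ha) (conj_mem_of_mem_normalizer hx hi)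
      have h6 := mul_mem (mul_mem (conj_mem_of_mem_normalizer hg.1 h4)
        (inv_conj_mem_of_mem_normalizer hx (inv_mem hg.2))) (inv_mem h4)
      convert conj_mem_of_mem_normalizer (hV ha) h6 using 1
      simp only [commutatorElement_def]; group⟩))
  refine ⟨h1, ?_⟩
  rw [inf_comm, inf_relIndex_right, relIndex_eq_two_iff]
  refine ⟨a, ha, fun b hb => ?_⟩
  obtain ⟨f, hf, c, hc', rfl⟩ := (mem_sup_of_le_normalizer_left h3).1 (hle hb)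
  rcases (om_mem_zp h2).1 hc' with rfl | rfl
  · rw [mul_one]; exact Or.inr ⟨hf, by rwa [mul_mem_cancel_left hf]⟩
  · rw [mul_assoc, h2, mul_one]; exact Or.inl ⟨hf, by rwa [mul_mem_cancel_left hf]⟩

namespace Om

variable (o : Om S M V K₁ K₂ d d₁ d₂)
include o

theorem idxO : (V ⊓ 𝐐[𝐂₁[d]]).relIndex V = 2 := by
  have hN := le_normalizer_pCoreOf 2 𝐂₁[d]
  have hVL := o.two.b1_VL o.hd
  obtain ⟨k, hk⟩ := (o.two.b1_eamod 𝐐[𝐂₁[d]]).relIndex_pow (hVL.trans hN)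
  rw [inf_comm, inf_relIndex_right, hk]
  obtain _ | _ | k := k
  · exact absurd (relIndex_eq_one.1 hk) o.hV
  · rfl
  exfalso
  obtain ⟨F, a1, a2, a3, a4, a5⟩ := o.two.b1_fit o.hd o.d_ne
  obtain ⟨a, x, b1, b2, b3⟩ := dihedral_mod (o.two.hyp.solvC₁ (o.two.b1_sq o.hd) o.d_ne le_rfl)
    hN a1 a2 a3 a4 a5 hVL (o.two.b1_eamod _) hk
  have hf : ∀ i j, i ≠ j → a i ∈ fixMod (x j) 𝐐[𝐂₁[d]] := fun i j e =>
    ⟨hN (hVL (b1 i).1), (b2 i j e).1⟩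
  have key : ∀ i, ∃ y ∈ 𝐂₁[d], Tri V 𝐐[𝐂₁[d]] M (V ⊓ fixMod (x i) 𝐐[𝐂₁[d]]) (a i) y := fun i => by
    obtain ⟨c1, c2, c3, c4, -, c5⟩ := b1 i
    have hO : 𝐐[𝐂₁[d]] ≤ fixMod (x i) 𝐐[𝐂₁[d]] := fun q hq => ⟨le_normalizer hq, by
      rw [commutatorElement_def, mul_assoc, mul_assoc, ← mul_assoc (x i)]
      exact mul_mem hq (conj_mem_of_mem_normalizer (hN (a2 c2)) (inv_mem hq))⟩
    obtain ⟨e1, e2⟩ := om_idx (hVL.trans hN) c1
      (o.two.b1_sq c1) (hN (a2 c2)) c5 (fun e => c3 (b1_mem_of_sq c4 e))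
      (b3.trans (sup_le (le_sup_of_le_left hO) (iSup_le fun j => by
        by_cases e : j = i
        · rw [e]; exact le_sup_right
        · exact le_sup_of_le_left (zpowers_le.2 (hf j i e)))))
    obtain ⟨y, f1, f2, f3, f4, f5⟩ := o.two.b1_lift o.hd c1 (a2 c2)
      ⟨_, c4, by rw [pow_orderOf_eq_one]; exact one_mem _⟩ c5
    exact ⟨y, f1, o.two.tri o.hd o.d_ne (inf_le_inf_left _ hO) inf_le_left e2 c1 (fun e => e1 e.2) f1
      (fun e => c3 (by simpa [e] using f4)) f2 f3 fun w hw => f5 w (hVL hw.1) hw.2.2⟩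
  obtain ⟨y, hy, t⟩ := key 0
  obtain ⟨y', hy', t'⟩ := key 1
  exact t'.v_not (o.V₀_uniq hy t hy' t' ⟨(b1 1).1, hf 1 0 (by simp)⟩)

theorem tri {v x : G} (hv : v ∈ V) (hv' : v ∉ 𝐐[𝐂₁[d]]) (hx : x ∈ 𝐂₁[d]) (h1 : x ≠ 1)
    (ho : Odd (orderOf x)) (hi : v * x * v⁻¹ = x⁻¹) : Tri V 𝐐[𝐂₁[d]] M (V ⊓ 𝐐[𝐂₁[d]]) v x :=
  o.two.tri o.hd o.d_ne le_rfl inf_le_left o.idxO hv (fun e => hv' e.2) hx h1 ho hi fun w hw => by
    rw [commutatorElement_def, mul_assoc, mul_assoc, ← mul_assoc x]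
    exact mul_mem hw.2 (conj_mem_of_mem_normalizer (le_normalizer_pCoreOf 2 _ hx) (inv_mem hw.2))

variable {v x : G} (hx : x ∈ 𝐂₁[d]) (t : Tri V 𝐐[𝐂₁[d]] M (V ⊓ 𝐐[𝐂₁[d]]) v x)
include hx t

theorem v_not : v ∉ 𝐐[𝐂₁[d]] := fun e => t.v_not ⟨t.v_mem, e⟩

theorem cube : x ^ 3 = 1 := by
  set V₀ := V ⊓ 𝐐[𝐂₁[d]]
  obtain ⟨a, ha, e⟩ := o.exists_swap hx t
  have hd2 := om_card_zp (t.sq d o.hd) o.d_ne
  have hE : Nat.card ↥(V₀ ⊔ cj(x, V₀)) = 32 := by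
    have h1 := Grp.card_sup_mul_card_inf_of_le_normalizer t.A_norm
    rw [sup_comm, show cj(x, V₀) ⊓ V₀ = zpowers d from le_antisymm (o.H _ _ _ hx t ▸ fun u hu =>
      ⟨t.le hu.2, cj_mono x t.le hu.1⟩) (le_inf (o.d_le' hx t) (o.d_le hx t)), card_cj,
      o.card₀ hx t, hd2] at h1
    omega
  have hs : d₁ * a * (d₁ * a) = d := by
    rw [o.eq, ← o.swap (t.A_le ha) (o.AL hx t ha) e,
      inv_eq_of_mul_eq_one_right (show a * a = 1 by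
        obtain ⟨w, hw, rfl⟩ := ha
        rw [← map_mul, t.sq w (t.le hw), map_one])]
    group
  have hm : d₁ * a ∈ ((V₀ ⊔ cj(x, V₀) : Subgroup G) : Set G) \ zpowers d :=
    ⟨mul_mem_sup (o.d₁_mem hx t) ha, fun h => o.d_ne (hs ▸ t.sq _ (zpowers_le.2 o.hd h))⟩
  have h1 := Set.ncard_le_ncard_of_injOn (s := (zpowers x : Set G) ×ˢ ((V₀ : Set G) \ zpowers d))
    (t := (((V₀ ⊔ cj(x, V₀) : Subgroup G) : Set G) \ zpowers d) \ {d₁ * a})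
    (fun p => p.1 * p.2 * p.1⁻¹) (fun p hp => ⟨⟨conj_mem_of_mem_normalizer
      (zpowers_le.2 t.x_norm hp.1) (mem_sup_left hp.2.1), fun h => hp.2.2 ((mem_normalizer_iff.1
        (o.LN (zpowers_le.2 hx hp.1)) _).2 h)⟩, fun h => o.d_ne (by
          rw [← hs, ← Set.mem_singleton_iff.1 h, conj_mul, t.sq _ (t.le hp.2.1)]; group)⟩)
    (fun p hp q hq e => by
      have h2 : q.1⁻¹ * p.1 = 1 := by
        by_contra h2
        have h3 := mul_mem (inv_mem hq.1) hp.1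
        refine hq.2.2 (o.H _ _ _ (zpowers_le.2 hx h3) (o.tri t.v_mem (o.v_not hx t)
          (zpowers_le.2 hx h3) h2 (t.odd.of_dvd_nat (orderOf_dvd_of_mem_zpowers h3)) ?_) ▸
            ⟨t.le hq.2.1, mem_cj_iff_exists.2 ⟨p.2, t.le hp.2.1, ?_⟩⟩)
        · obtain ⟨n, hn⟩ := h3
          rw [← hn, ← conj_zpow, t.inv, inv_zpow]
        · rw [show q.1⁻¹ * p.1 * p.2 * (q.1⁻¹ * p.1)⁻¹ = q.1⁻¹ * (p.1 * p.2 * p.1⁻¹) * q.1 by group,
            show p.1 * p.2 * p.1⁻¹ = _ from e]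
          group
      rw [inv_mul_eq_one] at h2
      exact Prod.ext h2.symm (by simpa [h2] using e))
  rw [Set.ncard_prod, Set.ncard_sdiff_singleton_of_mem hm, Set.ncard_sdiff (o.d_le hx t),
    Set.ncard_sdiff (show (zpowers d : Set G) ⊆ ↑(V₀ ⊔ cj(x, V₀)) from
      (o.d_le hx t).trans le_sup_left)] at h1
  simp only [← Nat.card_coe_set_eq, SetLike.coe_sort_coe, hE, hd2, o.card₀ hx t,
    Nat.card_zpowers] at h1
  have h2 : orderOf x ≠ 1 := fun e => t.ne (orderOf_eq_one_iff.1 e)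
  obtain ⟨k, hk⟩ := t.odd
  rw [show 3 = orderOf x by omega, pow_orderOf_eq_one]

theorem sq_eq : x * x = x⁻¹ := eq_inv_of_mul_eq_one_left (by rw [← pow_three', o.cube hx t])

theorem kp {w : G} (hw : w ∈ V ⊓ 𝐐[𝐂₁[d]]) : w * (x * w * x⁻¹) * (x⁻¹ * w * x) ∈ zpowers d := by
  have h1 := conj_mem_cj x hw
  have h2 := conj_mem_cj x⁻¹ hw
  rw [inv_inv] at h2
  have h3 : x * (x * w * x⁻¹) * x⁻¹ = x⁻¹ * w * x := by
    rw [show x * (x * w * x⁻¹) * x⁻¹ = x * x * w * (x * x)⁻¹ by group, o.sq_eq hx t, inv_inv]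
  refine o.H _ _ _ hx t ▸ t.fpf (mul_mem (mul_mem_sup hw h1)
    (inv_conj_mem_of_mem_normalizer t.x_norm (mem_sup_left hw))) ?_
  rw [show ⁅w * (x * w * x⁻¹) * (x⁻¹ * w * x), x⁆ = w * (x * w * x⁻¹) * (x⁻¹ * w * x) * w⁻¹ *
      (x * (x * w * x⁻¹) * x⁻¹)⁻¹ * (x * w * x⁻¹)⁻¹ by simp only [commutatorElement_def]; group, h3,
    show w * (x * w * x⁻¹) * (x⁻¹ * w * x) * w⁻¹ * (x⁻¹ * w * x)⁻¹ * (x * w * x⁻¹)⁻¹ =
      ⁅w, x * w * x⁻¹⁆ * (x * w * x⁻¹ * ⁅w, x⁻¹ * w * x⁆ * (x * w * x⁻¹)⁻¹) by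
      simp only [commutatorElement_def]; group]
  refine mul_mem (t.comm_D hw h1) ?_
  have h4 := t.symm.comm_D hw h2
  rw [o.H _ _ _ (inv_mem hx) t.symm] at h4
  rw [o.d_comm h4 (o.AL hx t h1), o.H _ _ _ hx t]
  exact h4

theorem kp_comm {w : G} (hw : w ∈ V ⊓ 𝐐[𝐂₁[d]]) : x * w * x⁻¹ * w * (x * w * x⁻¹)⁻¹ = w := by
  have h1 := o.kp hx t hw
  have h2 := t.sq w hw.1
  have h3 : x⁻¹ * w * x * (x⁻¹ * w * x) = 1 := by
    rw [show x⁻¹ * w * x * (x⁻¹ * w * x) = x⁻¹ * (w * w) * x by group, h2]; group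
  have h4 := o.d_comm h1 (mul_mem (mul_mem (inv_mem hx) (o.two.b1_VL o.hd hw.1)) hx)
  have h5 := t.sq _ (zpowers_le.2 o.hd h1)
  nth_rw 2 [← h4] at h5
  rw [show w * (x * w * x⁻¹) * (x⁻¹ * w * x) * (x⁻¹ * w * x * (w * (x * w * x⁻¹) * (x⁻¹ * w * x)) *
    (x⁻¹ * w * x)⁻¹) = w * (x * w * x⁻¹) * (x⁻¹ * w * x * (x⁻¹ * w * x)) * w * (x * w * x⁻¹) by group,
    h3, mul_one] at h5
  have h6 := t.inv_eq hw.1
  rw [conj_inv, h6, ← mul_right_inj w, h2, ← h5]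
  group

end Om

end Cfsg.Agent.NG
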