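import Mathlib
import Cfsg.Agent.NG.Omega4_b

/-! The `Ω₄⁺(2)` configuration: `V` is self-centralizing. -/

set_option autoImplicit false
set_option linter.unusedSectionVars false

namespace Cfsg.Agent.NG

open Subgroup Cfsg.Agent.PLocal Cfsg.Agent.PLocal.Amb Cfsg.Agent.PLocal.JC
open scoped commutatorElement

variable {G : Type*} [Group G] [Finite G] {S M V K₁ K₂ : Subgroup G} {d d₁ d₂ : G}

theorem om_norm {X : Subgroup G} {g w : G} (hc : X ≤ 𝐂[X]) (hg : g ∈ 𝐍[X]) (h3 : g ^ 3 ∈ 𝐂[X])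
    (hf : ∀ w ∈ X, g * w * g⁻¹ = w → w = 1) (hw : w ∈ X) :
    w * (g * w * g⁻¹) * (g * (g * w * g⁻¹) * g⁻¹) = 1 := by
  have h1 := conj_mem_of_mem_normalizer hg hw
  have h2 := conj_mem_of_mem_normalizer hg h1
  refine hf _ (mul_mem (mul_mem hw h1) h2) ?_
  rw [← conj_mul, ← conj_mul, show g * (g * (g * w * g⁻¹) * g⁻¹) * g⁻¹ = g ^ 3 * w * (g ^ 3)⁻¹ by
    simp only [pow_three, mul_inv_rev, mul_assoc], ← h3 w hw, mul_inv_cancel_right,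
    hc hw _ (mul_mem h1 h2), mul_assoc w]

namespace Om

variable (o : Om S M V K₁ K₂ d d₁ d₂)
include o

theorem MC : M ≤ 𝐍[𝐂[V]] := le_normalizer_centralizer o.two.norm_V.ge

theorem K_cent {k w : G} (hk : k ∈ K₁) (hw : w ∈ bW V ⊥ K₂) : k * w * k⁻¹ = w := by
  rw [← o.fx₁, fx_bot] at hw
  rw [hw.2 k hk, mul_inv_cancel_right]

theorem K_conj {k w : G} (hk : k ∈ K₁) (hw : w ∈ bW V ⊥ K₁) : k * w * k⁻¹ ∈ bW V ⊥ K₁ :=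
  o.conj₁ (o.b₁.le hk) (cj_of_mem hk) hw

theorem K_fpf {k w : G} (hk : k ∈ K₁) (hw : w ∈ bW V ⊥ K₁) (h1 : w ≠ 1) (e : k * w * k⁻¹ = w) :
    k ∈ 𝐂[V] := by
  rcases o.b₁.eq_or_eq (X := K₁ ⊓ 𝐂₁[w]) (le_inf o.b₁.ge
    (inf_le_right.trans ((secCent_bot V).le.trans (le_C₁ (o.W₁ hw))))) inf_le_left with h | h
  · exact secCent_bot V ▸
      (h.le ⟨hk, mem_centralizer_singleton_iff.2 (mul_inv_eq_iff_eq_mul.1 e)⟩).2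
  · refine absurd (o.disj hw ?_) h1
    rw [← o.fx₁, fx_bot]
    exact ⟨o.W₁ hw, fun g hg => mem_centralizer_singleton_iff.1 (h.ge hg).2⟩

theorem K_cube {k : G} (hk : k ∈ K₁) : k ^ 3 ∈ 𝐂[V] := by
  have := normal_subgroupOf' (o.b₁.le.trans o.MC)
  have h1 := pow_index_mem (H := (𝐂[V]).subgroupOf K₁) ⟨k, hk⟩
  rwa [show ((𝐂[V]).subgroupOf K₁).index = 3 from secCent_bot V ▸ o.b₁.idx] at h1

theorem exists_k : ∃ k ∈ K₁, k ∉ 𝐂[V] :=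
  SetLike.not_le_iff_exists.1 (secCent_bot V ▸ o.b₁.not_le)

theorem KK_fpf {k₁ k₂ u : G} (h₁ : k₁ ∈ K₁) (h₂ : k₂ ∈ K₂) (c₁ : k₁ ∉ 𝐂[V]) (c₂ : k₂ ∉ 𝐂[V])
    (hu : u ∈ V) (e : k₁ * k₂ * u * (k₁ * k₂)⁻¹ = u) : u = 1 := by
  obtain ⟨a, ha, b, hb, rfl⟩ := o.dec hu
  have h1 := o.symm.K_conj h₂ hb
  rw [show k₁ * k₂ * (a * b) * (k₁ * k₂)⁻¹ =
    k₁ * (k₂ * a * k₂⁻¹) * k₁⁻¹ * (k₁ * (k₂ * b * k₂⁻¹) * k₁⁻¹) by group, o.symm.K_cent h₂ ha,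
    o.K_cent h₁ h1] at e
  obtain ⟨e1, e2⟩ := o.uniq (o.K_conj h₁ ha) h1 ha hb e
  rw [not_not.1 fun h => c₁ (o.K_fpf h₁ ha h e1), not_not.1 fun h => c₂ (o.symm.K_fpf h₂ hb h e2),
    mul_one]

theorem KK_comm : ⁅K₁ ⊔ K₂, K₁ ⊔ K₂⁆ ≤ 𝐂[V] := by
  have h : ∀ {K K' : Subgroup G}, Blk M V ⊥ K → Blk M V ⊥ K' → ⁅K, K'⁆ ≤ 𝐂[V] := fun a b =>
    secCent_bot V ▸ o.two.mod.blk_comm a b
  have h' : ∀ {K : Subgroup G}, Blk M V ⊥ K → ⁅K₁ ⊔ K₂, K⁆ ≤ 𝐂[V] := fun a => by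
    rw [commutator_comm]
    exact CP.commutator_sup_le (o.b₁.le.trans o.MC) (o.b₂.le.trans o.MC) (h a o.b₁) (h a o.b₂)
  exact CP.commutator_sup_le (o.b₁.le.trans o.MC) (o.b₂.le.trans o.MC) (h' o.b₁) (h' o.b₂)

theorem KK_cube {k₁ k₂ : G} (h₁ : k₁ ∈ K₁) (h₂ : k₂ ∈ K₂) : (k₁ * k₂) ^ 3 ∈ 𝐂[V] := by
  have := normal_subgroupOf' o.MC
  have h1 : Commute _ _ := (qπ_comm (L := M) (C := 𝐂[V]) (x := ⟨k₁, o.b₁.le h₁⟩)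
    (y := ⟨k₂, o.b₂.le h₂⟩)).1
      (o.KK_comm (commutator_mem_commutator (mem_sup_left h₁) (mem_sup_right h₂)))
  refine (qπ_eq_one (L := M) (C := 𝐂[V]) (x := (⟨k₁, o.b₁.le h₁⟩ * ⟨k₂, o.b₂.le h₂⟩) ^ 3)).1 ?_
  rw [map_pow, map_mul, h1.mul_pow, ← map_pow, ← map_pow, qπ_eq_one.2 (o.K_cube h₁),
    qπ_eq_one.2 (o.symm.K_cube h₂), mul_one]

theorem KK_norm : M ≤ 𝐍[K₁ ⊔ K₂] := fun g hg => cj_eq_iff.1 (by
  rcases o.perm hg with e | e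
  · rw [cj_sup, e.1, e.2]
  · rw [cj_sup, e.1, e.2, sup_comm])

theorem conj_O {g q : G} (hg : g ∈ 𝐂₁[d]) (hq : q ∈ 𝐐[𝐂₁[d]]) : ⁅q, g * d₁ * g⁻¹⁆ ∈ zpowers d := by
  rw [show ⁅q, g * d₁ * g⁻¹⁆ = g * ⁅g⁻¹ * q * g, d₁⁆ * g⁻¹ by simp only [commutatorElement_def]; group]
  exact conj_mem_of_mem_normalizer (o.LN hg)
    (o.d₁_O (inv_conj_mem_of_mem_normalizer (le_normalizer_pCoreOf 2 _ hg) hq))

variable {v x : G} (hx : x ∈ 𝐂₁[d]) (t : Tri V 𝐐[𝐂₁[d]] M (V ⊓ 𝐐[𝐂₁[d]]) v x)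
include hx t

theorem cent {c : G} (hc : c ∈ 𝐂₁[d]) (h : ⁅c, v⁆ ∈ 𝐐[𝐂₁[d]]) : ⁅c, d₁⁆ ∈ zpowers d := by
  have hN := le_normalizer_pCoreOf 2 𝐂₁[d]
  have h0 := o.d₁_mem hx t
  have h1 := o.kp hx t h0
  have hi := t.inv_eq h0.1
  have h2 : c * d₁ * c⁻¹ ∈ V := by
    have h3 : d₁ = d₁ * (x * d₁ * x⁻¹) * (x⁻¹ * d₁ * x) * ⁅v, x * d₁ * x⁻¹⁆ := by
      rw [show ⁅v, x * d₁ * x⁻¹⁆ = v * x * v⁻¹ * (v * d₁ * v⁻¹) * (v * x * v⁻¹)⁻¹ * (x * d₁⁻¹ * x⁻¹) by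
        simp only [commutatorElement_def]; group, t.inv, t.comm t.v_mem h0.1, mul_inv_cancel_right]
      nth_rw 5 [← hi]
      group
    rw [h3, ← conj_mul, o.d_comm h1 hc, show c * ⁅v, x * d₁ * x⁻¹⁆ * c⁻¹ =
      ⁅c, v⁆ * ⁅v, c * x * d₁ * (c * x)⁻¹⁆ * ⁅c, v⁆⁻¹ * ⁅⁅c, v⁆, c * x * d₁ * (c * x)⁻¹⁆ by
        simp only [commutatorElement_def]; group]
    exact mul_mem (zpowers_le.2 o.hd h1) (mul_mem (conj_mem_of_mem_normalizer (t.MN (t.OM h))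
      (t.comm_O t.v_mem (conj_mem_of_mem_normalizer (hN (mul_mem hc hx)) h0.2)).1)
      (zpowers_le.2 o.hd (o.conj_O (mul_mem hc hx) h)))
  have h3 : c * d₁ * c⁻¹ ∈ V ⊓ 𝐐[𝐂₁[d]] := ⟨h2, conj_mem_of_mem_normalizer (hN hc) h0.2⟩
  have h4 : c * d₁ * c⁻¹ ≠ 1 := by rw [Ne, conj_eq_one_iff]; exact o.n₁
  have h5 : ¬ Full M V ⊥ (c * d₁ * c⁻¹) := fun hf => by
    obtain ⟨⟨z, hz⟩, hz1⟩ := ne_bot_iff_exists_ne_one.1 o.two.Z_ne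
    have hz1 : z ≠ 1 := fun e => hz1 (Subtype.ext e)
    obtain ⟨n, -, -, e⟩ := o.two.conj_of_full o.b₁ h2 (o.two.Z_le hz) hf (o.two.full_of_mem hz hz1)
    exact (o.full.1 (o.two.full_of_conj h0.1 hz hz1
      (isConj_iff.2 ⟨(n * c)⁻¹, by rw [← e]; group⟩))).1 o.m₁
  rw [commutatorElement_def, o.mem_d]
  rw [o.full, not_and_or, not_not, not_not] at h5
  rcases h5 with h5 | h5
  · left
    rw [((om_mem_zp (t.sq _ h0.1)).1 ((o.mem₁ hx t h5).1 h3)).resolve_left h4, mul_inv_cancel]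
  · right
    rw [((om_mem_zp (t.sq _ (o.W₂ o.m₂))).1 ((o.symm.mem₁ hx t h5).1 h3)).resolve_left h4, hi,
      o.symm.eq]

theorem lemU {F : Subgroup G} (a2 : F ≤ 𝐂₁[d]) (a3 : 𝐂₁[d] ≤ 𝐍[F])
    (a4 : Odd ((𝐐[𝐂₁[d]]).relIndex F)) (hxF : x ∈ F) {y : G} (hy : y ∈ F)
    (t' : Tri V 𝐐[𝐂₁[d]] M (V ⊓ 𝐐[𝐂₁[d]]) v y) : y * x⁻¹ ∈ 𝐐[𝐂₁[d]] ∨ y * x ∈ 𝐐[𝐂₁[d]] := by
  have hN := le_normalizer_pCoreOf 2 𝐂₁[d]
  have := normal_subgroupOf' hN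
  have hVL := o.two.b1_VL o.hd
  have h0 := o.d₁_mem hx t
  have hs : SecHyp 𝐂₁[d] (𝐐[𝐂₁[d]] ⊓ CP.secCent 𝐐[𝐂₁[d]] (zpowers d)) (zpowers d) :=
    ⟨fun u hu => ⟨(o.d_le hx t hu).2, le_normalizer hu, fun q hq => b1_comm_inv (by
        rw [commutatorElement_def, o.d_comm hu (pCoreOf_le _ _ hq), mul_inv_cancel]
        exact one_mem _)⟩,
      commutator_le.2 fun a ha b hb => ha.2.2 b hb.1,
      le_normalizer_inf hN (CP.le_normalizer_secCent hN o.LN), o.LN⟩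
  have hU : d₁ ∈ 𝐐[𝐂₁[d]] ⊓ CP.secCent 𝐐[𝐂₁[d]] (zpowers d) :=
    ⟨h0.2, o.LN (hVL h0.1), fun q hq => b1_comm_inv (o.d₁_O hq)⟩
  have hU' : ∀ g ∈ 𝐂₁[d], g * d₁ * g⁻¹ ∈ 𝐐[𝐂₁[d]] ⊓ CP.secCent 𝐐[𝐂₁[d]] (zpowers d) :=
    fun g hg => conj_mem_of_mem_normalizer (hs.normU hg) hU
  let ρ : (𝐂₁[d] ⧸ (𝐐[𝐂₁[d]]).subgroupOf 𝐂₁[d]) →* Module.End ℤ (Sec hs) :=
    QuotientGroup.lift _ (Sec.rep hs) fun q hq =>
      (Sec.rep_eq_one_iff hs q).2 fun u hu => b1_comm_inv (hu.2.2 q hq)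
  have hρ : ∀ g : 𝐂₁[d], ρ (qπ _ _ g) = Sec.rep hs g := fun g => rfl
  have hFn := qI_normal (C := 𝐐[𝐂₁[d]]) a3
  rw [← card_qI a2] at a4
  have hne : ∀ {y : G} (hy : y ∈ 𝐂₁[d]), Tri V 𝐐[𝐂₁[d]] M (V ⊓ 𝐐[𝐂₁[d]]) v y →
      qπ _ 𝐐[𝐂₁[d]] ⟨y, hy⟩ ≠ 1 := fun hy t e =>
    t.sq_notMem t.pO (mul_mem (qπ_eq_one.1 e) (qπ_eq_one.1 e))
  have hin : ∀ {y : G} (hy : y ∈ 𝐂₁[d]), Tri V 𝐐[𝐂₁[d]] M (V ⊓ 𝐐[𝐂₁[d]]) v y →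
      qπ _ 𝐐[𝐂₁[d]] ⟨v, hVL t.v_mem⟩ * qπ _ _ ⟨y, hy⟩ * (qπ _ _ ⟨v, hVL t.v_mem⟩)⁻¹ =
        (qπ _ _ ⟨y, hy⟩)⁻¹ := fun hy t =>
    qπ_inv.1 (by rw [t.inv, inv_mul_cancel]; exact one_mem _)
  have key := om_lemU ρ (qI _ 𝐐[𝐂₁[d]] F) a4 (v := qπ _ _ ⟨v, hVL t.v_mem⟩) (s := Sec.pr hs d₁)
    (by rw [← map_mul]; exact qπ_eq_one.2 (by
      rw [coe_mul, t.sq v t.v_mem]; exact one_mem _))
    (by rw [← Sec.pr_mul hs hU hU, t.sq _ h0.1, Sec.pr_one])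
    (by rw [hρ, Sec.rep_pr' hs _ hU, t.comm t.v_mem h0.1, mul_inv_cancel_right])
    (by
      rintro _ ⟨u, hu, rfl⟩ h1 h2
      obtain ⟨y, b1, b2, b3, b4, -⟩ := o.two.b1_lift o.hd t.v_mem u.2 ⟨_, a4,
        (qπ_eq_one (x := u ^ _)).1 (by
          rw [map_pow]
          exact congrArg Subtype.val (pow_card_eq_one' (x := (⟨_, qπ_mem hu⟩ : qI _ 𝐐[𝐂₁[d]] F))))⟩
        ((qπ_inv (x := ⟨v, hVL t.v_mem⟩)).2 h1)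
      have e : qπ _ 𝐐[𝐂₁[d]] u = qπ _ _ ⟨y, b1⟩ := by
        rw [eq_comm, ← mul_inv_eq_one, ← map_inv, ← map_mul]
        exact qπ_eq_one.2 b4
      have ty := o.tri t.v_mem (o.v_not hx t) b1 (by
        rintro rfl
        exact h2 (e.trans (qπ_eq_one.2 (one_mem _)))) b2 b3
      rw [e, ← map_inv, hρ, hρ, Ne, Sec.rep_pr_eq_iff hs _ hU,
        show (⟨y, b1⟩ : 𝐂₁[d])⁻¹ = ⟨y⁻¹, inv_mem b1⟩ from rfl, Sec.rep_pr' hs _ hU,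
        Sec.rep_pr' hs _ hU, ← Sec.pr_mul hs hU (hU' _ b1),
        ← Sec.pr_mul hs (mul_mem hU (hU' _ b1)) (hU' _ (inv_mem b1)),
        Sec.pr_eq_zero hs (mul_mem (mul_mem hU (hU' _ b1)) (hU' _ (inv_mem b1))), inv_inv]
      exact ⟨o.kp b1 ty h0, fun h => o.d₁_not
        (o.H _ _ _ b1 ty ▸ ty.mem_D_of_fix h0 (o.H _ _ _ b1 ty ▸ h))⟩)
    (by
      rintro _ ⟨c, -, rfl⟩ h1
      rw [hρ, Sec.rep_pr_eq_iff hs _ hU]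
      exact o.cent hx t c.2 ((qπ_comm (y := ⟨v, hVL t.v_mem⟩)).2 (mul_inv_eq_iff_eq_mul.1 h1).symm))
    (qπ_mem (x := ⟨x, hx⟩) hxF) (qπ_mem (x := ⟨y, a2 hy⟩) hy) (hin hx t) (hin _ t') (hne hx t)
    (hne _ t')
  refine key.imp (fun e => ?_) fun e => ?_
  · rw [← mul_inv_eq_one, ← map_inv, ← map_mul] at e
    exact qπ_eq_one.1 e
  · rw [← mul_eq_one_iff_eq_inv, ← map_mul] at e
    exact qπ_eq_one.1 e

theorem E_le : V ⊓ 𝐐[𝐂₁[d]] ⊔ cj(x, V ⊓ 𝐐[𝐂₁[d]]) ≤ 𝐐[𝐂₁[d]] :=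
  sup_le inf_le_right (cj_le_of_mem_normalizer inf_le_right t.xO)

theorem O_norm : 𝐐[𝐂₁[d]] ≤ 𝐍[V ⊓ 𝐐[𝐂₁[d]] ⊔ cj(x, V ⊓ 𝐐[𝐂₁[d]])] := by
  have h := le_normalizer_inf (t.OM.trans t.MN) le_normalizer
  refine le_normalizer_sup h ?_
  rw [normalizer_cj]
  exact (cj_of_mem_normalizer t.xO).ge.trans (cj_mono x h)

theorem comm_x {q : G} (hq : q ∈ 𝐐[𝐂₁[d]]) : ⁅x, q⁆ ∈ V ⊓ 𝐐[𝐂₁[d]] ⊔ cj(x, V ⊓ 𝐐[𝐂₁[d]]) := by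
  refine (t.mem_of_vv (H := fixMod q _) ⟨t.V_norm t.v_mem, mem_sup_left (t.comm_O t.v_mem hq)⟩
    ⟨t.V_norm' (conj_mem_cj x t.v_mem), mem_sup_right ?_⟩).2
  rw [show ⁅x * v * x⁻¹, q⁆ = x * ⁅v, x⁻¹ * q * x⁆ * x⁻¹ by simp only [commutatorElement_def]; group]
  exact conj_mem_cj x (t.comm_O t.v_mem (inv_conj_mem_of_mem_normalizer t.xO hq))

theorem split₀ {r : G} (hr : r ∈ 𝐂[V]) (h : ⁅r, x⁆ ∈ 𝐐[𝐂₁[d]]) : ∃ u ∈ V, u * r ∈ 𝐂₁[x] := by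
  have h3 : ∀ r : G, (⁅r, x⁆ * x) ^ 3 = 1 := fun r => by
    rw [commutatorElement_def, inv_mul_cancel_right, conj_pow, o.cube hx t]; group
  set E := V ⊓ 𝐐[𝐂₁[d]] ⊔ cj(x, V ⊓ 𝐐[𝐂₁[d]])
  have hE : ⁅r, x⁆ ∈ E := by
    set q := ⁅r, x⁆
    have hn := o.O_norm hx t h
    have h1 : x ∈ fixMod q E := ⟨t.x_norm, o.comm_x hx t h⟩
    have h2 := mul_mem (conj_mem_of_mem_normalizer hn h1.2)
      (conj_mem_of_mem_normalizer (mul_mem hn hn) (mul_mem h1 h1).2)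
    rw [show q * ⁅x, q⁆ * q⁻¹ * (q * q * ⁅x * x, q⁆ * (q * q)⁻¹) = (q * x) ^ 3 * (x ^ 3)⁻¹ * (q ^ 3)⁻¹ by
      simp only [commutatorElement_def, pow_three, mul_inv_rev, mul_assoc, inv_mul_cancel_left,
        mul_inv_cancel_left], h3, o.cube hx t, inv_one, one_mul, one_mul, inv_mem_iff] at h2
    obtain ⟨k, hk⟩ := isPGroup_iff.1 t.pO q h
    exact zpowers_le.2 h2 (mem_zpowers_pow_iff.2 (Nat.Coprime.coprime_dvd_right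
      (orderOf_dvd_of_pow_eq_one hk) (Nat.Coprime.pow_right k (by norm_num))))
  obtain ⟨w, hw, a, ha, e⟩ := t.mem_E.1 hE
  have hr1 : w⁻¹ * r ∈ 𝐂[E] := by
    rw [Amb.centralizer_sup]
    refine ⟨centralizer_anti inf_le_left (mul_mem (inv_mem (o.two.V_comm hw.1)) hr), fun b hb => ?_⟩
    obtain ⟨u, hu, rfl⟩ := mem_cj_iff_exists.1 hb
    rw [eq_comm, ← mul_inv_eq_iff_eq_mul, show w⁻¹ * r * (x * u * x⁻¹) * (w⁻¹ * r)⁻¹ =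
      w⁻¹ * (⁅r, x⁆ * x * (r * u * r⁻¹) * x⁻¹ * ⁅r, x⁆⁻¹) * w by
        simp only [commutatorElement_def]; group, ← hr u hu.1, mul_inv_cancel_right, e,
      show w⁻¹ * (w * a * x * u * x⁻¹ * (w * a)⁻¹) * w = a * (x * u * x⁻¹) * a⁻¹ by group,
      t.comm' (cj_mono x t.le ha) (cj_mono x t.le hb), mul_inv_cancel_right]
  have h4 : ⁅w⁻¹ * r, x⁆ ∈ zpowers d := by
    refine o.Z_E hx t ?_ ?_
    · rw [show ⁅w⁻¹ * r, x⁆ = w⁻¹ * ⁅r, x⁆ * (x * w * x⁻¹) by simp only [commutatorElement_def]; group]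
      exact mul_mem (mul_mem (inv_mem (mem_sup_left hw)) hE) (mem_sup_right (conj_mem_cj x hw))
    · rw [commutatorElement_def, mul_assoc, mul_assoc, ← mul_assoc x]
      exact mul_mem hr1 (conj_mem_of_mem_normalizer
        (normalizer_le_normalizer_centralizer _ t.x_norm) (inv_mem hr1))
  refine ⟨w⁻¹, inv_mem hw.1, mem_centralizer_singleton_iff.2
    (commutatorElement_eq_one_iff_mul_comm.1 ?_)⟩
  have h5 := h3 (w⁻¹ * r)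
  rwa [Commute.mul_pow (mul_inv_eq_iff_eq_mul.1 (o.d_comm h4 hx)).symm, o.cube hx t, mul_one,
    pow_three', t.sq _ (zpowers_le.2 o.hd h4), one_mul] at h5

theorem split {F : Subgroup G} (a2 : F ≤ 𝐂₁[d]) (a3 : 𝐂₁[d] ≤ 𝐍[F])
    (a4 : Odd ((𝐐[𝐂₁[d]]).relIndex F)) (hxF : x ∈ F) {r : G} (hr : r ∈ 𝐂[V]) :
    ∃ u ∈ V, u * r ∈ 𝐂₁[x] := by
  have hL := le_C₁ o.hd hr
  have h1 : v * (r * x * r⁻¹) * v⁻¹ = (r * x * r⁻¹)⁻¹ := by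
    rw [show v * (r * x * r⁻¹) * v⁻¹ = v * r * x * (v * r)⁻¹ by group, hr v t.v_mem,
      show r * v * x * (r * v)⁻¹ = r * (v * x * v⁻¹) * r⁻¹ by group, t.inv, conj_inv]
  rcases o.lemU hx t a2 a3 a4 hxF (conj_mem_of_mem_normalizer (a3 hL) hxF)
    (o.tri t.v_mem (o.v_not hx t) (mul_mem (mul_mem hL hx) (inv_mem hL))
      (by rw [Ne, conj_eq_one_iff]; exact t.ne)
      (by rw [← MulAut.conj_apply, MulEquiv.orderOf_eq]; exact t.odd) h1) with e | e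
  · exact o.split₀ hx t hr e
  · obtain ⟨u, hu, h2⟩ := o.split₀ hx t (mul_mem (o.two.V_comm t.v_mem) hr) (by
      rw [show ⁅v * r, x⁆ = v * (r * x * r⁻¹) * v⁻¹ * x⁻¹ by simp only [commutatorElement_def]; group,
        h1, show (r * x * r⁻¹)⁻¹ * x⁻¹ = x * (r * x * r⁻¹ * x)⁻¹ * x⁻¹ by group]
      exact conj_mem_of_mem_normalizer t.xO (inv_mem e))
    exact ⟨u * v, mul_mem hu t.v_mem, by rwa [mul_assoc]⟩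

theorem A_C₁ {r : G} (hr : r ∈ 𝐂[V]) (h : r ∈ 𝐂₁[x]) : r ∈ 𝐂[cj(x, V ⊓ 𝐐[𝐂₁[d]])] := by
  rw [centralizer_cj, mem_cj, mul_assoc, mem_centralizer_singleton_iff.1 h, inv_mul_cancel_left]
  exact centralizer_anti inf_le_left hr

theorem C_eq (sp : ∀ r ∈ 𝐂[V], ∃ u ∈ V, u * r ∈ 𝐂₁[x]) : 𝐂[V] ≤ V := by
  set Q := 𝐐[𝐂[V]]
  have hQ : Q ≤ 𝐂[V] := pCoreOf_le _ _
  have pQ : IsPGroup 2 Q := isPGroup_pCoreOf _ _
  have hM : M ≤ 𝐍[Q] := o.MC.trans (normalizer_le_normalizer_pCoreOf _ _)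
  have hch : 𝐂[V] ⊓ 𝐂[Q] ≤ Q := o.two.hyp.charC t.pV o.two.V_ne
  have hVQ : V ≤ Q := le_pCoreOf t.pV o.two.V_comm (centralizer_le_normalizer' _)
  have core : ∀ N ≤ Q, M ≤ 𝐍[N] → N ≤ 𝐂₁[x] → N = ⊥ := fun N h1 h2 h3 => by
    by_contra h4
    exact t.x_notMem (o.two.normalizer_eq (pQ.to_le h1) h4 h2 ▸ centralizer_le_normalizer' _
      fun g hg => mem_centralizer_singleton_iff.1 (h3 hg))
  have sq : ∀ r ∈ Q, r * r = 1 := fun r hr => mem_bot.1 (core _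
    (CP.ncl_le (zpowers_le.2 (mul_mem hr hr)) hM) (CP.le_normalizer_ncl _ _) (CP.ncl_le_iff.2 fun m hm => by
      rw [cj_le_iff, zpowers_le, mem_cj, inv_inv, ← conj_mul]
      have h1 := hQ (conj_mem_of_mem_normalizer (hM hm) hr)
      generalize m * r * m⁻¹ = q at h1
      obtain ⟨u, hu, h2⟩ := sp _ h1
      have h3 := mul_mem h2 h2
      rwa [mul_assoc, ← mul_assoc _ u, ← h1 u hu, ← mul_assoc, ← mul_assoc, t.sq u hu, one_mul]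
        at h3) ▸ CP.le_ncl _ _ (mem_zpowers _))
  have ab : Q ≤ 𝐂[Q] := fun a ha b hb => by
    rw [← inv_eq_of_mul_eq_one_right (sq _ (mul_mem hb ha)), mul_inv_rev,
      inv_eq_of_mul_eq_one_right (sq a ha), inv_eq_of_mul_eq_one_right (sq b hb)]
  have hS := CP.le_normalizer_secCent hM t.MN
  have c0 : 𝐂[V] ⊓ CP.secCent Q V ≤ 𝐂[Q] := by
    refine (le_pCoreOf (isPGroup_iff.2 fun c hc => ?_) inf_le_left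
      (o.two.C_le.trans (le_normalizer_inf o.MC hS))).trans ab
    refine ⟨2, ?_⟩
    rw [show c ^ 2 ^ 2 = c * c * (c * c) by norm_num [pow_succ, mul_assoc]]
    refine sq _ (hch ⟨mul_mem hc.1 hc.1, fun r hr => ?_⟩)
    have h1 := hc.2.2 r hr
    rw [eq_comm, ← mul_inv_eq_iff_eq_mul, show c * c * r * (c * c)⁻¹ = c * ⁅c, r⁆ * c⁻¹ * ⁅c, r⁆ * r by
      simp only [commutatorElement_def]; group, ← hc.1 _ h1, mul_inv_cancel_right, t.sq _ h1, one_mul]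
  have hA : cj(x, V ⊓ 𝐐[𝐂₁[d]]) ≤ CP.secCent Q V := fun a ha => ⟨t.MN (t.A_le ha), fun r hr => by
    obtain ⟨u, hu, h1⟩ := sp r (hQ hr)
    have h2 := o.A_C₁ hx t (mul_mem (o.two.V_comm hu) (hQ hr)) h1 a ha
    rw [show ⁅a, r⁆ = a * u⁻¹ * a⁻¹ * (a * (u * r) * a⁻¹ * (u * r)⁻¹) * u by
      simp only [commutatorElement_def]; group, h2, mul_inv_cancel_right, mul_inv_cancel, mul_one]
    exact mul_mem (conj_mem_of_mem_normalizer (t.MN (t.A_le ha)) (inv_mem hu)) hu⟩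
  obtain ⟨a, ha, e⟩ := o.exists_swap hx t
  obtain ⟨k, hk, hk'⟩ := o.exists_k
  have hk₂ : a * k⁻¹ * a⁻¹ ∈ K₂ := e.1 ▸ conj_mem_cj a (inv_mem hk)
  have hk₂' : a * k⁻¹ * a⁻¹ ∉ 𝐂[V] := by
    rwa [← mem_normalizer_iff.1 (o.MC (t.A_le ha)), inv_mem_iff]
  have fpf := fun u => o.KK_fpf (u := u) hk hk₂ hk' hk₂'
  have cube := o.KK_cube hk hk₂
  have hρ : k * (a * k⁻¹ * a⁻¹) ∈ (K₁ ⊔ K₂) ⊓ CP.secCent Q V := ⟨mul_mem_sup hk hk₂, by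
    rw [← mul_assoc, ← mul_assoc]
    exact (CP.secCent Q V).mul_mem (conj_mem_of_mem_normalizer (hS (o.b₁.le hk)) (hA ha))
      (inv_mem (hA ha))⟩
  generalize k * (a * k⁻¹ * a⁻¹) = ρ at fpf cube hρ
  have hB : K₁ ⊔ K₂ ≤ M := sup_le o.b₁.le o.b₂.le
  have hN : M ≤ 𝐍[Q ⊓ 𝐂[(K₁ ⊔ K₂) ⊓ CP.secCent Q V]] :=
    le_normalizer_inf hM (le_normalizer_centralizer (le_normalizer_inf o.KK_norm hS))
  have h1 : ∀ g ∈ CP.secCent Q V, ∀ r ∈ Q, ρ * r * ρ⁻¹ = r → ρ * (g * r * g⁻¹) * ρ⁻¹ = g * r * g⁻¹ →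
      r * g = g * r := fun g hg r hr e1 e2 => by
    rw [eq_comm, ← commutatorElement_eq_one_iff_mul_comm]
    refine fpf _ (hg.2 r hr) ?_
    rw [commutatorElement_def, ← conj_mul, ← conj_inv, e1, e2]
  have h2 := core _ inf_le_left hN fun r hr => by
    obtain ⟨u, hu, h3⟩ := sp r (hQ hr.1)
    have h4 : ∀ r ∈ Q ⊓ 𝐂[(K₁ ⊔ K₂) ⊓ CP.secCent Q V], ρ * r * ρ⁻¹ = r := fun r hr => by
      rw [hr.2 ρ hρ, mul_inv_cancel_right]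
    have h5 := o.V_C hx t hu ((mul_mem_cancel_right (show r ∈ 𝐂[cj(x, V ⊓ 𝐐[𝐂₁[d]])] from
      fun b hb => (h1 b (hA hb) r hr.1 (h4 r hr)
        (h4 _ (conj_mem_of_mem_normalizer (hN (t.A_le hb)) hr))).symm)).1
      (o.A_C₁ hx t (mul_mem (o.two.V_comm hu) (hQ hr.1)) h3))
    exact (mul_mem_cancel_left (mem_centralizer_singleton_iff.2
      (mul_inv_eq_iff_eq_mul.1 (o.d_comm h5 hx)).symm)).1 h3
  have h3 : Q ≤ V := fun r hr => by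
    have h4 := om_norm ab (hM (hB hρ.1)) (c0 ⟨cube, pow_mem hρ.2 3⟩) (fun w hw e1 =>
      mem_bot.1 (h2.le ⟨hw, fun g hg => (h1 g hg.2 w hw e1 (by
        have h5 := c0 ⟨o.KK_comm (commutator_mem_commutator hρ.1 hg.1),
          commutator_le_self _ (commutator_mem_commutator hρ.2 hg.2)⟩ _
          (conj_mem_of_mem_normalizer (hM (hB hg.1)) hw)
        rw [show ρ * (g * w * g⁻¹) * ρ⁻¹ = ⁅ρ, g⁆ * (g * (ρ * w * ρ⁻¹) * g⁻¹) * ⁅ρ, g⁆⁻¹ by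
          simp only [commutatorElement_def]; group, e1, ← h5, mul_inv_cancel_right])).symm⟩)) hr
    have h5 := hρ.2.2 r hr
    rw [show r * (ρ * r * ρ⁻¹) * (ρ * (ρ * r * ρ⁻¹) * ρ⁻¹) =
      r * ⁅ρ, r⁆ * r⁻¹ * (r * r) * (ρ * ⁅ρ, r⁆ * ρ⁻¹) * ⁅ρ, r⁆ * r by
        simp only [commutatorElement_def]; group, sq r hr, mul_one, ← hQ hr _ h5,
      mul_inv_cancel_right] at h4
    rw [eq_inv_of_mul_eq_one_right h4]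
    exact inv_mem (mul_mem (mul_mem h5 (conj_mem_of_mem_normalizer hρ.2.1 h5)) h5)
  exact fun c hc => h3 (hch ⟨hc, centralizer_anti h3 hc⟩)

end Om

end Cfsg.Agent.NG
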