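import Mathlib
import Cfsg.Agent.NG.Omega4_c

set_option autoImplicit false
set_option linter.unusedSectionVars false

namespace Cfsg.Agent.NG

open Subgroup Cfsg.Agent.PLocal Cfsg.Agent.PLocal.Amb Cfsg.Agent.PLocal.JC
open scoped commutatorElement

variable {G : Type*} [Group G] [Finite G]

variable {S M V : Subgroup G}

theorem om_normU (hc : V ≤ 𝐂[V]) (hs : ∀ u ∈ V, u * u = 1) {a g : G} (ha : a * a = 1)
    (hg : g ∈ 𝐍[V]) (h : ⁅g, a⁆ ∈ V) : g ∈ 𝐍[V ⊓ 𝐂₁[a] ⊔ zpowers a] := by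
  refine mem_normalizer_of_cj_le ?_
  rw [cj_sup, sup_le_iff, cj_le_iff_forall, cj_le_iff, zpowers_le, mem_cj, inv_inv]
  refine ⟨fun w hw => mem_sup_left ⟨conj_mem_of_mem_normalizer hg hw.1,
    mem_centralizer_singleton_iff.2 ?_⟩, ?_⟩
  · rw [eq_comm, ← mul_inv_eq_iff_eq_mul, show a * (g * w * g⁻¹) * a⁻¹ =
      ⁅g, a⁆⁻¹ * (g * (a * w * a⁻¹) * g⁻¹) * ⁅g, a⁆ by simp only [commutatorElement_def]; group,
      ← mem_centralizer_singleton_iff.1 hw.2, mul_inv_cancel_right, mul_assoc,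
      hc h _ (conj_mem_of_mem_normalizer hg hw.1), inv_mul_cancel_left]
  · rw [show g * a * g⁻¹ = ⁅g, a⁆ * a by simp only [commutatorElement_def]; group]
    refine mul_mem_sup ⟨h, mem_centralizer_singleton_iff.2 ?_⟩ (mem_zpowers a)
    rw [eq_comm, ← mul_inv_eq_iff_eq_mul, show a * ⁅g, a⁆ * a⁻¹ = ⁅g, a⁆⁻¹ * (g * (a * a) * g⁻¹) *
      (a * a)⁻¹ by simp only [commutatorElement_def]; group, ha,
      inv_eq_of_mul_eq_one_right (hs _ h)]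
    group

namespace Om

variable {K₁ K₂ : Subgroup G} {d d₁ d₂ : G} (o : Om S M V K₁ K₂ d d₁ d₂)
include o

theorem inv_mul {b g h : G} (hb : b ∈ M) (hg : g ∈ K₁ ⊔ K₂) (hh : h ∈ K₁ ⊔ K₂)
    (h1 : b * g * b⁻¹ * g ∈ 𝐂[V]) (h2 : b * h * b⁻¹ * h ∈ 𝐂[V]) :
    b * (g * h) * b⁻¹ * (g * h) ∈ 𝐂[V] := by
  rw [show b * (g * h) * b⁻¹ * (g * h) = b * g * b⁻¹ * ⁅b * h * b⁻¹, g⁆ * (b * g * b⁻¹)⁻¹ *
    (b * g * b⁻¹ * g) * (b * h * b⁻¹ * h) by simp only [commutatorElement_def]; group]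
  exact mul_mem (mul_mem (conj_mem_of_mem_normalizer
    (o.MC (mul_mem (mul_mem hb (sup_le o.b₁.le o.b₂.le hg)) (inv_mem hb)))
    (o.KK_comm (commutator_mem_commutator (conj_mem_of_mem_normalizer (o.KK_norm hb) hh) hg))) h1) h2

variable {v x : G} (hx : x ∈ 𝐂₁[d]) (t : Tri V 𝐐[𝐂₁[d]] M (V ⊓ 𝐐[𝐂₁[d]]) v x)
include hx t

theorem inv₁ {b k : G} (hb : b ∈ cj(x, V ⊓ 𝐐[𝐂₁[d]])) (h1 : b * d₁ * b⁻¹ = d₁) (h2 : b ∉ zpowers d)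
    (hk : k ∈ K₁) (hk' : k ∉ 𝐂[V]) : b * k * b⁻¹ * k ∈ 𝐂[V] := by
  have hM := t.A_le hb
  have h3 := o.norm_of_fix hM o.m₁ o.n₁ h1
  have he := o.K_conj hk o.m₁
  have hs := t.sq _ (o.W₁ o.m₁)
  have he' : k * d₁ * k⁻¹ ∉ zpowers d₁ := fun h => by
    rcases (om_mem_zp hs).1 h with e | e
    · exact o.n₁ (conj_eq_one_iff.1 e)
    · exact hk' (o.K_fpf hk o.m₁ o.n₁ e)
  have h4 : b⁻¹ * d₁ * b⁻¹⁻¹ = d₁ := by nth_rw 1 [← h1]; group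
  have h5 := (om_mem_zp hs).1 (om_comm_idx o.idx₁ (g := b⁻¹)
    (centralizer_le_normalizer' _ (by
      rw [Amb.centralizer_zpowers, mem_centralizer_singleton_iff, ← mul_inv_eq_iff_eq_mul]
      exact h4))
    (inv_mem (cj_eq_iff.1 (by rw [← (o.two.mod.blk_cj o.b₁ hM).2.1, h3.1]))) he)
  have h6 := om_norm (X := bW V ⊥ K₁) (fun a ha c hc => t.comm (o.W₁ hc) (o.W₁ ha))
    (cj_eq_iff.1 (by rw [← (o.two.mod.blk_cj o.b₁ (o.b₁.le hk)).2.1, cj_of_mem hk]))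
    (centralizer_anti o.W₁ (o.K_cube hk))
    (fun w hw e => not_not.1 fun h => hk' (o.K_fpf hk hw h e)) o.m₁
  rcases h5 with h5 | h5
  · obtain ⟨a, ha, e⟩ := o.exists_swap hx t
    have h7 : ∀ w ∈ bW V ⊥ K₁, b * w * b⁻¹ = w := fun w hw => o.cent₁ h1 he he' (by
      rw [mul_assoc, commutatorElement_eq_one_iff_mul_comm.1 h5, mul_inv_cancel_left]) hw
    refine absurd (o.A_C hx t hb (o.centV h7 fun w hw => ?_)) h2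
    have h8 := h7 _ (o.symm.conj₁ (t.A_le ha) e.2 hw)
    rwa [show b * (a * w * a⁻¹) * b⁻¹ = b * a * w * (b * a)⁻¹ by group,
      t.comm' (cj_mono x t.le hb) (cj_mono x t.le ha),
      show a * b * w * (a * b)⁻¹ = a * (b * w * b⁻¹) * a⁻¹ by group, mul_left_inj, mul_right_inj] at h8
  · refine o.K_fpf (mul_mem (h3.1 ▸ conj_mem_cj b hk) hk) o.m₁ o.n₁ ?_
    rw [show b * k * b⁻¹ * k * d₁ * (b * k * b⁻¹ * k)⁻¹ = b * (k * ⁅k * d₁ * k⁻¹, b⁻¹⁆⁻¹ * k⁻¹ *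
      (k * (k * d₁ * k⁻¹) * k⁻¹)) * b⁻¹ by simp only [commutatorElement_def]; group, h5,
      eq_inv_of_mul_eq_one_right h6, show k * d₁⁻¹ * k⁻¹ * (d₁ * (k * d₁ * k⁻¹))⁻¹ =
        k * (d₁ * d₁)⁻¹ * k⁻¹ * d₁⁻¹ by group, hs, inv_one, mul_one, mul_inv_cancel, one_mul,
      inv_eq_of_mul_eq_one_right hs, h1]

theorem final (hC : 𝐂[V] ≤ V) : False := by
  obtain ⟨e₁, b₁, c₁⟩ := o.exists_e
  obtain ⟨e₂, b₂, c₂⟩ := o.symm.exists_e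
  have hδ := (o.mem₀ hx t b₁ b₂).2 (iff_of_false c₁ c₂)
  have ha := conj_mem_cj x hδ
  have h1 := o.kp_comm hx t hδ
  have h0 := o.kp hx t hδ
  have hx1 : x * (x * (e₁ * e₂) * x⁻¹) * x⁻¹ = x⁻¹ * (e₁ * e₂) * x := by
    rw [show x * (x * (e₁ * e₂) * x⁻¹) * x⁻¹ = x * x * (e₁ * e₂) * (x * x)⁻¹ by group, o.sq_eq hx t,
      inv_inv]
  have ha2 : x * (e₁ * e₂) * x⁻¹ * (x * (e₁ * e₂) * x⁻¹) = 1 := by
    rw [conj_mul, t.sq _ hδ.1]; group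
  have had : x * (e₁ * e₂) * x⁻¹ ∉ zpowers d := fun h => by
    rcases o.mem_d.1 ((mem_normalizer_iff.1 (o.LN hx) _).2 h) with e | e
    · exact c₁ ((o.uniq b₁ b₂ (one_mem _) (one_mem _) (by rw [e, one_mul])).1 ▸ one_mem _)
    · exact c₁ ((o.uniq b₁ b₂ o.m₁ o.m₂ (e.trans o.eq)).1 ▸ mem_zpowers _)
  generalize ea : x * (e₁ * e₂) * x⁻¹ = a at ha h1 h0 hx1 ha2 had
  have hM := t.A_le ha
  have hL := o.AL hx t ha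
  have sw := (o.perm hM).resolve_left fun e => had (o.A_fix hx t ha (o.fix hM hL e) b₁ b₂ c₁ c₂ h1)
  have hf : ∀ u ∈ V ⊓ 𝐂₁[a], u ∈ zpowers d ∨ u * (e₁ * e₂) ∈ zpowers d := by
    have h2 : ∀ w₁ ∈ zpowers d₁, ∀ w₂ ∈ bW V ⊥ K₂, a * (w₁ * w₂) * a⁻¹ = w₁ * w₂ →
        w₁ * w₂ ∈ zpowers d := fun w₁ f₁ w₂ f₂ e => by
      have f₃ := zpowers_le.2 o.m₁ f₁
      have f₄ := o.conj₁ hM sw.1 f₃
      have f₅ := o.symm.conj₁ hM sw.2 f₂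
      rw [← (o.uniq f₅ f₄ f₃ f₂ (by rw [t.comm (o.W₁ f₅) (o.W₂ f₄), conj_mul, e])).2, o.mem_d]
      rcases (om_mem_zp (t.sq _ (o.W₁ o.m₁))).1 f₁ with rfl | rfl
      · left; group
      · right; rw [o.swap hM hL sw, o.eq]
    intro u hu
    have h3 := mul_inv_eq_iff_eq_mul.2 (mem_centralizer_singleton_iff.1 hu.2).symm
    obtain ⟨w₁, f₁, w₂, f₂, rfl⟩ := o.dec hu.1
    by_cases f : w₁ ∈ zpowers d₁
    · exact Or.inl (h2 _ f _ f₂ h3)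
    · right
      have h4 : w₁ * w₂ * (e₁ * e₂) = w₁ * e₁ * (w₂ * e₂) := by
        rw [mul_assoc, ← mul_assoc w₂, t.comm (o.W₂ f₂) (o.W₁ b₁)]; group
      rw [h4]
      exact h2 _ ((b1_mul_iff o.idx₁ f₁ b₁).2 (iff_of_false f c₁)) _ (mul_mem f₂ b₂)
        (by rw [← h4, ← conj_mul, h3, h1])
  have nU := fun g => om_normU o.two.V_comm t.sq (g := g) ha2
  have hdU : zpowers d ≤ V ⊓ 𝐂₁[a] := zpowers_le.2
    ⟨o.hd, mem_centralizer_singleton_iff.2 (mem_centralizer_singleton_iff.1 hL).symm⟩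
  have hUE : V ⊓ 𝐂₁[a] ⊔ zpowers a ≤ V ⊓ 𝐐[𝐂₁[d]] ⊔ cj(x, V ⊓ 𝐐[𝐂₁[d]]) :=
    sup_le_sup (fun u hu => (hf u hu).elim (fun h => o.d_le hx t h)
      fun h => (mul_mem_cancel_right hδ).1 (o.d_le hx t h)) (zpowers_le.2 ha)
  have pE := t.pO.to_le (o.E_le hx t)
  have hVU : V ≤ 𝐍[V ⊓ 𝐂₁[a] ⊔ zpowers a] := fun u hu =>
    nU u (le_normalizer hu) (t.le (t.comm_A hu ha))
  have hxU : x ∈ 𝐍[V ⊓ 𝐂₁[a] ⊔ zpowers a] := by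
    refine mem_normalizer_of_cj_le ?_
    rw [cj_sup, sup_le_iff, cj_le_iff_forall, cj_le_iff, zpowers_le, mem_cj, inv_inv]
    refine ⟨fun u hu => ?_, ?_⟩
    · rcases hf u hu with h | h
      · rw [o.d_comm h hx]; exact mem_sup_left hu
      · rw [show x * u * x⁻¹ = x * (u * (e₁ * e₂)) * x⁻¹ * (x * (e₁ * e₂) * x⁻¹)⁻¹ by group, ea,
          o.d_comm h hx]
        exact mul_mem_sup (hdU h) (inv_mem (mem_zpowers a))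
    · rw [hx1]
      exact (mul_mem_cancel_left (mul_mem_sup (show e₁ * e₂ ∈ V ⊓ 𝐂₁[a] from ⟨hδ.1,
        mem_centralizer_singleton_iff.2 (mul_inv_eq_iff_eq_mul.1 h1).symm⟩) (mem_zpowers a))).1
        (mem_sup_left (hdU h0))
  obtain ⟨k, hk, hk'⟩ := o.exists_k
  have hk₂ : a * k * a⁻¹ ∈ K₂ := sw.1 ▸ conj_mem_cj a hk
  have hk₂' : a * k * a⁻¹ ∉ 𝐂[V] := by rwa [← mem_normalizer_iff.1 (o.MC hM)]
  have hρ := mul_mem_sup hk hk₂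
  have hρM := sup_le o.b₁.le o.b₂.le hρ
  have hρU := nU _ (t.MN hρM) (hC (by
    rw [show ⁅k * (a * k * a⁻¹), a⁆ = k * (a * k * a⁻¹) * (a * a * k⁻¹ * (a * a)⁻¹) *
      (a * k * a⁻¹)⁻¹ by simp only [commutatorElement_def]; group, ha2, one_mul, inv_one, mul_one]
    exact o.KK_comm (commutator_mem_commutator (mem_sup_left hk) (mem_sup_right hk₂))))
  have fpf := fun u => o.KK_fpf (u := u) hk hk₂ hk' hk₂'
  have cube := o.KK_cube hk hk₂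
  have κ := o.kp hx t (o.d₁_mem hx t)
  have hb : ⁅x⁻¹ * d₁ * x, x⁆ ∈ cj(x, V ⊓ 𝐐[𝐂₁[d]]) ∧ ⁅x⁻¹ * d₁ * x, x⁆ ∉ zpowers d ∧
      ⁅x⁻¹ * d₁ * x, x⁆ * d₁ * ⁅x⁻¹ * d₁ * x, x⁆⁻¹ = d₁ := by
    have f₁ := o.d₁_mem hx t
    have f₂ := o.kp_comm hx t f₁
    rw [show ⁅x⁻¹ * d₁ * x, x⁆ = (x * d₁ * x⁻¹)⁻¹ * (d₁ * (x * d₁ * x⁻¹) * (x⁻¹ * d₁ * x)) by
      rw [← o.d_comm κ (inv_mem (o.two.b1_VL o.hd f₁.1)), show ⁅x⁻¹ * d₁ * x, x⁆ =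
        x⁻¹ * d₁ * x * d₁⁻¹ by simp only [commutatorElement_def]; group]
      nth_rw 1 [t.inv_eq f₁.1]
      group]
    generalize d₁ * (x * d₁ * x⁻¹) * (x⁻¹ * d₁ * x) = c at κ
    refine ⟨mul_mem (inv_mem (conj_mem_cj x f₁)) (o.d_le' hx t κ), fun h => o.d₁_not
      ((mem_normalizer_iff.1 (o.LN hx) _).2 (inv_mem_iff.1 ((mul_mem_cancel_right κ).1 h))), ?_⟩
    rw [mul_assoc _ c, t.comm (zpowers_le.2 o.hd κ) f₁.1]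
    nth_rw 2 [← f₂]
    group
  have hbE : ⁅x⁻¹ * d₁ * x, x⁆ ∈ ⁅V ⊓ 𝐐[𝐂₁[d]] ⊔ cj(x, V ⊓ 𝐐[𝐂₁[d]]), zpowers x⁆ :=
    commutator_mem_commutator (inv_conj_mem_of_mem_normalizer t.x_norm
      (mem_sup_left (o.d₁_mem hx t))) (mem_zpowers x)
  generalize ⁅x⁻¹ * d₁ * x, x⁆ = b at hb hbE
  have hbM := t.A_le hb.1
  have hi := o.inv_mul hbM (mem_sup_left hk) (mem_sup_right hk₂) (o.inv₁ hx t hb.1 hb.2.2 hb.2.1 hk hk')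
    (o.symm.inv₁ hx t hb.1 (o.symm.fix hbM (o.AL hx t hb.1)
      (o.norm_of_fix hbM o.m₁ o.n₁ hb.2.2).symm) hb.2.1 hk₂ hk₂')
  generalize k * (a * k * a⁻¹) = ρ at hρ hρM hρU fpf cube hi
  have h3 : (ρ * ρ) ^ 3 = 1 := by rw [(Commute.refl ρ).mul_pow, t.sq _ (hC cube)]
  have fpf' : ∀ u ∈ V, ρ * ρ * u * (ρ * ρ)⁻¹ = u → u = 1 := fun u hu e => fpf u hu (by
    nth_rw 1 [← e]
    rw [show ρ * (ρ * ρ * u * (ρ * ρ)⁻¹) * ρ⁻¹ = ρ ^ 3 * u * (ρ ^ 3)⁻¹ by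
      simp only [pow_three, mul_inv_rev, mul_assoc], ← cube u hu, mul_inv_cancel_right])
  have hN := t.MN (mul_mem hρM hρM)
  have h4 := om_norm o.two.V_comm hN (h3 ▸ one_mem _) fpf' t.v_mem
  have h5 := perfK (N := 𝐍[V ⊓ 𝐂₁[a] ⊔ zpowers a]) (C := ⊥) (t₁ := v)
    (o.two.hyp.solv _ (pE.to_le hUE) fun e => o.d_ne
      (mem_bot.1 (e ▸ mem_sup_left (hdU (mem_zpowers d)))))
    (fun g _ => cj_eq_iff.1 (cj_bot g)) hVU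
    (sup_le (inf_le_left.trans hVU) fun c hc => nU c (t.MN (t.A_le hc)) (by
      rw [commutatorElement_eq_one_iff_mul_comm.2 (t.comm' (cj_mono x t.le hc) (cj_mono x t.le ha))]
      exact one_mem _))
    (pRes_eq_bot t.pV).le (pRes_eq_bot pE).le (mul_mem hρU hρU) hxU
    ((show Odd 3 by decide).of_dvd_nat (orderOf_dvd_of_pow_eq_one h3)) t.odd hN t.x_norm
    (by
      have h6 := conj_mem_of_mem_normalizer hN t.v_mem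
      rw [mul_assoc] at h4
      rw [eq_inv_of_mul_eq_one_left h4, t.inv_eq (mul_mem h6 (conj_mem_of_mem_normalizer hN h6))]
      convert commutator_mem_commutator h6 (mem_zpowers (ρ * ρ)) using 1
      rw [commutatorElement_def, t.inv_eq h6]
      simp only [mul_assoc])
    hbE (t.V_norm t.v_mem) (t.MN hbM) (by rw [t.inv, inv_mul_cancel]; exact one_mem _)
    (hC (o.inv_mul hbM hρ hρ hi hi))
  exact o.d_ne (fpf' d o.hd (by rw [mem_bot.1 h5]; group))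

end Om

/-- The `Ω₄⁺(2)` configuration is impossible.  The hypothesis `H` is what the general part of the
proof of `Two.b1` gives. -/
theorem Two.omega4 (h : Two S M V) {K₁ K₂ : Subgroup G} (h₁ : Blk M V ⊥ K₁) (h₂ : Blk M V ⊥ K₂)
    (hne : K₁ ≠ K₂) (h16 : Nat.card V = 16) {d : G} (hd : d ∈ V) (h1 : d ≠ 1)
    (hc : ¬ 𝐂₁[d] ≤ M) (hV : ¬ V ≤ 𝐐[𝐂₁[d]])
    (H : ∀ (V₀ : Subgroup G) (v x : G), V ⊓ 𝐐[𝐂₁[d]] ≤ V₀ → V₀ ≤ V → V₀.relIndex V = 2 → v ∈ V →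
      v ∉ V₀ → x ∈ 𝐂₁[d] → x ≠ 1 → Odd (orderOf x) → v * x * v⁻¹ = x⁻¹ →
      (∀ w ∈ V₀, ⁅w, x⁆ ∈ 𝐐[𝐂₁[d]]) →
      V ⊓ cj(x, V) = zpowers d ∧ cj(x, V₀) ≤ M ∧ ⁅V₀, cj(x, V₀)⁆ ≤ zpowers d ∧
        V₀ = ⁅zpowers v, cj(x, V₀)⁆ ⊔ zpowers d ∧ x ∈ 𝐍[V₀ ⊔ cj(x, V₀)] ∧
        (∀ e ∈ V₀ ⊔ cj(x, V₀), ⁅e, x⁆ ∈ zpowers d → e ∈ zpowers d) ∧
        (∀ a ∈ cj(x, V₀), Commute a v → a ∈ zpowers d)) : False := by
  obtain ⟨d₁, m₁, d₂, m₂, e⟩ := h.om_dec h₁ h₂ hne h16 hd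
  have hf : Full M V ⊥ d := not_not.1 fun hf => hc (h.centralizer_le hd h1 hf)
  have o : Om S M V K₁ K₂ d d₁ d₂ := ⟨h, h₁, h₂, hne, h16, m₁, m₂,
    fun e1 => hf _ h₁ (by rwa [h.om_fx h₁ h₂ hne h16, e, e1, one_mul]),
    fun e1 => hf _ h₂ (by rwa [h.om_fx h₂ h₁ hne.symm h16, e, e1, mul_one]), e, hV,
    fun V₀ v x hx t => (H V₀ v x t.inf_le t.le t.idx t.v_mem t.v_not hx t.ne t.odd t.inv t.cm).1⟩
  obtain ⟨F, a1, a2, a3, a4, a5⟩ := h.b1_fit hd h1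
  obtain ⟨V₀, x, b1, b2, b3, b4, b5, b6, -, b7, b8⟩ := hyperplane_mod
    (h.hyp.solvC₁ (h.b1_sq hd) h1 le_rfl) (le_normalizer_pCoreOf 2 𝐂₁[d]) a1 a2 a3 a4 a5
    (h.b1_VL hd) (h.b1_eamod _) hV
  obtain ⟨v, hv, hv0⟩ : ∃ v ∈ V, v ∉ V₀ := SetLike.not_le_iff_exists.1 fun e => by
    rw [relIndex_eq_one.2 e] at b3; omega
  obtain ⟨y, c1, c2, c3, c4, -⟩ := h.b1_lift hd hv (a2 b4)
    ⟨_, b6, by rw [pow_orderOf_eq_one]; exact one_mem _⟩ (b8 v hv hv0)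
  have t := o.tri hv (fun e => hv0 (b1 ⟨hv, e⟩)) c1 (fun e => b5 (by simpa [e] using c4)) c2 c3
  exact o.final c1 t (o.C_eq c1 t fun r hr => o.split c1 t a2 a3 a4
    ((mul_mem_cancel_right (inv_mem b4)).1 (a1 ⟨c4, pCoreOf_le _ _ c4⟩)) hr)

end Cfsg.Agent.NG
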