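import Mathlib
import Cfsg.Agent.NG.Omega4
import Cfsg.Agent.NG.B1b

set_option autoImplicit false

namespace Cfsg.Agent.NG

open Subgroup Cfsg.Agent.PLocal Cfsg.Agent.PLocal.Amb Cfsg.Agent.PLocal.JC
open scoped commutatorElement

variable {G : Type*} [Group G] [Finite G]

variable {S M V : Subgroup G} {d : G} {V₀ : Subgroup G} {v x : G}

omit [Finite G] in
theorem Tri.d_mem {O : Subgroup G} (hd : d ∈ V) (hx : x ∈ 𝐂₁[d]) (_t : Tri V O M V₀ v x) :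
    d ∈ V ⊓ cj(x, V) :=
  ⟨hd, mem_cj.2 (by rwa [mul_assoc, ← mem_centralizer_singleton_iff.1 hx, inv_mul_cancel_left])⟩

theorem Two.b1_ne (h : Two S M V) (hd : d ∈ V) (h1 : d ≠ 1) (hx : x ∈ 𝐂₁[d])
    (t : Tri V 𝐐[𝐂₁[d]] M V₀ v x) : ¬ V₀ ≤ V ⊓ cj(x, V) := fun e => by
  refine t.ne (eq_one_of_char (h.hyp.charC₁ (h.b1_sq hd) h1) hx t.odd t.cD
    (t.pV.to_le inf_le_left) fun q hq => ?_)
  refine (t.mem_sec t.cD).1 (t.mem_of_vv ((t.mem_sec (t.cD_v t.v_mem)).2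
    (e (t.inf_le (t.comm_O t.v_mem hq)))) ((t.mem_sec (t.cD_v' (conj_mem_cj x t.v_mem))).2 ?_))
  rw [show ⁅x * v * x⁻¹, q⁆ = x * ⁅v, x⁻¹ * q * x⁆ * x⁻¹ by
    simp only [commutatorElement_def]; group]
  exact conj_mem_of_mem_normalizer (centralizer_le_normalizer' _ t.cD)
    (e (t.inf_le (t.comm_O t.v_mem (inv_conj_mem_of_mem_normalizer t.xO hq))))

namespace Tri

variable {O : Subgroup G} (t : Tri V O M V₀ v x)
include t

omit [Finite G] in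
theorem C_inf : 𝐂[V] ⊓ cj(x, V₀) = V ⊓ cj(x, V) :=
  le_antisymm (fun a ha => t.inj ha.2 (by
    rw [commutatorElement_eq_one_iff_mul_comm.2 (ha.1 v t.v_mem)]; exact one_mem _))
    (le_inf (fun a ha u hu => t.comm hu ha.1) t.D_le')

theorem idx_A : (𝐂[V]).relIndex cj(x, V₀) = (V ⊓ cj(x, V)).relIndex V₀ := by
  have h1 := Grp.card_inf_mul_relIndex' 𝐂[V] cj(x, V₀)
  rw [t.C_inf, card_cj, ← Grp.card_mul_relIndex t.D_le] at h1
  exact Nat.eq_of_mul_eq_mul_left Nat.card_pos h1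

omit [Finite G] in
theorem idx_D : (V ⊓ cj(x, V)).relIndex V = (V ⊓ cj(x, V)).relIndex V₀ * 2 := by
  rw [← t.idx, relIndex_mul_relIndex _ _ _ t.D_le t.le]

omit [Finite G] in
theorem sq_A {a : G} (ha : a ∈ cj(x, V₀)) : a * a = 1 := by
  obtain ⟨w, hw, rfl⟩ := ha
  rw [← map_mul, t.sq w (t.le hw), map_one]

omit [Finite G] in
theorem comm_fix {a : G} (ha : a ∈ cj(x, V₀)) : a * ⁅v, a⁆ = ⁅v, a⁆ * a := by
  have h1 : a * v * a⁻¹ ∈ V := conj_mem_of_mem_normalizer (t.MN (t.A_le ha)) t.v_mem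
  have h2 : ⁅v, a⁆ = v * (a * v * a⁻¹) := by
    rw [commutatorElement_def, t.inv_eq t.v_mem]; group
  rw [h2, ← mul_inv_eq_iff_eq_mul, t.comm t.v_mem h1]
  calc a * (a * v * a⁻¹ * v) * a⁻¹ = (a * a) * v * (a * a)⁻¹ * (a * v * a⁻¹) := by group
    _ = _ := by rw [t.sq_A ha, ← t.comm t.v_mem h1]; group

end Tri

theorem Two.b1_nf (h : Two S M V) (hn : NF M V) {O : Subgroup G} (t : Tri V O M V₀ v x)
    (hne : ¬ V₀ ≤ V ⊓ cj(x, V)) : False := by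
  have hA : ¬ cj(x, V₀) ≤ 𝐂[V] := fun e => hne (relIndex_eq_one.1 (by
    rw [← t.idx_A, relIndex_eq_one.2 e]))
  obtain ⟨h1, h2⟩ := h.mod.nf hn t.A_le ⟨commutator_le.2 fun a ha b hb => by
    rw [commutatorElement_eq_one_iff_mul_comm.2 (t.comm' (cj_mono x t.le ha) (cj_mono x t.le hb))]
    exact one_mem _, fun a ha => by rw [t.sq_A ha]; exact one_mem _⟩ (by rwa [secCent_bot])
  rw [secCent_bot, fx_bot, t.idx_A] at h1 h2
  have hD : V ⊓ cj(x, V) ≤ V ⊓ 𝐂[cj(x, V₀)] :=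
    le_inf inf_le_left fun a ha b hb => t.comm' (cj_mono x t.le hb) ha.2
  have h3 := relIndex_mul_relIndex _ _ _ hD inf_le_left
  rw [t.idx_D] at h3
  have h0 : (V ⊓ cj(x, V)).relIndex V₀ ≠ 0 := index_ne_zero_of_finite
  have h0' : (V ⊓ cj(x, V)).relIndex (V ⊓ 𝐂[cj(x, V₀)]) ≠ 0 := index_ne_zero_of_finite
  have h4 : (V ⊓ cj(x, V)).relIndex (V ⊓ 𝐂[cj(x, V₀)]) = 1 := by
    by_contra h4
    have := Nat.mul_le_mul (show 2 ≤ (V ⊓ cj(x, V)).relIndex (V ⊓ 𝐂[cj(x, V₀)]) by omega) h1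
    omega
  rw [h4] at h3
  have h5 : (𝐂[V]).relIndex cj(x, V₀) = 2 := by
    have : (V ⊓ cj(x, V)).relIndex V₀ ≠ 1 := fun e => hne (relIndex_eq_one.1 e)
    rw [t.idx_A]
    omega
  obtain ⟨a, ha, ha'⟩ := SetLike.not_le_iff_exists.1 hA
  refine ha' (t.C_inf.ge (t.inj ha (relIndex_eq_one.1 h4 ⟨t.le (t.comm_A t.v_mem ha),
    fun b hb => ?_⟩))).1
  have hc := t.le (t.comm_A t.v_mem ha)
  by_cases hb' : b ∈ 𝐂[V]
  · exact (hb' _ hc).symm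
  · have := (b1_mul_iff h5 hb ha).2 (iff_of_false hb' ha') _ hc
    rw [show b = b * a * a by rw [mul_assoc, t.sq_A ha, mul_one], mul_assoc (b * a), t.comm_fix ha,
      ← mul_assoc, ← this, mul_assoc, mul_assoc]

omit [Finite G] in
theorem b1_card_blk {K : Subgroup G} (hK : Blk M V ⊥ K) : Nat.card (bW V ⊥ K) = 4 := by
  rw [← hK.card, relIndex_bot_left]

theorem Two.b1_norm (h : Two S M V) {O : Subgroup G} (t : Tri V O M V₀ v x)
    (hr : 3 ≤ {K | Blk M V ⊥ K}.ncard) {K : Subgroup G} (hK : Blk M V ⊥ K) {w a : G}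
    (hw : w ∈ bW V ⊥ K) (hw0 : w ∈ V₀) (ha : a ∈ cj(x, V₀)) : a * w * a⁻¹ = w := by
  obtain ⟨K', hK', hne⟩ := Set.exists_mem_notMem_of_ncard_lt_ncard (s := {K, cj(a, K)})
    (t := {K | Blk M V ⊥ K}) (lt_of_le_of_lt (Set.ncard_insert_le _ _) (by rw [Set.ncard_singleton]; exact hr))
  simp only [Set.mem_insert_iff, Set.mem_singleton_iff, not_or] at hne
  obtain ⟨b1, b2, -⟩ := h.mod.blk_cj hK (t.A_le ha)
  have h1 := (h.mod.blk_ne hK' hK hne.1).1 hw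
  have h2 := (h.mod.blk_ne hK' b1 hne.2).1 (b2 ▸ conj_mem_cj a hw)
  have h3 := (h.card_le_four hK' inf_le_left fun e => t.x_notMem (e t.cD)).2.1
  have h4 : ⁅a, w⁆ ∈ (⊥ : Subgroup G) :=
    h3.le ⟨b1_comm_inv (t.comm_D hw0 ha), (fx V ⊥ K').mul_mem h2 ((fx V ⊥ K').inv_mem h1)⟩
  exact mul_inv_eq_one.1 (mem_bot.1 h4)

theorem Two.b1_two (h : Two S M V) {O : Subgroup G} (t : Tri V O M V₀ v x)
    (hr : 3 ≤ {K | Blk M V ⊥ K}.ncard) : (V ⊓ cj(x, V)).relIndex V₀ ≤ 2 := by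
  obtain ⟨K, hK, hKV⟩ : ∃ K, Blk M V ⊥ K ∧ ¬ bW V ⊥ K ≤ V₀ := by
    by_contra! e
    obtain ⟨K, hK⟩ := Set.nonempty_of_ncard_ne_zero (show {K | Blk M V ⊥ K}.ncard ≠ 0 by omega)
    refine t.v_not ((show V ≤ V₀ from ?_) t.v_mem)
    rw [← (h.blocks hK).1, ← h.mod.bWs_all.1]
    exact sup_le bot_le (iSup₂_le e)
  obtain ⟨u, hu, hu0⟩ := SetLike.not_le_iff_exists.1 hKV
  have hWV := h.mod.bW_le (hK.le)
  have h1 : V₀.relIndex (bW V ⊥ K) = 2 := by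
    have := relIndex_le_of_le_right hWV (show V₀.relIndex V ≠ 0 from index_ne_zero_of_finite)
    have h2 : V₀.relIndex (bW V ⊥ K) ≠ 0 := index_ne_zero_of_finite
    have h3 : V₀.relIndex (bW V ⊥ K) ≠ 1 := fun e => hKV (relIndex_eq_one.1 e)
    rw [t.idx] at this
    omega
  have h2 := Grp.card_inf_mul_relIndex' V₀ (bW V ⊥ K)
  rw [h1, b1_card_blk hK] at h2
  obtain ⟨⟨w, hw⟩, hw1⟩ := ne_bot_iff_exists_ne_one.1 (show V₀ ⊓ bW V ⊥ K ≠ ⊥ from fun e => by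
    rw [e, card_bot] at h2; omega)
  have hn : ∀ a ∈ cj(x, V₀), a * u * a⁻¹ ∈ bW V ⊥ K := fun a ha => conj_mem_of_mem_normalizer
    (h.mod.mem_normalizer_blk hK (t.A_le ha) hw.2 (fun e => hw1 (Subtype.ext (mem_bot.1 e)))
      (by rw [h.b1_norm t hr hK hw.2 hw.1 ha]; exact hw.2)).2 hu
  have h3 := b1_relIndex_le (A := cj(x, V₀)) (B := V₀ ⊓ bW V ⊥ K) (D := 𝐂[V]) (D' := ⊥)
    (fun a => ⁅u, a⁆) (fun a ha => ⟨t.comm_A (hWV hu) ha, by
      rw [show ⁅u, a⁆ = u * (a * u * a⁻¹)⁻¹ by simp only [commutatorElement_def]; group]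
      exact (bW V ⊥ K).mul_mem hu ((bW V ⊥ K).inv_mem (hn a ha))⟩) fun a ha b hb => by
      have hc := mul_mem (inv_mem ha) hb
      rw [show ⁅u, a⁆⁻¹ * ⁅u, b⁆ = a * ⁅u, a⁻¹ * b⁆ * a⁻¹ by
        simp only [commutatorElement_def]; group, mem_bot, conj_eq_one_iff]
      refine ⟨fun e => (t.C_inf.ge (t.inj hc ?_)).1,
        fun e => commutatorElement_eq_one_iff_mul_comm.2 (e u (hWV hu))⟩
      have h4 : v * u ∈ V₀ := (b1_mul_iff t.idx t.v_mem (hWV hu)).2 (iff_of_false t.v_not hu0)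
      have := t.comm_D h4 hc
      rwa [show ⁅v * u, a⁻¹ * b⁆ = v * ⁅u, a⁻¹ * b⁆ * v⁻¹ * ⁅v, a⁻¹ * b⁆ by
        simp only [commutatorElement_def]; group, e, mul_one, mul_inv_cancel, one_mul] at this
  rw [t.idx_A, relIndex_bot_left] at h3
  omega

theorem Two.b1_f2 (h : Two S M V) (h2 : F2 M V) (hd : d ∈ V) (h1 : d ≠ 1) (hx : x ∈ 𝐂₁[d])
    (t : Tri V 𝐐[𝐂₁[d]] M V₀ v x) : Nat.card V = 16 ∧ V ⊓ cj(x, V) = zpowers d := by
  obtain ⟨hc, hr⟩ := h.card_F2 h2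
  obtain ⟨K, -, hK, -, -⟩ := h2
  have hxD : ¬ 𝐂[V ⊓ cj(x, V)] ≤ M := fun e => t.x_notMem (e t.cD)
  have h4 := (h.card_le_four hK inf_le_left hxD).2.2
  have h5 := Grp.card_mul_relIndex (inf_le_left : V ⊓ cj(x, V) ≤ V)
  rw [t.idx_D] at h5
  have h16 : Nat.card V = 16 := by
    rcases hr.eq_or_lt with e | e
    · rw [hc, ← e]; norm_num
    · have h6 := Nat.mul_le_mul h4 (Nat.mul_le_mul_right 2 (h.b1_two t e))
      have h7 := Nat.pow_le_pow_right (show 0 < 4 by norm_num) e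
      omega
  refine ⟨h16, ?_⟩
  have hz : zpowers d ≤ V ⊓ cj(x, V) := zpowers_le.2 (t.d_mem hd hx)
  have hz2 : Nat.card (zpowers d) = 2 := by
    rw [Nat.card_zpowers]; exact orderOf_eq_prime (by rw [pow_two, h.b1_sq hd]) h1
  refine (eq_of_le_of_card_ge hz (not_lt.1 fun hlt => ?_)).symm
  have h6 : Nat.card ↥(V ⊓ cj(x, V)) = 4 := by
    have := card_dvd_of_le hz
    rw [hz2] at this hlt
    rw [h16] at h5
    interval_cases Nat.card ↥(V ⊓ cj(x, V)) <;> omega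
  have h7 : (𝐂[V]).relIndex cj(x, V₀) = 2 := by rw [t.idx_A]; rw [h6, h16] at h5; omega
  obtain ⟨a, ha, ha'⟩ := SetLike.not_le_iff_exists.1 (show ¬ cj(x, V₀) ≤ 𝐂[V] from fun e => by
    rw [relIndex_eq_one.2 e] at h7; omega)
  have hf : ∀ u, u ∈ fx V ⊥ (zpowers a) ↔ u ∈ V ∧ u * a = a * u := fun u => by
    rw [h.mod.mem_fx_zpowers (t.A_le ha), mem_bot, commutatorElement_eq_one_iff_mul_comm]
  have hD : V ⊓ cj(x, V) ≤ fx V ⊥ (zpowers a) := fun u hu =>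
    (hf u).2 ⟨hu.1, t.comm' hu.2 (cj_mono x t.le ha)⟩
  have hle : fx V ⊥ (zpowers a) ≤ V := inf_le_left
  have h8 := Grp.card_mul_relIndex hle
  have h9 : Nat.card (fx V ⊥ (zpowers a)) = 8 := by
    have e1 := card_dvd_of_le hD
    have e2 : Nat.card (fx V ⊥ (zpowers a)) ≠ 4 := fun e => ha' (t.C_inf.ge (t.inj ha
      ((eq_of_le_of_card_ge hD (by omega)).ge ((hf _).2
        ⟨t.le (t.comm_A t.v_mem ha), (t.comm_fix ha).symm⟩)))).1
    have e3 : Nat.card (fx V ⊥ (zpowers a)) ≠ 16 := fun e => ha' fun u hu =>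
      ((hf u).1 ((eq_of_le_of_card_ge hle (by omega)).ge hu)).2
    have e4 := card_dvd_of_le hle
    rw [h16] at e4
    rw [h6] at e1
    have e5 := Nat.le_of_dvd (by norm_num) e4
    interval_cases Nat.card (fx V ⊥ (zpowers a)) <;> omega
  obtain ⟨K', hK'⟩ := h.mod.exists_tv (t.A_le ha) (by rw [h9, h16] at h8; omega)
  have hV := h.mod.bW_le hK'.blk.le
  have hN : ∀ {A B : Subgroup G}, A ≤ V → B ≤ V → A ≤ 𝐍[B] := fun hA hB =>
    (show _ ≤ 𝐂[_] from fun a ha b hb => t.comm (hB hb) (hA ha)).trans (centralizer_le_normalizer' _)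
  have e1 := Grp.card_sup_mul_card_inf_of_le_normalizer
    (hN (B := fx V ⊥ K') hV inf_le_left)
  rw [(h.mod.blk_compl hK'.blk).1, (h.mod.blk_compl hK'.blk).2, card_bot, h16,
    b1_card_blk hK'.blk] at e1
  have e2 := Grp.card_sup_mul_card_inf_of_le_normalizer
    (hN (A := V ⊓ cj(x, V)) (B := fx V ⊥ K') inf_le_left inf_le_left)
  rw [(h.card_le_four hK'.blk inf_le_left hxD).2.1, card_bot, h6] at e2
  have e3 := card_le_of_le (sup_le hD hK'.fix)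
  omega

/-- Lemma B1 -/
theorem Two.b1 (h : Two S M V) {d : G} (hd : d ∈ V) (h1 : d ≠ 1) (hc : ¬ 𝐂₁[d] ≤ M) :
    V ≤ 𝐐[𝐂₁[d]] := by
  by_contra hV
  obtain ⟨V₀, v, x, hx, t⟩ := h.exists_tri hd h1 hV
  rcases h.cases with hn | h2 | h4
  · exact h.b1_nf hn t (h.b1_ne hd h1 hx t)
  · obtain ⟨K₁, K₂, h₁, h₂, hne⟩ := id h2
    refine h.omega4 h₁ h₂ hne (h.b1_f2 h2 hd h1 hx t).1 hd h1 hc hV
      fun V₀ v x a1 a2 a3 a4 a5 a6 a7 a8 a9 a10 => ?_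
    have t := h.tri hd h1 a1 a2 a3 a4 a5 a6 a7 a8 a9 a10
    have e := (h.b1_f2 h2 hd h1 a6 t).2
    refine ⟨e, t.A_le, commutator_le.2 fun w hw a ha => e ▸ t.comm_D hw ha, e ▸ t.V₀_eq, t.x_norm,
      fun u hu hc => e ▸ t.fpf hu (e ▸ hc), fun a ha hc => e ▸ t.inj ha ?_⟩
    rw [commutatorElement_eq_one_iff_commute.2 hc.symm]
    exact one_mem _
  · refine h.b1_ne hd h1 hx t (eq_of_le_of_card_ge t.D_le ?_).ge
    have e1 := Grp.card_mul_relIndex t.le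
    rw [t.idx, h4] at e1
    have e2 := (one_lt_card_iff_ne_bot _).2 (show V ⊓ cj(x, V) ≠ ⊥ from fun e =>
      h1 (mem_bot.1 (e ▸ t.d_mem hd hx)))
    omega

end Cfsg.Agent.NG
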