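import Mathlib
import Cfsg.Agent.NG.B1
import Cfsg.Agent.PLocal.PIrred

set_option autoImplicit false

namespace Cfsg.Agent.NG

open Subgroup Cfsg.Agent.PLocal Cfsg.Agent.PLocal.Amb Cfsg.Agent.PLocal.CP Cfsg.Agent.PLocal.JC
open scoped commutatorElement

variable {G : Type*} [Group G] [Finite G]

section tr

variable {K X X' : Subgroup G}

theorem tr_mk (h : K ≤ 𝐍[X]) (g : G) : tr X (g : G ⧸ K) = cj(g, X) := by
  obtain ⟨k, hk⟩ := QuotientGroup.mk_out_eq_mul K g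
  rw [tr, hk, cj_mul, cj_of_mem_normalizer (h k.2)]

theorem tr_smul (h : K ≤ 𝐍[X]) (g : G) (q : G ⧸ K) : tr X (g • q) = cj(g, tr X q) := by
  induction q using QuotientGroup.induction_on with
  | H x => rw [MulAction.Quotient.smul_coe, smul_eq_mul, tr_mk h, tr_mk h, cj_mul]

theorem tr_mono (h : X ≤ X') (q : G ⧸ K) : tr X q ≤ tr X' q := cj_mono _ h

theorem mem_tr_self {g : G} {q : G ⧸ K} : g ∈ tr K q ↔ g • q = q := by
  induction q using QuotientGroup.induction_on with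
  | H x =>
    rw [tr_mk le_normalizer, mem_cj, MulAction.Quotient.smul_coe, smul_eq_mul, eq_comm,
      QuotientGroup.eq, mul_assoc]

end tr

variable {S M V D H Y F : Subgroup G}

theorem Inc.smul {β : G ⧸ H} {l : G ⧸ M} (h : Inc M H β l) (g : G) : Inc M H (g • β) (g • l) := by
  obtain ⟨x, rfl, rfl⟩ := h
  exact ⟨g * x, rfl, rfl⟩

theorem exists_inc_line (M : Subgroup G) (β : G ⧸ H) : ∃ l : G ⧸ M, Inc M H β l := by
  induction β using QuotientGroup.induction_on with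
  | H x => exact ⟨x, x, rfl, rfl⟩

theorem exists_inc_point (H : Subgroup G) (l : G ⧸ M) : ∃ β : G ⧸ H, Inc M H β l := by
  induction l using QuotientGroup.induction_on with
  | H x => exact ⟨x, x, rfl, rfl⟩

theorem Inc.exists_line {β : G ⧸ H} {l l' : G ⧸ M} (h : Inc M H β l) (h' : Inc M H β l') :
    ∃ g ∈ tr H β, g • l = l' := by
  obtain ⟨x, rfl, rfl⟩ := h
  obtain ⟨y, hy, rfl⟩ := h'
  refine ⟨y * x⁻¹, mem_tr_self.2 ?_, ?_⟩
  · rw [MulAction.Quotient.smul_coe, smul_eq_mul, inv_mul_cancel_right, hy]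
  · rw [MulAction.Quotient.smul_coe, smul_eq_mul, inv_mul_cancel_right]

theorem Inc.exists_point {β β' : G ⧸ H} {l : G ⧸ M} (h : Inc M H β l) (h' : Inc M H β' l) :
    ∃ g ∈ tr M l, g • β = β' := by
  obtain ⟨x, rfl, rfl⟩ := h
  obtain ⟨y, rfl, hy⟩ := h'
  refine ⟨y * x⁻¹, mem_tr_self.2 ?_, ?_⟩
  · rw [MulAction.Quotient.smul_coe, smul_eq_mul, inv_mul_cancel_right, hy]
  · rw [MulAction.Quotient.smul_coe, smul_eq_mul, inv_mul_cancel_right]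

theorem PP.succ {n : ℕ} {β γ : G ⧸ H} (h : PP M H n β γ) : PP M H (n + 1) β γ := by
  obtain ⟨l, hl⟩ := exists_inc_line M γ
  exact ⟨γ, l, h, hl, hl⟩

theorem PP.refl (n : ℕ) (β : G ⧸ H) : PP M H n β β := by
  induction n with
  | zero => rfl
  | succ n ih => exact ih.succ

theorem PP.mono {m n : ℕ} {β γ : G ⧸ H} (h : PP M H m β γ) (hmn : m ≤ n) : PP M H n β γ := by
  induction hmn with
  | refl => exact h
  | step _ ih => exact ih.succ

theorem PP.cons {n : ℕ} {β δ γ : G ⧸ H} {l : G ⧸ M} (h1 : Inc M H β l) (h2 : Inc M H δ l)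
    (h : PP M H n δ γ) : PP M H (n + 1) β γ := by
  induction n generalizing γ with
  | zero => exact ⟨β, l, rfl, h1, (show δ = γ from h) ▸ h2⟩
  | succ n ih =>
    obtain ⟨ε, l', h3, h4, h5⟩ := h
    exact ⟨ε, l', ih h3, h4, h5⟩

theorem PP.symm {n : ℕ} {β γ : G ⧸ H} (h : PP M H n β γ) : PP M H n γ β := by
  induction n generalizing γ with
  | zero => exact Eq.symm h
  | succ n ih =>
    obtain ⟨ε, l, h3, h4, h5⟩ := h
    exact PP.cons h5 h4 (ih h3)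

theorem PP.trans {m n : ℕ} {β γ δ : G ⧸ H} (h : PP M H m β γ) (h' : PP M H n γ δ) :
    PP M H (m + n) β δ := by
  induction n generalizing δ with
  | zero => exact (show γ = δ from h') ▸ h
  | succ n ih =>
    obtain ⟨ε, l, h3, h4, h5⟩ := h'
    exact ⟨ε, l, ih h3, h4, h5⟩

theorem PP.of_inc {β γ : G ⧸ H} {l : G ⧸ M} (h : Inc M H β l) (h' : Inc M H γ l) :
    PP M H 1 β γ := ⟨β, l, rfl, h, h'⟩

theorem PP.smul {n : ℕ} {β γ : G ⧸ H} (h : PP M H n β γ) (g : G) :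
    PP M H n (g • β) (g • γ) := by
  induction n generalizing γ with
  | zero => exact congrArg (g • ·) h
  | succ n ih =>
    obtain ⟨ε, l, h3, h4, h5⟩ := h
    exact ⟨g • ε, g • l, ih h3, h4.smul g, h5.smul g⟩

theorem PP.succ_left {n : ℕ} {β γ : G ⧸ H} (h : PP M H (n + 1) β γ) :
    ∃ δ l, Inc M H β l ∧ Inc M H δ l ∧ PP M H n δ γ := by
  obtain ⟨δ, l, h1, h2, h3⟩ := h.symm
  exact ⟨δ, l, h3, h2, h1.symm⟩

/-- a chief factor of a solvable group above a given normal subgroup -/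
theorem exists_chief (hs : Group.IsSolvable H) (hY : Y ≤ H) (hn : H ≤ 𝐍[Y]) (hne : ¬ H ≤ Y) :
    ∃ F : Subgroup G, Y ≤ F ∧ ¬ F ≤ Y ∧ F ≤ H ∧ H ≤ 𝐍[F] ∧ ⁅F, F⁆ ≤ Y ∧
      (∃ p : ℕ, p.Prime ∧ ∀ f ∈ F, f ^ p ∈ Y) ∧
      ∀ X : Subgroup G, Y ≤ X → X ≤ F → H ≤ 𝐍[X] → X = Y ∨ X = F := by
  have hN : (Y.subgroupOf H).Normal := normal_subgroupOf' hn
  have : Nontrivial (H ⧸ Y.subgroupOf H) := by
    rw [QuotientGroup.nontrivial_iff]
    exact fun e => hne (subgroupOf_eq_top.1 e)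
  obtain ⟨p, N, hp, hNn, hN0, hc, hpow, -, hmin⟩ :=
    Grp.exists_minNormal_elementaryAbelian (H ⧸ Y.subgroupOf H)
  set φ := QuotientGroup.mk' (Y.subgroupOf H) with hφ
  have hker : ∀ x : H, φ x = 1 ↔ (x : G) ∈ Y := fun x => QuotientGroup.eq_one_iff x
  have hmem : ∀ x : H, (x : G) ∈ (N.comap φ).map H.subtype ↔ φ x ∈ N := fun x => mem_map_subtype
  have hYF : Y ≤ (N.comap φ).map H.subtype := fun y hy =>
    (hmem ⟨y, hY hy⟩).2 (by rw [(hker ⟨y, hY hy⟩).2 hy]; exact N.one_mem)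
  refine ⟨(N.comap φ).map H.subtype, hYF, fun h => hN0 ?_, map_subtype_le _,
    Amb.le_normalizer_map_subtype _, commutator_le.2 ?_, ⟨p, hp, ?_⟩, fun X h1 h2 h3 => ?_⟩
  · rw [eq_bot_iff]
    intro q hq
    obtain ⟨x, rfl⟩ := QuotientGroup.mk'_surjective _ q
    exact (hker x).2 (h ((hmem x).2 hq))
  · rintro _ ⟨x, hx, rfl⟩ _ ⟨y, hy, rfl⟩
    refine (hker ⁅x, y⁆).1 ?_
    rw [map_commutatorElement, commutatorElement_eq_one_iff_mul_comm]
    exact congrArg Subtype.val (hc.is_comm.comm (⟨φ x, hx⟩ : N) ⟨φ y, hy⟩)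
  · rintro _ ⟨x, hx, rfl⟩
    refine (hker (x ^ p)).1 ?_
    rw [map_pow]
    exact hpow _ hx
  · have hXH : X ≤ H := h2.trans (map_subtype_le _)
    have hXn : (X.subgroupOf H).Normal := normal_subgroupOf' h3
    rcases hmin ((X.subgroupOf H).map φ) (hXn.map φ (QuotientGroup.mk'_surjective _))
      (map_le_iff_le_comap.2 fun x hx => (hmem x).1 (h2 hx)) with e | e
    · refine Or.inl (le_antisymm (fun x hx => (hker ⟨x, hXH hx⟩).1 ?_) h1)
      have : φ ⟨x, hXH hx⟩ ∈ (X.subgroupOf H).map φ := mem_map_of_mem φ hx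
      rwa [e, mem_bot] at this
    · refine Or.inr (le_antisymm h2 ?_)
      rintro _ ⟨x, hx, rfl⟩
      obtain ⟨y, hy, e1⟩ : φ x ∈ (X.subgroupOf H).map φ := e ▸ hx
      have h4 : ((y⁻¹ * x : H) : G) ∈ Y := (hker _).1 (by rw [map_mul, map_inv, e1, inv_mul_cancel])
      have := X.mul_mem hy (h1 h4)
      simpa using this

/-- existence of the geometry -/
theorem Two.exists_geo (h : Two S M V) (hD : D ≤ V) (h1 : D ≠ ⊥) (hc : ¬ 𝐂[D] ≤ M)
    (hT : ∃ T, IsSyl 2 T 𝐂[D] ∧ T ≤ M ∧ S ⊓ 𝐂[V] ≤ T) : ∃ H Y F, Geo S M V D H Y F := by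
  have : Fact (Nat.Prime 2) := ⟨Nat.prime_two⟩
  obtain ⟨H, ⟨hge, hle, hnle⟩, hmin⟩ := exists_minimal_of_wellFoundedLT
    (fun H : Subgroup G => 𝐂[D] ⊓ M ≤ H ∧ H ≤ 𝐂[D] ∧ ¬ H ≤ M) ⟨𝐂[D], inf_le_left, le_rfl, hc⟩
  have hmax : ∀ X : Subgroup G, H ⊓ M ≤ X → X ≤ H → ¬ X ≤ M → X = H := fun X h2 h3 h4 =>
    le_antisymm h3 (hmin ⟨(le_inf hge inf_le_right).trans h2, h3.trans hle, h4⟩ h3)
  have hs : Group.IsSolvable H := h.hyp.solv_of_le ((isEA_isPGroup h.ea).to_le hD) h1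
    (hle.trans (centralizer_le_normalizer' D))
  set Y : Subgroup G := sSup {N | N ≤ H ⊓ M ∧ H ≤ 𝐍[N]} with hYdef
  have hYle : Y ≤ H ⊓ M := sSup_le fun _ hN => hN.1
  have hYmax : ∀ N : Subgroup G, N ≤ H ⊓ M → H ≤ 𝐍[N] → N ≤ Y := fun N h2 h3 => le_sSup ⟨h2, h3⟩
  have hYn : H ≤ 𝐍[Y] := by
    rw [le_normalizer_iff_cj]
    intro g hg
    rw [cj_le_iff]
    refine sSup_le fun N hN => ?_
    rw [← cj_le_iff, cj_of_mem_normalizer (hN.2 hg)]
    exact hYmax N hN.1 hN.2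
  clear_value Y
  obtain ⟨F, hYF, hFY, hFH, hFn, hFc, ⟨p, hp, hpow⟩, hirr⟩ := exists_chief hs
    (hYle.trans inf_le_left) hYn fun e => hnle (e.trans (hYle.trans inf_le_right))
  have hFM : ¬ F ≤ M := fun e => hFY (hYmax F (le_inf hFH e) hFn)
  have hsup : F ⊔ (H ⊓ M) = H :=
    hmax _ le_sup_right (sup_le hFH inf_le_left) fun e => hFM (le_sup_left.trans e)
  -- subgroups above `Y` that commute with `F` modulo `Y` are normalized by `F`
  have hFX : ∀ X : Subgroup G, Y ≤ X → ⁅X, F⁆ ≤ Y → F ≤ 𝐍[X] := fun X h2 h3 =>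
    le_normalizer_iff_commutator_le_left.2 (h3.trans h2)
  have hinf : F ⊓ M = Y := by
    refine le_antisymm (hYmax _ (inf_le_inf_right M hFH) ?_) (le_inf hYF (hYle.trans inf_le_right))
    rw [← hsup]
    exact sup_le (hFX _ (le_inf hYF (hYle.trans inf_le_right))
      ((commutator_mono inf_le_left le_rfl).trans hFc))
      (Amb.le_normalizer_inf (inf_le_left.trans hFn) (inf_le_right.trans le_normalizer))
  obtain ⟨T, hT, hTM, hST⟩ := hT
  have hTH : IsSyl 2 T H := hT.mono ((le_inf hT.le hTM).trans hge) hle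
  refine ⟨H, Y, F, h, hD, h1, ⟨T, hT, hTM, hST⟩, hge, hle, hnle, hYle, hYn, hYmax, hYF, hFH, hFn,
    hinf, hsup, hFc, ⟨p, hp, ?_, hpow⟩, fun x hx hxF => ?_, fun X h2 h3 h4 => hirr X h2 h3 ?_⟩
  · rintro rfl
    refine hFM ((hTH.inf_of_le hFH hFn).pRes_sup.ge.trans (sup_le ?_ (inf_le_left.trans hTM)))
    exact pRes_le_iff.2 fun g hg hc => (hYle (mem_of_pow_mem_of_coprime (hpow g hg) hc)).2
  · set C := H ⊓ secCent F Y with hC
    have hCn : H ≤ 𝐍[C] := Amb.le_normalizer_inf le_normalizer (le_normalizer_secCent hFn hYn)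
    have hFC : F ≤ C := le_inf hFH (le_secCent_iff.2 ⟨hFH.trans hYn, hFc⟩)
    have h2 : C ⊓ M ≤ Y := by
      refine hYmax _ (inf_le_inf_right M inf_le_left) ?_
      rw [← hsup]
      exact sup_le (hFX _ (le_inf (hYF.trans hFC) (hYle.trans inf_le_right))
        (le_secCent_iff.1 (inf_le_left.trans inf_le_right)).2)
        (Amb.le_normalizer_inf (inf_le_left.trans hCn) (inf_le_right.trans le_normalizer))
    have hxC : x ∈ C := ⟨hx, hYn hx, hxF⟩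
    obtain ⟨f, hf, m, hm, rfl⟩ :=
      (mem_sup_of_le_normalizer_left (inf_le_left.trans hFn)).1 (hsup.ge hx)
    exact F.mul_mem hf (hYF (h2 ⟨(C.mul_mem_cancel_left (hFC hf)).1 hxC, hm.2⟩))
  · rw [← hsup]
    exact sup_le (hFX X h2 ((commutator_mono h3 le_rfl).trans hFc)) h4

theorem Geo.cj (h : Geo S M V D H Y F) (g : G) :
    Geo cj(g, S) cj(g, M) cj(g, V) cj(g, D) cj(g, H) cj(g, Y) cj(g, F) := by
  obtain ⟨T, hT, hTM, hST⟩ := h.sylD
  obtain ⟨p, hp, hp2, hpow⟩ := h.F_exp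
  have hn : ∀ {A B : Subgroup G}, A ≤ 𝐍[B] → cj(g, A) ≤ 𝐍[cj(g, B)] := fun e => by
    rw [normalizer_cj]; exact cj_mono g e
  have hn' : ∀ {A B : Subgroup G}, cj(g, A) ≤ 𝐍[B] → A ≤ 𝐍[cj(g⁻¹, B)] := fun e => by
    rw [normalizer_cj]; exact cj_le_iff.1 e
  refine ⟨h.toTwo.cj g, cj_mono g h.D_le, fun e => h.D_ne (cj_eq_bot.1 e),
    ⟨cj(g, T), by rw [centralizer_cj]; exact hT.cj g, cj_mono g hTM,
      by rw [centralizer_cj, ← cj_inf]; exact cj_mono g hST⟩,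
    by rw [centralizer_cj, ← cj_inf]; exact cj_mono g h.ge,
    by rw [centralizer_cj]; exact cj_mono g h.H_le, fun e => h.not_le (cj_le_cj_iff.1 e),
    by rw [← cj_inf]; exact cj_mono g h.Y_le, hn h.Y_norm, fun N h1 h2 => ?_, cj_mono g h.Y_le_F,
    cj_mono g h.F_le, hn h.F_norm, by rw [← cj_inf, h.F_inf],
    by rw [← cj_inf, ← cj_sup, h.F_sup], by rw [commutator_cj]; exact cj_mono g h.F_comm,
    ⟨p, hp, hp2, ?_⟩, ?_, fun X h1 h2 h3 => ?_⟩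
  · rw [← cj_inf] at h1
    exact le_cj_iff.2 (h.Y_max _ (le_cj_iff.1 h1) (hn' h2))
  · intro f hf
    obtain ⟨y, hy, rfl⟩ := mem_cj_iff_exists.1 hf
    rw [conj_pow]
    exact conj_mem_cj g (hpow y hy)
  · intro x hx hxF
    obtain ⟨y, hy, rfl⟩ := mem_cj_iff_exists.1 hx
    refine conj_mem_cj g (h.F_self y hy fun f hf => ?_)
    have := hxF _ (conj_mem_cj g hf)
    rwa [← conjugate_commutatorElement, conj_mem_cj_iff] at this
  · rw [← cj_inf] at h3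
    rcases h.F_irr cj(g⁻¹, X) (cj_le_iff.1 h1) (le_cj_iff.1 h2) (hn' h3) with e | e
    · exact Or.inl (by rw [← e, cj_cj_inv])
    · exact Or.inr (by rw [← e, cj_cj_inv])

theorem Geo.norm_D (h : Geo S M V D H Y F) : H ≤ 𝐍[D] := h.H_le.trans (centralizer_le_normalizer' D)

/-- all local facts hold at every flag -/
theorem Geo.flag (h : Geo S M V D H Y F) {β : G ⧸ H} {l : G ⧸ M} (hi : Inc M H β l) :
    ∃ g : G, (g : G ⧸ H) = β ∧ (g : G ⧸ M) = l ∧ tr M l = cj(g, M) ∧ tr V l = cj(g, V) ∧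
      tr D β = cj(g, D) ∧ tr H β = cj(g, H) ∧ tr Y β = cj(g, Y) ∧ tr F β = cj(g, F) ∧
      tr (ncl V H) β = cj(g, ncl V H) ∧
      Geo cj(g, S) (tr M l) (tr V l) (tr D β) (tr H β) (tr Y β) (tr F β) ∧
      tr (ncl V H) β = ncl (tr V l) (tr H β) := by
  obtain ⟨g, rfl, rfl⟩ := hi
  rw [tr_mk le_normalizer, tr_mk h.toTwo.red.norm, tr_mk h.norm_D, tr_mk le_normalizer,
    tr_mk h.Y_norm, tr_mk h.F_norm, tr_mk (le_normalizer_ncl V H)]
  exact ⟨g, rfl, rfl, rfl, rfl, rfl, rfl, rfl, rfl, rfl, h.cj g, cj_ncl g V H⟩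

theorem Geo.C_le (h : Geo S M V D H Y F) : 𝐂[V] ≤ H :=
  (le_inf (centralizer_anti h.D_le) h.toTwo.basic.2.2.2.2.1).trans h.ge

theorem Geo.V_le_H (h : Geo S M V D H Y F) : V ≤ H :=
  (isEA_le_centralizer h.toTwo.ea).trans h.C_le

/-- `V ≤ O₂(C(d))` for `1 ≠ d ∈ D` -/
theorem Geo.V_le_Q (h : Geo S M V D H Y F) {d : G} (hd : d ∈ D) (h1 : d ≠ 1) :
    H ≤ 𝐂₁[d] ∧ V ≤ 𝐐[𝐂₁[d]] := by
  have h2 : H ≤ 𝐂₁[d] := h.H_le.trans (centralizer_le (Set.singleton_subset_iff.2 hd))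
  exact ⟨h2, h.toTwo.b1 (h.D_le hd) h1 fun e => h.not_le (h2.trans e)⟩

theorem Geo.exists_syl (h : Geo S M V D H Y F) : ∃ T, IsSyl 2 T 𝐂[D] ∧ IsSyl 2 T H ∧ T ≤ M := by
  obtain ⟨T, hT, hTM, -⟩ := h.sylD
  exact ⟨T, hT, hT.mono ((le_inf hT.le hTM).trans h.ge) h.H_le, hTM⟩

theorem Geo.Q_le_Y (h : Geo S M V D H Y F) : 𝐐[H] ≤ Y := by
  have : Fact (Nat.Prime 2) := ⟨Nat.prime_two⟩
  obtain ⟨T, -, hT, hTM⟩ := h.exists_syl
  exact h.Y_max _ (le_inf (Amb.pCoreOf_le 2 H) (hT.pCoreOf_le.trans hTM))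
    (Amb.le_normalizer_pCoreOf 2 H)

theorem Geo.basic (h : Geo S M V D H Y F) : Group.IsSolvable H ∧ IsCharP 2 H ∧ 𝐐[H] ≤ Y ∧
    𝐂[V] ≤ H ∧ H ⊓ M = 𝐂[D] ⊓ M ∧ Odd (Y.relIndex F) ∧ M.relIndex H = Y.relIndex F ∧
    RedMod 2 Y H ∧ V ≤ 𝐐[H] ∧ ncl V H ≤ 𝐐[H] ∧ ¬ F ≤ Y := by
  have : Fact (Nat.Prime 2) := ⟨Nat.prime_two⟩
  have hD2 : IsPGroup 2 D := (isEA_isPGroup h.toTwo.ea).to_le h.D_le
  obtain ⟨T, hTD, hT, hTM⟩ := h.exists_syl
  obtain ⟨d, hd, hd1⟩ := exists_ne_one h.D_ne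
  obtain ⟨h1, h2⟩ := h.V_le_Q hd hd1
  have hV : V ≤ 𝐐[H] := (le_inf h.V_le_H h2).trans (inf_pCoreOf_le h1)
  refine ⟨h.hyp.solv_of_le hD2 h.D_ne h.norm_D,
    char_of_syl (h.hyp.charC hD2 h.D_ne) hTD hT.le h.H_le, h.Q_le_Y, h.C_le,
    le_antisymm (inf_le_inf_right M h.H_le) (le_inf h.ge inf_le_right), ?_, ?_,
    fun E h3 h4 h5 => ?_, hV, ncl_le hV (Amb.le_normalizer_pCoreOf 2 H), fun e => h.not_le ?_⟩
  · have h3 := (hT.inf_of_le h.F_le h.F_norm).not_dvd_relIndex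
    rw [← Nat.not_even_iff_odd, even_iff_two_dvd]
    refine fun e => h3 (e.trans (relIndex_dvd_of_le_left F ?_))
    rw [← h.F_inf]
    exact le_inf inf_le_right (inf_le_left.trans hTM)
  · have h3 := relIndex_sup_eq (N := M) (A := H ⊓ M) (K := F) inf_le_right
      (inf_le_left.trans h.F_norm)
    rw [h.F_sup] at h3
    rw [h3, ← h.F_inf, inf_comm, inf_relIndex_right]
  · refine h.Y_max E (le_inf h3 ?_) h4
    exact (hT.inf_of_le h3 h4).pRes_sup.ge.trans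
      (sup_le (h5.trans (h.Y_le.trans inf_le_right)) (inf_le_left.trans hTM))
  · rw [← h.F_sup]
    exact sup_le (e.trans (h.Y_le.trans inf_le_right)) inf_le_right

/-- `F` is transitive on the lines through the point -/
theorem Geo.exists_F (h : Geo S M V D H Y F) {g : G} (hg : g ∈ H) :
    ∃ f ∈ F, ∃ m ∈ H ⊓ M, g = f * m :=
  (mem_sup_of_le_normalizer_left (inf_le_left.trans h.F_norm)).1 (h.F_sup.ge hg)

/-- an element of `H ⊓ M` fixes the line `f M` iff it centralizes `f` modulo `Y` -/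
theorem Geo.fix_iff (h : Geo S M V D H Y F) {a f : G} (ha : a ∈ H ⊓ M) (hf : f ∈ F) :
    a ∈ cj(f, M) ↔ ⁅a, f⁆ ∈ Y := by
  have h1 : f⁻¹ * ⁅a, f⁆ * f = f⁻¹ * a * f * a⁻¹ := by rw [commutatorElement_def]; group
  have h2 : ⁅a, f⁆ ∈ F := F.mul_mem (Amb.conj_mem_of_mem_normalizer (h.F_norm ha.1) hf) (F.inv_mem hf)
  rw [mem_cj, ← M.mul_mem_cancel_right (M.inv_mem ha.2), ← h1, ← mem_cj,
    ← cj_of_mem_normalizer (h.Y_norm (h.F_le hf)), ← h.F_inf, cj_inf, cj_of_mem hf, mem_inf,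
    and_iff_right h2]

theorem Geo.V_le_U (h : Geo S M V D H Y F) {β : G ⧸ H} {l : G ⧸ M} (hi : Inc M H β l) :
    tr D β ≤ tr V l ∧ tr V l ≤ tr (ncl V H) β ∧ tr Y β ≤ tr M l ∧ 𝐂[tr V l] ≤ tr H β := by
  obtain ⟨g, -, -, -, -, -, -, -, -, -, h1, h2⟩ := h.flag hi
  exact ⟨h1.D_le, h2 ▸ le_ncl _ _, h1.Y_le.trans inf_le_right, h1.C_le⟩

theorem Geo.U_le_iff (h : Geo S M V D H Y F) {β : G ⧸ H} {X : Subgroup G} :
    tr (ncl V H) β ≤ X ↔ ∀ l, Inc M H β l → tr V l ≤ X := by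
  refine ⟨fun e l hl => (h.V_le_U hl).2.1.trans e, fun e => ?_⟩
  induction β using QuotientGroup.induction_on with
  | H g =>
    rw [tr_mk (le_normalizer_ncl V H), cj_le_iff, ncl_le_iff]
    intro x hx
    rw [← cj_le_iff, ← cj_mul, ← tr_mk h.toTwo.red.norm]
    exact e _ ⟨g * x, QuotientGroup.mk_mul_of_mem g hx, rfl⟩

/-- points with a common nontrivial central element are not critical -/
theorem Geo.D_inf (h : Geo S M V D H Y F) {β γ : G ⧸ H} (hle : tr (ncl V H) β ≤ tr H γ)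
    (hU : ¬ tr (ncl V H) β ≤ tr Y γ) : tr D β ⊓ tr D γ = ⊥ := by
  by_contra hne
  obtain ⟨d, hd, hd1⟩ := exists_ne_one hne
  obtain ⟨l, hl⟩ := exists_inc_line M γ
  obtain ⟨g, -, -, -, -, -, -, -, -, -, h1, -⟩ := h.flag hl
  refine hU (le_trans (le_inf hle (h.U_le_iff.2 fun l' hl' => ?_))
    ((inf_pCoreOf_le (h1.V_le_Q hd.2 hd1).1).trans h1.Q_le_Y))
  obtain ⟨g', -, -, -, -, -, -, -, -, -, h2, -⟩ := h.flag hl'
  exact (h2.V_le_Q hd.1 hd1).2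

theorem Geo.yy_zero (h : Geo S M V D H Y F) : YY M V H Y 0 := by
  intro β γ hp
  rw [show β = γ from hp]
  exact tr_mono (h.basic.2.2.2.2.2.2.2.2.2.1.trans h.Q_le_Y) γ

theorem Geo.U_le_H (h : Geo S M V D H Y F) {n : ℕ} (hc : CC M V H n) {β γ : G ⧸ H}
    (hp : PP M H (n + 1) β γ) : tr (ncl V H) β ≤ tr H γ := by
  obtain ⟨δ, l, h1, h2, h3⟩ := hp
  exact (hc β δ h1).trans ((centralizer_anti (h.V_le_U h2).2.1).trans (h.V_le_U h3).2.2.2)

theorem Geo.not_forall_CC (h : Geo S M V D H Y F) : ¬ ∀ n, CC M V H n := by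
  intro hc
  have : Fact (Nat.Prime 2) := ⟨Nat.prime_two⟩
  have hb : Inc M H ((1 : G) : G ⧸ H) ((1 : G) : G ⧸ M) := ⟨1, rfl, rfl⟩
  have hU := le_normalizer_ncl V H
  have hEA : IsElementaryAbelian 2 (ncl V H) := by
    have h0 := hc 0 _ _ (PP.refl 0 ((1 : G) : G ⧸ H))
    rw [tr_mk hU, cj_one] at h0
    exact isEA_iSup (fun g => isEA_map h.toTwo.ea _) fun g g' =>
      (cj_le_ncl V g.2).trans (h0.trans (centralizer_anti (cj_le_ncl V g'.2)))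
  set I := {β : G ⧸ H // ∃ n, PP M H n ((1 : G) : G ⧸ H) β}
  have hW : IsElementaryAbelian 2 (⨆ β : I, tr (ncl V H) β.1 : Subgroup G) :=
    isEA_iSup (fun β => isEA_map hEA _) fun β γ => by
      obtain ⟨m, hm⟩ := β.2
      obtain ⟨n, hn⟩ := γ.2
      exact hc _ _ _ (hm.symm.trans hn)
  have key : ∀ g : G, PP M H 1 ((1 : G) : G ⧸ H) (g : G ⧸ H) →
      g ∈ 𝐍[(⨆ β : I, tr (ncl V H) β.1 : Subgroup G)] := fun g hg => by
    refine mem_normalizer_of_cj_le ?_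
    rw [cj_iSup]
    refine iSup_le fun β => ?_
    obtain ⟨n, hn⟩ := β.2
    have h1 := hn.smul g
    rw [MulAction.Quotient.smul_coe, smul_eq_mul, mul_one] at h1
    rw [← tr_smul hU]
    exact le_iSup (fun β : I => tr (ncl V H) β.1) ⟨_, _, hg.trans h1⟩
  have hle : V ≤ ⨆ β : I, tr (ncl V H) β.1 := by
    refine le_trans ?_ (le_iSup (fun β : I => tr (ncl V H) β.1) ⟨_, 0, PP.refl 0 _⟩)
    rw [tr_mk hU, cj_one]
    exact le_ncl V H
  have hN := h.toTwo.normalizer_eq (isEA_isPGroup hW)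
    (fun e => h.toTwo.basic.1 (le_bot_iff.1 (e ▸ hle))) fun m hm => key m
      (PP.of_inc hb ⟨m, rfl, by rw [QuotientGroup.eq]; simpa using hm⟩)
  refine h.not_le fun x hx => hN.le (key x ?_)
  rw [show (x : G ⧸ H) = ((1 : G) : G ⧸ H) by rw [QuotientGroup.eq]; simpa using hx]
  exact PP.refl 1 _

/-- the critical distance -/
theorem Geo.crit (h : Geo S M V D H Y F) : ∃ n : ℕ, (∀ k < n, YY M V H Y k ∧ CC M V H k) ∧
    (¬ YY M V H Y n ∨ (YY M V H Y n ∧ ¬ CC M V H n)) := by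
  classical
  have hex : ∃ n, ¬ (YY M V H Y n ∧ CC M V H n) := by
    by_contra hc
    push Not at hc
    exact h.not_forall_CC fun n => (hc n).2
  refine ⟨Nat.find hex, fun k hk => not_not.1 (Nat.find_min hex hk), ?_⟩
  have := Nat.find_spec hex
  tauto

end Cfsg.Agent.NG
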