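import Mathlib
import Cfsg.Agent.NG.B1
import Cfsg.Agent.S0591

set_option autoImplicit false
set_option linter.unusedSectionVars false

namespace Cfsg.Agent.NG

open Subgroup Cfsg.Agent.PLocal Cfsg.Agent.PLocal.Amb Cfsg.Agent.PLocal.CP Cfsg.Agent.PLocal.JC
open scoped commutatorElement

variable {G : Type*} [Group G] [Finite G]

variable {S M V : Subgroup G} {z : G}

theorem One.cj (h : One S M V z) (g : G) : One cj(g, S) cj(g, M) cj(g, V) (g * z * g⁻¹) := by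
  refine ⟨h.toTwo.cj g, by rw [card_cj, h.four], ?_, by simpa using h.z_ne, ?_⟩
  · rw [omegaZ_cj, h.Z_eq, MonoidHom.map_zpowers]; rfl
  · calc g * z * g⁻¹ * (g * z * g⁻¹) = g * (z * z) * g⁻¹ := by group
      _ = 1 := by rw [h.z_sq]; group

theorem One.z_mem_V (h : One S M V z) : z ∈ V :=
  h.toTwo.basic.2.1 (h.Z_eq ▸ mem_zpowers z)

theorem One.S_le_C (h : One S M V z) : S ≤ 𝐂₁[z] := by
  rw [← Amb.centralizer_zpowers, ← h.Z_eq]
  exact le_centralizer_omegaZ S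

theorem One.card_Z (h : One S M V z) : Nat.card (zpowers z) = 2 := card_zpowers_two h.z_sq h.z_ne

theorem One.idx_three (h : One S M V z) : (𝐂₁[z]).relIndex M = 3 := by
  obtain ⟨-, -, -, hN, -, -, hV, -⟩ := h.toTwo.basic
  have h1 := four_orbit_le_three h.four hN.ge h.z_mem_V h.z_ne
  have h2 : (𝐂₁[z]).relIndex M ≠ 1 := by
    intro h2
    refine hV ?_
    rw [h.V_eq]
    refine ncl_le le_rfl ?_
    rw [h.Z_eq]
    exact (relIndex_eq_one.1 h2).trans (Amb.centralizer_zpowers z ▸ centralizer_le_normalizer' _)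
  have h3 : ¬ 2 ∣ (𝐂₁[z]).relIndex M := fun h3 =>
    (h.syl.mono h.le le_top).not_dvd_relIndex (h3.trans (relIndex_dvd_of_le_left M h.S_le_C))
  have h4 : (𝐂₁[z]).relIndex M ≠ 0 := index_ne_zero_of_finite
  omega

theorem One.comm_le (h : One S M V z) : ⁅V, 𝐂₁[z] ⊓ M⁆ ≤ zpowers z := by
  obtain ⟨-, -, -, hN, -⟩ := h.toTwo.basic
  have h1 : ((zpowers z).subgroupOf V).index = 2 := by
    have := ((zpowers z).subgroupOf V).card_mul_index
    rw [Nat.card_congr (subgroupOfEquivOfLe (zpowers_le.2 h.z_mem_V)).toEquiv, h.card_Z,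
      h.four] at this
    omega
  refine commutator_le.2 fun v hv g hg => ?_
  have hgZ : g ∈ 𝐍[zpowers z] := centralizer_le_normalizer' _ (Amb.centralizer_zpowers z ▸ hg.1)
  have h2 := (mul_mem_iff_of_index_two h1 (a := ⟨v, hv⟩)
    (b := ⟨g * v⁻¹ * g⁻¹, Amb.conj_mem_of_mem_normalizer (hN.ge hg.2) (inv_mem hv)⟩)).2 (by
      simp only [mem_subgroupOf]
      rw [← mem_normalizer_iff.1 hgZ, inv_mem_iff])
  rw [mem_subgroupOf] at h2
  simpa [commutatorElement_def, mul_assoc] using h2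

theorem One.basic (h : One S M V z) : z ∈ V ∧ S ≤ 𝐂₁[z] ∧ ¬ 𝐂₁[z] ≤ M ∧ (𝐂[V]).relIndex M = 6 ∧
    (𝐂₁[z]).relIndex M = 3 ∧ (𝐂[V]).relIndex (𝐂₁[z] ⊓ M) = 2 ∧ (𝐂[V]).relIndex S = 2 ∧
    𝐂₁[z] ⊓ M = 𝐂[V] ⊔ S ∧ Odd (M.relIndex 𝐂₁[z]) ∧ V ≤ 𝐐[𝐂₁[z]] ∧ ⁅V, 𝐂₁[z] ⊓ M⁆ ≤ zpowers z ∧
    Group.IsSolvable 𝐂₁[z] ∧ IsCharP 2 𝐂₁[z] ∧ ΩZ[2, S ⊓ 𝐂[V]] = V := by
  obtain ⟨-, -, hVS, hN, hCM, -, -, hSC, -⟩ := h.toTwo.basic
  have hV2 := sq_eq_one_of_isEA h.toTwo.ea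
  have hz := h.z_mem_V
  have hC : ¬ 𝐂₁[z] ≤ M := by
    have := h.notC
    rwa [h.Z_eq, Amb.centralizer_zpowers] at this
  have hVC : 𝐂[V] ≤ 𝐂₁[z] := centralizer_le (by simpa using hz)
  have hS : S ≤ 𝐂₁[z] ⊓ M := le_inf h.S_le_C h.le
  have key : ∀ X : Subgroup G, S ≤ X → X ≤ 𝐂₁[z] ⊓ M → (𝐂[V]).relIndex X = 2 := by
    intro X h1 h2
    have h3 := four_stab_le_two hV2 h.four ((h2.trans inf_le_right).trans hN.ge) hz h.z_ne
      (h2.trans inf_le_left)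
    have h4 : (𝐂[V]).relIndex X ≠ 1 := fun h4 => hSC (h1.trans (relIndex_eq_one.1 h4))
    have h5 : (𝐂[V]).relIndex X ≠ 0 := index_ne_zero_of_finite
    omega
  have h2 := key _ hS le_rfl
  have h2S := key S le_rfl hS
  obtain ⟨s, hs, hs'⟩ := SetLike.not_le_iff_exists.1 hSC
  refine ⟨hz, h.S_le_C, hC, ?_, h.idx_three, h2, h2S, ?_, ?_, h.toTwo.b1 hz h.z_ne hC, h.comm_le,
    h.hyp.solvC₁ h.z_sq h.z_ne le_rfl, h.hyp.charC₁ h.z_sq h.z_ne, ?_⟩
  · rw [← relIndex_mul_relIndex _ _ M (le_inf hVC hCM) inf_le_right, h2, inf_relIndex_right,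
      h.idx_three]
  · refine le_antisymm ?_ (sup_le (le_inf hVC hCM) hS)
    rw [← sup_zpowers_eq (h2 ▸ Nat.prime_two) (le_inf hVC hCM) (hS hs) hs', sup_comm]
    exact sup_le_sup_left (zpowers_le.2 hs) _
  · rw [← Nat.not_even_iff_odd, even_iff_two_dvd]
    exact fun h3 => (h.syl.mono h.S_le_C le_top).not_dvd_relIndex
      (h3.trans (relIndex_dvd_of_le_left _ h.le))
  · have hVW : V ≤ ΩZ[2, S ⊓ 𝐂[V]] := le_omegaZ h.toTwo.ea
      (le_inf hVS (elemAb_le_centralizer h.toTwo.ea)) (le_centralizer_iff.1 inf_le_right)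
    have hW := omegaZ_isEA (p := 2) (S ⊓ 𝐂[V])
    have hWC := le_centralizer_omegaZ (p := 2) (S ⊓ 𝐂[V])
    have hWS := (omegaZ_le (p := 2) (S ⊓ 𝐂[V])).trans inf_le_left
    have hSW : S ≤ 𝐍[ΩZ[2, S ⊓ 𝐂[V]]] := (Amb.le_normalizer_inf le_normalizer
      (Amb.le_normalizer_centralizer (h.le.trans hN.ge))).trans (normalizer_le_normalizer_omegaZ _)
    have hSs : zpowers s ⊔ (S ⊓ 𝐂[V]) = S := sup_zpowers_eq
      (by rw [inf_relIndex_left, h2S]; exact Nat.prime_two) inf_le_left hs fun h3 => hs' h3.2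
    have hss : s * s ∈ S ⊓ 𝐂[V] := ⟨mul_mem hs hs, by
      have := pow_relIndex_mem' (Amb.le_normalizer_centralizer (h.le.trans hN.ge)) hs
      rwa [h2S, pow_two] at this⟩
    generalize ΩZ[2, S ⊓ 𝐂[V]] = W at hVW hW hWC hWS hSW ⊢
    have hfix : W ⊓ 𝐂[zpowers s] ≤ zpowers z := by
      rw [← h.Z_eq]
      refine le_omegaZ (elemAb_mono hW inf_le_left) (inf_le_left.trans hWS) ?_
      conv_rhs => rw [← hSs, Amb.centralizer_sup]
      exact le_inf inf_le_right (inf_le_left.trans (le_centralizer_iff.1 hWC))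
    have hq : ⁅W, zpowers s⁆ ≤ W ⊓ 𝐂[zpowers s] := by
      rw [commutator_comm]
      refine CommMod.commutator_zpowers_le (Amb.le_normalizer_inf (zpowers_le.2 (hSW hs))
        (Amb.le_normalizer_centralizer le_normalizer) (mem_zpowers s)) fun w hw => ?_
      have e1 : s * w * s⁻¹ ∈ W := Amb.conj_mem_of_mem_normalizer (hSW hs) hw
      refine mem_inf.2 ⟨mul_mem e1 (inv_mem hw), ?_⟩
      rw [Amb.centralizer_zpowers, mem_centralizer_singleton_iff, commutatorElement_def]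
      have e2 : w * (s * s) = s * s * w := hWC hss w hw
      have e3 := elemAb_comm hW e1 hw
      have e4 : w⁻¹ = w := inv_eq_of_mul_eq_one_left (sq_eq_one_of_isEA hW w hw)
      rw [e4]
      calc s * w * s⁻¹ * w * s = w * (s * w * s⁻¹) * s := by rw [e3]
        _ = w * (s * s) * s⁻¹ * w := by group
        _ = _ := by rw [e2]; group
    have h4 := S0591.result W hW s (hSW hs)
      (commutator_eq_bot_iff_le_centralizer.2 (hq.trans inf_le_right))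
    have h5 := card_le_of_le hfix
    rw [h.card_Z] at h5
    refine (eq_of_le_of_card_ge hVW ?_).symm
    rw [h.four]
    exact h4.trans (Nat.pow_le_pow_left h5 2)

theorem One.trans (h : One S M V z) {v : G} (hv : v ∈ V) (h1 : v ≠ 1) :
    ∃ m ∈ M, m * z * m⁻¹ = v := by
  by_contra hc
  push Not at hc
  have h2 := relIndex_centralizer_le M z (((V : Set G) \ {1}) \ {v}) fun g hg =>
    ⟨⟨Amb.conj_mem_of_mem_normalizer (h.toTwo.basic.2.2.2.1.ge hg) h.z_mem_V,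
      by simpa using h.z_ne⟩, hc g hg⟩
  rw [h.idx_three, Set.ncard_sdiff_singleton_of_mem (show v ∈ (V : Set G) \ {1} from ⟨hv, h1⟩),
    Set.ncard_sdiff_singleton_of_mem (show (1 : G) ∈ (V : Set G) from V.one_mem),
    ← Nat.card_coe_set_eq, SetLike.coe_sort_coe, h.four] at h2
  omega

/-- every nontrivial 2-subgroup normalized by `S` contains `z` -/
theorem One.z_mem (h : One S M V z) {N : Subgroup G} (hN : IsPGroup 2 N) (h1 : N ≠ ⊥)
    (hS : S ≤ 𝐍[N]) : z ∈ N := by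
  obtain ⟨t, ht, ht2⟩ := Inv.exists_involution_of_isPGroup (hN.to_inf_left (K := 𝐂[S]))
    (inf_centralizer_ne_bot h.syl.pgrp hN hS h1)
  have h2 : zpowers t ≤ zpowers z := by
    rw [← h.Z_eq, zpowers_le, mem_omegaZ]
    exact ⟨h.syl.le_of_le_normalizer hN le_top hS ht.1, ht.2, Inv.sq_of_orderOf_two ht2⟩
  have h3 := eq_of_le_of_card_ge h2 (by rw [h.card_Z, Nat.card_zpowers, ht2])
  exact zpowers_le.2 ht.1 (h3.ge (mem_zpowers z))

/-- every nontrivial 2-subgroup normalized by `M` contains `V` -/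
theorem One.V_le (h : One S M V z) {N : Subgroup G} (hN : IsPGroup 2 N) (h1 : N ≠ ⊥)
    (hM : M ≤ 𝐍[N]) : V ≤ N := by
  rw [h.V_eq]
  refine ncl_le ?_ hM
  rw [h.Z_eq]
  exact zpowers_le.2 (h.z_mem hN h1 (h.le.trans hM))

/-- the conjugates of `V` through `z` are conjugate in `C(z)` -/
theorem One.line (h : One S M V z) {g : G} (hg : z ∈ cj(g, V)) :
    ∃ c ∈ 𝐂₁[z], cj(g, V) = cj(c, V) := by
  obtain ⟨m, hm, h1⟩ := h.trans (mem_cj.1 hg) fun h1 => h.z_ne (by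
    calc z = g * (g⁻¹ * z * g) * g⁻¹ := by group
      _ = 1 := by rw [h1]; group)
  refine ⟨g * m, mem_centralizer_singleton_iff.2 ?_, ?_⟩
  · calc g * m * z = g * (m * z * m⁻¹) * m := by group
      _ = _ := by rw [h1]; group
  · rw [cj_mul, cj_of_mem_normalizer (h.toTwo.basic.2.2.2.1.ge hm)]

/-- the module `⟨V^H⟩ / ⟨z⟩` -/
theorem One.mod (h : One S M V z) {H : Subgroup G} (h1 : S ≤ H) (h2 : H ≤ 𝐂₁[z]) :
    Mod H (ncl V H) (zpowers z) ∧ ncl V H ≤ 𝐐[H] ∧ 𝐐[H] ≤ secCent (ncl V H) (zpowers z) ∧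
      H ⊓ secCent (ncl V H) (zpowers z) ≤ M ∧ 𝐐[H] ≤ S := by
  obtain ⟨-, -, hVS, hN, -⟩ := h.toTwo.basic
  obtain ⟨hz, -, -, -, -, -, -, -, -, hVQ, hc, -⟩ := h.basic
  have hS : IsSyl 2 S H := h.syl.mono h1 le_top
  have hHZ : H ≤ 𝐍[zpowers z] := h2.trans (Amb.centralizer_zpowers z ▸ centralizer_le_normalizer' _)
  have hVH := hVS.trans h1
  have hUQ : ncl V H ≤ 𝐐[H] :=
    ncl_le ((le_inf hVH hVQ).trans (inf_pCoreOf_le h2)) (Amb.le_normalizer_pCoreOf 2 H)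
  have hSc : S ≤ secCent V (zpowers z) := le_secCent_iff'.2
    ⟨h1.trans hHZ, (commutator_mono le_rfl (le_inf h.S_le_C h.le)).trans hc⟩
  have key : ∀ D : Subgroup G, D ≤ H → H ≤ 𝐍[D] → D ≤ secCent V (zpowers z) →
      D ≤ secCent (ncl V H) (zpowers z) := fun D hD hn hDc =>
    le_secCent_iff.2 ⟨hD.trans hHZ, commutator_ncl_le hn hHZ (hVH.trans hHZ)
      (le_secCent_iff.1 hDc).2⟩
  have hanti : secCent (ncl V H) (zpowers z) ≤ secCent V (zpowers z) := fun g hg =>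
    mem_secCent.2 ⟨hg.1, fun a ha => hg.2 a (le_ncl V H ha)⟩
  have hQ := key _ (Amb.pCoreOf_le 2 H) (Amb.le_normalizer_pCoreOf 2 H) (hS.pCoreOf_le.trans hSc)
  have hcomm : ⁅ncl V H, ncl V H⁆ ≤ zpowers z := (le_secCent_iff.1 (hUQ.trans hQ)).2
  have hUH : ncl V H ≤ H := ncl_le_of_le hVH
  refine ⟨⟨(zpowers_le.2 hz).trans (le_ncl V H), le_normalizer_ncl V H, hHZ, hcomm, ?_,
    h.hyp.solvC₁ h.z_sq h.z_ne h2, fun D hD hn hO => key D hD hn ?_⟩, hUQ, hQ, ?_, hS.pCoreOf_le⟩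
  · intro u hu
    have : u ∈ ncl V H ∧ u * u ∈ zpowers z := by
      refine iSup_induction (fun g : H => cj((g : G), V))
        (C := fun u => u ∈ ncl V H ∧ u * u ∈ zpowers z) hu (fun g x hx => ?_) (by simp)
        fun x y hx hy => ⟨mul_mem hx.1 hy.1, ?_⟩
      · refine ⟨cj_le_ncl V g.2 hx, ?_⟩
        rw [sq_eq_one_of_isEA (h.toTwo.cj g).ea x hx]
        exact one_mem _
      · have e : x * y * (x * y) = x * x * ⁅x⁻¹, y⁆ * (y * y) := by
          rw [commutatorElement_def]; group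
        rw [e]
        exact mul_mem (mul_mem hx.2 (hcomm (commutator_mem_commutator (inv_mem hx.1) hy.1))) hy.2
    exact this.2
  · rw [← (hS.inf_of_le hD hn).pRes_sup]
    exact sup_le (hO.trans hanti) (inf_le_left.trans hSc)
  · intro g hg
    refine hN.le (mem_normalizer_of_cj_le (cj_le_iff_forall.2 fun v hv => ?_))
    have := mul_mem (zpowers_le.2 hz ((hanti hg.2).2 v hv)) hv
    simpa [commutatorElement_def] using this

end Cfsg.Agent.NG
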