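import Mathlib
import Cfsg.Agent.NG.One
import Cfsg.Agent.NG.Geo
import Cfsg.Agent.NG.Mod2
import Cfsg.Agent.NG.A0_a

set_option autoImplicit false

namespace Cfsg.Agent.NG

open Subgroup Cfsg.Agent.PLocal Cfsg.Agent.PLocal.Amb Cfsg.Agent.PLocal.CP Cfsg.Agent.PLocal.JC
open Cfsg.Agent.NG.TA
open scoped commutatorElement

variable {G : Type*} [Group G] [Finite G]

variable {S M V H Y F : Subgroup G} {z m : G}

set_option quotPrecheck false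

/-- `U = ⟨V^H⟩` -/
local notation "𝑼" => ncl V H
local notation "𝒁" => zpowers z
local notation "𝑼'" => cj(m, ncl V H)
local notation "𝑫" => ncl V H ⊓ cj(m, ncl V H)

theorem CA.cj (h : CA S M V z H Y F) (g : G) :
    CA cj(g, S) cj(g, M) cj(g, V) (g * z * g⁻¹) cj(g, H) cj(g, Y) cj(g, F) := by
  have h1 := h.one.cj g
  refine ⟨?_, h1.four, h1.Z_eq, h1.z_ne, h1.z_sq, ?_⟩
  · rw [← cj_zp]; exact h.toGeo.cj g
  · rw [centralizer_singleton_conj, ← cj_ncl, Amb.centralizer_cj]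
    exact cj_mono g h.ab

theorem CA.HM (h : CA S M V z H Y F) : H ⊓ M = 𝐂₁[z] ⊓ M := by
  rw [h.toGeo.basic.2.2.2.2.1, Amb.centralizer_zpowers]

theorem CA.H_le_C (h : CA S M V z H Y F) : H ≤ 𝐂₁[z] := by
  rw [← Amb.centralizer_zpowers]; exact h.H_le

theorem CA.S_le_H (h : CA S M V z H Y F) : S ≤ H :=
  fun _ hs => (h.HM.ge ⟨h.one.basic.2.1 hs, h.le hs⟩).1

theorem CA.CV_le_H (h : CA S M V z H Y F) : 𝐂[V] ≤ H := h.toGeo.basic.2.2.2.1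

theorem CA.NV (h : CA S M V z H Y F) : 𝐍[V] = M := h.toTwo.basic.2.2.2.1

theorem CA.CV_le_M (h : CA S M V z H Y F) : 𝐂[V] ≤ M := h.toTwo.basic.2.2.2.2.1

theorem CA.z_mem_V (h : CA S M V z H Y F) : z ∈ V := h.one.basic.1

theorem CA.V_sq (h : CA S M V z H Y F) : ∀ v ∈ V, v * v = 1 := sq_eq_one_of_isEA h.toTwo.ea

theorem CA.M_norm_CV (h : CA S M V z H Y F) : M ≤ 𝐍[𝐂[V]] :=
  Amb.le_normalizer_centralizer h.NV.ge

theorem CA.H_norm_Z (h : CA S M V z H Y F) : H ≤ 𝐍[𝒁] :=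
  h.H_le.trans (centralizer_le_normalizer' _)

theorem CA.comm_V (h : CA S M V z H Y F) {g v : G} (hg : g ∈ H ⊓ M) (hv : v ∈ V) : ⁅g, v⁆ ∈ 𝒁 :=
  comm_mem_symm (h.one.basic.2.2.2.2.2.2.2.2.2.2.1 (commutator_mem_commutator hv (h.HM.le hg)))

theorem CA.modU (h : CA S M V z H Y F) : Mod H 𝑼 𝒁 := (h.one.mod h.S_le_H h.H_le_C).1

theorem CA.Y_le_sec (h : CA S M V z H Y F) : Y ≤ secCent 𝑼 𝒁 := by
  refine le_secCent_iff.2 ⟨(h.Y_le.trans inf_le_left).trans h.H_norm_Z, ?_⟩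
  refine commutator_ncl_le h.Y_norm h.H_norm_Z
    ((h.toGeo.basic.2.2.2.2.2.2.2.2.1.trans (Amb.pCoreOf_le _ _)).trans h.H_norm_Z) ?_
  exact commutator_le.2 fun y hy v hv => h.comm_V (h.Y_le hy) hv

theorem CA.ker_eq (h : CA S M V z H Y F) : H ⊓ secCent 𝑼 𝒁 = Y := by
  refine le_antisymm (h.Y_max _ (le_inf inf_le_left (h.one.mod h.S_le_H h.H_le_C).2.2.2.1) ?_)
    (le_inf (h.Y_le.trans inf_le_left) h.Y_le_sec)
  exact Amb.le_normalizer_inf le_normalizer h.modU.norm_ker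

theorem CA.comm_U (h : CA S M V z H Y F) {y u : G} (hy : y ∈ Y) (hu : u ∈ 𝑼) : ⁅y, u⁆ ∈ 𝒁 :=
  (mem_secCent.1 (h.Y_le_sec hy)).2 u hu

theorem CA.U_comm (h : CA S M V z H Y F) : 𝑼 ≤ 𝐂[𝑼] :=
  ((ncl_mono le_rfl h.H_le_C).trans h.ab).trans (Amb.centralizer_anti (ncl_mono le_rfl h.H_le_C))

theorem CA.U_ea (h : CA S M V z H Y F) : IsElementaryAbelian 2 𝑼 := by
  refine isEA_of_sq ?_
  let P : Subgroup G :=
    { carrier := {u | u ∈ 𝑼 ∧ u * u = 1}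
      one_mem' := ⟨one_mem _, mul_one 1⟩
      mul_mem' := by
        rintro a b ⟨ha, ha'⟩ ⟨hb, hb'⟩
        refine ⟨mul_mem ha hb, ?_⟩
        have := (mem_centralizer_iff.1 (h.U_comm ha)) b hb
        calc a * b * (a * b) = a * (b * a) * b := by group
          _ = (a * a) * (b * b) := by rw [this]; group
          _ = 1 := by rw [ha', hb', one_mul]
      inv_mem' := by
        rintro a ⟨ha, ha'⟩
        exact ⟨inv_mem ha, by rw [← mul_inv_rev, ha', inv_one]⟩ }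
  have : 𝑼 ≤ P := ncl_le_iff.2 fun g hg => cj_le_iff_forall.2 fun v hv =>
    ⟨cj_le_ncl V hg (conj_mem_cj g hv), by
      calc g * v * g⁻¹ * (g * v * g⁻¹) = g * (v * v) * g⁻¹ := by group
        _ = 1 := by rw [h.V_sq v hv]; group⟩
  exact fun u hu => (this hu).2

theorem CA.U_sq (h : CA S M V z H Y F) : ∀ u ∈ 𝑼, u * u = 1 := sq_eq_one_of_isEA h.U_ea

theorem CA.U_le_Y (h : CA S M V z H Y F) : 𝑼 ≤ Y :=
  h.toGeo.basic.2.2.2.2.2.2.2.2.2.1.trans h.toGeo.basic.2.2.1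

theorem CA.U_le_S (h : CA S M V z H Y F) : 𝑼 ≤ S :=
  h.toGeo.basic.2.2.2.2.2.2.2.2.2.1.trans (h.one.mod h.S_le_H h.H_le_C).2.2.2.2

theorem CA.U_le_CV (h : CA S M V z H Y F) : 𝑼 ≤ 𝐂[V] :=
  h.U_comm.trans (Amb.centralizer_anti (le_ncl V H))

theorem CA.F_not_le (h : CA S M V z H Y F) : ¬ F ≤ M := fun hle =>
  h.toGeo.basic.2.2.2.2.2.2.2.2.2.2 fun _ hf => h.F_inf.le ⟨hf, hle hf⟩

theorem CA.Y_not_le (h : CA S M V z H Y F) : ¬ Y ≤ 𝐂[V] := by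
  intro hY
  obtain ⟨hs, hc, hQ, hCV, -, hodd, -, hred, -⟩ := h.toGeo.basic
  have hYU : Y ≤ 𝐂[𝑼] := le_centralizer_ncl hY h.Y_norm
  by_cases hJ : 𝐉[S] ≤ 𝐂[V]
  · have hL : F ⊔ 𝐂[V] ≤ H := sup_le h.F_le hCV
    have hT0 : IsSyl 2 (S ⊓ 𝐂[V]) 𝐂[V] := h.toTwo.basic.2.2.2.2.2.2.2.2.1
    have hT : IsSyl 2 (S ⊓ 𝐂[V]) (F ⊔ 𝐂[V]) := by
      refine isSyl_of_not_dvd_relIndex hT0.pgrp (inf_le_right.trans le_sup_right) ?_
      rw [← relIndex_mul_relIndex (S ⊓ 𝐂[V]) 𝐂[V] _ inf_le_right le_sup_right]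
      have e : (𝐂[V]).relIndex (F ⊔ 𝐂[V]) = Y.relIndex F := by
        have a1 := Grp.card_sup_mul_card_inf_of_le_normalizer (hCV.trans h.F_norm)
        have a2 : 𝐂[V] ⊓ F = Y :=
          le_antisymm (fun x hx => h.F_inf.le ⟨hx.2, h.CV_le_M hx.1⟩) (le_inf hY h.Y_le_F)
        have a3 := Grp.card_mul_relIndex (le_sup_right : 𝐂[V] ≤ F ⊔ 𝐂[V])
        have a4 := Grp.card_mul_relIndex h.Y_le_F
        rw [a2, sup_comm, ← a3, ← a4, mul_assoc, mul_comm (Nat.card Y)] at a1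
        exact Nat.eq_of_mul_eq_mul_right Nat.card_pos
          (Nat.eq_of_mul_eq_mul_left Nat.card_pos a1)
      rw [e, Nat.prime_two.dvd_mul]
      rintro (a | a)
      · exact hT0.not_dvd_relIndex a
      · exact hodd.not_two_dvd_nat a
    have hVJ : V ≤ ΩZ[2, 𝐉[S]] := by
      obtain ⟨A, hA⟩ := maxEA_nonempty 2 S
      have hVA : V ≤ A := le_of_mem_maxEA_of_centralizes hA h.toTwo.basic.2.2.1
        (fun v hv => by rw [pow_two]; exact h.V_sq v hv)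
        (le_centralizer_iff.1 ((le_thompsonSubgroupOf hA).trans hJ))
      exact le_omegaZ h.toTwo.ea (hVA.trans (le_thompsonSubgroupOf hA)) (le_centralizer_iff.1 hJ)
    have hB : 𝐁[S] ≤ S ⊓ 𝐂[V] := inf_le_inf_left _ (Amb.centralizer_anti hVJ)
    have hsL : Group.IsSolvable ↥(F ⊔ 𝐂[V]) :=
      solvable_of_solvable_injective (f := inclusion hL) (inclusion_injective hL)
    have hcL : IsCharP 2 (F ⊔ 𝐂[V]) :=
      hc.of_pCoreOf_le hL ((hQ.trans h.Y_le_F).trans le_sup_left)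
    have := h.pu _ _ hsL hcL hT hB
    rw [h.one.basic.2.2.2.2.2.2.2.2.2.2.2.2.2] at this
    refine h.F_not_le ((le_sup_left.trans this).trans (sup_le ?_ inf_le_right))
    exact (inf_le_right.trans (Amb.centralizer_anti (le_ncl _ _))).trans h.CV_le_M
  · rw [thompsonSubgroupOf_le_iff] at hJ
    push Not at hJ
    obtain ⟨A, hA, hAV⟩ := hJ
    have hker : H ⊓ Y = H ⊓ 𝐂[𝑼] := by
      refine le_antisymm (inf_le_inf_left _ hYU) (le_inf inf_le_left ?_)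
      rw [← h.ker_eq]
      rintro x ⟨hx, hx'⟩
      refine ⟨hx, mem_secCent.2 ⟨h.H_norm_Z hx, fun u hu => ?_⟩⟩
      rw [mem_c₁_comm.1 (cent_le_c₁ hu hx')]; exact one_mem _
    have hp : IsPRed 2 𝑼 H := ⟨h.U_le_S.trans h.S_le_H, le_normalizer_ncl _ _, h.U_ea,
      (redMod_congr hker).1 hred⟩
    have hM := mod_of_isPRed hs hp
    obtain ⟨o1, o2⟩ := offender_of_maxEA h.U_ea h.U_le_S hA
    obtain ⟨I, t, ht, hle, -⟩ := hM.offender (hA.1.trans h.S_le_H) o1 o2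
    have : ∃ K ∈ I, t K ∉ 𝐂[V] := by
      by_contra! hh
      refine hAV (hle.trans (sup_le ?_ (iSup₂_le fun K hK => zpowers_le.2 (hh K hK))))
      rw [secCent_bot]; exact Amb.centralizer_anti (le_ncl _ _)
    obtain ⟨K, hK, htK⟩ := this
    have h2 := (hM.tv_facts (ht K hK).2).2.2.1
    rw [relIndex_bot_left, bW_bot] at h2
    have htS : t K ∈ S := hA.1 (ht K hK).1
    rw [mem_cent_iff_c₁] at htK
    push Not at htK
    obtain ⟨v, hv, hv'⟩ := htK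
    have e : ⁅t K, v⁆ = z := ((mem_zp_two h.z_sq).1
      (h.comm_V ⟨h.S_le_H htS, h.le htS⟩ hv)).resolve_left fun e => hv' (mem_c₁_comm.2 e)
    have hz : 𝒁 ≤ ⁅𝑼, zpowers (t K)⁆ := by
      rw [zpowers_le, ← e]
      exact comm_mem_symm (commutator_mem_commutator (le_ncl V H hv) (mem_zpowers _))
    have e2 := eq_of_le_of_card_ge hz (by rw [h2, card_zpowers_two h.z_sq h.z_ne])
    have : t K ∈ Y := by
      rw [← h.ker_eq]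
      refine ⟨h.S_le_H htS, mem_secCent.2 ⟨h.H_norm_Z (h.S_le_H htS), fun u hu => ?_⟩⟩
      rw [e2]
      exact comm_mem_symm (commutator_mem_commutator hu (mem_zpowers _))
    exact hv' (cent_le_c₁ hv (hY this))

theorem CA.idx_HM (h : CA S M V z H Y F) : (𝐂[V]).relIndex (H ⊓ M) = 2 := by
  rw [h.HM]; exact h.one.basic.2.2.2.2.2.1

theorem CA.exists_y (h : CA S M V z H Y F) : ∃ y ∈ Y, y ∉ 𝐂[V] :=
  SetLike.not_le_iff_exists.1 h.Y_not_le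

theorem CA.HM_eq (h : CA S M V z H Y F) : H ⊓ M = Y ⊔ 𝐂[V] := by
  obtain ⟨y, hy, hy'⟩ := h.exists_y
  have hC : 𝐂[V] ≤ H ⊓ M := le_inf h.CV_le_H h.CV_le_M
  refine le_antisymm ?_ (sup_le h.Y_le hC)
  rw [← sup_zpowers_eq (by rw [h.idx_HM]; exact Nat.prime_two) hC (h.Y_le hy) hy']
  exact sup_le_sup_right (zpowers_le.2 hy) _

theorem CA.idx_Y (h : CA S M V z H Y F) : (𝐂[V]).relIndex Y = 2 := by
  have h1 := relIndex_le_of_le_right (H := 𝐂[V]) h.Y_le (by rw [h.idx_HM]; omega)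
  rw [h.idx_HM] at h1
  have h2 : (𝐂[V]).relIndex Y ≠ 0 := index_ne_zero_of_finite
  have h3 : (𝐂[V]).relIndex Y ≠ 1 := fun e => h.Y_not_le (relIndex_eq_one.1 e)
  omega

theorem CA.U_eq (h : CA S M V z H Y F) : 𝑼 = ncl V F := by
  refine le_antisymm (ncl_le_iff.2 fun g hg => ?_) (ncl_mono le_rfl h.F_le)
  obtain ⟨f, hf, n, hn, rfl⟩ := h.toGeo.exists_F hg
  rw [cj_mul, cj_of_mem_normalizer (h.NV.ge hn.2)]
  exact cj_le_ncl V hf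

theorem CA.not_norm (h : CA S M V z H Y F) {N : Subgroup G} (hN : IsPGroup 2 N) (h1 : N ≠ ⊥)
    (hM : M ≤ 𝐍[N]) : ¬ H ≤ 𝐍[N] := fun hH =>
  h.not_le (hH.trans (h.toTwo.normalizer_eq hN h1 hM).le)

theorem CA.V_lt_U (h : CA S M V z H Y F) : V < 𝑼 := by
  refine lt_of_le_of_ne (le_ncl V H) fun e => h.not_le ?_
  rw [← h.NV]
  conv_rhs => rw [e]
  exact le_normalizer_ncl _ _

theorem CA.basic (h : CA S M V z H Y F) : S ≤ H ∧ H ≤ 𝐂₁[z] ∧ H ⊓ M = 𝐂₁[z] ⊓ M ∧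
    Mod H 𝑼 𝒁 ∧ H ⊓ secCent 𝑼 𝒁 = Y ∧ IsElementaryAbelian 2 𝑼 ∧ 𝑼 ≤ Y ∧ 𝑼 ≤ S ∧ ¬ Y ≤ 𝐂[V] ∧
    (𝐂[V]).relIndex Y = 2 ∧ H ⊓ M = Y ⊔ 𝐂[V] ∧ 𝑼 = ncl V F ∧ V < 𝑼 ∧
    (∀ f ∈ F, f ∈ secCent V 𝒁 → f ∈ Y) := by
  refine ⟨h.S_le_H, h.H_le_C, h.HM, h.modU, h.ker_eq, h.U_ea, h.U_le_Y, h.U_le_S, h.Y_not_le,
    h.idx_Y, h.HM_eq, h.U_eq, h.V_lt_U, fun f hf hf' => h.F_inf.le ⟨hf, ?_⟩⟩
  rw [← h.NV]
  refine mem_normalizer_of_cj_le (cj_le_iff_forall.2 fun v hv => ?_)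
  rw [conj_eq_comm_mul]
  exact mul_mem (zpowers_le.2 h.z_mem_V ((mem_secCent.1 hf').2 v hv)) hv

/-- the pairing `Y × U → ⟨z⟩`: every homomorphism that kills `C_U(Y)` is induced by `Y` -/
theorem CA.dual (h : CA S M V z H Y F) : (𝐂[𝑼]).relIndex Y = (𝐂[Y]).relIndex 𝑼 ∧
    ∀ X : Subgroup G, 𝑼 ⊓ 𝐂[Y] ≤ X → X ≤ 𝑼 → ∀ u ∈ 𝑼, u ∉ X →
      ∃ y ∈ Y, y ∈ 𝐂[X] ∧ ⁅u, y⁆ = z := ⟨pair_eq h.z_sq fun _ ha _ hb => h.comm_U ha hb, fun _ h1 h2 _ hu hu' =>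
    pair_exists h.z_sq (fun _ ha _ hb => h.comm_U ha hb) h1 h2 hu hu'⟩

theorem CA.F_odd (h : CA S M V z H Y F) {f : G} (hf : f ∈ F) : ∃ n : ℕ, Odd n ∧ f ^ n ∈ Y := by
  obtain ⟨p, hp, hp2, hf'⟩ := h.F_exp
  exact ⟨p, hp.odd_of_ne_two hp2, hf' f hf⟩

theorem CA.cent_Y' (h : CA S M V z H Y F) : 𝑼 ⊓ 𝐂[Y] ≤ 𝐂[F] := by
  obtain ⟨hs, -, -, -, -, hodd, -⟩ := h.toGeo.basic
  have hn : H ≤ 𝐍[𝑼 ⊓ 𝐂[Y]] :=
    Amb.le_normalizer_inf (le_normalizer_ncl _ _) (Amb.le_normalizer_centralizer h.Y_norm)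
  have hY : Y ≤ secCent (𝑼 ⊓ 𝐂[Y]) ⊥ := by
    rw [secCent_bot]; exact le_centralizer_iff.1 inf_le_right
  have hM : Mod F (𝑼 ⊓ 𝐂[Y]) ⊥ := by
    refine ⟨bot_le, h.F_le.trans hn, le_normalizer_of_normal, ?_, fun u hu => h.U_sq u hu.1,
      solvable_of_solvable_injective (f := inclusion h.F_le) (inclusion_injective _), ?_⟩
    · rw [le_bot_iff, commutator_eq_bot_iff_le_centralizer]
      exact (inf_le_left.trans h.U_comm).trans (Amb.centralizer_anti inf_le_left)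
    · intro D hD _ hD' d hd
      obtain ⟨n, ⟨j, rfl⟩, hn⟩ := h.F_odd (hD hd)
      obtain ⟨k, hk⟩ := exists_pow_mem_pRes (p := 2) hd
      have c : Nat.Coprime (2 * j + 1) (2 ^ k) :=
        Nat.Coprime.pow_right _ ((Nat.coprime_two_right).2 ⟨j, rfl⟩)
      have := (secCent (𝑼 ⊓ 𝐂[Y]) ⊥).mul_mem (zpow_mem (hY hn) (Nat.gcdA (2 * j + 1) (2 ^ k)))
        (zpow_mem (hD' hk) (Nat.gcdB (2 * j + 1) (2 ^ k)))
      rwa [← zpow_natCast, ← zpow_natCast, ← zpow_mul, ← zpow_mul, ← zpow_add,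
        ← Nat.gcd_eq_gcd_ab, c, Nat.cast_one, zpow_one] at this
  have := (hM.coprime le_rfl (hodd.of_dvd_nat (relIndex_dvd_of_le_left _ hY))).2
  rw [bW_bot, fx_bot] at this
  rw [← commutator_eq_bot_iff_le_centralizer]
  by_contra hne
  have hle : ⁅𝑼 ⊓ 𝐂[Y], F⁆ ≤ 𝑼 ⊓ 𝐂[Y] := (le_sup_left.trans (hM.bW_le le_rfl))
  have hz := h.one.z_mem ((isEA_isPGroup h.U_ea).to_le (hle.trans inf_le_left)) hne
    (h.S_le_H.trans (Amb.le_normalizer_commutator hn h.F_norm))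
  exact h.z_ne (mem_bot.1 (this.le ⟨hz, hle hz, mem_cent_iff_le.2 (h.F_le.trans h.H_le_C)⟩))

theorem CA.cent_Y (h : CA S M V z H Y F) : 𝑼 ⊓ 𝐂[Y] ≤ fx 𝑼 𝒁 F := fun u hu =>
  h.modU.mem_fx.2 ⟨hu.1, fun f hf => by
    rw [mem_c₁_comm.1 (cent_le_c₁ hf (h.cent_Y' hu))]; exact one_mem _⟩

theorem CA.secU (h : CA S M V z H Y F) : SecHyp H 𝑼 𝒁 :=
  ⟨h.modU.le, h.modU.comm, h.modU.normU, h.modU.normU₀⟩

theorem CA.secF (h : CA S M V z H Y F) : SecHyp H F Y := ⟨h.Y_le_F, h.F_comm, h.F_norm, h.Y_norm⟩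

theorem CA.Y_le_H (h : CA S M V z H Y F) : Y ≤ H := h.Y_le.trans inf_le_left

theorem CA.Y_le_M (h : CA S M V z H Y F) : Y ≤ M := h.Y_le.trans inf_le_right

/-- (Q1) -/
theorem CA.q1 (h : CA S M V z H Y F) {a : G} (ha : a ∈ H ⊓ M) (ha2 : a * a ∈ Y) :
    bW 𝑼 𝒁 (⁅F, zpowers a⁆ ⊔ Y) ⊓ fx 𝑼 𝒁 (zpowers a) = bW 𝑼 𝒁 (zpowers a) ∧
    bW 𝑼 𝒁 (⁅F, zpowers a⁆ ⊔ Y) ⊔ fx 𝑼 𝒁 (zpowers a) = 𝑼 ∧
    (𝒁).relIndex (bW 𝑼 𝒁 (⁅F, zpowers a⁆ ⊔ Y)) = ((𝒁).relIndex (bW 𝑼 𝒁 (zpowers a))) ^ 2 ∧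
    (∀ f ∈ ⁅F, zpowers a⁆ ⊔ Y, a * f * a⁻¹ * f ∈ Y) ∧ (a ∉ Y → ¬ ⁅F, zpowers a⁆ ≤ Y) := by
  have hM := h.modU
  have ha2' : ∀ f ∈ F, ⁅a * a, f⁆ ∈ Y := fun f hf => by
    rw [commutatorElement_def, mul_assoc (a * a), mul_assoc (a * a)]
    refine mul_mem ha2 ?_
    rw [mul_assoc f, ← mul_assoc f]
    exact Amb.conj_mem_of_mem_normalizer (h.Y_norm (h.F_le hf)) (inv_mem ha2)
  have haH : zpowers a ≤ H := zpowers_le.2 ha.1
  have hEF : ⁅F, zpowers a⁆ ⊔ Y ≤ F :=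
    sup_le (commutator_le.2 fun f hf b hb => comm_mem_symm (Sec.comm_mem h.secF (haH hb) hf))
      h.Y_le_F
  have hEH := hEF.trans h.F_le
  have h4 := inv_comm h.secF ha.1 ha2'
  have hWU := hM.bW_le hEH
  have hfU : fx 𝑼 𝒁 (zpowers a) ≤ 𝑼 := inf_le_left
  have h2 : bW 𝑼 𝒁 (⁅F, zpowers a⁆ ⊔ Y) ⊔ fx 𝑼 𝒁 (zpowers a) = 𝑼 := by
    refine le_antisymm (sup_le hWU hfU) (h.U_eq.le.trans (ncl_le_iff.2 fun f hf => ?_))
    obtain ⟨n, hn, hfn⟩ := h.F_odd hf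
    obtain ⟨e, he, c, hc, hac, rfl⟩ := exists_decomp h.secF ha.1 ha2' hf hn hfn
    refine cj_le_iff_forall.2 fun v hv => ?_
    have hw : c * v * c⁻¹ ∈ 𝑼 := cj_le_ncl V (h.F_le hc) (conj_mem_cj c hv)
    have e1 : e * c * v * (e * c)⁻¹ = ⁅e, c * v * c⁻¹⁆ * (c * v * c⁻¹) := by
      rw [← conj_eq_comm_mul]; group
    rw [e1]
    refine mul_mem (mem_sup_left (mem_sup_left (comm_mem_symm
      (commutator_mem_commutator hw (mem_sup_left he))))) (mem_sup_right ?_)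
    refine (hM.mem_fx_zpowers ha.1).2 ⟨hw, comm_mem_symm ?_⟩
    have hvU := le_ncl V H hv
    refine (Sec.rep_pr_eq_iff h.secU ⟨a, ha.1⟩ hw).1 ?_
    have r1 : Sec.rep h.secU ⟨a, ha.1⟩ (Sec.pr h.secU v) = Sec.pr h.secU v :=
      (Sec.rep_pr_eq_iff h.secU ⟨a, ha.1⟩ hvU).2 (h.comm_V ha hv)
    have r2 : Sec.rep h.secU ⟨⁅a, c⁆, h.Y_le_H hac⟩ = 1 :=
      rep_eq_one_of_mem h.secU _ (h.Y_le_sec hac)
    have r3 : (⟨a, ha.1⟩ : H) * ⟨c, h.F_le hc⟩ =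
        ⟨⁅a, c⁆, h.Y_le_H hac⟩ * ⟨c, h.F_le hc⟩ * ⟨a, ha.1⟩ :=
      Subtype.ext (by simp [commutatorElement_def])
    rw [← Sec.rep_pr' h.secU (h.F_le hc) hvU, ← Module.End.mul_apply, ← map_mul, r3, map_mul,
      map_mul, r2, one_mul, Module.End.mul_apply, r1]
  have hna : zpowers a ≤ 𝐍[bW 𝑼 𝒁 (⁅F, zpowers a⁆ ⊔ Y)] :=
    Amb.le_normalizer_sup (Amb.le_normalizer_commutator (haH.trans hM.normU)
      (Amb.le_normalizer_sup (Amb.le_normalizer_commutator (haH.trans h.F_norm) le_normalizer)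
        (haH.trans h.Y_norm))) (haH.trans hM.normU₀)
  have hUn : ∀ X : Subgroup G, X ≤ 𝑼 → 𝑼 ≤ 𝐍[X] := fun X hX =>
    (h.U_comm.trans (Amb.centralizer_anti hX)).trans (centralizer_le_normalizer' _)
  have hdec : ∀ u ∈ 𝑼, ∃ w ∈ bW 𝑼 𝒁 (⁅F, zpowers a⁆ ⊔ Y), ∃ x ∈ fx 𝑼 𝒁 (zpowers a), u = w * x :=
    fun u hu => (mem_sup_of_le_normalizer_right (hWU.trans (hUn _ hfU))).1 (h2.ge hu)
  have h1 : bW 𝑼 𝒁 (⁅F, zpowers a⁆ ⊔ Y) ⊓ fx 𝑼 𝒁 (zpowers a) = bW 𝑼 𝒁 (zpowers a) := by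
    refine le_antisymm (fun w hw => ?_) (sup_le ?_ (le_inf le_sup_right (hM.le_fx haH)))
    · refine inv_free h.secU hM.sq hEH ha.1 (fun e he => ?_) (fun e he => h.Y_le_sec (h4 e he)) hw.1
        (comm_mem_symm ((hM.mem_fx_zpowers ha.1).1 hw.2).2)
      obtain ⟨n, hn, hfn⟩ := h.F_odd (hEF he)
      exact ⟨n, hn, h.Y_le_sec hfn⟩
    · rw [commutator_comm]
      refine CommMod.commutator_zpowers_le ?_ fun u hu => ⟨?_, ?_⟩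
      · refine Amb.le_normalizer_inf hna (Amb.le_normalizer_inf (haH.trans hM.normU)
          (le_normalizer_secCent le_normalizer (haH.trans hM.normU₀))) (mem_zpowers a)
      · obtain ⟨w, hw, x, hx, rfl⟩ := hdec u hu
        have e : ⁅a, w * x⁆ = (a * w * a⁻¹) * ⁅a, x⁆ * w⁻¹ := by
          simp only [commutatorElement_def]; group
        rw [e]
        exact mul_mem (mul_mem (Amb.conj_mem_of_mem_normalizer (hna (mem_zpowers a)) hw)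
          (mem_sup_right (comm_mem_symm ((hM.mem_fx_zpowers ha.1).1 hx).2))) (Subgroup.inv_mem _ hw)
      · have hc := Sec.comm_mem h.secU ha.1 hu
        refine (hM.mem_fx_zpowers ha.1).2 ⟨hc, comm_mem_symm ?_⟩
        refine (Sec.rep_pr_eq_iff h.secU ⟨a, ha.1⟩ hc).1 ?_
        have r1 := Sec.rep_pr_sub h.secU ⟨a, ha.1⟩ hu
        have r2 : Sec.rep h.secU ⟨a, ha.1⟩ * Sec.rep h.secU ⟨a, ha.1⟩ = 1 := by
          rw [← map_mul]; exact rep_eq_one_of_mem h.secU _ (h.Y_le_sec ha2)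
        have r3 := LinearMap.congr_fun r2 (Sec.pr h.secU u)
        rw [Module.End.mul_apply, Module.End.one_apply] at r3
        simp only at r1
        rw [← r1, map_sub, r3]
        have t1 := sec_two h.secU hM.sq (Sec.pr h.secU u)
        have t2 := sec_two h.secU hM.sq (Sec.rep h.secU ⟨a, ha.1⟩ (Sec.pr h.secU u))
        linear_combination (norm := abel1) t1 - t2
  refine ⟨h1, h2, ?_, h4, fun haY hle => haY (h.F_inf.le ⟨h.F_self a ha.1 fun f hf =>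
    comm_mem_symm (hle (commutator_mem_commutator hf (mem_zpowers a))), ha.2⟩)⟩
  have i1 := hM.relIndex_fx_zpowers ha.1
  have i2 : (fx 𝑼 𝒁 (zpowers a)).relIndex 𝑼 =
      (fx 𝑼 𝒁 (zpowers a)).relIndex (bW 𝑼 𝒁 (⁅F, zpowers a⁆ ⊔ Y)) := by
    have a1 := Grp.card_sup_mul_card_inf_of_le_normalizer (hWU.trans (hUn _ hfU))
    have a2 := Grp.card_mul_relIndex hfU
    have a3 := Grp.card_inf_mul_relIndex' (fx 𝑼 𝒁 (zpowers a)) (bW 𝑼 𝒁 (⁅F, zpowers a⁆ ⊔ Y))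
    rw [h2, ← a2, ← a3, inf_comm, mul_assoc, mul_comm _ (Nat.card ↥(fx 𝑼 𝒁 (zpowers a)))] at a1
    have := Nat.eq_of_mul_eq_mul_left Nat.card_pos a1
    rw [mul_comm] at this
    exact Nat.eq_of_mul_eq_mul_left Nat.card_pos this
  rw [← relIndex_mul_relIndex 𝒁 (bW 𝑼 𝒁 (zpowers a)) _ le_sup_right (h1.ge.trans inf_le_left),
    pow_two, ← i1, i2, ← h1, inf_comm, inf_relIndex_right]

section line

variable (h : CA S M V z H Y F) (hm : m ∈ M) (hne : m * z * m⁻¹ ≠ z)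

include h hm in
theorem CA.conj_mem_V {v : G} (hv : v ∈ V) : m * v * m⁻¹ ∈ V :=
  Amb.conj_mem_of_mem_normalizer (h.NV.ge hm) hv

include h in
theorem CA.conj_ne_one (g : G) : g * z * g⁻¹ ≠ 1 := fun e => h.z_ne (by
  calc z = g⁻¹ * (g * z * g⁻¹) * g := by group
    _ = 1 := by rw [e]; group)

include h in
theorem CA.conj_sq (g : G) : g * z * g⁻¹ * (g * z * g⁻¹) = 1 := by
  calc g * z * g⁻¹ * (g * z * g⁻¹) = g * (z * z) * g⁻¹ := by group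
    _ = 1 := by rw [h.z_sq]; group

include h hm hne in
theorem CA.mem_V {v : G} (hv : v ∈ V) :
    v = 1 ∨ v = z ∨ v = m * z * m⁻¹ ∨ v = z * (m * z * m⁻¹) :=
  four_mem h.four h.V_sq h.z_mem_V (h.conj_mem_V hm h.z_mem_V) h.z_ne (h.conj_ne_one m) hne.symm hv

include h hm hne in
theorem CA.V_eq_zz : V = 𝒁 ⊔ zpowers (m * z * m⁻¹) :=
  four_eq_sup h.four h.V_sq h.z_mem_V (h.conj_mem_V hm h.z_mem_V) h.z_ne (h.conj_ne_one m) hne.symm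

include h hm hne in
theorem CA.mem_CV {g : G} (h1 : g * z * g⁻¹ = z) (h2 : g * (m * z * m⁻¹) * g⁻¹ = m * z * m⁻¹) :
    g ∈ 𝐂[V] := by
  rw [h.V_eq_zz hm hne, Amb.centralizer_sup, Amb.centralizer_zpowers, Amb.centralizer_zpowers]
  exact ⟨mem_c₁_conj.2 h1, mem_c₁_conj.2 h2⟩

include h in
theorem CA.fix_z {g : G} (hg : g ∈ H) : g * z * g⁻¹ = z := mem_c₁_conj.1 (h.H_le_C hg)

include h in
theorem CA.mem_HM {g : G} (hg : g ∈ M) (e : g * z * g⁻¹ = z) : g ∈ H ⊓ M :=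
  h.HM.ge ⟨mem_c₁_conj.2 e, hg⟩

include h hm hne in
theorem CA.move {y : G} (hy : y ∈ H ⊓ M) (hy' : y ∉ 𝐂[V]) :
    y * (m * z * m⁻¹) * y⁻¹ = z * (m * z * m⁻¹) := by
  rw [conj_eq_comm_mul]
  rcases (mem_zp_two h.z_sq).1 (h.comm_V hy (h.conj_mem_V hm h.z_mem_V)) with e | e
  · refine (hy' (h.mem_CV hm hne (h.fix_z hy.1) ?_)).elim
    rw [conj_eq_comm_mul, e, one_mul]
  · rw [e]

include h in
theorem CA.mem_HM_of_eq {g g' : G} (hg : g ∈ M) (hg' : g' ∈ M)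
    (e : g * z * g⁻¹ = g' * z * g'⁻¹) : g'⁻¹ * g ∈ H ⊓ M := by
  refine h.mem_HM (mul_mem (inv_mem hg') hg) ?_
  calc g'⁻¹ * g * z * (g'⁻¹ * g)⁻¹ = g'⁻¹ * (g * z * g⁻¹) * g' := by group
    _ = z := by rw [e]; group

include h in
theorem CA.cj_eq_of_eq {g g' : G} (hg : g ∈ M) (hg' : g' ∈ M)
    (e : g * z * g⁻¹ = g' * z * g'⁻¹) {X : Subgroup G} (hX : H ⊓ M ≤ 𝐍[X]) :
    cj(g, X) = cj(g', X) := by
  have := cj_of_mem_normalizer (hX (h.mem_HM_of_eq hg hg' e))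
  rw [cj_mul] at this
  conv_rhs => rw [← this]
  rw [cj_cj_inv]

end line

/-- the other points on the line -/
theorem CA.points (h : CA S M V z H Y F) (hm : m ∈ M) (hne : m * z * m⁻¹ ≠ z) {n : G}
    (hn : n ∈ M) : n ∈ H ∨ (∃ y ∈ H ⊓ M, ∃ y' ∈ Y, n = y' * m * y) := by
  rcases h.mem_V hm hne (h.conj_mem_V hn h.z_mem_V) with e | e | e | e
  · exact (h.conj_ne_one n e).elim
  · exact Or.inl (h.mem_HM hn e).1
  · exact Or.inr ⟨_, h.mem_HM_of_eq hn hm e, 1, one_mem _, by group⟩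
  · obtain ⟨y, hy, hy'⟩ := h.exists_y
    refine Or.inr ⟨_, h.mem_HM_of_eq hn (mul_mem (h.Y_le_M hy) hm) ?_, y, hy, by group⟩
    rw [e, ← h.move hm hne (h.Y_le hy) hy']; group

/-- an element of `M` interchanging the points `z` and `z'` -/
theorem CA.swap (h : CA S M V z H Y F) (hm : m ∈ M) (hne : m * z * m⁻¹ ≠ z) :
    ∃ w ∈ M, w * z * w⁻¹ = m * z * m⁻¹ ∧ w * (m * z * m⁻¹) * w⁻¹ = z ∧
      ∀ X : Subgroup G, H ⊓ M ≤ 𝐍[X] → cj(w, X) = cj(m, X) ∧ cj(w, cj(m, X)) = X := by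
  have : ∃ w ∈ M, w * z * w⁻¹ = m * z * m⁻¹ ∧ w * (m * z * m⁻¹) * w⁻¹ = z := by
    rcases h.mem_V hm hne (h.conj_mem_V hm (h.conj_mem_V hm h.z_mem_V)) with e | e | e | e
    · refine (h.conj_ne_one (m * m) ?_).elim
      rw [← e]; group
    · exact ⟨m, hm, rfl, e⟩
    · refine (hne ?_).elim
      calc m * z * m⁻¹ = m⁻¹ * (m * (m * z * m⁻¹) * m⁻¹) * m := by group
        _ = z := by rw [e]; group
    · obtain ⟨y, hy, hy'⟩ := h.exists_y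
      refine ⟨m * y, mul_mem hm (h.Y_le_M hy), ?_, ?_⟩
      · calc m * y * z * (m * y)⁻¹ = m * (y * z * y⁻¹) * m⁻¹ := by group
          _ = _ := by rw [h.fix_z (h.Y_le_H hy)]
      · have c := (mem_centralizer_iff.1 (isEA_le_centralizer h.toTwo.ea h.z_mem_V)) _
          (h.conj_mem_V hm h.z_mem_V)
        calc m * y * (m * z * m⁻¹) * (m * y)⁻¹ = m * (y * (m * z * m⁻¹) * y⁻¹) * m⁻¹ := by group
          _ = (m * z * m⁻¹) * (m * (m * z * m⁻¹) * m⁻¹) := by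
            rw [h.move hm hne (h.Y_le hy) hy']; group
          _ = z := by rw [e, ← mul_assoc, c, mul_assoc, h.conj_sq, mul_one]
  obtain ⟨w, hw, e1, e2⟩ := this
  refine ⟨w, hw, e1, e2, fun X hX => ⟨h.cj_eq_of_eq hw hm e1 hX, ?_⟩⟩
  rw [← cj_mul]
  refine cj_of_mem_normalizer (hX (h.mem_HM (mul_mem hw hm) ?_))
  conv_rhs => rw [← e2]
  group

section line2

variable (h : CA S M V z H Y F) (hm : m ∈ M) (hne : m * z * m⁻¹ ≠ z)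

include h hm in
theorem CA.cjM : CA cj(m, S) M V (m * z * m⁻¹) cj(m, H) cj(m, Y) cj(m, F) := by
  have := h.cj m
  rwa [cj_of_mem hm, cj_of_mem_normalizer (h.NV.ge hm)] at this

include h hm in
theorem CA.cj_U : 𝑼' = ncl V cj(m, H) := by
  rw [cj_ncl, cj_of_mem_normalizer (h.NV.ge hm)]

include h hm hne in
/-- a subgroup `Φ X X'` symmetric in the two points and normalized by `Y` and `C(V)` is normal in `M` -/
theorem CA.M_le_norm {N : Subgroup G} (h1 : Y ≤ 𝐍[N]) (h2 : 𝐂[V] ≤ 𝐍[N])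
    (h3 : ∀ w ∈ M, (∀ X : Subgroup G, H ⊓ M ≤ 𝐍[X] → cj(w, X) = cj(m, X) ∧ cj(w, cj(m, X)) = X) →
      cj(w, N) = N) : M ≤ 𝐍[N] := by
  obtain ⟨w, hw, e1, -, e3⟩ := h.swap hm hne
  have hP : H ⊓ M ≤ 𝐍[N] := h.HM_eq.le.trans (sup_le h1 h2)
  intro n hn
  rcases h.points hw (e1 ▸ hne) hn with a | ⟨y, hy, y', hy', rfl⟩
  · exact hP ⟨a, hn⟩
  · exact mul_mem (mul_mem (h1 hy') (cj_eq_iff.1 (h3 w hw e3))) (hP hy)

include h in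
theorem CA.HM_norm_U : H ⊓ M ≤ 𝐍[𝑼] := inf_le_left.trans (le_normalizer_ncl _ _)

include h in
theorem CA.HM_norm_Y : H ⊓ M ≤ 𝐍[Y] := inf_le_left.trans h.Y_norm

include h in
theorem CA.CV_norm_U : 𝐂[V] ≤ 𝐍[𝑼] := h.CV_le_H.trans (le_normalizer_ncl _ _)

include h in
theorem CA.CV_norm_Y : 𝐂[V] ≤ 𝐍[Y] := h.CV_le_H.trans h.Y_norm

include h hm in
theorem CA.CV_norm_U' : 𝐂[V] ≤ 𝐍[𝑼'] := by
  rw [h.cj_U hm]; exact (h.cjM hm).CV_norm_U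

include h hm in
theorem CA.V_le_D : V ≤ 𝑫 := le_inf (le_ncl _ _) (by rw [h.cj_U hm]; exact le_ncl _ _)

include h hm in
theorem CA.comm_U' {y u : G} (hy : y ∈ cj(m, Y)) (hu : u ∈ 𝑼') :
    ⁅y, u⁆ ∈ zpowers (m * z * m⁻¹) := (h.cjM hm).comm_U hy (h.cj_U hm ▸ hu)

include h hm hne in
theorem CA.norm_D : M ≤ 𝐍[𝑫] := by
  refine h.M_le_norm hm hne (fun y hy => ?_) (Amb.le_normalizer_inf h.CV_norm_U (h.CV_norm_U' hm))
    fun w _ hw => ?_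
  · refine mem_normalizer_of_cj_le (cj_le_iff_forall.2 fun d hd => ?_)
    rw [conj_eq_comm_mul]
    exact mul_mem (h.V_le_D hm (zpowers_le.2 h.z_mem_V (h.comm_U hy hd.1))) hd
  · rw [cj_inf, (hw _ h.HM_norm_U).1, (hw _ h.HM_norm_U).2, inf_comm]

include h hm hne in
theorem CA.norm_L : M ≤ 𝐍[Y ⊔ cj(m, Y)] := by
  refine h.M_le_norm hm hne (le_sup_left.trans le_normalizer)
    (Amb.le_normalizer_sup h.CV_norm_Y (h.cjM hm).CV_norm_Y) fun w _ hw => ?_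
  rw [cj_sup, (hw _ h.HM_norm_Y).1, (hw _ h.HM_norm_Y).2, sup_comm]

include h hm hne in
theorem CA.z'_not_mem : m * z * m⁻¹ ∉ 𝐂[Y] := fun hc => by
  obtain ⟨y, hy, hy'⟩ := h.exists_y
  exact hy' (h.mem_CV hm hne (h.fix_z (h.Y_le_H hy))
    (mem_c₁_conj.1 (mem_cent_iff_le.1 hc hy)))

include h hm hne in
theorem CA.D_inf_CY : 𝑫 ⊓ 𝐂[Y] = 𝒁 := by
  have h' := h.cjM hm
  have hzY : z ∈ 𝐂[Y] := mem_cent_iff_le.2 (h.Y_le_H.trans h.H_le_C)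
  refine le_antisymm (fun c hc => ?_) (zpowers_le.2 ⟨h.V_le_D hm h.z_mem_V, hzY⟩)
  have hb : 𝑫 ⊓ 𝐂[Y ⊔ cj(m, Y)] = ⊥ := by
    by_contra hb
    have := h.one.V_le ((isEA_isPGroup h.U_ea).to_le (inf_le_left.trans inf_le_left)) hb
      (Amb.le_normalizer_inf (h.norm_D hm hne) (Amb.le_normalizer_centralizer (h.norm_L hm hne)))
    exact h.Y_not_le (le_centralizer_iff.1
      ((this.trans inf_le_right).trans (Amb.centralizer_anti le_sup_left)))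
  have key : ∀ d ∈ 𝑫 ⊓ 𝐂[Y], d ∈ 𝐂[cj(m, Y)] → d = 1 := fun d hd hd' =>
    mem_bot.1 (hb.le ⟨hd.1, by rw [Amb.centralizer_sup]; exact ⟨hd.2, hd'⟩⟩)
  have h0 : ∀ y ∈ cj(m, Y) ⊓ 𝐂[V], y ∈ 𝐂₁[c] := fun y hy => by
    rcases (mem_zp_two h'.z_sq).1 (h.comm_U' hm hy.1 hc.1.2) with e | e
    · exact mem_c₁_comm.2 e
    · refine (h.z'_not_mem hm hne ?_).elim
      rw [← e, commutatorElement_def]
      exact mul_mem (Amb.conj_mem_of_mem_normalizer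
        (Amb.le_normalizer_centralizer h.CV_norm_Y hy.2) hc.2) (inv_mem hc.2)
  obtain ⟨y, hy, hy'⟩ := h'.exists_y
  have hs : zpowers y ⊔ (cj(m, Y) ⊓ 𝐂[V]) = cj(m, Y) :=
    sup_zpowers_eq (by rw [inf_relIndex_left, h'.idx_Y]; exact Nat.prime_two) inf_le_left hy
      fun e => hy' e.2
  have hcent : ∀ d, y ∈ 𝐂₁[d] → cj(m, Y) ⊓ 𝐂[V] ≤ 𝐂₁[d] → d ∈ 𝐂[cj(m, Y)] := fun d a b =>
    mem_cent_iff_le.2 (hs.ge.trans (sup_le (zpowers_le.2 a) b))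
  rcases (mem_zp_two h'.z_sq).1 (h.comm_U' hm hy hc.1.2) with e | e
  · rw [key c hc (hcent c (mem_c₁_comm.2 e) h0)]; exact one_mem _
  · have hyz : y * z * y⁻¹ = m * z * m⁻¹ * z := by
      rw [conj_eq_comm_mul]
      rcases (mem_zp_two h'.z_sq).1 (h'.comm_V (h'.Y_le hy) h.z_mem_V) with e' | e'
      · refine (hy' (h.mem_CV hm hne (mem_c₁_conj.1 (mem_c₁_comm.2 e'))
          (h'.fix_z (h'.Y_le_H hy)))).elim
      · rw [e']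
    have hz : z ∈ 𝑫 ⊓ 𝐂[Y] := ⟨h.V_le_D hm h.z_mem_V, hzY⟩
    have := key (c * z) (mul_mem hc hz) (hcent _ (mem_c₁_conj.2 ?_) fun x hx => mem_c₁_conj.2 ?_)
    · rw [eq_inv_of_mul_eq_one_left this]; exact inv_mem (mem_zpowers z)
    · have cc := (mem_centralizer_iff.1 (h.U_comm hc.1.1)) _
        (le_ncl V H (h.conj_mem_V hm h.z_mem_V))
      calc y * (c * z) * y⁻¹ = (y * c * y⁻¹) * (y * z * y⁻¹) := by group
        _ = (m * z * m⁻¹ * c) * (m * z * m⁻¹ * z) := by rw [hyz, conj_eq_comm_mul y c, e]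
        _ = c * ((m * z * m⁻¹) * (m * z * m⁻¹)) * z := by rw [cc]; group
        _ = c * z := by rw [h'.z_sq, mul_one]
    · calc x * (c * z) * x⁻¹ = (x * c * x⁻¹) * (x * z * x⁻¹) := by group
        _ = c * z := by
          rw [mem_c₁_conj.1 (h0 x hx), mem_c₁_conj.1 (cent_le_c₁ h.z_mem_V hx.2)]

include h hm hne in
theorem CA.D_inf_CY' : 𝑫 ⊓ 𝐂[cj(m, Y)] = zpowers (m * z * m⁻¹) := by
  obtain ⟨w, hw, e1, -, e3⟩ := h.swap hm hne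
  have : cj(w, 𝑫 ⊓ 𝐂[Y]) = cj(w, 𝒁) := by rw [h.D_inf_CY hm hne]
  rwa [cj_inf, cj_of_mem_normalizer (h.norm_D hm hne hw), ← Amb.centralizer_cj,
    (e3 _ h.HM_norm_Y).1, cj_zp, e1] at this

include h hm hne in
theorem CA.D_inf_CY0 : 𝑫 ⊓ 𝐂[cj(m, Y) ⊓ 𝐂[V]] = V := by
  have h' := h.cjM hm
  refine le_antisymm (fun d hd => ?_) (le_inf (h.V_le_D hm) (le_centralizer_iff.1 inf_le_right))
  have hVU : V ≤ ncl V cj(m, H) := le_ncl _ _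
  have hd' : d ∈ V ⊔ (ncl V cj(m, H) ⊓ 𝐂[cj(m, Y)]) := by
    by_contra hn
    obtain ⟨y, hy, hy1, hy2⟩ := h'.dual.2 _ le_sup_right (sup_le hVU inf_le_left) d
      (h.cj_U hm ▸ hd.1.2) hn
    have : y ∈ cj(m, Y) ⊓ 𝐂[V] := ⟨hy, Amb.centralizer_anti le_sup_left hy1⟩
    rw [mem_c₁_comm.1 (cent_le_c₁ this hd.2)] at hy2
    exact h'.z_ne hy2.symm
  obtain ⟨v, hv, c, hc, rfl⟩ := (mem_sup_of_le_normalizer_right
    (((hVU.trans h'.U_comm).trans (Amb.centralizer_anti inf_le_left)).trans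
      (centralizer_le_normalizer' _))).1 hd'
  have hcD : c ∈ 𝑫 := (mul_mem_cancel_left (h.V_le_D hm hv)).1 hd.1
  exact mul_mem hv (zpowers_le.2 h'.z_mem_V ((h.D_inf_CY' hm hne).le ⟨hcD, hc.2⟩))

include h hm in
theorem CA.U'_le : 𝑼' ≤ cj(m, Y) ⊓ 𝐂[V] := by
  rw [h.cj_U hm]; exact le_inf (h.cjM hm).U_le_Y (h.cjM hm).U_le_CV

include h hm hne in
theorem CA.D_lt_U : 𝑫 < 𝑼 := by
  refine lt_of_le_of_ne inf_le_left fun e => ?_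
  refine h.not_norm (isEA_isPGroup h.U_ea) (ne_bot_of_gt h.V_lt_U) ?_ (le_normalizer_ncl _ _)
  have := h.norm_D hm hne
  rwa [e] at this

include h hm hne in
theorem CA.norm_I : M ≤ 𝐍[(Y ⊓ 𝐂[V]) ⊔ (cj(m, Y) ⊓ 𝐂[V])] := by
  refine h.M_le_norm hm hne (fun y hy => ?_) (Amb.le_normalizer_sup
    (Amb.le_normalizer_inf h.CV_norm_Y le_normalizer)
    (Amb.le_normalizer_inf (h.cjM hm).CV_norm_Y le_normalizer)) fun w hw hw' => ?_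
  · refine mem_normalizer_of_cj_le ?_
    rw [cj_sup]
    refine sup_le ((cj_of_mem_normalizer (Amb.le_normalizer_inf le_normalizer
      (h.Y_le_M.trans h.M_norm_CV) hy)).le.trans le_sup_left) (cj_le_iff_forall.2 fun x hx => ?_)
    rw [conj_eq_comm_mul]
    refine mul_mem (mem_sup_left ⟨?_, ?_⟩) (mem_sup_right hx)
    · rw [commutatorElement_def, mul_assoc, mul_assoc, ← mul_assoc x]
      exact mul_mem hy (Amb.conj_mem_of_mem_normalizer (h.CV_norm_Y hx.2) (inv_mem hy))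
    · exact mul_mem (Amb.conj_mem_of_mem_normalizer (h.M_norm_CV (h.Y_le_M hy)) hx.2)
        (Subgroup.inv_mem _ hx.2)
  · rw [cj_sup, cj_inf, cj_inf, (hw' _ h.HM_norm_Y).1, (hw' _ h.HM_norm_Y).2,
      cj_of_mem_normalizer (h.M_norm_CV hw), sup_comm]

include h in
theorem CA.mul_mem_Y0 {y y' : G} (hy : y ∈ Y) (hy1 : y ∉ 𝐂[V]) (hy' : y' ∈ Y) (hy2 : y' ∉ 𝐂[V]) :
    y * y' ∈ Y ⊓ 𝐂[V] := by
  refine ⟨mul_mem hy hy', ?_⟩
  have := (mul_mem_iff_of_index_two (H := (𝐂[V]).subgroupOf Y) h.idx_Y (a := ⟨y, hy⟩)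
    (b := ⟨y', hy'⟩)).2 (iff_of_false hy1 hy2)
  exact this

end line2

theorem CA.D_facts (h : CA S M V z H Y F) (hm : m ∈ M) (hne : m * z * m⁻¹ ≠ z) :
    V ≤ 𝑫 ∧ M ≤ 𝐍[𝑫] ∧ 𝑫 ⊓ 𝐂[cj(m, Y) ⊓ 𝐂[V]] = V ∧
    ⁅𝑫, cj(m, Y) ⊓ 𝐂[V]⁆ ≤ zpowers (m * z * m⁻¹) ∧ 𝑫 ⊓ 𝐂[Y] = 𝒁 ∧ 𝑼' ≤ cj(m, Y) ⊓ 𝐂[V] ∧
    H ⊓ M ≤ 𝐍[(cj(m, Y) ⊓ 𝐂[V]) ⊔ Y] ∧ H ⊓ M ≤ 𝐍[𝑼' ⊔ Y] ∧ ⁅𝑼', cj(m, Y) ⊓ 𝐂[V]⁆ ≤ V ∧
    𝑫 < 𝑼 := by
  have h' := h.cjM hm
  refine ⟨h.V_le_D hm, h.norm_D hm hne, h.D_inf_CY0 hm hne,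
    commutator_le.2 fun d hd y hy => comm_mem_symm (h.comm_U' hm hy.1 hd.2), h.D_inf_CY hm hne,
    h.U'_le hm, h.HM_eq.le.trans (sup_le (le_sup_right.trans le_normalizer) ?_),
    h.HM_eq.le.trans (sup_le (le_sup_right.trans le_normalizer) ?_),
    commutator_le.2 fun d hd y hy =>
      zpowers_le.2 h'.z_mem_V (comm_mem_symm (h.comm_U' hm hy.1 hd)), h.D_lt_U hm hne⟩
  · exact Amb.le_normalizer_sup (Amb.le_normalizer_inf h'.CV_norm_Y le_normalizer) h.CV_norm_Y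
  · exact Amb.le_normalizer_sup (h.CV_norm_U' hm) h.CV_norm_Y

/-- the normal subgroups `I ≤ L` of `M` -/
theorem CA.L_facts (h : CA S M V z H Y F) (hm : m ∈ M) (hne : m * z * m⁻¹ ≠ z) :
    M ≤ 𝐍[(Y ⊓ 𝐂[V]) ⊔ (cj(m, Y) ⊓ 𝐂[V])] ∧ M ≤ 𝐍[Y ⊔ cj(m, Y)] ∧
    (Y ⊔ cj(m, Y)) ⊓ 𝐂[V] = (Y ⊓ 𝐂[V]) ⊔ (cj(m, Y) ⊓ 𝐂[V]) ∧ ⁅𝑫, Y ⊔ cj(m, Y)⁆ ≤ V ∧
    𝑫 ⊓ 𝐂[(Y ⊓ 𝐂[V]) ⊔ (cj(m, Y) ⊓ 𝐂[V])] = V ∧
    ∃ g ∈ Y ⊔ cj(m, Y), Odd (orderOf g) ∧ g * (m * z * m⁻¹) * g⁻¹ = z ∧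
      ∀ y ∈ Y, y ∉ 𝐂[V] → y * g * y⁻¹ * g ∈ (Y ⊓ 𝐂[V]) ⊔ (cj(m, Y) ⊓ 𝐂[V]) := by
  have h' := h.cjM hm
  have hI := h.norm_I hm hne
  set I := (Y ⊓ 𝐂[V]) ⊔ (cj(m, Y) ⊓ 𝐂[V]) with hIdef
  have hIC : I ≤ 𝐂[V] := sup_le inf_le_right inf_le_right
  obtain ⟨y, hy, hy1⟩ := h.exists_y
  obtain ⟨y', hy', hy1'⟩ := h'.exists_y
  have hyM := h.Y_le_M hy
  have hyM' := h'.Y_le_M hy'
  have cz : z * (m * z * m⁻¹) = m * z * m⁻¹ * z := isEA_comm h.toTwo.ea h.z_mem_V h'.z_mem_V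
  have e1 : y * z * y⁻¹ = z := h.fix_z (h.Y_le_H hy)
  have e2 : y * (m * z * m⁻¹) * y⁻¹ = z * (m * z * m⁻¹) := h.move hm hne (h.Y_le hy) hy1
  have e3 : y' * (m * z * m⁻¹) * y'⁻¹ = m * z * m⁻¹ := h'.fix_z (h'.Y_le_H hy')
  have e4 : y' * z * y'⁻¹ = m * z * m⁻¹ * z := by
    rw [conj_eq_comm_mul]
    rcases (mem_zp_two h'.z_sq).1 (h'.comm_V (h'.Y_le hy') h.z_mem_V) with e' | e'
    · exact (hy1' (h.mem_CV hm hne (mem_c₁_conj.1 (mem_c₁_comm.2 e')) e3)).elim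
    · rw [e']
  have e5 : y * y' * z * (y * y')⁻¹ = m * z * m⁻¹ := by
    calc y * y' * z * (y * y')⁻¹ = y * (y' * z * y'⁻¹) * y⁻¹ := by group
      _ = (y * (m * z * m⁻¹) * y⁻¹) * (y * z * y⁻¹) := by rw [e4]; group
      _ = m * z * m⁻¹ := by rw [e1, e2, cz, mul_assoc, h.z_sq, mul_one]
  have hz' : m * z * m⁻¹ * z ≠ z := fun e => h'.z_ne (mul_eq_right.1 e)
  let φ : M →* 𝐍[I] ⧸ I.subgroupOf 𝐍[I] := (qm I).comp (inclusion hI)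
  have hφ : ∀ {x : M}, φ x = 1 ↔ (x : G) ∈ I := fun {x} => qm_eq_one
  set a := φ ⟨y, hyM⟩ with ha
  set b := φ ⟨y', hyM'⟩ with hb
  have haa : a * a = 1 := by
    rw [← map_mul]; exact hφ.2 (mem_sup_left (h.mul_mem_Y0 hy hy1 hy hy1))
  have hbb : b * b = 1 := by
    rw [← map_mul]; exact hφ.2 (mem_sup_right (h'.mul_mem_Y0 hy' hy1' hy' hy1'))
  have ia : a⁻¹ = a := inv_eq_of_mul_eq_one_right haa
  have ib : b⁻¹ = b := inv_eq_of_mul_eq_one_right hbb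
  have fa : ∀ (x : M), (x : G) ∈ Y → (x : G) ∉ 𝐂[V] → φ x = a := fun x hx hx' => by
    rw [← ia, eq_inv_iff_mul_eq_one, ← map_mul]
    exact hφ.2 (mem_sup_left (h.mul_mem_Y0 hx hx' hy hy1))
  have fb : ∀ (x : M), (x : G) ∈ cj(m, Y) → (x : G) ∉ 𝐂[V] → φ x = b := fun x hx hx' => by
    rw [← ib, eq_inv_iff_mul_eq_one, ← map_mul]
    exact hφ.2 (mem_sup_right (h'.mul_mem_Y0 hx hx' hy' hy1'))
  have hab : a * b * a = b * a * b := by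
    have t1 : y' ∈ cj(y * y', Y) := by
      rw [h.cj_eq_of_eq (mul_mem hyM hyM') hm e5 h.HM_norm_Y]; exact hy'
    have t2 := fa ((⟨y, hyM⟩ * ⟨y', hyM'⟩)⁻¹ * ⟨y', hyM'⟩ * (⟨y, hyM⟩ * ⟨y', hyM'⟩)) (mem_cj.1 t1)
      fun hc => hy1' (by
        have := Amb.conj_mem_of_mem_normalizer (h.M_norm_CV (mul_mem hyM hyM')) hc
        simp only [Subgroup.coe_mul, Subgroup.coe_inv] at this
        convert this using 1; group)
    rw [map_mul, map_mul, map_inv, map_mul, ← ha, ← hb, mul_inv_rev, ia, ib] at t2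
    calc a * b * a = b * (b * a * b * (a * b)) * b * (b * b)⁻¹ * (b * b) := by
          rw [hbb, inv_one, mul_one, mul_one]
          calc a * b * a = (b * b) * a * b * a * (b * b) := by rw [hbb, one_mul, mul_one]
            _ = _ := by group
      _ = b * a * b := by rw [t2]; group
  have hLM : Y ⊔ cj(m, Y) ≤ M := sup_le h.Y_le_M h'.Y_le_M
  have hcl : ∀ x : M, (x : G) ∈ Y ⊔ cj(m, Y) → φ x ∈ Subgroup.closure ({a, b} : Set _) := by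
    have : Y ⊔ cj(m, Y) ≤ ((Subgroup.closure ({a, b} : Set _)).comap φ).map M.subtype := by
      refine sup_le (fun x hx => ⟨⟨x, h.Y_le_M hx⟩, ?_, rfl⟩)
        fun x hx => ⟨⟨x, h'.Y_le_M hx⟩, ?_, rfl⟩
      · refine mem_comap.2 ?_
        by_cases hc : x ∈ 𝐂[V]
        · rw [hφ.2 (mem_sup_left ⟨hx, hc⟩)]; exact one_mem _
        · rw [fa _ hx hc]; exact subset_closure (Or.inl rfl)
      · refine mem_comap.2 ?_
        by_cases hc : x ∈ 𝐂[V]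
        · rw [hφ.2 (mem_sup_right ⟨hx, hc⟩)]; exact one_mem _
        · rw [fb _ hx hc]; exact subset_closure (Or.inr rfl)
    exact fun x hx => mem_map_subtype.1 (this hx)
  refine ⟨hI, h.norm_L hm hne, le_antisymm (fun l hl => ?_)
    (sup_le (inf_le_inf_right _ le_sup_left) (inf_le_inf_right _ le_sup_right)), ?_, ?_, ?_⟩
  · have key : ∀ c : M, φ ⟨l, hLM hl.1⟩ = φ c → (c : G) * z * (c : G)⁻¹ = z ∧ (c : G) ∈ 𝐂[V] := by
      intro c hc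
      have : φ (c⁻¹ * ⟨l, hLM hl.1⟩) = 1 := by rw [map_mul, map_inv, hc, inv_mul_cancel]
      have t : (c : G) ∈ 𝐂[V] := by
        have := (Subgroup.mul_mem_cancel_right _ hl.2).1 (hIC (hφ.1 this))
        exact (Subgroup.inv_mem_iff _).1 this
      exact ⟨mem_c₁_conj.1 (cent_le_c₁ h.z_mem_V t), t⟩
    rcases mem_six haa hbb hab (hcl ⟨l, hLM hl.1⟩ hl.1) with e | e | e | e | e | e
    · exact hφ.1 e
    · exact (hy1 (key _ e).2).elim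
    · exact (hy1' (key _ e).2).elim
    · rw [← map_mul] at e
      exact (hne (e5.symm.trans (key _ e).1)).elim
    · rw [← map_mul] at e
      refine (hz' (Eq.trans ?_ (key _ e).1)).elim
      show _ = y' * y * z * (y' * y)⁻¹
      rw [← e4]
      conv_lhs => rw [← e1]
      group
    · rw [← map_mul, ← map_mul] at e
      refine (hne (Eq.trans ?_ (key _ e).1)).elim
      show _ = y * y' * y * z * (y * y' * y)⁻¹
      rw [← e5]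
      conv_lhs => rw [← e1]
      group
  · refine CommMod.commutator_sup_le' (h.Y_le_M.trans h.NV.ge) (h'.Y_le_M.trans h.NV.ge)
      (commutator_le.2 fun d hd x hx => ?_) (commutator_le.2 fun d hd x hx => ?_)
    · exact zpowers_le.2 h.z_mem_V (comm_mem_symm (h.comm_U hx hd.1))
    · exact zpowers_le.2 h'.z_mem_V (comm_mem_symm (h.comm_U' hm hx hd.2))
  · refine le_antisymm ((inf_le_inf_left _ (Amb.centralizer_anti le_sup_right)).trans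
      (h.D_inf_CY0 hm hne).le) (le_inf (h.V_le_D hm) (le_centralizer_iff.1 hIC))
  · let g0 : M := (⟨y, hyM⟩ * ⟨y', hyM'⟩)⁻¹
    have hg0 : φ g0 = b * a := by rw [map_inv, map_mul, ← ha, ← hb, mul_inv_rev, ia, ib]
    have h3 : φ (g0 ^ 3) = 1 := by
      rw [map_pow, hg0]
      calc (b * a) ^ 3 = (b * a * b) * (a * b * a) := by rw [pow_three]; group
        _ = a * (b * (a * a) * b) * a := by rw [← hab]; group
        _ = 1 := by rw [haa, mul_one, hbb, mul_one, haa]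
    obtain ⟨k, hk⟩ := Amb.exists_pow_coprime (p := 2) (g0 : G)
    obtain ⟨j, hj⟩ : ∃ j, 2 ^ k * 2 ^ k = 3 * j + 1 := by
      have : (2 ^ k * 2 ^ k) % 3 = 1 := by
        rw [← mul_pow]; simp [Nat.pow_mod]
      exact ⟨2 ^ k * 2 ^ k / 3, by omega⟩
    have hφg : φ (g0 ^ (2 ^ k * 2 ^ k)) = b * a := by
      rw [hj, pow_succ, pow_mul, map_mul, map_pow, h3, one_pow, one_mul, hg0]
    refine ⟨(g0 : G) ^ (2 ^ k * 2 ^ k), pow_mem (inv_mem (mul_mem (mem_sup_left hy)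
      (mem_sup_right hy'))) _, ?_, ?_, fun x hx hx' => ?_⟩
    · rw [pow_mul]
      exact (coprime_two_iff.1 hk).of_dvd_nat (orderOf_pow_dvd _)
    · have t : ((g0 : G) ^ 3) ^ j ∈ 𝐂[V] := pow_mem (hIC (hφ.1 h3)) j
      have t2 := mem_c₁_conj.1 (cent_le_c₁ h.z_mem_V t)
      rw [hj, pow_succ, pow_mul, ← e5]
      conv_rhs => rw [← t2]
      show ((g0 : G) ^ 3) ^ j * (y * y')⁻¹ * _ * (((g0 : G) ^ 3) ^ j * (y * y')⁻¹)⁻¹ = _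
      group
    · have : φ (⟨x, h.Y_le_M hx⟩ * g0 ^ (2 ^ k * 2 ^ k) * (⟨x, h.Y_le_M hx⟩)⁻¹ *
          g0 ^ (2 ^ k * 2 ^ k)) = 1 := by
        rw [map_mul, map_mul, map_mul, map_inv, hφg, fa _ hx hx']
        calc a * (b * a) * a⁻¹ * (b * a) = a * (b * b) * a := by group
          _ = 1 := by rw [hbb, mul_one, haa]
      exact hφ.1 this

/-- (Y2) -/
theorem CA.y2 (h : CA S M V z H Y F) (hm : m ∈ M) (hne : m * z * m⁻¹ ≠ z)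
    (h2 : 𝐎[2, cj(m, Y) ⊓ 𝐂[V]] ≤ Y) : IsPGroup 2 Y := by
  have h' := h.cjM hm
  have e1 : 𝐎[2, cj(m, Y)] ≤ cj(m, Y) ⊓ 𝐂[V] := pRes_le_of_pow fun g hg => ⟨1, by
    by_cases hc : g ∈ 𝐂[V]
    · exact pow_mem (show g ∈ cj(m, Y) ⊓ 𝐂[V] from ⟨hg, hc⟩) _
    · rw [pow_one, pow_two]; exact h'.mul_mem_Y0 hg hc hg hc⟩
  have e2 : 𝐎[2, cj(m, Y)] ≤ 𝐎[2, Y] := by
    rw [← pRes_pRes, ← pRes_pRes]
    exact pRes_mono ((pRes_mono e1).trans h2)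
  have e3 : cj(m, 𝐎[2, Y]) = 𝐎[2, Y] := by
    rw [pRes_cj] at e2
    exact cj_eq_iff.2 (mem_normalizer_of_cj_le e2)
  have hH : H ≤ 𝐍[𝐎[2, Y]] := h.Y_norm.trans (normalizer_le_normalizer_pRes _ _)
  have hM : M ≤ 𝐍[𝐎[2, Y]] := fun n hn => by
    rcases h.points hm hne hn with a | ⟨y, hy, y', hy', rfl⟩
    · exact hH a
    · exact mul_mem (mul_mem (hH (h.Y_le_H hy')) (cj_eq_iff.1 e3)) (hH hy.1)
  by_contra hn
  have hne' : 𝐎[2, Y] ≠ ⊥ := fun e => hn (isPGroup_of_pRes_le IsPGroup.of_bot e.le)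
  exact h.not_norm (Amb.isPGroup_pCoreOf 2 _) (Q_ne_bot_of_normal h.toGeo.basic.2.1
    ((pRes_le _ _).trans h.Y_le_H) hH hne') (hM.trans (Amb.normalizer_le_normalizer_pCoreOf _ _))
    (hH.trans (Amb.normalizer_le_normalizer_pCoreOf _ _))

theorem CA.exists_m (h : CA S M V z H Y F) : ∃ m ∈ M, m * z * m⁻¹ ≠ z := by
  by_contra! hc
  have := h.one.basic.2.2.2.2.1
  rw [relIndex_eq_one.2 fun x hx => mem_c₁_conj.2 (hc x hx)] at this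
  omega

/-- if `(H ⊓ M) / Y` is a 2-group, the amalgam has `S` as edge stabilizer -/
theorem CA.of_two (h : CA S M V z H Y F) (h2 : 𝐎[2, H ⊓ M] ≤ Y) : IsPGroup 2 Y ∧ Y = 𝐐[H] ∧
    H ⊓ M = S ∧ 𝐂[V] ≤ S ∧ 𝐂[V] = 𝐐[M] ∧ S.relIndex M = 3 := by
  obtain ⟨m, hm, hne⟩ := h.exists_m
  have hC : 𝐂[V] ≤ H ⊓ M := le_inf h.CV_le_H h.CV_le_M
  have hY := h.y2 hm hne ((pRes_mono (inf_le_right.trans hC)).trans h2)
  have hP : IsPGroup 2 ↥(H ⊓ M) := isPGroup_of_pRes_le hY h2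
  have hS : H ⊓ M = S := h.syl.eq hP (le_inf h.S_le_H h.le) le_top
  refine ⟨hY, le_antisymm (Amb.le_pCoreOf hY h.Y_le_H h.Y_norm) h.toGeo.basic.2.2.1, hS,
    hC.trans hS.le, le_antisymm (Amb.le_pCoreOf (hP.to_le hC) h.CV_le_M h.M_norm_CV)
      h.toTwo.red.pCoreOf_le, ?_⟩
  rw [← hS, h.HM, inf_relIndex_right]
  exact h.one.basic.2.2.2.2.1

theorem CA.tr_D (h : CA S M V z H Y F) (g : G) :
    tr 𝒁 (g : G ⧸ H) = zpowers (g * z * g⁻¹) := by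
  rw [tr_mk h.H_norm_Z, cj_zp]

theorem CA.cc_of_yy (h : CA S M V z H Y F) {n : ℕ} (hlt : ∀ k < n, CC M V H k)
    (hy : YY M V H Y n) : CC M V H n := by
  intro β γ hp
  have h1 := hy β γ hp
  have h2 := hy γ β hp.symm
  obtain ⟨g, rfl⟩ := QuotientGroup.mk_surjective β
  obtain ⟨g', rfl⟩ := QuotientGroup.mk_surjective γ
  rw [tr_mk (le_normalizer_ncl _ _), tr_mk h.Y_norm] at h1 h2
  rw [tr_mk (le_normalizer_ncl _ _), tr_mk (le_normalizer_ncl _ _)]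
  by_cases e : g * z * g⁻¹ = g' * z * g'⁻¹
  · have hc : g'⁻¹ * g ∈ 𝐂₁[z] := mem_c₁_conj.2 (by
      calc g'⁻¹ * g * z * (g'⁻¹ * g)⁻¹ = g'⁻¹ * (g * z * g⁻¹) * g' := by group
        _ = z := by rw [e]; group)
    have hU : 𝑼 ≤ ncl V 𝐂₁[z] := ncl_mono le_rfl h.H_le_C
    rw [Amb.centralizer_cj, le_cj_iff, ← cj_mul]
    exact ((cj_le_of_mem_normalizer hU (le_normalizer_ncl _ _ hc)).trans h.ab).trans
      (Amb.centralizer_anti hU)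
  · intro u hu
    refine mem_cent_iff_c₁.2 fun u' hu' => mem_c₁_comm.2 (mem_bot.1 ?_)
    rw [← zp_inf_zp (h.conj_sq g) (h.conj_sq g') e]
    rw [cj_ncl] at hu hu' h1 h2
    exact ⟨comm_mem_symm ((h.cj g).comm_U (h2 hu') hu), (h.cj g').comm_U (h1 hu) hu'⟩

/-- normal form of two points on a line -/
theorem CA.two_points {β γ : G ⧸ H} {l : G ⧸ M} (h1 : Inc M H β l) (h2 : Inc M H γ l) :
    ∃ g n : G, n ∈ M ∧ (g : G ⧸ H) = β ∧ (g : G ⧸ M) = l ∧ ((g * n : G) : G ⧸ H) = γ := by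
  obtain ⟨g, rfl, rfl⟩ := h1
  obtain ⟨g', rfl, e⟩ := h2
  exact ⟨g, g⁻¹ * g', QuotientGroup.eq.1 e.symm, rfl, rfl, by rw [mul_inv_cancel_left]⟩

theorem CA.mk_eq_iff (h : CA S M V z H Y F) {g n n' : G} (hn : n ∈ M) (hn' : n' ∈ M) :
    ((g * n : G) : G ⧸ H) = ((g * n' : G) : G ⧸ H) ↔ n * z * n⁻¹ = n' * z * n'⁻¹ := by
  rw [eq_comm, QuotientGroup.eq, mul_inv_rev, mul_assoc, inv_mul_cancel_left]
  refine ⟨fun e => ?_, fun e => (h.mem_HM_of_eq hn hn' e).1⟩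
  calc n * z * n⁻¹ = n' * (n'⁻¹ * n * z * (n'⁻¹ * n)⁻¹) * n'⁻¹ := by group
    _ = _ := by rw [h.fix_z e]

theorem CA.ne_of_ne (h : CA S M V z H Y F) {g n : G} (hn : n ∈ M)
    (hne : (g : G ⧸ H) ≠ ((g * n : G) : G ⧸ H)) : n * z * n⁻¹ ≠ z := fun e =>
  hne (QuotientGroup.eq.2 (by rw [inv_mul_cancel_left]; exact (h.mem_HM hn e).1))

/-- the critical distance is odd and at least 3 -/
theorem CA.crit (h : CA S M V z H Y F) : (∃ m, CA3 S M V z H Y F m) ∨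
    ∃ n : ℕ, 2 ≤ n ∧ (∀ k < n, YY M V H Y k ∧ CC M V H k) ∧ ¬ YY M V H Y n := by
  obtain ⟨n, hlt, hn⟩ := h.toGeo.crit
  have hn' : ¬ YY M V H Y n := by
    rcases hn with a | ⟨a, b⟩
    · exact a
    · exact (b (h.cc_of_yy (fun k hk => (hlt k hk).2) a)).elim
  rcases n with _ | _ | n
  · exact (hn' h.toGeo.yy_zero).elim
  · left
    simp only [YY] at hn'
    push Not at hn'
    obtain ⟨β, γ, ⟨δ, l, e, i1, i2⟩, hc⟩ := hn'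
    obtain rfl : β = δ := e
    obtain ⟨g, n, hn, rfl, rfl, rfl⟩ := CA.two_points i2 i1
    rw [tr_mk (le_normalizer_ncl _ _), tr_mk h.Y_norm, cj_mul, cj_le_cj_iff] at hc
    refine ⟨n, h, hn, fun e => hc ?_, hc⟩
    rw [cj_of_mem_normalizer (h.HM_norm_U (h.mem_HM hn e))]
    exact h.U_le_Y
  · exact Or.inr ⟨_, by omega, hlt, hn'⟩

/-- two distinct points on a line determine `V` -/
theorem CA.V_eq_sup (h : CA S M V z H Y F) {β γ : G ⧸ H} {l : G ⧸ M} (h1 : Inc M H β l)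
    (h2 : Inc M H γ l) (hne : β ≠ γ) : tr V l = tr 𝒁 β ⊔ tr 𝒁 γ ∧ tr 𝒁 β ⊓ tr 𝒁 γ = ⊥ := by
  obtain ⟨g, n, hn, rfl, rfl, rfl⟩ := CA.two_points h1 h2
  have e := h.ne_of_ne hn hne
  rw [tr_mk h.NV.ge, tr_mk h.H_norm_Z, tr_mk h.H_norm_Z, cj_mul, ← cj_sup, ← cj_inf, cj_zp n,
    ← h.V_eq_zz hn e, zp_inf_zp h.z_sq (h.conj_sq n) e.symm, cj_bot]
  exact ⟨rfl, rfl⟩

/-- `Y_β` interchanges the other two points of a line through `β` -/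
theorem CA.third (h : CA S M V z H Y F) {β γ : G ⧸ H} {l : G ⧸ M} (h1 : Inc M H β l)
    (h2 : Inc M H γ l) (hne : β ≠ γ) {y : G} (hy : y ∈ tr Y β) (hy' : y ∉ 𝐂[tr V l]) :
    y • γ ≠ γ ∧ y • γ ≠ β ∧ Inc M H (y • γ) l ∧
      (∀ δ, Inc M H δ l → δ = β ∨ δ = γ ∨ δ = y • γ) ∧
      tr 𝑼 γ ⊓ tr 𝑼 (y • γ) = tr 𝑼 β ⊓ tr 𝑼 γ := by
  obtain ⟨g, n, hn, rfl, rfl, rfl⟩ := CA.two_points h1 h2
  have e := h.ne_of_ne hn hne
  rw [tr_mk h.Y_norm] at hy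
  rw [tr_mk h.NV.ge, Amb.centralizer_cj] at hy'
  obtain ⟨y, hy0, rfl⟩ := mem_cj_iff_exists.1 hy
  replace hy := hy0
  rw [conj_mem_cj_iff] at hy'
  have hyM := h.Y_le_M hy
  have e1 : (g * y * g⁻¹) • ((g * n : G) : G ⧸ H) = ((g * (y * n) : G) : G ⧸ H) := by
    rw [MulAction.Quotient.smul_coe, smul_eq_mul]; congr 1; group
  have e2 : y * n * z * (y * n)⁻¹ = z * (n * z * n⁻¹) := by
    rw [← h.move hn e (h.Y_le hy) hy']; group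
  have e0 : (g : G ⧸ H) = ((g * 1 : G) : G ⧸ H) := by rw [mul_one]
  rw [e1]
  refine ⟨?_, ?_, ⟨g * (y * n), rfl, ?_⟩, fun δ hδ => ?_, ?_⟩
  · rw [Ne, h.mk_eq_iff (mul_mem hyM hn) hn, e2, mul_eq_right]; exact h.z_ne
  · rw [Ne, e0, h.mk_eq_iff (mul_mem hyM hn) (one_mem _), e2, one_mul, inv_one, mul_one,
      mul_eq_left]
    exact h.conj_ne_one n
  · exact (QuotientGroup.eq.2 (by rw [inv_mul_cancel_left]; exact mul_mem hyM hn)).symm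
  · obtain ⟨g', rfl, e'⟩ := hδ
    have hn' : g⁻¹ * g' ∈ M := QuotientGroup.eq.1 e'.symm
    have e3 : (g' : G ⧸ H) = ((g * (g⁻¹ * g') : G) : G ⧸ H) := by rw [mul_inv_cancel_left]
    rw [e3]
    conv_lhs => rw [e0]
    rw [h.mk_eq_iff hn' (one_mem _), h.mk_eq_iff hn' hn, h.mk_eq_iff hn' (mul_mem hyM hn), e2,
      one_mul, inv_one, mul_one]
    exact (h.mem_V hn e (h.conj_mem_V hn' h.z_mem_V)).resolve_left (h.conj_ne_one _)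
  · have h' := h.cjM hn
    obtain ⟨x, hx, hx'⟩ := h'.exists_y
    have hxM := h'.Y_le_M hx
    have e4 : x * z * x⁻¹ = y * n * z * (y * n)⁻¹ := by
      rw [e2, conj_eq_comm_mul, isEA_comm h.toTwo.ea h.z_mem_V h'.z_mem_V]
      rcases (mem_zp_two h'.z_sq).1 (h'.comm_V (h'.Y_le hx) h.z_mem_V) with e' | e'
      · exact (hx' (h.mem_CV hn e (mem_c₁_conj.1 (mem_c₁_comm.2 e'))
          (h'.fix_z (h'.Y_le_H hx)))).elim
      · rw [e']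
    have e5 : cj(x, cj(n, 𝑼)) = cj(n, 𝑼) := by
      rw [h.cj_U hn]; exact cj_of_mem_normalizer (h'.HM_norm_U (h'.Y_le hx))
    rw [tr_mk (le_normalizer_ncl _ _), tr_mk (le_normalizer_ncl _ _),
      tr_mk (le_normalizer_ncl _ _), cj_mul, cj_mul g, ← cj_inf, ← cj_inf,
      ← h.cj_eq_of_eq hxM (mul_mem hyM hn) e4 h.HM_norm_U]
    conv_rhs => rw [← cj_of_mem_normalizer (h.norm_D hn e hxM), cj_inf, e5, inf_comm]

end Cfsg.Agent.NG
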