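import Mathlib
import Cfsg.Agent.NG.A0

set_option autoImplicit false

namespace Cfsg.Agent.NG

open Subgroup Cfsg.Agent.PLocal Cfsg.Agent.PLocal.Amb Cfsg.Agent.PLocal.JC
open Cfsg.Agent.PLocal.CP (IsCharP ncl secCent mem_secCent le_secCent_iff le_secCent_iff'
  le_normalizer_secCent)
open scoped Cfsg.Agent.PLocal.CP commutatorElement

variable {G : Type*} [Group G] [Finite G]

namespace AFF

omit [Finite G] in
theorem comm_symm {a b : G} {X : Subgroup G} (h : ⁅a, b⁆ ∈ X) : ⁅b, a⁆ ∈ X := by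
  rw [← commutatorElement_inv]; exact inv_mem h

theorem relIndex_le_two_of {Y P : Subgroup G} (hY : Y ≤ P)
    (h : ∀ a ∈ P, ∀ b ∈ P, a ∉ Y → b ∉ Y → a * b ∈ Y) : Y.relIndex P ≤ 2 := by
  by_cases h1 : P ≤ Y
  · rw [relIndex_eq_one.2 h1]; omega
  obtain ⟨t, ht, ht'⟩ := SetLike.not_le_iff_exists.1 h1
  have h2 : Nat.card P ≤ 2 * Nat.card Y := card_le_two_mul (t := t) fun a ha => by
    by_cases h3 : a ∈ Y
    · exact Or.inl h3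
    · exact Or.inr (h a ha t ht h3 ht')
  rw [← card_mul_relIndex_of_le hY, mul_comm] at h2
  exact Nat.le_of_mul_le_mul_right h2 Nat.card_pos

theorem comm_mem_of_le_two {Z X : Subgroup G} (h2 : Z.relIndex X ≤ 2) {g u : G} (h1 : g ∈ 𝐍[X])
    (h3 : g ∈ 𝐍[Z]) (hu : u ∈ X) : ⁅u, g⁆ ∈ Z := by
  have e : ⁅u, g⁆ = u * (g * u⁻¹ * g⁻¹) := by group
  rw [e]
  by_cases h4 : u ∈ Z
  · exact mul_mem h4 (conj_mem_of_mem_normalizer h3 (inv_mem h4))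
  have h5 : Z.relIndex X ≠ 0 := FiniteIndex.index_ne_zero
  have h6 : Z.relIndex X ≠ 1 := fun e => h4 (relIndex_eq_one.1 e hu)
  refine Amal.mul_mem_of_relIndex_two (by omega) hu (conj_mem_of_mem_normalizer h1 (inv_mem hu)) h4
    fun h7 => h4 ?_
  have := inv_conj_mem_of_mem_normalizer h3 h7
  rw [show g⁻¹ * (g * u⁻¹ * g⁻¹) * g = u⁻¹ by group] at this
  exact inv_mem_iff.1 this

omit [Finite G] in
/-- an element acts trivially or by inversion on a section of order 3 -/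
theorem three_aut {Y K : Subgroup G} (h3 : Y.relIndex K = 3) (hY : Y ≤ K) (hn : K ≤ 𝐍[Y]) {x g : G}
    (hx : x ∈ K) (hx' : x ∉ Y) (h1 : g ∈ 𝐍[K]) (h2 : g ∈ 𝐍[Y]) :
    ⁅g, x⁆ ∈ Y ∨ g * x * g⁻¹ * x ∈ Y := by
  rcases three_cases h3 hY hn hx hx' (conj_mem_of_mem_normalizer h1 hx) with e | e | e
  · have := inv_conj_mem_of_mem_normalizer h2 e
    rw [show g⁻¹ * (g * x * g⁻¹) * g = x by group] at this
    exact absurd this hx'
  · exact Or.inl e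
  · exact Or.inr e

omit [Finite G] in
theorem inv_inv_mem {Y : Subgroup G} {x g g' : G} (hx : x ∈ 𝐍[Y]) (h2 : g ∈ 𝐍[Y])
    (e : g * x * g⁻¹ * x ∈ Y) (e' : g' * x * g'⁻¹ * x ∈ Y) : ⁅g * g', x⁆ ∈ Y := by
  have := mul_mem (conj_mem_of_mem_normalizer h2 e')
    (conj_mem_of_mem_normalizer hx (inv_mem e))
  rwa [show g * (g' * x * g'⁻¹ * x) * g⁻¹ * (x * (g * x * g⁻¹ * x)⁻¹ * x⁻¹) =
    g * (g' * x * g'⁻¹ * x) * g⁻¹ * (g * x⁻¹ * g⁻¹ * x⁻¹) by group,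
    show g * (g' * x * g'⁻¹ * x) * g⁻¹ * (g * x⁻¹ * g⁻¹ * x⁻¹) = ⁅g * g', x⁆ by group] at this

omit [Finite G] in
theorem comm_zp_le {Y : Subgroup G} {x g : G} (hx : x ∈ 𝐍[Y]) (hg : g ∈ 𝐍[Y]) (h : ⁅g, x⁆ ∈ Y) :
    ⁅zpowers g, zpowers x⁆ ≤ Y := by
  refine commutator_le.2 ?_
  rintro _ ⟨i, rfl⟩ _ ⟨j, rfl⟩
  have h1 := (qm_commute (C := Y) (a := ⟨g, hg⟩) (b := ⟨x, hx⟩)).2 h
  have h2 := h1.zpow_zpow i j
  rw [← map_zpow, ← map_zpow] at h2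
  exact qm_commute.1 h2

omit [Finite G] in
theorem mem_secCent_of_three {Y K : Subgroup G} (h3 : Y.relIndex K = 3) (hY : Y ≤ K)
    (hn : K ≤ 𝐍[Y]) {x g : G} (hx : x ∈ K) (hx' : x ∉ Y) (h2 : g ∈ 𝐍[Y]) (h : ⁅g, x⁆ ∈ Y) :
    g ∈ secCent K Y := by
  have h1 := sup_zpowers_eq (by rw [h3]; exact Nat.prime_three) hY hx hx'
  have h4 : ⁅K, zpowers g⁆ ≤ Y := by
    rw [← h1]
    exact CommMod.commutator_sup_le (zpowers_le.2 (hn hx)) le_normalizer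
      (comm_zp_le h2 (hn hx) (comm_symm h))
      (le_normalizer_iff_commutator_le_left.1 (zpowers_le.2 h2))
  exact le_secCent_iff'.2 ⟨zpowers_le.2 h2, h4⟩ (mem_zpowers g)

omit [Finite G] in
theorem sq_mem_secCent {Y K : Subgroup G} (h3 : Y.relIndex K = 3) (hY : Y ≤ K)
    (hn : K ≤ 𝐍[Y]) {g : G} (h1 : g ∈ 𝐍[K]) (h2 : g ∈ 𝐍[Y]) : g * g ∈ secCent K Y := by
  obtain ⟨x, hx, hx'⟩ := SetLike.not_le_iff_exists.1 (show ¬ K ≤ Y from fun e => by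
    rw [relIndex_eq_one.2 e] at h3; omega)
  rcases three_aut h3 hY hn hx hx' h1 h2 with e | e
  · have := mem_secCent_of_three h3 hY hn hx hx' h2 e
    exact mul_mem this this
  · exact mem_secCent_of_three h3 hY hn hx hx' (mul_mem h2 h2) (inv_inv_mem (hn hx) h2 e e)

/-- independent conditions -/
theorem two_pow_le_relIndex {ι : Type*} (I : Finset ι) {U : Subgroup G} (E : ι → Subgroup G)
    (h : ∀ i ∈ I, ∃ u ∈ U, u ∉ E i ∧ ∀ j ∈ I, j ≠ i → u ∈ E j) :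
    2 ^ I.card ≤ (⨅ i ∈ I, E i).relIndex U := by
  classical
  induction I using Finset.induction_on with
  | empty => simp
  | insert a I ha ih =>
    obtain ⟨u, hu, hu1, hu2⟩ := h a (Finset.mem_insert_self a I)
    have h1 := ih fun i hi => by
      obtain ⟨u, hu, hu1, hu2⟩ := h i (Finset.mem_insert_of_mem hi)
      exact ⟨u, hu, hu1, fun j hj => hu2 j (Finset.mem_insert_of_mem hj)⟩
    rw [Finset.card_insert_of_notMem ha, Finset.iInf_insert, pow_succ,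
      ← relIndex_inf_mul_relIndex]
    have h2 : (E a).relIndex ((⨅ i ∈ I, E i) ⊓ U) ≠ 0 := FiniteIndex.index_ne_zero
    have h3 : (E a).relIndex ((⨅ i ∈ I, E i) ⊓ U) ≠ 1 := fun e => hu1 (relIndex_eq_one.1 e
      ⟨mem_iInf.2 fun j => mem_iInf.2 fun hj => hu2 j (Finset.mem_insert_of_mem hj)
        fun e => ha (e ▸ hj), hu⟩)
    rw [mul_comm]
    exact Nat.mul_le_mul (by omega) h1

omit [Finite G] in
theorem le_bW (U U₀ A : Subgroup G) : U₀ ≤ bW U U₀ A := le_sup_right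

omit [Finite G] in
theorem fx_le (U U₀ A : Subgroup G) : fx U U₀ A ≤ U := inf_le_left

omit [Finite G] in
theorem fx_anti (U U₀ : Subgroup G) {A B : Subgroup G} (h : A ≤ B) : fx U U₀ B ≤ fx U U₀ A :=
  fun _ hu => ⟨hu.1, hu.2.1, fun a ha => hu.2.2 a (h ha)⟩

end AFF

open AFF

variable {S M V H Y F : Subgroup G} {z m : G}

set_option quotPrecheck false

/-- `U = ⟨V^H⟩` -/
local notation "𝑼" => ncl V H
local notation "𝒁" => zpowers z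
local notation "𝑼'" => cj(m, ncl V H)
local notation "𝑫" => ncl V H ⊓ cj(m, ncl V H)

theorem CA.aff_Z_le (h : CA S M V z H Y F) : 𝒁 ≤ V := zpowers_le.2 h.z_mem_V

theorem CA.aff_idxZ (h : CA S M V z H Y F) : (𝒁).relIndex V = 2 :=
  Sym4Rec.relIndex_eq_of_card h.aff_Z_le (card_zpowers_two h.z_sq h.z_ne) h.four

theorem CA.aff_V_le (h : CA S M V z H Y F) {X : Subgroup G} (hX : 𝒁 ≤ X) {v : G} (hv : v ∈ V)
    (hv' : v ∉ 𝒁) (hvX : v ∈ X) : V ≤ X := by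
  rw [← sup_zpowers_eq (by rw [h.aff_idxZ]; exact Nat.prime_two) h.aff_Z_le hv hv']
  exact sup_le (zpowers_le.2 hvX) hX

theorem CA.aff_mul_mem (h : CA S M V z H Y F) {v v' : G} (hv : v ∈ V) (hv1 : v ∉ 𝒁) (hv' : v' ∈ V)
    (hv2 : v' ∉ 𝒁) : v * v' ∈ 𝒁 := Amal.mul_mem_of_relIndex_two h.aff_idxZ hv hv' hv1 hv2

/-- an element of `F` fixing `V / Z` lies in `Y` -/
theorem CA.aff_mem_Y (h : CA S M V z H Y F) {v f : G} (hv : v ∈ V) (hv' : v ∉ 𝒁) (hf : f ∈ F)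
    (hc : ⁅v, f⁆ ∈ 𝒁) : f ∈ Y := by
  have hH := h.F_le hf
  have h1 : V ≤ fx 𝑼 𝒁 (zpowers f) := h.aff_V_le (h.modU.le_fx (zpowers_le.2 hH)) hv hv'
    ((h.modU.mem_fx_zpowers hH).2 ⟨CP.le_ncl V H hv, hc⟩)
  exact h.basic.2.2.2.2.2.2.2.2.2.2.2.2.2 f hf ⟨h.H_norm_Z hH, fun a ha =>
    comm_symm ((h.modU.mem_fx_zpowers hH).1 (h1 ha)).2⟩

theorem CA.aff_blk (h : CA S M V z H Y F) {K : Subgroup G} (hK : Blk H 𝑼 𝒁 K) :
    Y ≤ K ∧ Y.relIndex K = 3 ∧ ¬ K ≤ Y := by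
  have h1 := hK.ge
  have h2 := hK.idx'
  rw [h.ker_eq] at h1 h2
  exact ⟨h1, h2, fun e => hK.not_le (e.trans h.Y_le_sec)⟩

theorem CA.aff_F_eq (h : CA S M V z H Y F) {K : Subgroup G} (hK : Blk H 𝑼 𝒁 K) :
    F = bN H 𝑼 𝒁 := by
  obtain ⟨hN, hn⟩ := h.modU.bN_norm
  have hYN : Y ≤ bN H 𝑼 𝒁 := h.ker_eq.ge.trans le_sup_left
  have h1 : F ≤ bN H 𝑼 𝒁 := by
    rcases h.F_irr (F ⊓ bN H 𝑼 𝒁) (le_inf h.Y_le_F hYN) inf_le_left
      (inf_le_left.trans (le_normalizer_inf h.F_norm hn)) with e | e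
    · refine absurd (fun k hk => ?_) (h.aff_blk hK).2.2
      have hkN := (h.modU.bN_norm_blk hK).1 hk
      refine e.le ⟨h.F_self k (hN hkN) fun f hf => e.le ⟨?_, ?_⟩, hkN⟩
      · exact le_normalizer_iff_commutator_le_right.1 h.F_norm (commutator_mem_commutator (hN hkN) hf)
      · exact le_normalizer_iff_commutator_le_left.1 hn (commutator_mem_commutator hkN (h.F_le hf))
    · exact e.ge.trans inf_le_right
  refine le_antisymm h1 (sup_le (h.ker_eq.le.trans h.Y_le_F) (sSup_le fun K' hK' k hk => ?_))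
  refine h.F_self k (hK'.le hk) fun f hf => comm_symm ?_
  have h2 : ⁅bN H 𝑼 𝒁, K'⁆ ≤ Y := by
    refine CommMod.commutator_sup_le (inf_le_left.trans h.Y_norm)
      ((sSup_le fun K'' hK'' => hK''.le).trans h.Y_norm) ?_
      (CommMod.commutator_sSup_le (fun K'' hK'' => hK''.le.trans h.Y_norm) fun K'' hK'' => ?_)
    · rw [h.ker_eq]
      exact le_normalizer_iff_commutator_le_left.1 (hK'.le.trans h.Y_norm)
    · rw [← h.ker_eq]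
      exact le_inf ((commutator_mono hK''.le hK'.le).trans (commutator_le_self H))
        (h.modU.blk_comm hK'' hK')
  exact h2 (commutator_mem_commutator (h1 hf) hk)

theorem CA.aff_le_F (h : CA S M V z H Y F) {K : Subgroup G} (hK : Blk H 𝑼 𝒁 K) : K ≤ F :=
  (h.modU.bN_norm_blk hK).1.trans (h.aff_F_eq hK).ge

theorem CA.aff_trans (h : CA S M V z H Y F) {K K' : Subgroup G} (hK : Blk H 𝑼 𝒁 K)
    (hK' : Blk H 𝑼 𝒁 K') : ∃ g ∈ H ⊓ M, cj(g, K) = K' := by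
  by_contra hc
  push Not at hc
  have h1 : ncl K (H ⊓ M) = F := by
    refine (h.F_irr _ ((h.aff_blk hK).1.trans (CP.le_ncl _ _))
      (CP.ncl_le (h.aff_le_F hK) (inf_le_left.trans h.F_norm)) (CP.le_normalizer_ncl _ _)).resolve_left
      fun e => (h.aff_blk hK).2.2 ((CP.le_ncl _ _).trans e.le)
  have h2 : F ≤ secCent (bW 𝑼 𝒁 K') 𝒁 := by
    rw [← h1, CP.ncl_le_iff]
    intro g hg k hk
    have hb := (h.modU.blk_cj hK hg.1).1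
    exact ⟨h.H_norm_Z (hb.le hk), fun w hw => comm_symm
      ((h.modU.mem_fx.1 ((h.modU.blk_ne hb hK' (hc g hg)).1 hw)).2 k hk)⟩
  have h3 : bW 𝑼 𝒁 K' ≤ 𝒁 := fun w hw => (h.modU.blk_compl hK').2.le ⟨hw, h.modU.mem_fx.2
    ⟨h.modU.bW_le hK'.le hw, fun k hk => comm_symm ((h2 (h.aff_le_F hK' hk)).2 w hw)⟩⟩
  have := hK'.card
  rw [relIndex_eq_one.2 h3] at this
  omega

theorem CA.aff_full (h : CA S M V z H Y F) {v : G} (hv : v ∈ V) (hv' : v ∉ 𝒁) : Full H 𝑼 𝒁 v :=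
  fun _ hK hc => (h.aff_blk hK).2.2 fun k hk =>
    h.aff_mem_Y hv hv' (h.aff_le_F hK hk) ((h.modU.mem_fx.1 hc).2 k hk)

theorem CA.aff_U_eq (h : CA S M V z H Y F) : 𝑼 = V ⊔ bW 𝑼 𝒁 F := by
  refine le_antisymm ?_ (sup_le (CP.le_ncl _ _) (h.modU.bW_le h.F_le))
  conv_lhs => rw [h.U_eq, CP.ncl_eq_sup_commutator]
  exact sup_le_sup_left ((commutator_mono (CP.le_ncl _ _) le_rfl).trans le_sup_left) _

theorem CA.aff_compl (h : CA S M V z H Y F) :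
    bW 𝑼 𝒁 F ⊔ fx 𝑼 𝒁 F = 𝑼 ∧ bW 𝑼 𝒁 F ⊓ fx 𝑼 𝒁 F = 𝒁 := by
  refine h.modU.coprime h.F_le ?_
  rw [← inf_relIndex_right, show secCent 𝑼 𝒁 ⊓ F = Y from le_antisymm
    (h.ker_eq.le.trans' (le_inf (inf_le_right.trans h.F_le) inf_le_left))
    (le_inf h.Y_le_sec h.Y_le_F)]
  exact h.toGeo.basic.2.2.2.2.2.1

theorem CA.aff_norm_of_le (h : CA S M V z H Y F) {A B : Subgroup G} (hA : A ≤ 𝑼) (hB : B ≤ 𝑼) :
    A ≤ 𝐍[B] := hA.trans ((h.U_comm.trans (centralizer_anti hB)).trans (centralizer_le_normalizer' _))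

theorem CA.aff_idx_bW (h : CA S M V z H Y F) : (bW 𝑼 𝒁 F).relIndex 𝑼 ≤ 2 := by
  have h1 := relIndex_sup_of_le_normalizer
    (h.aff_norm_of_le (CP.le_ncl V H) (h.modU.bW_le h.F_le))
  rw [← h.aff_U_eq] at h1
  rw [h1, ← h.aff_idxZ]
  exact relIndex_le_of_le_left le_sup_right (by rw [h.aff_idxZ]; omega)

theorem CA.aff_idx_fx (h : CA S M V z H Y F) : (𝒁).relIndex (fx 𝑼 𝒁 F) ≤ 2 := by
  have e := inf_relIndex_right (bW 𝑼 𝒁 F) (fx 𝑼 𝒁 F)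
  rw [h.aff_compl.2] at e
  rw [e]
  exact (relIndex_le_of_le_right inf_le_left FiniteIndex.index_ne_zero).trans h.aff_idx_bW

theorem CA.aff_fx_le (h : CA S M V z H Y F) : fx 𝑼 𝒁 F ≤ fx 𝑼 𝒁 H := fun _ hu =>
  h.modU.mem_fx.2 ⟨hu.1, fun _ hg => comm_mem_of_le_two h.aff_idx_fx
    (le_normalizer_inf h.modU.normU (le_normalizer_secCent h.F_norm h.H_norm_Z) hg) (h.H_norm_Z hg) hu⟩

theorem CA.ff (h : CA S M V z H Y F) {K : Subgroup G} (hK : Blk H 𝑼 𝒁 K) :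
    F = bN H 𝑼 𝒁 ∧ (∀ K', Blk H 𝑼 𝒁 K' → ∃ g ∈ H ⊓ M, cj(g, K) = K') ∧
    (∀ v ∈ V, v ∉ 𝒁 → Full H 𝑼 𝒁 v) ∧ 𝑼 = V ⊔ bW 𝑼 𝒁 F ∧ (𝒁).relIndex (fx 𝑼 𝒁 F) ≤ 2 ∧
    (fx 𝑼 𝒁 F ≤ fx 𝑼 𝒁 H) :=
  ⟨h.aff_F_eq hK, fun _ hK' => h.aff_trans hK hK', fun _ hv hv' => h.aff_full hv hv', h.aff_U_eq,
    h.aff_idx_fx, h.aff_fx_le⟩

/-- an element of `H ⊓ M` normalizing a block fixes the component of `V / Z` -/
theorem CA.aff_comp_fix (h : CA S M V z H Y F) {K : Subgroup G} (hK : Blk H 𝑼 𝒁 K) {v w t : G}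
    (hv : v ∈ V) (hw : Comp 𝑼 𝒁 K v w) (ht : t ∈ H ⊓ M) (hn : t ∈ 𝐍[K]) : ⁅w, t⁆ ∈ 𝒁 := by
  have h1 := h.modU.comp_cj hK ht.1 hw
  rw [cj_of_mem_normalizer hn] at h1
  have h2 : Comp 𝑼 𝒁 K v (t * w * t⁻¹) := by
    refine ⟨h1.1, ?_⟩
    have := mul_mem (h.modU.le_fx hK.le (inv_mem (h.comm_V ht hv))) h1.2
    rwa [show ⁅t, v⁆⁻¹ * (t * v * t⁻¹ * (t * w * t⁻¹)⁻¹) = v * (t * w * t⁻¹)⁻¹ by group] at this
  have := h.modU.comp_unique hK (CP.le_ncl V H hv) hw h2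
  rwa [show w * (t * w * t⁻¹)⁻¹ = ⁅w, t⁆ by group] at this

theorem CA.aff_comp_notMem (h : CA S M V z H Y F) {K : Subgroup G} (hK : Blk H 𝑼 𝒁 K) {v w : G}
    (hv : v ∈ V) (hv' : v ∉ 𝒁) (hw : Comp 𝑼 𝒁 K v w) : w ∉ 𝒁 := fun e =>
  h.aff_full hv hv' K hK ((h.modU.comp_mem_iff hK (CP.le_ncl V H hv) hw).1 e)

/-- an involution central in `(H ⊓ M) / Y` inverts `F / Y` -/
theorem CA.aff_inv (h : CA S M V z H Y F) {a : G} (ha : a ∈ H ⊓ M) (ha2 : a * a ∈ Y) (ha' : a ∉ Y)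
    (hc : ∀ s ∈ H ⊓ M, ⁅a, s⁆ ∈ Y) : ∀ f ∈ F, a * f * a⁻¹ * f ∈ Y := by
  obtain ⟨-, -, -, h1, h2⟩ := h.q1 ha ha2
  have hX : zpowers a ≤ 𝐍[⁅F, zpowers a⁆ ⊔ Y] := le_normalizer_sup
    (le_normalizer_commutator (zpowers_le.2 (h.F_norm ha.1)) le_normalizer) (zpowers_le.2 (h.Y_norm ha.1))
  have h3 : ⁅F, zpowers a ⊔ Y⁆ ≤ ⁅F, zpowers a⁆ ⊔ Y :=
    CommMod.commutator_sup_le' hX (le_sup_right.trans le_normalizer) le_sup_left
      ((le_normalizer_iff_commutator_le_right.1 (h.F_le.trans h.Y_norm)).trans le_sup_right)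
  have h4 := (h.F_irr (⁅F, zpowers a⁆ ⊔ Y) le_sup_right (sup_le
    (le_normalizer_iff_commutator_le_left.1 (zpowers_le.2 (h.F_norm ha.1))) h.Y_le_F) (fun s hs => by
      refine mem_normalizer_of_cj_le ?_
      rw [cj_sup, cj_of_mem_normalizer (h.Y_norm hs.1), ← commutator_cj,
        cj_of_mem_normalizer (h.F_norm hs.1), TA.cj_zp]
      refine sup_le ((commutator_mono le_rfl (zpowers_le.2 ?_)).trans h3) le_sup_right
      rw [TA.conj_eq_comm_mul]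
      exact mul_mem (mem_sup_right (comm_symm (hc s hs))) (mem_sup_left (mem_zpowers a)))).resolve_left
    fun e => h2 ha' (le_sup_left.trans e.le)
  exact fun f hf => h1 f (h4.ge hf)

theorem CA.aff_card_eight (h : CA S M V z H Y F) {K : Subgroup G} (hK : Blk H 𝑼 𝒁 K)
    (hV : V ≤ bW 𝑼 𝒁 K) : Nat.card ↥(𝑼) = 8 := by
  obtain ⟨v, hv, hv'⟩ := SetLike.not_le_iff_exists.1 (show ¬ V ≤ 𝒁 from fun e => by
    have := h.aff_idxZ
    rw [relIndex_eq_one.2 e] at this; omega)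
  have h1 : F ≤ K := by
    rw [h.aff_F_eq hK]
    refine sup_le hK.ge (sSup_le fun K' hK' => le_of_eq ?_)
    by_contra hne
    exact h.aff_full hv hv' K' hK' ((h.modU.blk_ne hK' hK hne).1 (hV hv))
  have h2 : 𝑼 = bW 𝑼 𝒁 K := by
    refine le_antisymm (h.aff_U_eq.le.trans (sup_le hV ?_)) (h.modU.bW_le hK.le)
    exact sup_le_sup_right (commutator_mono le_rfl h1) _
  have h3 := card_mul_relIndex_of_le (le_bW 𝑼 𝒁 K)
  rw [hK.card, card_zpowers_two h.z_sq h.z_ne, ← h2] at h3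
  omega

/-- the final contradiction in (FF1) -/
theorem CA.aff_perf (h : CA S M V z H Y F) (hm : m ∈ M) (hne : m * z * m⁻¹ ≠ z)
    (hY : IsPGroup 2 Y) (hR : IsPGroup 2 𝐂[V]) {K : Subgroup G} (hK : Blk H 𝑼 𝒁 K) {c τ g : G}
    (hc : c ∈ fx 𝑼 𝒁 K) (hc1 : c ≠ 1) (hτ : τ ∈ cj(m, Y) ⊓ 𝐂[V]) (hτc : τ ∈ 𝐂₁[c])
    (hi : ∀ f ∈ F, τ * f * τ⁻¹ * f ∈ Y) (hg : g ∈ M) (hgc : g ∈ 𝐂₁[c]) (ho : Odd (orderOf g))
    (hgz : g * (m * z * m⁻¹) * g⁻¹ = z)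
    (hgi : ∀ y ∈ Y, y ∉ 𝐂[V] → y * g * y⁻¹ * g ∈ (Y ⊓ 𝐂[V]) ⊔ (cj(m, Y) ⊓ 𝐂[V])) : False := by
  obtain ⟨x, hx, ⟨k, hk⟩, hx', -, -⟩ := h.modU.blk_gen hK
  have hxH := hK.le hx
  have hxF := h.aff_le_F hK hx
  have hxo : Odd (orderOf x) :=
    Odd.of_dvd_nat (Odd.pow (by decide : Odd 3)) (orderOf_dvd_of_pow_eq_one hk)
  have hxc : x ∈ 𝐂₁[c] := TA.mem_c₁.2 (CP.commute_of_commutator_mem (two_zpowers h.z_sq)
    (coprime_two_iff.2 hxo) (by rw [Amb.centralizer_zpowers]; exact h.H_le_C hxH)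
    (comm_symm ((h.modU.mem_fx.1 hc).2 x hx)))
  set z' := m * z * m⁻¹ with hz'
  have hz'V : z' ∈ V := h.conj_mem_V hm h.z_mem_V
  have hz'Z : z' ∉ 𝒁 := fun e => ((TA.mem_zp_two h.z_sq).1 e).elim (h.conj_ne_one m) hne
  have hz'U : z' ∈ 𝑼 := CP.le_ncl V H hz'V
  have hz'' : x⁻¹ * z' * x ∈ 𝑼 := inv_conj_mem_of_mem_normalizer (h.modU.normU hxH) hz'U
  have hfx : fx 𝑼 𝒁 K ≤ 𝑼 := inf_le_left
  obtain ⟨y, hy, hyc, hyz⟩ := h.dual.2 (fx 𝑼 𝒁 K ⊔ zpowers (x⁻¹ * z' * x))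
    (h.cent_Y.trans ((fx_anti _ _ (h.aff_le_F hK)).trans le_sup_left))
    (sup_le hfx (zpowers_le.2 hz'')) z' hz'U (fun e => by
      obtain ⟨a, ha, b, hb, e⟩ := (mem_sup_of_le_normalizer_right
        (h.aff_norm_of_le hfx (zpowers_le.2 hz''))).1 e
      rcases (TA.mem_zp_two (h.U_sq _ hz'')).1 hb with rfl | rfl
      · rw [mul_one] at e
        exact h.aff_full hz'V hz'Z K hK (e ▸ ha)
      · have e1 : a = ⁅z', x⁻¹⁆ := by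
          rw [eq_mul_inv_of_mul_eq e.symm]; group
        have e2 : ⁅z', x⁻¹⁆ ∈ 𝒁 := (h.modU.blk_compl hK).2.le
          ⟨mem_sup_left (commutator_mem_commutator hz'U (inv_mem hx)), e1 ▸ ha⟩
        exact hx' (h.Y_le_sec (inv_mem_iff.1 (h.aff_mem_Y hz'V hz'Z (inv_mem hxF) e2))))
  have hyc' : y ∈ 𝐂₁[c] := TA.cent_le_c₁ (mem_sup_left hc) hyc
  have ht₂Y : ⁅y, x⁆ ∈ Y := le_normalizer_iff_commutator_le_left.1 h.Y_norm
    (commutator_mem_commutator hy hxH)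
  have ht₂ : ⁅y, x⁆ ∉ 𝐂[V] := fun e => by
    have e1 := e z' hz'V
    have e2 := hyc _ (mem_sup_right (mem_zpowers (x⁻¹ * z' * x)))
    refine h.z_ne (hyz.symm.trans (commutatorElement_eq_one_iff_mul_comm.2 ?_))
    calc z' * y = z' * ⁅y, x⁆ * x * y * x⁻¹ := by group
      _ = ⁅y, x⁆ * x * (x⁻¹ * z' * x * y) * x⁻¹ := by rw [e1]; group
      _ = y * z' := by rw [e2]; group
  have hI := (h.L_facts hm hne).1
  have hIC : (Y ⊓ 𝐂[V]) ⊔ (cj(m, Y) ⊓ 𝐂[V]) ≤ 𝐂[V] := sup_le inf_le_right inf_le_right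
  have hτH := h.CV_le_H hτ.2
  have hy₀ : g * τ⁻¹ * g⁻¹ ∈ Y := by
    have e := h.cj_eq_of_eq (mul_mem hg hm) (one_mem M) (by
      rw [one_mul, inv_one, mul_one]
      exact Eq.trans (by rw [hz']; group) hgz) h.HM_norm_Y
    rw [cj_one, cj_mul] at e
    exact e ▸ conj_mem_cj g (inv_mem hτ.1)
  have et : ⁅τ, g⁆ = τ * (g * τ⁻¹ * g⁻¹) := by group
  have ht₁c : ⁅τ, g⁆ ∈ 𝐂₁[c] := mul_mem (mul_mem (mul_mem hτc hgc) (inv_mem hτc)) (inv_mem hgc)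
  have ht₂c : ⁅y, x⁆ ∈ 𝐂₁[c] := mul_mem (mul_mem (mul_mem hyc' hxc) (inv_mem hyc')) (inv_mem hxc)
  have := perfK (N := 𝐂₁[c]) (C := ⊥) (T₁ := ((Y ⊓ 𝐂[V]) ⊔ (cj(m, Y) ⊓ 𝐂[V])) ⊓ 𝐂₁[c])
    (T₂ := Y ⊓ 𝐂₁[c]) (t₁ := ⁅τ, g⁆) (t₂ := ⁅y, x⁆) (h.hyp.solvC₁ (h.U_sq c hc.1) hc1 le_rfl)
    (by rw [normalizer_eq_top]; exact le_top) inf_le_right inf_le_right
    (pRes_eq_bot (hR.to_le (inf_le_left.trans hIC))).le (pRes_eq_bot (hY.to_le inf_le_left)).le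
    hgc hxc ho hxo (inf_normalizer_le_normalizer_inf ⟨hI hg, le_normalizer hgc⟩)
    (inf_normalizer_le_normalizer_inf ⟨h.Y_norm hxH, le_normalizer hxc⟩)
    (commutator_mem_commutator ⟨mem_sup_right hτ, hτc⟩ (mem_zpowers g))
    (commutator_mem_commutator ⟨hy, hyc'⟩ (mem_zpowers x))
    (inf_normalizer_le_normalizer_inf ⟨et ▸ h.Y_norm (mul_mem hτH (h.Y_le_H hy₀)), le_normalizer ht₁c⟩)
    (inf_normalizer_le_normalizer_inf ⟨hI (h.Y_le_M ht₂Y), le_normalizer ht₂c⟩)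
    (mem_inf.2 ⟨by
      have := mul_mem (conj_mem_of_mem_normalizer (h.Y_norm hτH) (mul_mem hy₀
        (conj_mem_of_mem_normalizer (h.Y_norm hxH) (inv_mem hy₀)))) (hi x hxF)
      rw [et]
      convert this using 1
      group,
    mul_mem (mul_mem (mul_mem ht₁c hxc) (inv_mem ht₁c)) hxc⟩)
    (mem_inf.2 ⟨hgi _ ht₂Y ht₂, mul_mem (mul_mem (mul_mem ht₂c hgc) (inv_mem ht₂c)) hgc⟩)
  rw [mem_bot.1 this] at hgz
  exact hne (by simpa using hgz)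

/-- (FF1) -/
theorem CA.ff1 (h : CA S M V z H Y F) (hm : m ∈ M) (hne : m * z * m⁻¹ ≠ z) {K : Subgroup G}
    (hK : Blk H 𝑼 𝒁 K) (h8 : Nat.card ↥(𝑼) ≠ 8) {v w : G} (hv : v ∈ V) (hv' : v ∉ 𝒁)
    (hw : Comp 𝑼 𝒁 K v w) : w ∉ 𝑫 := fun hD => by
  classical
  have hwZ := h.aff_comp_notMem hK hv hv' hw
  have hZW : ∀ {K : Subgroup G}, 𝒁 ≤ bW 𝑼 𝒁 K := fun {K} => le_bW _ _ K
  have hVW : ¬ V ≤ bW 𝑼 𝒁 K := fun e => h8 (h.aff_card_eight hK e)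
  have hwV : w ∉ V := fun e => hVW (h.aff_V_le hZW e hwZ hw.1)
  obtain ⟨-, hMD, hDC, hDB, -, -, hB, -⟩ := h.D_facts hm hne
  obtain ⟨b, hb, hbw⟩ : ∃ b ∈ cj(m, Y) ⊓ 𝐂[V], ⁅w, b⁆ = m * z * m⁻¹ := by
    by_contra hc
    push Not at hc
    refine hwV (hDC.le ⟨hD, fun b hb => (commutatorElement_eq_one_iff_mul_comm.1 ?_).symm⟩)
    exact ((TA.mem_zp_two (h.conj_sq m)).1 (hDB (commutator_mem_commutator hD hb))).resolve_right
      (hc b hb)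
  set z' := m * z * m⁻¹ with hz'
  have hz'V : z' ∈ V := h.conj_mem_V hm h.z_mem_V
  have hz'Z : z' ∉ 𝒁 := fun e => ((TA.mem_zp_two h.z_sq).1 e).elim (h.conj_ne_one m) hne
  have hbP : b ∈ H ⊓ M := ⟨h.CV_le_H hb.2, h.CV_le_M hb.2⟩
  obtain ⟨hK₂, eW, -⟩ := h.modU.blk_cj hK hbP.1
  have hw₂ : b * w⁻¹ * b⁻¹ ∈ bW 𝑼 𝒁 cj(b, K) := eW ▸ conj_mem_cj b (inv_mem hw.1)
  have ez : z' = w * (b * w⁻¹ * b⁻¹) := by rw [← hbw]; group
  have hne₂ : K ≠ cj(b, K) := fun e =>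
    hVW (h.aff_V_le hZW hz'V hz'Z (ez ▸ mul_mem hw.1 (by rw [e]; exact hw₂)))
  have hall : ∀ K', Blk H 𝑼 𝒁 K' → K' = K ∨ K' = cj(b, K) := fun K' hK' => by
    by_contra hc
    push Not at hc
    exact h.aff_full hz'V hz'Z K' hK' (ez ▸ mul_mem ((h.modU.blk_ne hK' hK hc.1).1 hw.1)
      ((h.modU.blk_ne hK' hK₂ hc.2).1 hw₂))
  have hF : F ≤ K ⊔ cj(b, K) := by
    rw [h.aff_F_eq hK]
    exact sup_le (hK.ge.trans le_sup_left) (sSup_le fun K' hK' =>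
      (hall K' hK').elim (fun e => e ▸ le_sup_left) fun e => e ▸ le_sup_right)
  have hres : 𝐎[2, H ⊓ M] ≤ Y := pRes_le_iff.2 fun g hg ho => by
    have ho' := coprime_two_iff.1 ho
    have h1 : g ∈ 𝐍[K] ∧ g ∈ 𝐍[cj(b, K)] := by
      have i1 := hall _ (h.modU.blk_cj hK hg.1).1
      have i2 := hall _ (h.modU.blk_cj hK₂ hg.1).1
      rcases i1 with i1 | i1 <;> rcases i2 with i2 | i2
      · exact absurd (cj_inj.1 (i1.trans i2.symm)) hne₂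
      · exact ⟨cj_eq_iff.1 i1, cj_eq_iff.1 i2⟩
      · exact ⟨Sym4Rec.mem_of_sq_mem_of_odd ho' (by rw [← cj_eq_iff, cj_mul, i1, i2]),
          Sym4Rec.mem_of_sq_mem_of_odd ho' (by rw [← cj_eq_iff, cj_mul, i2, i1])⟩
      · exact absurd (cj_inj.1 (i1.trans i2.symm)) hne₂
    have h2 : ∀ {K : Subgroup G}, Blk H 𝑼 𝒁 K → g ∈ 𝐍[K] → ⁅K, zpowers g⁆ ≤ Y := fun hK hn =>
      (le_secCent_iff'.1 (zpowers_le.2 (Sym4Rec.mem_of_sq_mem_of_odd ho' (sq_mem_secCent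
        (h.aff_blk hK).2.1 (h.aff_blk hK).1 (hK.le.trans h.Y_norm) hn (h.Y_norm hg.1))))).2
    have h3 := CommMod.commutator_sup_le (hK.le.trans h.Y_norm) (hK₂.le.trans h.Y_norm)
      (h2 hK h1.1) (h2 hK₂ h1.2)
    exact h.F_inf.le ⟨h.F_self g hg.1 fun f hf =>
      comm_symm (h3 (commutator_mem_commutator (hF hf) (mem_zpowers g))), hg.2⟩
  obtain ⟨hY, -, hS, hR, -⟩ := h.of_two hres
  have hP : IsPGroup 2 ↥(H ⊓ M) := hS ▸ h.syl.pgrp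
  have hBP : (cj(m, Y) ⊓ 𝐂[V]) ⊔ Y ≤ H ⊓ M :=
    sup_le (inf_le_right.trans (le_inf h.CV_le_H h.CV_le_M)) h.Y_le
  obtain ⟨τ, hτ, hτY, hτ2, hτc⟩ : ∃ τ ∈ cj(m, Y) ⊓ 𝐂[V], τ ∉ Y ∧ τ * τ ∈ Y ∧
      ∀ s ∈ H ⊓ M, ⁅τ, s⁆ ∈ Y := by
    obtain ⟨u, hu, hu', hu2⟩ := CP.exists_notMem_commutator_mem (U₁ := Y) (hP.to_le hBP) hP hB
      fun e => hne₂ (cj_of_mem_normalizer (le_normalizer ((h.aff_blk hK).1
        (e (mem_sup_left hb))))).symm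
    obtain ⟨a, ha, y, hy, rfl⟩ := (mem_sup_of_le_normalizer_right
      (inf_le_right.trans h.CV_norm_Y)).1 hu
    have haP : a ∈ H ⊓ M := hBP (mem_sup_left ha)
    have h1 : ∀ s ∈ H ⊓ M, ⁅a, s⁆ ∈ Y := fun s hs => by
      have := mul_mem (inv_mem (conj_mem_of_mem_normalizer (h.Y_norm haP.1) (mul_mem hy
        (conj_mem_of_mem_normalizer (h.Y_norm hs.1) (inv_mem hy))))) (hu2 s (mem_sup_right hs)).2
      convert this using 1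
      group
    obtain ⟨k, hk⟩ := isPGroup_iff.1 hP a haP
    have h2 : ∃ k : ℕ, a ^ 2 ^ k ∈ Y := ⟨k, hk ▸ one_mem _⟩
    have h3 : Nat.find h2 ≠ 0 := fun e => by
      have := Nat.find_spec h2
      rw [e, pow_zero, pow_one] at this
      exact hu' (mul_mem this hy)
    obtain ⟨j, hj⟩ := Nat.exists_eq_succ_of_ne_zero h3
    refine ⟨a ^ 2 ^ j, pow_mem ha _, Nat.find_min h2 (by omega), ?_, fun s hs => ?_⟩
    · have := Nat.find_spec h2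
      rwa [hj, pow_succ, pow_mul, pow_two] at this
    · exact comm_zp_le (h.Y_norm hs.1) (h.Y_norm haP.1) (h1 s hs)
        (commutator_mem_commutator (pow_mem (mem_zpowers a) _) (mem_zpowers s))
  have hτP : τ ∈ H ⊓ M := hBP (mem_sup_left hτ)
  have hi := h.aff_inv hτP hτ2 hτY hτc
  have hτK : τ ∈ 𝐍[K] := CP.mem_normalizer_of_conj_mem fun k hk => by
    have := mul_mem ((h.aff_blk hK).1 (hi k (h.aff_le_F hK hk))) (inv_mem hk)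
    rwa [mul_inv_cancel_right] at this
  have hτw : τ ∈ 𝐂₁[w] := TA.mem_c₁_symm.1 (TA.mem_c₁_comm.2 (mem_bot.1
    ((TA.zp_inf_zp h.z_sq (h.conj_sq m) hne.symm).le ⟨h.aff_comp_fix hK hv hw hτP hτK,
      hDB (commutator_mem_commutator hD hτ)⟩)))
  obtain ⟨-, hL, -, hDL, -, g, hg, ho, hgz, hgi⟩ := h.L_facts hm hne
  have hgM : g ∈ M := sup_le h.Y_le_M (cj_le_of_mem h.Y_le_M hm) hg
  obtain ⟨n, hn, hc⟩ := Solv.coprime_fixed_coset' (zpowers g) V (zpowers_le.2 (h.NV.ge hgM))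
    (CP.coprime_card_zpowers (isEA_isPGroup h.ea) (coprime_two_iff.2 ho))
    (Or.inr (Solv.isSolvable_of_isPGroup (isEA_isPGroup h.ea))) w fun a ha => by
      have := hDL (commutator_mem_commutator (inv_mem hD) (zpowers_le.2 hg ha))
      convert this using 1
      group
  rw [Amb.centralizer_zpowers] at hc
  have hc1 : w * n ≠ 1 := fun e => hwV (by rw [eq_inv_of_mul_eq_one_left e]; exact inv_mem hn)
  have hτn : τ ∈ 𝐂₁[w * n] := TA.mem_c₁_symm.1 (mul_mem (TA.mem_c₁_symm.1 hτw)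
    (TA.mem_c₁_symm.1 (TA.cent_le_c₁ hn hτ.2)))
  have hR' := h.syl.pgrp.to_le hR
  by_cases hnZ : n ∈ 𝒁
  · exact h.aff_perf hm hne hY hR' hK₂ ((h.modU.blk_ne hK₂ hK hne₂.symm).1 (mul_mem hw.1 (hZW hnZ)))
      hc1 hτ hτn hi hgM (TA.mem_c₁_symm.1 hc) ho hgz hgi
  · refine h.aff_perf hm hne hY hR' hK ?_ hc1 hτ hτn hi hgM (TA.mem_c₁_symm.1 hc) ho hgz hgi
    have := mul_mem (inv_mem hw.2) (h.modU.le_fx hK.le (h.aff_mul_mem hv hv' hn hnZ))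
    convert this using 1
    group

/-- the index of `D` in `U` is large when there are transvections in `H ⊓ M` -/
theorem CA.ff_index (h : CA S M V z H Y F) (hm : m ∈ M) (hne : m * z * m⁻¹ ≠ z) {K : Subgroup G}
    {t : G} (ht : Tv H 𝑼 𝒁 K t) (htM : t ∈ M) (h8 : Nat.card ↥(𝑼) ≠ 8) :
    2 ^ ({K | Blk H 𝑼 𝒁 K}.ncard + 1) ≤ (𝑫).relIndex 𝑼 := by
  classical
  have key : ∀ K', ∃ t', Blk H 𝑼 𝒁 K' → Tv H 𝑼 𝒁 K' t' ∧ t' ∈ M := fun K' => by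
    by_cases hK' : Blk H 𝑼 𝒁 K'
    · obtain ⟨g, hg, rfl⟩ := h.aff_trans ht.blk hK'
      have := ht.cj g
      rw [cj_of_mem hg.1, cj_of_mem_normalizer (h.modU.normU hg.1),
        cj_of_mem_normalizer (h.H_norm_Z hg.1)] at this
      exact ⟨_, fun _ => ⟨this, mul_mem (mul_mem hg.2 htM) (inv_mem hg.2)⟩⟩
    · exact ⟨1, fun e => absurd e hK'⟩
  choose t ht' using key
  obtain ⟨v, hv, hv'⟩ := SetLike.not_le_iff_exists.1 (show ¬ V ≤ 𝒁 from fun e => by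
    have := h.aff_idxZ
    rw [relIndex_eq_one.2 e] at this; omega)
  have hcomp : ∀ K', Blk H 𝑼 𝒁 K' → ∃ w ∈ bW 𝑼 𝒁 K' ⊓ fx 𝑼 𝒁 (zpowers (t K')), w ∉ 𝒁 ∧ w ∉ 𝑫 :=
    fun K' hK' => by
      obtain ⟨w, hw⟩ := h.modU.exists_comp hK' (CP.le_ncl V H hv)
      obtain ⟨t1, t2⟩ := ht' K' hK'
      exact ⟨w, ⟨hw.1, (h.modU.mem_fx_zpowers t1.mem).2 ⟨h.modU.bW_le hK'.le hw.1,
        h.aff_comp_fix hK' hv hw ⟨t1.mem, t2⟩ t1.norm⟩⟩, h.aff_comp_notMem hK' hv hv' hw,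
        h.ff1 hm hne hK' h8 hv hv' hw⟩
  have h1 := two_pow_le_relIndex (blks H 𝑼 𝒁) (U := 𝑼) (fun K' => fx 𝑼 𝒁 (zpowers (t K')))
    fun K' hK' => by
      have hK' := mem_blks.1 hK'
      obtain ⟨u, hu, hu'⟩ := SetLike.not_le_iff_exists.1 (ht' K' hK').1.act
      exact ⟨u, h.modU.bW_le hK'.le hu, hu', fun K'' hK'' hne => (ht' K'' (mem_blks.1 hK'')).1.fix
        ((h.modU.blk_ne (mem_blks.1 hK'') hK' hne).1 hu)⟩
  set E := ⨅ K' ∈ blks H 𝑼 𝒁, fx 𝑼 𝒁 (zpowers (t K')) with hE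
  have hZD : 𝒁 ≤ 𝑫 := h.aff_Z_le.trans (h.V_le_D hm)
  have h2 : 𝑫 ≤ E := fun d hd => mem_iInf.2 fun K' => mem_iInf.2 fun hK' => by
    have hK' := mem_blks.1 hK'
    obtain ⟨t1, t2⟩ := ht' K' hK'
    obtain ⟨w, hw, hw1, hw2⟩ := hcomp K' hK'
    obtain ⟨-, -, f1, f2, -⟩ := h.modU.tv_facts t1
    refine (h.modU.mem_fx_zpowers t1.mem).2 ⟨hd.1, ?_⟩
    by_contra hc
    have i1 : ⁅d, t K'⁆ ∈ 𝑫 := le_normalizer_iff_commutator_le_left.1 (h.norm_D hm hne)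
      (commutator_mem_commutator hd t2)
    have i2 := Amal.mul_mem_of_relIndex_two f1 (f2.le hw)
      (mem_sup_left (commutator_mem_commutator hd.1 (mem_zpowers _))) hw1 hc
    exact hw2 ((mul_mem_cancel_right i1).1 (hZD i2))
  obtain ⟨w, hw, -, hw2⟩ := hcomp K ht.blk
  have h3 : w ∈ E := mem_iInf.2 fun K' => mem_iInf.2 fun hK' => by
    by_cases e : K' = K
    · exact e ▸ hw.2
    · exact (ht' K' (mem_blks.1 hK')).1.fix ((h.modU.blk_ne (mem_blks.1 hK') ht.blk e).1 hw.1)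
  have h4 : (𝑫).relIndex (E ⊓ 𝑼) ≠ 0 := FiniteIndex.index_ne_zero
  have h5 : (𝑫).relIndex (E ⊓ 𝑼) ≠ 1 := fun e => hw2 (relIndex_eq_one.1 e ⟨h3, hw.2.1⟩)
  have h6 := relIndex_inf_mul_relIndex (𝑫) E 𝑼
  rw [inf_of_le_left h2] at h6
  have h7 : {K | Blk H 𝑼 𝒁 K}.ncard = (blks H 𝑼 𝒁).card := by
    rw [← Set.ncard_coe_finset]
    congr 1
    ext K'
    simp [mem_blks]
  rw [← h6, h7, pow_succ, mul_comm]
  exact Nat.mul_le_mul (by omega) h1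

/-- one block -/
theorem CA.ff_one (h : CA S M V z H Y F) (h3 : Y.relIndex F = 3) :
    𝐎[2, H ⊓ M] ≤ Y ∧ Y.relIndex (H ⊓ M) ≤ 2 ∧ (Nat.card ↥(𝑼) = 8 ∨ Nat.card ↥(𝑼) = 16) ∧
    Blk H 𝑼 𝒁 F ∧ 4 ≤ (𝐂[𝑼]).relIndex Y := by
  have hFY : F ≤ 𝐍[Y] := h.F_le.trans h.Y_norm
  obtain ⟨x, hx, hx'⟩ := SetLike.not_le_iff_exists.1 (show ¬ F ≤ Y from fun e => by
    rw [relIndex_eq_one.2 e] at h3; omega)
  have hxH := h.F_le hx
  have hself : ∀ g ∈ H ⊓ M, g ∈ secCent F Y → g ∈ Y := fun g hg hc =>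
    h.F_inf.le ⟨h.F_self g hg.1 hc.2, hg.2⟩
  have hF := sup_zpowers_eq (by rw [h3]; exact Nat.prime_three) h.Y_le_F hx hx'
  have hx3 : x ^ 3 ∈ Y := h3 ▸ pow_relIndex_mem' hFY hx
  obtain ⟨v, hv, hv'⟩ := SetLike.not_le_iff_exists.1 (show ¬ V ≤ 𝒁 from fun e => by
    have := h.aff_idxZ
    rw [relIndex_eq_one.2 e] at this; omega)
  have hvU : v ∈ 𝑼 := CP.le_ncl V H hv
  have hn := h.modU.normU hxH
  have hZ := card_zpowers_two h.z_sq h.z_ne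
  have hW : Nat.card (bW 𝑼 𝒁 F) ≤ 8 := by
    have ha : ⁅x, v⁆ ∈ 𝑼 := mul_mem (conj_mem_of_mem_normalizer hn hvU) (inv_mem hvU)
    have hb := conj_mem_of_mem_normalizer hn ha
    set a := ⁅x, v⁆ with had
    have hXU : 𝒁 ⊔ zpowers a ⊔ zpowers (x * a * x⁻¹) ≤ 𝑼 :=
      sup_le (sup_le h.modU.le (zpowers_le.2 ha)) (zpowers_le.2 hb)
    have hZX : 𝒁 ≤ 𝒁 ⊔ zpowers a ⊔ zpowers (x * a * x⁻¹) := le_sup_left.trans le_sup_left
    have haX : a ∈ 𝒁 ⊔ zpowers a ⊔ zpowers (x * a * x⁻¹) := mem_sup_left (mem_sup_right (mem_zpowers a))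
    have hbX : x * a * x⁻¹ ∈ 𝒁 ⊔ zpowers a ⊔ zpowers (x * a * x⁻¹) := mem_sup_right (mem_zpowers _)
    have hYX : Y ≤ 𝐍[𝒁 ⊔ zpowers a ⊔ zpowers (x * a * x⁻¹)] :=
      le_normalizer_iff_commutator_le_right.2 (commutator_le.2 fun y hy u hu =>
        hZX (h.comm_U hy (hXU hu)))
    have hxX : x ∈ 𝐍[𝒁 ⊔ zpowers a ⊔ zpowers (x * a * x⁻¹)] := by
      refine mem_normalizer_of_cj_le ?_
      rw [cj_sup, cj_sup, cj_of_mem_normalizer (h.H_norm_Z hxH), TA.cj_zp, TA.cj_zp]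
      refine sup_le (sup_le hZX (zpowers_le.2 hbX)) (zpowers_le.2 ?_)
      have := mul_mem (mul_mem (hZX (h.comm_U hx3 hvU)) (inv_mem haX)) (inv_mem hbX)
      convert this using 1
      rw [had, show x ^ 3 = x * x * x by rw [pow_succ, pow_two]]
      group
    have hFX : F ≤ 𝐍[𝒁 ⊔ zpowers a ⊔ zpowers (x * a * x⁻¹)] := hF.ge.trans (sup_le (zpowers_le.2 hxX) hYX)
    generalize hX : 𝒁 ⊔ zpowers a ⊔ zpowers (x * a * x⁻¹) = X at hXU hZX haX hbX hYX hxX hFX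
    have h1 : ⁅V, F⁆ ≤ X := by
      rw [← hF]
      refine CommMod.commutator_sup_le' (zpowers_le.2 hxX) hYX ?_ (commutator_le.2 fun u hu y hy =>
        hZX (comm_symm (h.comm_U hy (CP.le_ncl V H hu))))
      rw [← sup_zpowers_eq (by rw [h.aff_idxZ]; exact Nat.prime_two) h.aff_Z_le hv hv']
      exact CommMod.commutator_sup_le (h.aff_norm_of_le (zpowers_le.2 hvU) hXU)
        (hZX.trans le_normalizer) (comm_zp_le hxX (h.aff_norm_of_le le_rfl hXU hvU) (comm_symm haX))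
        ((le_normalizer_iff_commutator_le_left.1 (zpowers_le.2 (h.H_norm_Z hxH))).trans hZX)
    have h2 : bW 𝑼 𝒁 F ≤ X := by
      refine sup_le ((commutator_mono (h.U_eq.le.trans ((CP.ncl_eq_sup_commutator V F).le.trans
        (sup_le_sup_left h1 V))) le_rfl).trans ?_) hZX
      exact CommMod.commutator_sup_le (h.aff_norm_of_le (CP.le_ncl V H) hXU) le_normalizer h1
        (le_normalizer_iff_commutator_le_left.1 hFX)
    refine (card_le_card_of_le h2).trans ?_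
    have c : ∀ {A : Subgroup G} {u : G}, A ≤ 𝑼 → u ∈ 𝑼 → Nat.card ↥(A ⊔ zpowers u) ≤ Nat.card A * 2 := by
      intro A u hA hu
      have e := card_sup_mul_card_inf (h.aff_norm_of_le hA (zpowers_le.2 hu))
      have e1 : Nat.card (zpowers u) ≤ 2 := by
        rw [Nat.card_zpowers]
        exact orderOf_le_of_pow_eq_one (by norm_num) (by rw [pow_two, h.U_sq u hu])
      calc Nat.card ↥(A ⊔ zpowers u) ≤ Nat.card ↥(A ⊔ zpowers u) * Nat.card ↥(A ⊓ zpowers u) :=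
            Nat.le_mul_of_pos_right _ Nat.card_pos
        _ ≤ Nat.card A * 2 := by rw [e]; exact Nat.mul_le_mul_left _ e1
    have c1 := c h.modU.le ha
    have c2 := c (sup_le h.modU.le (zpowers_le.2 ha)) hb
    rw [← hX]
    omega
  have hWU := h.modU.bW_le h.F_le
  have h4 : (𝒁).relIndex (bW 𝑼 𝒁 F) = 4 := by
    have e := card_mul_relIndex_of_le (le_bW 𝑼 𝒁 F)
    obtain ⟨n, hn⟩ := isEA_card (isEA_mono h.U_ea hWU)
    have h5 : ¬ (𝒁).relIndex (bW 𝑼 𝒁 F) ≤ 2 := fun e => by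
      have i1 : bW 𝑼 𝒁 F ≤ 𝒁 := fun w hw => h.aff_compl.2.le ⟨hw, h.modU.mem_fx.2 ⟨hWU hw, fun f hf =>
        comm_mem_of_le_two e (le_normalizer_sup (le_normalizer_commutator h.modU.normU h.F_norm)
          h.H_norm_Z (h.F_le hf)) (h.H_norm_Z (h.F_le hf)) hw⟩⟩
      exact hx' (h.aff_mem_Y hv hv' hx (i1 (mem_sup_left (commutator_mem_commutator hvU hx))))
    rw [hZ] at e
    rw [hn] at e hW
    rcases n with _ | _ | _ | _ | n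
    · omega
    · omega
    · omega
    · omega
    · have : 0 < 2 ^ n := by positivity
      simp only [pow_succ] at hW
      omega
  have hW8 : Nat.card (bW 𝑼 𝒁 F) = 8 := by
    rw [← card_mul_relIndex_of_le (le_bW 𝑼 𝒁 F), hZ, h4]
  refine ⟨pRes_le_of_pow fun g hg => ⟨1, hself _ (pow_mem hg _) ?_⟩,
    relIndex_le_two_of h.Y_le fun a ha b hb ha' hb' => hself _ (mul_mem ha hb) ?_, ?_,
    ⟨h.ker_eq.le.trans h.Y_le_F, h.F_le, ?_, fun d hd => ⟨1, h.Y_le_sec ?_⟩, h4⟩, ?_⟩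
  · rw [pow_one, pow_two]
    exact sq_mem_secCent h3 h.Y_le_F hFY (h.F_norm hg.1) (h.Y_norm hg.1)
  · have i : ∀ a ∈ H ⊓ M, a ∉ Y → a * x * a⁻¹ * x ∈ Y := fun a ha ha' =>
      (three_aut h3 h.Y_le_F hFY hx hx' (h.F_norm ha.1) (h.Y_norm ha.1)).resolve_left fun e =>
        ha' (hself a ha (mem_secCent_of_three h3 h.Y_le_F hFY hx hx' (h.Y_norm ha.1) e))
    exact mem_secCent_of_three h3 h.Y_le_F hFY hx hx' (h.Y_norm (mul_mem ha.1 hb.1))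
      (inv_inv_mem (hFY hx) (h.Y_norm ha.1) (i a ha ha') (i b hb hb'))
  · have e := card_mul_relIndex_of_le hWU
    have e1 := h.aff_idx_bW
    have e2 : (bW 𝑼 𝒁 F).relIndex 𝑼 ≠ 0 := FiniteIndex.index_ne_zero
    rw [hW8] at e
    omega
  · rw [← inf_relIndex_right, show secCent 𝑼 𝒁 ⊓ F = Y from le_antisymm
      (h.ker_eq.le.trans' (le_inf (inf_le_right.trans h.F_le) inf_le_left))
      (le_inf h.Y_le_sec h.Y_le_F), h3]
  · rw [CP.ncl_eq_self h.F_norm] at hd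
    rw [pow_one, ← h3]
    exact pow_relIndex_mem' hFY hd
  · have e := relIndex_sup_of_le_normalizer (h.aff_norm_of_le hWU (fx_le 𝑼 𝒁 F))
    rw [h.aff_compl.1, ← inf_relIndex_right (fx 𝑼 𝒁 F) (bW 𝑼 𝒁 F), inf_comm, h.aff_compl.2, h4] at e
    rw [h.dual.1, ← e, ← inf_relIndex_right 𝐂[Y], inf_comm]
    exact relIndex_le_of_le_left h.cent_Y FiniteIndex.index_ne_zero

end Cfsg.Agent.NG
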