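import Mathlib
import Cfsg.Agent.NG.AFF
import Cfsg.Agent.NG.A0_a

set_option autoImplicit false

namespace Cfsg.Agent.NG

open Subgroup Cfsg.Agent.PLocal Cfsg.Agent.PLocal.Amb Cfsg.Agent.PLocal.CP Cfsg.Agent.PLocal.JC
open scoped commutatorElement

variable {G : Type*} [Group G] [Finite G]

variable {S M V H Y F : Subgroup G} {z m : G}

set_option quotPrecheck false

/-- `U = ⟨V^H⟩` -/
local notation "𝑼" => ncl V H
local notation "𝒁" => zpowers z
local notation "𝑼'" => cj(m, ncl V H)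
local notation "𝑫" => ncl V H ⊓ cj(m, ncl V H)

namespace A3

theorem dvd_card_of_index {Γ α : Type*} [Group Γ] [Finite α] [MulAction Γ α] {d : ℕ}
    (h : ∀ a : α, (MulAction.stabilizer Γ a).index = d) : d ∣ Nat.card α := by
  classical
  have : Fintype (MulAction.orbitRel.Quotient Γ α) := Fintype.ofFinite _
  rw [Nat.card_congr (MulAction.selfEquivSigmaOrbits Γ α), Nat.card_sigma]
  refine Finset.dvd_sum fun ω _ => ?_
  rw [Nat.card_coe_set_eq, ← MulAction.index_stabilizer, h]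

theorem card_mul_rel' {A B : Subgroup G} (h : A ≤ B) :
    Nat.card A * A.relIndex B = Nat.card B := by
  rw [← card_mul_index (A.subgroupOf B), Nat.card_congr (subgroupOfEquivOfLe h).toEquiv]; rfl

/-- a semiregular action on the nonzero vectors of a section -/
theorem dvd_sub_one {L U U₀ K : Subgroup G} (h : SecHyp L U U₀)
    (hfix : ∀ e ∈ L, ∀ w ∈ U, w ∉ U₀ → (⁅e, w⁆ ∈ U₀ ↔ e ∈ K)) :
    K.relIndex L ∣ U₀.relIndex U - 1 := by
  classical
  have hne : ∀ (g : L) (v : Sec h), v ≠ 0 → Sec.rep h g v ≠ 0 := fun g v hv e => hv (by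
    have : Sec.rep h g⁻¹ (Sec.rep h g v) = v := by
      rw [← Module.End.mul_apply, ← map_mul, inv_mul_cancel, map_one]; rfl
    rw [← this, e, map_zero])
  letI : MulAction L {v : Sec h // v ≠ 0} :=
    { smul := fun g v => ⟨Sec.rep h g v, hne g v v.2⟩
      one_smul := fun v => Subtype.ext (by
        change Sec.rep h 1 v = v
        rw [map_one]; rfl)
      mul_smul := fun g g' v => Subtype.ext (by
        change Sec.rep h (g * g') v = Sec.rep h g (Sec.rep h g' v)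
        rw [map_mul]; rfl) }
  have h1 : K.relIndex L ∣ Nat.card {v : Sec h // v ≠ 0} := dvd_card_of_index (Γ := L) fun a => by
    obtain ⟨w, hw, e⟩ := Sec.exists_pr_eq h a.1
    have hw' : w ∉ U₀ := fun h' => a.2 (e ▸ (Sec.pr_eq_zero h hw).2 h')
    have : MulAction.stabilizer L a = K.subgroupOf L := by
      ext g
      rw [MulAction.mem_stabilizer_iff, Subtype.ext_iff, mem_subgroupOf, ← hfix g g.2 w hw hw',
        ← Sec.rep_pr_eq_iff h g hw, e]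
      rfl
    rw [this]; rfl
  have h2 : Nat.card (Sec h) = U₀.relIndex U := by
    have e1 := Sec.card_mul h
    have e2 := card_mul_rel' h.le
    have : 0 < Nat.card U₀ := Nat.card_pos
    rw [← e2, mul_comm] at e1
    exact Nat.eq_of_mul_eq_mul_left this e1
  have := Fintype.ofFinite (Sec h)
  rw [← h2]
  convert h1
  rw [Nat.card_eq_fintype_card, Nat.card_eq_fintype_card, Fintype.card_subtype_compl]
  simp

/-- a section of order 2 is centralized -/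
theorem comm_mem_of_two {X Z : Subgroup G} (hZ : Z ≤ X) (h2 : Z.relIndex X = 2) {g w : G}
    (hg : g ∈ 𝐍[X]) (hg' : g ∈ 𝐍[Z]) (hw : w ∈ X) : ⁅w, g⁆ ∈ Z := by
  have e : ⁅w, g⁆ = w * (g * w⁻¹ * g⁻¹) := by simp only [commutatorElement_def]; group
  rw [e]
  by_cases h : w ∈ Z
  · exact mul_mem h (Amb.conj_mem_of_mem_normalizer hg' (inv_mem h))
  · refine Amal.mul_mem_of_relIndex_two h2 hw (Amb.conj_mem_of_mem_normalizer hg (inv_mem hw)) h
      fun h' => h ?_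
    have := Amb.inv_conj_mem_of_mem_normalizer hg' h'
    simpa [mul_assoc] using this

theorem relIndex_pow {F Y : Subgroup G} (hn : F ≤ 𝐍[Y]) {p : ℕ} (hp : p.Prime)
    (h : ∀ f ∈ F, f ^ p ∈ Y) : ∃ k : ℕ, Y.relIndex F = p ^ k := by
  have := Fact.mk hp
  have := normal_subgroupOf' hn
  refine (IsPGroup.iff_card (G := F ⧸ Y.subgroupOf F)).1 fun q => ?_
  obtain ⟨f, rfl⟩ := QuotientGroup.mk_surjective q
  refine ⟨1, ?_⟩
  rw [pow_one, ← QuotientGroup.mk_pow, QuotientGroup.eq_one_iff]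
  exact h f f.2

theorem comm_zp {Y : Subgroup G} {e f : G} (he : e ∈ 𝐍[Y]) (hf : f ∈ 𝐍[Y]) (h : ⁅e, f⁆ ∈ Y) :
    ⁅zpowers e, zpowers f⁆ ≤ Y := by
  have := normal_subgroupOf' (le_rfl : 𝐍[Y] ≤ 𝐍[Y])
  rw [commutator_le]
  rintro _ ⟨i, rfl⟩ _ ⟨j, rfl⟩
  have h1 : Commute (qπ 𝐍[Y] Y ⟨e, he⟩) (qπ 𝐍[Y] Y ⟨f, hf⟩) := qπ_comm.1 h
  have h2 := h1.zpow_zpow i j
  rw [← map_zpow, ← map_zpow] at h2
  exact qπ_comm.2 h2

end A3

open A3

theorem CA3.comm_UU (h : CA3 S M V z H Y F m) : 𝑼' ≤ H ∧ ⁅𝑼, 𝑼'⁆ ≤ 𝑫 := by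
  obtain ⟨b1, b2, b3, b4, b5, b6, b7, b8, b9, b10, b11, b12, b13, b14⟩ := h.toCA.basic
  obtain ⟨g1, -, -, g4, -, g6, -⟩ := h.toGeo.basic
  obtain ⟨d1, d2, d3, d4, -, d6, -, -, d9, d10⟩ := h.toCA.D_facts h.m_mem h.m_ne
  have hUH : 𝑼' ≤ H := (d6.trans inf_le_right).trans g4
  have hHU : H ≤ 𝐍[𝑼] := le_normalizer_ncl V H
  exact ⟨hUH, le_inf (le_normalizer_iff_commutator_le_left.1 (hUH.trans hHU))
    (le_normalizer_iff_commutator_le_right.1 (by
      have : 𝑼 ≤ cj(m, H) := by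
        have h1 : 𝐂[V] ≤ cj(m, H) := by
          have := cj_mono m g4
          rwa [← centralizer_cj, cj_of_mem_normalizer (h.toTwo.basic.2.2.2.1.ge h.m_mem)] at this
        exact (le_trans (isEA_le_centralizer b6) (centralizer_anti b13.le)).trans h1
      exact this.trans (by rw [normalizer_cj]; exact cj_mono m hHU)))⟩

theorem CA3.idx_two (h : CA3 S M V z H Y F m) : Y.relIndex 𝑼' = 2 := by
  obtain ⟨b1, b2, b3, b4, b5, b6, b7, b8, b9, b10, b11, b12, b13, b14⟩ := h.toCA.basic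
  obtain ⟨g1, -, -, g4, -, g6, -⟩ := h.toGeo.basic
  obtain ⟨d1, d2, d3, d4, -, d6, -, -, d9, d10⟩ := h.toCA.D_facts h.m_mem h.m_ne
  have hE := isEA_map b6 (MulAut.conj m).toMonoidHom
  have hUH : 𝑼' ≤ H := (d6.trans inf_le_right).trans g4
  have hzV : z ∈ V := h.one.basic.1
  have hHU : H ≤ 𝐍[𝑼] := le_normalizer_ncl V H
  have hYU : ⁅𝑼, Y⁆ ≤ 𝒁 := (le_secCent_iff'.1 (b5.ge.trans inf_le_right)).2
  have hUU : ⁅𝑼, 𝑼'⁆ ≤ 𝑫 := h.comm_UU.2
  obtain ⟨A₀, x, x1, x2, x3, x4, x5, x6, -, x8, x9⟩ := hyperplane_mod (C := Y) g1 h.Y_norm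
    (inf_le_left.trans h.Y_le_F) h.F_le h.F_norm g6 h.F_self hUH
    ⟨by rw [commutator_eq_bot_iff_le_centralizer.2 (isEA_le_centralizer hE)]; exact bot_le,
      fun a ha => by rw [sq_eq_one_of_isEA hE a ha]; exact one_mem _⟩ h.crit
  have hA₀ : A₀ ≤ Y := by
    intro a ha
    have haH : a ∈ H := hUH (x2 ha)
    set X := zpowers a ⊔ Y with hX
    have hXH : X ≤ H := sup_le (zpowers_le.2 haH) (h.Y_le.trans inf_le_left)
    have hZD : 𝒁 ≤ 𝑫 := (zpowers_le.2 hzV).trans d1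
    have hED : bW 𝑼 𝒁 X ≤ 𝑫 := sup_le (CommMod.commutator_sup_le'
      ((zpowers_le.2 (h.toTwo.basic.2.2.2.2.1 (d6 (x2 ha)).2)).trans d2)
      ((h.Y_le.trans inf_le_right).trans d2)
      ((commutator_mono le_rfl (zpowers_le.2 (x2 ha))).trans hUU) (hYU.trans hZD)) hZD
    have hn : ∀ g ∈ H, ⁅a, g⁆ ∈ Y → g ∈ 𝐍[bW 𝑼 𝒁 X] := fun g hg hc => by
      have h1 : g ∈ 𝐍[X] := mem_normalizer_of_cj_le (by
        rw [hX, cj_sup, TA.cj_zp, cj_of_mem_normalizer (h.Y_norm hg)]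
        refine sup_le (zpowers_le.2 ?_) le_sup_right
        rw [TA.conj_eq_comm_mul]
        exact mul_mem (mem_sup_right (TA.comm_mem_symm hc)) (mem_sup_left (mem_zpowers a)))
      have := Amb.le_normalizer_sup (Amb.le_normalizer_commutator (zpowers_le.2 (hHU hg)) (zpowers_le.2 h1))
        (zpowers_le.2 (b4.normU₀ hg))
      exact this (mem_zpowers g)
    obtain ⟨a', ha', ha''⟩ : ∃ a' ∈ 𝑼', a' ∉ A₀ := by
      by_contra hc
      push Not at hc
      rw [relIndex_eq_one.2 hc] at x3; omega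
    have hxH := h.F_le x4
    -- `x` centralizes `E / Z`
    have hxE : x ∈ secCent (bW 𝑼 𝒁 X) 𝒁 := by
      have n1 : x ∈ 𝐍[secCent (bW 𝑼 𝒁 X) 𝒁] := le_normalizer_secCent
        (zpowers_le.2 (hn x hxH (x8 a ha))) (zpowers_le.2 (b4.normU₀ hxH)) (mem_zpowers x)
      have m1 : a' ∈ secCent (bW 𝑼 𝒁 X) 𝒁 := ⟨b4.normU₀ (hUH ha'), fun e he => by
        rw [commutatorElement_eq_one_iff_mul_comm.2 (isEA_comm hE ha' (hED he).2)]
        exact one_mem _⟩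
      have m2 : Y ≤ secCent (bW 𝑼 𝒁 X) 𝒁 := fun y hy => ⟨b4.normU₀ (h.Y_le hy).1, fun e he =>
        (b5.ge hy).2.2 e (hED he).1⟩
      have m3 : x * x ∈ secCent (bW 𝑼 𝒁 X) 𝒁 := by
        have e' : x * x = (x * a' * x⁻¹ * a'⁻¹) * (a' * x * a'⁻¹ * x) := by group
        rw [e']
        exact mul_mem (mul_mem (Amb.conj_mem_of_mem_normalizer n1 m1) (inv_mem m1))
          (m2 (x9 a' ha' ha''))
      exact Sym4Rec.mem_of_sq_mem_of_odd x6 m3
    have hz' : m * z * m⁻¹ ∉ bW 𝑼 𝒁 X := fun hz => x5 (b14 x x4 ⟨b4.normU₀ hxH, fun v hv => by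
      have hz'V : m * z * m⁻¹ ∈ V :=
        Amb.conj_mem_of_mem_normalizer (h.toTwo.basic.2.2.2.1.ge h.m_mem) hzV
      have hV := TA.four_eq_sup h.four (sq_eq_one_of_isEA h.toTwo.ea) hzV hz'V h.z_ne
        (by simpa using h.z_ne) h.m_ne.symm
      refine hxE.2 v (le_trans hV.le (sup_le le_sup_right (zpowers_le.2 hz)) hv)⟩)
    have hz2 : (m * z * m⁻¹) * (m * z * m⁻¹) = 1 := by
      calc _ = m * (z * z) * m⁻¹ := by group
        _ = 1 := by rw [h.z_sq]; group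
    have hEV : bW 𝑼 𝒁 X ≤ V := by
      refine le_trans ?_ d3.le
      refine le_inf hED fun e he => mem_centralizer_iff.2 fun b hb => ?_
      have c1 := d4 (commutator_mem_commutator (hED he) hb)
      have hb' := hn b (g4 hb.2) (b7 (b13.le (d9 (commutator_mem_commutator (x2 ha) hb))))
      have c2 : ⁅e, b⁆ ∈ bW 𝑼 𝒁 X := by
        have e' : ⁅e, b⁆ = e * (b * e⁻¹ * b⁻¹) := by simp only [commutatorElement_def]; group
        rw [e']; exact mul_mem he (Amb.conj_mem_of_mem_normalizer hb' (inv_mem he))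
      rcases (TA.mem_zp_two hz2).1 c1 with c | c
      · exact (commutatorElement_eq_one_iff_mul_comm.1 c).symm
      · exact absurd (c ▸ c2) hz'
    have hEZ : bW 𝑼 𝒁 X ≤ 𝒁 := fun e he => by
      have hz'V : m * z * m⁻¹ ∈ V :=
        Amb.conj_mem_of_mem_normalizer (h.toTwo.basic.2.2.2.1.ge h.m_mem) hzV
      have hzE : z ∈ bW 𝑼 𝒁 X := mem_sup_right (mem_zpowers z)
      rcases TA.four_mem h.four (sq_eq_one_of_isEA h.toTwo.ea) hzV hz'V h.z_ne
        (by simpa using h.z_ne) h.m_ne.symm (hEV he) with c | c | c | c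
      · rw [c]; exact one_mem _
      · rw [c]; exact mem_zpowers z
      · exact absurd (c ▸ he) hz'
      · refine absurd ?_ hz'
        have := mul_mem (inv_mem hzE) he
        rwa [c, inv_mul_cancel_left] at this
    refine b5.le ⟨haH, b4.normU₀ haH, fun u hu => TA.comm_mem_symm (hEZ (mem_sup_left
      (commutator_mem_commutator hu (mem_sup_left (mem_zpowers a)))))⟩
  have : 𝑼' ⊓ Y = A₀ := le_antisymm x1 (le_inf x2 hA₀)
  rw [← x3, ← this, inf_comm, inf_relIndex_right]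

/-- the involution `a'` inverts `F / Y` -/
theorem CA3.comm_F (h : CA3 S M V z H Y F m) {a : G} (ha : a ∈ 𝑼') (ha' : a ∉ Y) :
    ⁅F, zpowers a⁆ ⊔ Y = F := by
  obtain ⟨-, -, -, -, -, d6, -, d8, -⟩ := h.toCA.D_facts h.m_mem h.m_ne
  have hUH := h.comm_UU.1
  have haM : a ∈ H ⊓ M := ⟨hUH ha, h.toCA.CV_le_M (d6 ha).2⟩
  have hE := isEA_map h.toCA.U_ea (MulAut.conj m).toMonoidHom
  have hYH : Y ≤ H := h.Y_le.trans inf_le_left
  have q := h.toCA.q1 haM (by rw [sq_eq_one_of_isEA hE a ha]; exact one_mem _)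
  have hFa : ⁅F, zpowers a⁆ ≤ F :=
    le_normalizer_iff_commutator_le_left.1 ((zpowers_le.2 haM.1).trans h.F_norm)
  have hFY : ⁅F, Y⁆ ≤ Y := (commutator_mono le_rfl h.Y_le_F).trans h.F_comm
  have e1 : 𝑼' ⊔ Y = zpowers a ⊔ Y := by
    refine le_antisymm (sup_le (fun u hu => ?_) le_sup_right) (sup_le_sup_right (zpowers_le.2 ha) _)
    by_cases hu' : u ∈ Y
    · exact mem_sup_right hu'
    · have := Amal.mul_mem_of_relIndex_two h.idx_two (inv_mem ha) hu (by simpa using ha') hu'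
      have e : u = a * (a⁻¹ * u) := by group
      rw [e]; exact mul_mem (mem_sup_left (mem_zpowers a)) (mem_sup_right this)
  have hN : ∀ X : Subgroup G, X ≤ H → X ≤ 𝐍[zpowers a ⊔ Y] → X ≤ 𝐍[⁅F, zpowers a ⊔ Y⁆ ⊔ Y] :=
    fun X h1 h2 => Amb.le_normalizer_sup (Amb.le_normalizer_commutator (h1.trans h.F_norm) h2)
      (h1.trans h.Y_norm)
  have e2 : ⁅F, zpowers a ⊔ Y⁆ ⊔ Y = ⁅F, zpowers a⁆ ⊔ Y := by
    refine le_antisymm (sup_le ?_ le_sup_right)
      (sup_le_sup_right (commutator_mono le_rfl le_sup_left) _)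
    refine CommMod.commutator_sup_le' ?_ ?_ le_sup_left (hFY.trans le_sup_right)
    · exact Amb.le_normalizer_sup (Amb.le_normalizer_commutator
        ((zpowers_le.2 haM.1).trans h.F_norm) le_normalizer) ((zpowers_le.2 haM.1).trans h.Y_norm)
    · exact le_sup_right.trans le_normalizer
  rcases h.F_irr (⁅F, zpowers a⁆ ⊔ Y) le_sup_right (sup_le hFa h.Y_le_F)
    (e2 ▸ hN _ inf_le_left (e1 ▸ d8)) with e | e
  · exact absurd (le_sup_left.trans e.le) (q.2.2.2.2 ha')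
  · exact e

theorem CA3.cases (h : CA3 S M V z H Y F m) :
    (Y.relIndex F = 3 ∧ Nat.card ↥(𝑼) = 8) ∨ T5 S M V z H Y F m := by
  obtain ⟨b1, b2, b3, b4, b5, b6, b7, b8, b9, b10, b11, b12, b13, b14⟩ := h.toCA.basic
  obtain ⟨g1, -, -, g4, -, g6, g7, -, -, -, g11⟩ := h.toGeo.basic
  obtain ⟨d1, d2, d3, d4, -, d6, -, -, d9, d10⟩ := h.toCA.D_facts h.m_mem h.m_ne
  obtain ⟨hUH, hUU⟩ := h.comm_UU
  have hE := isEA_map b6 (MulAut.conj m).toMonoidHom
  have hzV : z ∈ V := h.one.basic.1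
  have hHU : H ≤ 𝐍[𝑼] := le_normalizer_ncl V H
  have hZD : 𝒁 ≤ 𝑫 := (zpowers_le.2 hzV).trans d1
  have hZU : 𝒁 ≤ 𝑼 := hZD.trans inf_le_left
  have cZ : Nat.card ↥(𝒁) = 2 := by
    rw [Nat.card_zpowers]; exact orderOf_eq_prime (by rw [pow_two]; exact h.z_sq) h.z_ne
  have hz'V : m * z * m⁻¹ ∈ V := Amb.conj_mem_of_mem_normalizer (h.toCA.NV.ge h.m_mem) hzV
  have hz2 : (m * z * m⁻¹) * (m * z * m⁻¹) = 1 := h.toCA.V_sq _ hz'V
  have hz'Z : m * z * m⁻¹ ∉ 𝒁 := fun e => by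
    rcases (TA.mem_zp_two h.z_sq).1 e with c | c
    · exact h.z_ne (by simpa using c)
    · exact h.m_ne c
  have hV := TA.four_eq_sup h.four h.toCA.V_sq hzV hz'V h.z_ne (by simpa using h.z_ne) h.m_ne.symm
  have kerF : (secCent 𝑼 𝒁).relIndex F = Y.relIndex F := by
    rw [← b5, ← inf_relIndex_right (secCent 𝑼 𝒁), ← inf_relIndex_right (H ⊓ secCent 𝑼 𝒁),
      inf_comm H, inf_assoc, inf_eq_right.2 h.F_le]
  obtain ⟨a, ha, ha'⟩ := SetLike.not_le_iff_exists.1 h.crit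
  have haM : a ∈ H ⊓ M := ⟨hUH ha, h.toCA.CV_le_M (d6 ha).2⟩
  obtain ⟨q1, q2, q3, q4, -⟩ := h.toCA.q1 haM (by rw [sq_eq_one_of_isEA hE a ha]; exact one_mem _)
  rw [h.comm_F ha ha'] at q1 q2 q3 q4
  have hBD : bW 𝑼 𝒁 (zpowers a) ≤ 𝑫 := sup_le ((commutator_mono le_rfl (zpowers_le.2 ha)).trans hUU) hZD
  have hpow : ∀ X : Subgroup G, 𝒁 ≤ X → X ≤ 𝑼 → ∃ k : ℕ, (𝒁).relIndex X = 2 ^ k := fun X h1 h2 =>
    relIndex_pow (h2.trans ((b7.trans (h.Y_le.trans inf_le_left)).trans b4.normU₀)) Nat.prime_two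
      fun f hf => by rw [pow_two, h.toCA.U_sq f (h2 hf)]; exact one_mem _
  by_cases hblk : ∃ K, Blk H 𝑼 𝒁 K
  · obtain ⟨K, hK⟩ := hblk
    obtain ⟨f1, -⟩ := h.toCA.ff hK
    have hKF : K ≤ F := f1 ▸ (b4.bN_norm_blk hK).1
    have h8 : Nat.card ↥(𝑼) = 8 := by
      by_contra h8
      obtain ⟨w, hw⟩ := b4.exists_comp hK (b13.le hz'V)
      refine h.toCA.ff1 h.m_mem h.m_ne hK h8 hz'V hz'Z hw (hBD (q1.le ⟨?_, ?_⟩))
      · exact sup_le_sup_right (commutator_mono le_rfl hKF) _ hw.1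
      · have n1 : cj(a, K) = K := cj_eq_iff.2 (mem_normalizer_of_cj_le (cj_le_iff_forall.2
          fun k hk => by
            have e : a * k * a⁻¹ = (a * k * a⁻¹ * k) * k⁻¹ := by group
            rw [e]
            exact mul_mem (hK.ge (b5.ge (q4 k (hKF hk)))) (inv_mem hk)))
        have c := b4.comp_cj hK haM.1 hw
        have e : a * (m * z * m⁻¹) * a⁻¹ = m * z * m⁻¹ :=
          mul_inv_eq_iff_eq_mul.2 ((d6 ha).2 _ hz'V).symm
        rw [n1, e] at c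
        have hwU := b4.bW_le hK.le hw.1
        refine (b4.mem_fx_zpowers haM.1).2 ⟨hwU, ?_⟩
        have := b4.comp_unique hK (b13.le hz'V) hw c
        have e' : ⁅w, a⁆ = w * (a * w * a⁻¹)⁻¹ := by simp only [commutatorElement_def]; group
        rw [e']; exact this
    refine Or.inl ⟨?_, h8⟩
    obtain ⟨w1, -, -, w4⟩ := b4.bWs_all
    have c1 := b4.card_bWs (I := {K | Blk H 𝑼 𝒁 K}) fun K hK => hK
    have c2 : (𝒁).relIndex (bWs 𝑼 𝒁 {K | Blk H 𝑼 𝒁 K}) ≤ (𝒁).relIndex 𝑼 :=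
      relIndex_le_of_le_right (w1 ▸ b4.bW_le b4.bN_norm.1) index_ne_zero_of_finite
    have c3 := card_mul_rel' hZU
    rw [cZ, h8] at c3
    have c4 : 0 < {K | Blk H 𝑼 𝒁 K}.ncard := (Set.ncard_pos (Set.toFinite _)).2 ⟨K, hK⟩
    have c5 : {K | Blk H 𝑼 𝒁 K}.ncard = 1 := by
      by_contra hc
      have : 4 ^ 2 ≤ 4 ^ {K | Blk H 𝑼 𝒁 K}.ncard := Nat.pow_le_pow_right (by norm_num) (by omega)
      omega
    rw [← kerF, f1, w4, c5]; rfl
  right
  push Not at hblk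
  obtain ⟨p, hp, hp2, hpF⟩ := h.F_exp
  have hblk' : ∀ x ∈ F, (𝒁).relIndex (bW 𝑼 𝒁 (zpowers x)) ≠ 4 := fun x hx h4 =>
    hblk _ (b4.blk_of (h.F_le hx) hp hp2 (fun d hd => ⟨1, by
      rw [pow_one]
      exact (b5.ge (hpF d (ncl_le (zpowers_le.2 hx) h.F_norm hd))).2⟩) h4).2.1
  -- the index of `C(a)` in `U` is 4
  obtain ⟨w, hw, w1, w2, w3⟩ := h.toCA.swap h.m_mem h.m_ne
  have i0 : cj(m, Y).relIndex 𝑼 = 2 := by
    have := Amal.relIndex_cj w Y 𝑼'
    rwa [(w3 Y (inf_le_left.trans h.Y_norm)).1, (w3 𝑼 (inf_le_left.trans hHU)).2, h.idx_two] at this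
  have hc0 : ∀ u ∈ 𝑼 ⊓ cj(m, Y), ⁅u, a⁆ ∈ zpowers (m * z * m⁻¹) := fun u hu => by
    have := h.toCA.comm_U (mem_cj.1 hu.2) (mem_cj.1 ha)
    rw [← TA.cj_zp, mem_cj]
    convert this using 1
    simp only [commutatorElement_def]; group
  have hfx : fx 𝑼 𝒁 (zpowers a) ≤ 𝑼 := inf_le_left
  have i1 : (fx 𝑼 𝒁 (zpowers a)).relIndex 𝑼 ≤ 4 := by
    have e1 : 𝑼 ⊓ cj(m, Y) ⊓ 𝐂₁[a] ≤ fx 𝑼 𝒁 (zpowers a) := fun u hu =>
      (b4.mem_fx_zpowers haM.1).2 ⟨hu.1.1, by rw [TA.mem_c₁_comm.1 hu.2]; exact one_mem _⟩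
    have e2 := relIndex_le_of_le_left e1 (L := 𝑼) index_ne_zero_of_finite
    have e3 := relIndex_mul_relIndex (𝑼 ⊓ cj(m, Y) ⊓ 𝐂₁[a]) (𝑼 ⊓ cj(m, Y)) 𝑼 inf_le_left inf_le_left
    rw [inf_comm (𝑼 ⊓ cj(m, Y)) 𝐂₁[a], inf_relIndex_right, inf_comm 𝑼, inf_relIndex_right, i0] at e3
    have e4 := TA.idx_le_two hz2 hc0
    rw [inf_comm 𝑼] at e4
    rw [inf_comm (𝑼 ⊓ cj(m, Y)) 𝐂₁[a], inf_comm 𝑼] at e2
    omega
  have i2 := b4.relIndex_fx_zpowers haM.1
  have i3 : (fx 𝑼 𝒁 (zpowers a)).relIndex 𝑼 = 4 := by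
    obtain ⟨k, hk⟩ := hpow (bW 𝑼 𝒁 (zpowers a)) le_sup_right (b4.bW_le (zpowers_le.2 haM.1))
    rw [← i2] at hk
    rcases k with _ | _ | _ | k
    · refine absurd (b5.le ⟨haM.1, b4.normU₀ haM.1, fun u hu => TA.comm_mem_symm
        ((b4.mem_fx_zpowers haM.1).1 (relIndex_eq_one.1 hk hu)).2⟩) ha'
    · obtain ⟨K, hK⟩ := b4.exists_tv haM.1 hk
      exact absurd hK.blk (hblk K)
    · exact hk
    · have : 0 < 2 ^ k := by positivity
      rw [pow_succ, pow_succ, pow_succ] at hk; omega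
  have hz'B : m * z * m⁻¹ ∈ bW 𝑼 𝒁 (zpowers a) := by
    have : ¬ 𝑼 ⊓ cj(m, Y) ≤ fx 𝑼 𝒁 (zpowers a) := fun hle => by
      have := relIndex_le_of_le_left hle (L := 𝑼) index_ne_zero_of_finite
      rw [inf_comm, inf_relIndex_right] at this; omega
    obtain ⟨u, hu, hu'⟩ := SetLike.not_le_iff_exists.1 this
    rcases (TA.mem_zp_two hz2).1 (hc0 u hu) with c | c
    · exact absurd ((b4.mem_fx_zpowers haM.1).2 ⟨hu.1, by rw [c]; exact one_mem _⟩) hu'
    · rw [← c]; exact mem_sup_left (commutator_mem_commutator hu.1 (mem_zpowers a))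
  have hUW : bW 𝑼 𝒁 F = 𝑼 := by
    refine le_antisymm (b4.bW_le h.F_le) (b12.le.trans (ncl_le (hV.le.trans (sup_le le_sup_right
      (zpowers_le.2 (q1.ge hz'B).1))) ?_))
    exact Amb.le_normalizer_sup (Amb.le_normalizer_commutator (h.F_le.trans hHU) le_normalizer)
      (h.F_le.trans b4.normU₀)
  have i16 : (𝒁).relIndex 𝑼 = 16 := by
    rw [hUW, ← i2, i3] at q3; exact q3
  have c32 : Nat.card ↥(𝑼) = 32 := by rw [← card_mul_rel' hZU, cZ, i16]
  have hfF : fx 𝑼 𝒁 F = 𝒁 := by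
    have := (b4.coprime h.F_le (kerF ▸ g6)).2
    rwa [hUW, inf_eq_right.2 (show fx 𝑼 𝒁 F ≤ 𝑼 from inf_le_left)] at this
  -- every element of `F ∖ Y` is fixed point free
  have hfpf : ∀ x ∈ F, x ∉ Y → fx 𝑼 𝒁 (zpowers x) = 𝒁 := fun x hx hx' => by
    have hxH := h.F_le hx
    have hle : zpowers x ≤ H := zpowers_le.2 hxH
    have ho : Odd ((secCent 𝑼 𝒁).relIndex (zpowers x)) := by
      obtain ⟨k, hk⟩ := relIndex_pow (hle.trans b4.norm_ker) hp fun f hf =>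
        (b5.ge (hpF f (zpowers_le.2 hx hf))).2
      rw [hk]; exact (hp.odd_of_ne_two hp2).pow
    obtain ⟨-, c2⟩ := b4.coprime hle ho
    have r1 := b4.relIndex_fx_zpowers hxH
    have r2 := relIndex_mul_relIndex 𝒁 (fx 𝑼 𝒁 (zpowers x)) 𝑼 (b4.le_fx hle) inf_le_left
    rw [r1, i16] at r2
    obtain ⟨k, hk⟩ := hpow (bW 𝑼 𝒁 (zpowers x)) le_sup_right (b4.bW_le hle)
    have r3 := hblk' x hx
    have hbn : zpowers x ≤ 𝐍[bW 𝑼 𝒁 (zpowers x)] := Amb.le_normalizer_sup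
      (Amb.le_normalizer_commutator (hle.trans hHU) le_normalizer) (hle.trans b4.normU₀)
    have hk4 : k ≤ 4 := by
      have : 2 ^ k ∣ 2 ^ 4 := hk ▸ Dvd.intro_left _ r2
      exact (Nat.pow_dvd_pow_iff_le_right (by norm_num)).1 this
    have hne1 : (𝒁).relIndex (bW 𝑼 𝒁 (zpowers x)) ≠ 1 := fun e => hx' (b5.le ⟨hxH, b4.normU₀ hxH,
      fun u hu => TA.comm_mem_symm (relIndex_eq_one.1 e (mem_sup_left
        (commutator_mem_commutator hu (mem_zpowers x))))⟩)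
    interval_cases k
    · exact absurd hk hne1
    · refine absurd (relIndex_eq_one.2 (le_trans (le_inf le_rfl fun u hu => ?_) c2.le)) hne1
      exact (b4.mem_fx_zpowers hxH).2 ⟨b4.bW_le hle hu,
        comm_mem_of_two le_sup_right hk (hbn (mem_zpowers x)) (b4.normU₀ hxH) hu⟩
    · exact absurd hk r3
    · exfalso
      have r4 : (𝒁).relIndex (fx 𝑼 𝒁 (zpowers x)) = 2 := by rw [hk] at r2; omega
      have : fx 𝑼 𝒁 (zpowers x) ≤ fx 𝑼 𝒁 F := fun u hu => b4.mem_fx.2 ⟨hu.1, fun f hf => by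
        refine comm_mem_of_two (b4.le_fx hle) r4 (mem_normalizer_of_cj_le (cj_le_iff_forall.2
          fun c hc => ?_)) (b4.normU₀ (h.F_le hf)) hu
        have hfH := h.F_le hf
        refine (b4.mem_fx_zpowers hxH).2 ⟨Amb.conj_mem_of_mem_normalizer (hHU hfH) hc.1, ?_⟩
        have y1 : ⁅f⁻¹, x⁆ ∈ Y := h.F_comm (commutator_mem_commutator (inv_mem hf) hx)
        have y2 : ⁅f⁻¹, x⁆ * x ∈ secCent (zpowers c) 𝒁 := by
          refine mul_mem ⟨b4.normU₀ (h.Y_le y1).1, fun e he => (b5.ge y1).2.2 e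
            (zpowers_le.2 hc.1 he)⟩ ?_
          refine le_secCent_iff.2 ⟨hle.trans b4.normU₀, ?_⟩ (mem_zpowers x)
          rw [commutator_comm]
          exact (commutator_mono (zpowers_le.2 hc) le_rfl).trans
            (le_secCent_iff.1 (inf_le_right : fx 𝑼 𝒁 (zpowers x) ≤ _)).2
        have y3 := TA.comm_mem_symm (y2.2 c (mem_zpowers c))
        have e : ⁅f * c * f⁻¹, x⁆ = f * ⁅c, ⁅f⁻¹, x⁆ * x⁆ * f⁻¹ := by
          simp only [commutatorElement_def]; group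
        rw [e]; exact Amb.conj_mem_of_mem_normalizer (b4.normU₀ hfH) y3⟩
      rw [hfF] at this
      rw [relIndex_eq_one.2 this] at r4; omega
    · have r4 : (𝒁).relIndex (fx 𝑼 𝒁 (zpowers x)) = 1 := by rw [hk] at r2; omega
      exact le_antisymm (relIndex_eq_one.1 r4) (b4.le_fx hle)
  have i5 : Y.relIndex F = 5 := by
    have e1 := dvd_sub_one (L := F) (U := 𝑼) (U₀ := 𝒁) (K := Y)
      ⟨hZU, b4.comm, h.F_le.trans hHU, h.F_le.trans b4.normU₀⟩ fun e he w hw hw' =>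
        ⟨fun hc => by
          by_contra he'
          exact hw' ((hfpf e he he').le ((b4.mem_fx_zpowers (h.F_le he)).2
            ⟨hw, TA.comm_mem_symm hc⟩)), fun hc => h.toCA.comm_U hc hw⟩
    rw [i16] at e1
    obtain ⟨k, hk⟩ := relIndex_pow (h.F_le.trans h.Y_norm) hp hpF
    have e2 : Y.relIndex F ≤ 15 := Nat.le_of_dvd (by norm_num) e1
    have e3 : Y.relIndex F ≠ 1 := fun e => g11 (relIndex_eq_one.1 e)
    have e4 : Y.relIndex F ≠ 3 := fun e => hblk F (h.toCA.ff_one e).2.2.2.1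
    have e5 : Y.relIndex F ≠ 15 := fun e => by
      rw [e] at hk
      have a3 : 3 ∣ p := Nat.prime_three.dvd_of_dvd_pow (hk ▸ (by norm_num : 3 ∣ 15))
      have a5 : 5 ∣ p := Nat.prime_five.dvd_of_dvd_pow (hk ▸ (by norm_num : 5 ∣ 15))
      have := (Nat.prime_dvd_prime_iff_eq Nat.prime_three hp).1 a3
      have := (Nat.prime_dvd_prime_iff_eq Nat.prime_five hp).1 a5
      omega
    generalize Y.relIndex F = n at *
    interval_cases n <;> omega
  refine ⟨h, c32, i5, ?_⟩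
  have e1 := dvd_sub_one (L := H ⊓ M) (U := F) (U₀ := Y) (K := Y)
    ⟨h.Y_le_F, h.F_comm, inf_le_left.trans h.F_norm, inf_le_left.trans h.Y_norm⟩
    fun e he f hf hf' => ⟨fun hc => by
      have hX : zpowers f ⊔ Y = F := by
        rcases eq_or_eq_of_prime (le_sup_right : Y ≤ zpowers f ⊔ Y)
          (sup_le (zpowers_le.2 hf) h.Y_le_F) (by rw [i5]; exact Nat.prime_five) with c | c
        · exact absurd (c.le (mem_sup_left (mem_zpowers f))) hf'
        · exact c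
      have hc' : F ≤ secCent (zpowers e) Y := by
        rw [← hX]
        refine sup_le (le_secCent_iff'.2 ⟨(zpowers_le.2 (h.F_le hf)).trans h.Y_norm, ?_⟩)
          (le_secCent_iff.2 ⟨le_normalizer, le_normalizer_iff_commutator_le_left.1
            ((zpowers_le.2 he.1).trans h.Y_norm)⟩)
        exact comm_zp (h.Y_norm he.1) (h.Y_norm (h.F_le hf)) hc
      exact h.F_inf.le ⟨h.F_self e he.1 fun g hg => TA.comm_mem_symm ((hc' hg).2 e (mem_zpowers e)),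
        he.2⟩, fun hc => le_normalizer_iff_commutator_le_left.1 (h.F_le.trans h.Y_norm)
          (commutator_mem_commutator hc hf)⟩
  rw [i5] at e1
  have e2 := relIndex_mul_relIndex Y (H ⊓ M) H h.Y_le inf_le_left
  rw [inf_comm H M, inf_relIndex_right, g7, i5, inf_comm M H] at e2
  have e3 : Y.relIndex (H ⊓ M) ≠ 1 := fun e => ha' (relIndex_eq_one.1 e haM)
  have e4 : Y.relIndex (H ⊓ M) ≠ 2 := fun e => by
    have c8 : 8 ≤ Nat.card ↥(𝑫) := by
      have := card_mul_rel' (A := 𝒁) (B := bW 𝑼 𝒁 (zpowers a)) le_sup_right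
      rw [← i2, i3, cZ] at this
      exact this.le.trans (card_le_card_of_le hBD)
    have : ¬ 𝑫 ≤ 𝐂[cj(m, Y) ⊓ 𝐂[V]] := fun hle => by
      rw [inf_eq_left.2 hle] at d3
      rw [d3, h.four] at c8; omega
    obtain ⟨d, hd, hd'⟩ := SetLike.not_le_iff_exists.1 this
    obtain ⟨b, hb, hb'⟩ : ∃ b ∈ cj(m, Y) ⊓ 𝐂[V], ⁅d, b⁆ ≠ 1 := by
      by_contra hc
      push Not at hc
      exact hd' fun b hb => (commutatorElement_eq_one_iff_mul_comm.1 (hc b hb)).symm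
    have c1 := ((TA.mem_zp_two hz2).1 (d4 (commutator_mem_commutator hd hb))).resolve_left hb'
    have hbM : b ∈ H ⊓ M := ⟨g4 hb.2, h.toCA.CV_le_M hb.2⟩
    have hbY : b ∉ Y := fun hy => hz'Z (c1 ▸ TA.comm_mem_symm (h.toCA.comm_U hy hd.1))
    have c2 := h.toCA.comm_U (Amal.mul_mem_of_relIndex_two e hbM haM hbY ha') hd.1
    have c3 : ⁅b * a, d⁆ = ⁅b, d⁆ := by
      have := isEA_comm hE ha hd.2
      simp only [commutatorElement_def]
      calc b * a * d * (b * a)⁻¹ * d⁻¹ = b * (a * d) * a⁻¹ * b⁻¹ * d⁻¹ := by group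
        _ = _ := by rw [this]; group
    exact hz'Z (c1 ▸ TA.comm_mem_symm (c3 ▸ c2))
  have e5 : Y.relIndex (H ⊓ M) ≤ 4 := Nat.le_of_dvd (by norm_num) e1
  rw [← e2]
  generalize Y.relIndex (H ⊓ M) = n at *
  interval_cases n <;> omega

end Cfsg.Agent.NG
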