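import Mathlib
import Cfsg.Agent.NG.AFF

set_option autoImplicit false

namespace Cfsg.Agent.NG

open Subgroup Cfsg.Agent.PLocal Cfsg.Agent.PLocal.Amb Cfsg.Agent.PLocal.JC
open Cfsg.Agent.PLocal.CP (IsCharP ncl secCent mem_secCent le_secCent_iff le_secCent_iff'
  le_normalizer_secCent)
open scoped Cfsg.Agent.PLocal.CP commutatorElement

variable {G : Type*} [Group G] [Finite G]

namespace A5

open AFF

theorem relIndex_normalizer_le (H K : Subgroup G) (s : Set (Subgroup G))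
    (h : ∀ g ∈ H, cj(g, K) ∈ s) : (𝐍[K]).relIndex H ≤ s.ncard := by
  rw [relIndex, index, ← Nat.card_coe_set_eq]
  let f : H ⧸ (𝐍[K]).subgroupOf H → s :=
    Quotient.lift (fun g : H => (⟨cj((g : G), K), h g g.2⟩ : s)) (by
      intro a b hab
      have h0 : a⁻¹ * b ∈ (𝐍[K]).subgroupOf H := QuotientGroup.leftRel_apply.1 hab
      have h1 : (a : G)⁻¹ * b ∈ 𝐍[K] := h0
      apply Subtype.ext
      change cj((a : G), K) = cj((b : G), K)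
      conv_lhs => rw [← cj_of_mem_normalizer h1, ← cj_mul, mul_inv_cancel_left])
  refine Nat.card_le_card_of_injective f ?_
  intro a b
  induction a using QuotientGroup.induction_on with | H a => ?_
  induction b using QuotientGroup.induction_on with | H b => ?_
  intro hab
  have h1 : cj((a : G), K) = cj((b : G), K) := congrArg Subtype.val hab
  rw [QuotientGroup.eq, mem_subgroupOf]
  change (a : G)⁻¹ * b ∈ 𝐍[K]
  rw [← cj_eq_iff, cj_mul, ← h1, cj_inv_cj]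

theorem relIndex_le_two_of' {D P : Subgroup G}
    (h : ∀ a ∈ P, ∀ b ∈ P, a ∉ D → b ∉ D → a * b ∈ D) : D.relIndex P ≤ 2 := by
  rw [← inf_relIndex_right]
  exact relIndex_le_two_of inf_le_right fun a ha b hb ha' hb' =>
    ⟨h a ha b hb (fun e => ha' ⟨e, ha⟩) (fun e => hb' ⟨e, hb⟩), mul_mem ha hb⟩

theorem relIndex_le_mul (D N P : Subgroup G) : D.relIndex P ≤ D.relIndex (N ⊓ P) * N.relIndex P := by
  rw [relIndex_inf_mul_relIndex]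
  exact relIndex_le_of_le_left inf_le_left FiniteIndex.index_ne_zero

theorem relIndex_sup_le_two {Z Z' : Subgroup G} (h : Z' ≤ 𝐍[Z]) (h2 : Nat.card Z' ≤ 2) :
    Z.relIndex (Z' ⊔ Z) ≤ 2 := by
  rw [relIndex_sup_of_le_normalizer h]
  exact (Nat.le_of_dvd Nat.card_pos (relIndex_dvd_card _ _)).trans h2

theorem card_zp_le {u : G} (h : u * u = 1) : Nat.card (zpowers u) ≤ 2 := by
  rw [Nat.card_zpowers]
  exact orderOf_le_of_pow_eq_one (by norm_num) (by rw [pow_two, h])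

theorem ncard_blk_cj (L U U₀ : Subgroup G) (g : G) :
    {K | Blk cj(g, L) cj(g, U) cj(g, U₀) K}.ncard = {K | Blk L U U₀ K}.ncard := by
  rw [← Set.ncard_image_of_injective {K | Blk L U U₀ K}
    (f := fun K : Subgroup G => cj(g, K)) fun _ _ e => cj_inj.1 e]
  congr 1
  ext K
  refine ⟨fun h => ⟨cj(g⁻¹, K), ?_, cj_cj_inv g K⟩, ?_⟩
  · have := Blk.cj h g⁻¹
    rwa [cj_inv_cj, cj_inv_cj, cj_inv_cj] at this
  · rintro ⟨K, h, rfl⟩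
    exact Blk.cj h g

variable {L U Z L' U' Z' : Subgroup G}

theorem tv_notMem (h : Mod L U Z) {K : Subgroup G} {t : G} (ht : Tv L U Z K t) :
    t ∉ secCent U Z := fun e => ht.act fun w hw =>
  (h.mem_fx_zpowers ht.mem).2 ⟨h.bW_le ht.blk.le hw, comm_symm (e.2 w (h.bW_le ht.blk.le hw))⟩

theorem bW_not_le (h : Mod L U Z) {a : G} (ha : a ∈ L) (ha' : a ∉ secCent U Z) :
    ¬ bW U Z (zpowers a) ≤ Z := fun e => ha' ⟨h.normU₀ ha, fun u hu =>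
  comm_symm (e (mem_sup_left (commutator_mem_commutator hu (mem_zpowers a))))⟩

theorem typeII (h : Mod L U Z) {A : Subgroup G} (hA : A ≤ L) (hZ : Z' ≤ A) (h2 : Nat.card Z' ≤ 2)
    (hne : ¬ A ≤ secCent U Z) (hc : ⁅U, A⁆ ≤ Z' ⊔ Z) :
    Z' ≤ U ∧ (secCent U Z).relIndex A = 2 ∧ bW U Z A = Z' ⊔ Z ∧
      ∀ a ∈ A, a ∉ secCent U Z → ∃ K, Tv L U Z K a := by
  have h1 := relIndex_sup_le_two (hZ.trans (hA.trans h.normU₀)) h2
  have h3 : ∀ a ∈ A, a ∉ secCent U Z → bW U Z (zpowers a) = Z' ⊔ Z ∧ Z.relIndex (Z' ⊔ Z) = 2 :=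
    fun a ha ha' => by
      have i1 : bW U Z (zpowers a) ≤ Z' ⊔ Z :=
        sup_le ((commutator_mono le_rfl (zpowers_le.2 ha)).trans hc) le_sup_right
      have i2 : Z.relIndex (Z' ⊔ Z) ≠ 0 := FiniteIndex.index_ne_zero
      have i3 : Z.relIndex (Z' ⊔ Z) ≠ 1 := fun e =>
        bW_not_le h (hA ha) ha' (i1.trans (relIndex_eq_one.1 e))
      have i4 : Z.relIndex (Z' ⊔ Z) = 2 := by omega
      exact ⟨(Amal.eq_or_eq_of_relIndex_prime (by rw [i4]; exact Nat.prime_two) (le_bW _ _ _)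
        i1).resolve_left fun e => bW_not_le h (hA ha) ha' e.le, i4⟩
  have h4 : ∀ a ∈ A, a ∉ secCent U Z → ∃ K, Tv L U Z K a := fun a ha ha' =>
    h.exists_tv (hA ha) (by rw [h.relIndex_fx_zpowers (hA ha), (h3 a ha ha').1, (h3 a ha ha').2])
  obtain ⟨a, ha, ha'⟩ := SetLike.not_le_iff_exists.1 hne
  obtain ⟨K, hK⟩ := h4 a ha ha'
  have h5 : ∀ b ∈ A, b ∉ secCent U Z → Tv L U Z K b := fun b hb hb' => by
    obtain ⟨K', hK'⟩ := h4 b hb hb'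
    obtain ⟨w, hw, hw'⟩ := SetLike.not_le_iff_exists.1 (bW_not_le h (hA ha) ha')
    rwa [h.blk_eq hK.blk hK'.blk ((h.tv_facts hK).2.1 hw)
      ((h.tv_facts hK').2.1 (by rw [(h3 b hb hb').1, ← (h3 a ha ha').1]; exact hw)) hw']
  refine ⟨le_sup_left.trans ((h3 a ha ha').1.ge.trans (h.bW_le (zpowers_le.2 (hA ha)))), ?_,
    le_antisymm (sup_le hc le_sup_right) ((h3 a ha ha').1.ge.trans
      (sup_le_sup_right (commutator_mono le_rfl (zpowers_le.2 ha)) _)), h4⟩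
  have i1 : (secCent U Z).relIndex A ≤ 2 := relIndex_le_two_of' fun b hb b' hb' n n' => by
    by_contra n''
    obtain ⟨x, hx, ⟨k, hk⟩, hx', -⟩ := h.blk_gen hK.blk
    have hxo : Odd (orderOf x) :=
      Odd.of_dvd_nat (Odd.pow (by decide : Odd 3)) (orderOf_dvd_of_pow_eq_one hk)
    have e1 := inv_inv_mem (h.norm_ker (hK.blk.le hx)) (h.norm_ker (hA hb)) ((h5 b hb n).inv x hx)
      ((h5 b' hb' n').inv x hx)
    have e2 := mul_mem (inv_mem e1) ((h5 _ (mul_mem hb hb') n'').inv x hx)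
    refine hx' (Sym4Rec.mem_of_sq_mem_of_odd hxo ?_)
    convert e2 using 1
    group
  have i2 : (secCent U Z).relIndex A ≠ 0 := FiniteIndex.index_ne_zero
  have i3 : (secCent U Z).relIndex A ≠ 1 := fun e => hne (relIndex_eq_one.1 e)
  omega

section typeI

variable (h : Mod L U Z) (h' : Mod L' U' Z') (h1 : U ≤ L') (h2 : U' ≤ L)
include h h' h1 h2

omit [Finite G] in
theorem comm_mem_inf {u u' : G} (hu : u ∈ U) (hu' : u' ∈ U') : ⁅u, u'⁆ ∈ U ⊓ U' :=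
  ⟨le_normalizer_iff_commutator_le_left.1 (h2.trans h.normU) (commutator_mem_commutator hu hu'),
    le_normalizer_iff_commutator_le_right.1 (h1.trans h'.normU) (commutator_mem_commutator hu hu')⟩

theorem idx_ker (d' : Z' ⊓ U = ⊥) : (secCent U' Z').relIndex U = (𝐂[U']).relIndex U := by
  rw [← inf_relIndex_right, ← inf_relIndex_right 𝐂[U']]
  congr 1
  ext u
  refine ⟨fun hu => ⟨fun u' hu' => (commutatorElement_eq_one_iff_mul_comm.1 (mem_bot.1 (d'.le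
    ⟨hu.1.2 u' hu', (comm_mem_inf h h' h1 h2 hu.2 hu').1⟩))).symm, hu.2⟩,
    fun hu => ⟨⟨h'.normU₀ (h1 hu.2), fun u' hu' => ?_⟩, hu.2⟩⟩
  rw [commutatorElement_eq_one_iff_mul_comm.2 (hu.1 u' hu').symm]
  exact one_mem _

theorem fx_eq (d : Z ⊓ U' = ⊥) (hU : IsElementaryAbelian 2 U) {A : Subgroup G} (hA : A ≤ U') :
    fx U Z A = U ⊓ 𝐂[A] := by
  ext u
  rw [h.mem_fx]
  refine ⟨fun hu => ⟨hu.1, fun u' hu' => (commutatorElement_eq_one_iff_mul_comm.1 (mem_bot.1 (d.le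
    ⟨hu.2 u' hu', (comm_mem_inf h h' h1 h2 hu.1 (hA hu')).2⟩))).symm⟩,
    fun hu => ⟨hu.1, fun u' hu' => ?_⟩⟩
  rw [commutatorElement_eq_one_iff_mul_comm.2 (hu.2 u' hu').symm]
  exact one_mem _

omit h h' h1 h2 [Finite G] in
theorem eaMod {A C : Subgroup G} (hA : IsElementaryAbelian 2 A) : EAMod A C :=
  ⟨by rw [commutator_eq_bot_iff_le_centralizer.2 (isEA_le_centralizer hA)]; exact bot_le,
    fun a ha => by rw [sq_eq_one_of_isEA hA a ha]; exact one_mem _⟩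

theorem idx_le (d' : Z' ⊓ U = ⊥) (hU : IsElementaryAbelian 2 U) (hU' : IsElementaryAbelian 2 U') :
    (𝐂[U']).relIndex U ≤ (𝐂[U]).relIndex U' := by
  have := h'.relIndex_le h1 (eaMod hU)
  rwa [idx_ker h h' h1 h2 d', fx_eq h' h h2 h1 d' hU' le_rfl, inf_relIndex_left] at this

theorem offender (d : Z ⊓ U' = ⊥) (d' : Z' ⊓ U = ⊥) (hU : IsElementaryAbelian 2 U)
    (hU' : IsElementaryAbelian 2 U') : (fx U' Z' U).relIndex U' ≤ (secCent U' Z').relIndex U := by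
  rw [idx_ker h h' h1 h2 d', fx_eq h' h h2 h1 d' hU' le_rfl, inf_relIndex_left]
  exact idx_le h' h h2 h1 d hU' hU

theorem typeI_idx (d : Z ⊓ U' = ⊥) (d' : Z' ⊓ U = ⊥) (hU : IsElementaryAbelian 2 U)
    (hU' : IsElementaryAbelian 2 U') :
    (secCent U' Z').relIndex U ≤ 2 ^ {K | Blk L' U' Z' K}.ncard := by
  obtain ⟨I, t, i1, -, i2, -⟩ := h'.offender h1 (eaMod hU) (offender h h' h1 h2 d d' hU hU')
  rw [i2, ← Set.ncard_coe_finset]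
  exact Nat.pow_le_pow_right (by norm_num)
    (Set.ncard_le_ncard (fun K hK => (i1 K hK).2.blk) (Set.toFinite _))

theorem typeI (d : Z ⊓ U' = ⊥) (d' : Z' ⊓ U = ⊥) (hU : IsElementaryAbelian 2 U)
    (hU' : IsElementaryAbelian 2 U') (hc : ¬ U ≤ secCent U' Z') :
    ∃ K a r, Blk L U Z K ∧ a ∈ bW U Z K ∧ r ∈ bW U Z K ∧ r ∉ Z ∧ r ∈ U' ∧
      ∃ K', Tv L' U' Z' K' a := by
  classical
  obtain ⟨I, t, i1, i2, i3, -⟩ := h.offender h2 (eaMod hU') (offender h' h h2 h1 d' d hU' hU)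
  obtain ⟨K, hK⟩ : I.Nonempty := by
    rw [Finset.nonempty_iff_ne_empty]
    rintro rfl
    have j1 := idx_le h h' h1 h2 d' hU hU'
    rw [← idx_ker h h' h1 h2 d', ← idx_ker h' h h2 h1 d, i3] at j1
    have j2 : (secCent U' Z').relIndex U ≠ 0 := FiniteIndex.index_ne_zero
    exact hc (relIndex_eq_one.1 (by simp at j1; omega))
  obtain ⟨ht, hT⟩ := i1 K hK
  obtain ⟨a, ha, ha'⟩ := SetLike.not_le_iff_exists.1 hT.act
  have haU := h.bW_le hT.blk.le ha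
  have hr : ⁅a, t K⁆ ∉ Z := fun e => ha' ((h.mem_fx_zpowers hT.mem).2 ⟨haU, e⟩)
  refine ⟨K, a, ⁅a, t K⁆, hT.blk, ha, (h.tv_facts hT).2.1 (mem_sup_left
    (commutator_mem_commutator haU (mem_zpowers _))), hr, (comm_mem_inf h h' h1 h2 haU ht).2,
    h'.exists_tv (h1 haU) ?_⟩
  rw [fx_eq h' h h2 h1 d' hU' (zpowers_le.2 haU), Amb.centralizer_zpowers]
  have hT' : ⨆ K ∈ I, zpowers (t K) ≤ U' := iSup₂_le fun K hK => zpowers_le.2 (i1 K hK).1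
  have key : ∀ u ∈ U', ⁅a, u⁆ ∈ Z → u ∈ U' ⊓ 𝐂₁[a] := fun u hu e =>
    ⟨hu, TA.mem_c₁_symm.1 (TA.mem_c₁_comm.2 (mem_bot.1 (d.le
      ⟨e, (comm_mem_inf h h' h1 h2 haU hu).2⟩)))⟩
  have j1 : U' = zpowers (t K) ⊔ (U' ⊓ 𝐂₁[a]) := by
    refine le_antisymm ?_ (sup_le (zpowers_le.2 ht) inf_le_left)
    have := sup_inf_of_le_normalizer hT' (hT'.trans (h2.trans h.norm_ker))
    rw [sup_comm (⨆ K ∈ I, zpowers (t K)), inf_of_le_right i2] at this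
    refine this.le.trans (sup_le (iSup₂_le fun K' hK' => zpowers_le.2 ?_) fun u hu =>
      mem_sup_right (key u hu.2 (comm_symm (hu.1.2 a haU))))
    by_cases e : K' = K
    · exact e ▸ mem_sup_left (mem_zpowers _)
    · exact mem_sup_right (key _ (i1 K' hK').1 ((h.mem_fx_zpowers (i1 K' hK').2.mem).1
        ((i1 K' hK').2.fix ((h.blk_ne (i1 K' hK').2.blk hT.blk e).1 ha))).2)
  have j2 := relIndex_sup_le_two (Z := U' ⊓ 𝐂₁[a]) (Z' := zpowers (t K))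
    ((zpowers_le.2 ht).trans (((isEA_le_centralizer hU').trans (centralizer_anti inf_le_left)).trans
      (centralizer_le_normalizer' _))) (card_zp_le (sq_eq_one_of_isEA hU' _ ht))
  rw [← j1] at j2
  have j3 : (U' ⊓ 𝐂₁[a]).relIndex U' ≠ 0 := FiniteIndex.index_ne_zero
  have j4 : (U' ⊓ 𝐂₁[a]).relIndex U' ≠ 1 := fun e => hr (by
    rw [TA.mem_c₁_comm.1 (TA.mem_c₁_symm.1 (relIndex_eq_one.1 e ht).2)]; exact one_mem _)
  omega

end typeI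

end A5

open AFF A5

variable {S M V H Y F : Subgroup G} {z m : G}

set_option quotPrecheck false

/-- `U = ⟨V^H⟩` -/
local notation "𝑼" => ncl V H
local notation "𝒁" => zpowers z
local notation "𝑼'" => cj(m, ncl V H)
local notation "𝑫" => ncl V H ⊓ cj(m, ncl V H)

theorem CA.a5_exists_v (h : CA S M V z H Y F) : ∃ v ∈ V, v ∉ 𝒁 :=
  SetLike.not_le_iff_exists.1 fun e => by
    have := h.aff_idxZ
    rw [relIndex_eq_one.2 e] at this; omega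

theorem CA.a5_ne_eight (h : CA S M V z H Y F) {K K' : Subgroup G} (hK : Blk H 𝑼 𝒁 K)
    (hK' : Blk H 𝑼 𝒁 K') (hne : K ≠ K') : Nat.card ↥(𝑼) ≠ 8 := fun e => by
  have h3 := card_mul_relIndex_of_le (le_bW 𝑼 𝒁 K)
  rw [hK.card, card_zpowers_two h.z_sq h.z_ne] at h3
  have h1 := eq_of_le_of_card_le (h.modU.bW_le hK.le) (by omega)
  have h2 : bW 𝑼 𝒁 K' ≤ 𝒁 := (h.modU.blk_compl hK).2.le.trans'
    (le_inf ((h.modU.bW_le hK'.le).trans h1.ge) (h.modU.blk_ne hK hK' hne).1)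
  have := hK'.card
  rw [relIndex_eq_one.2 h2] at this
  omega

theorem CA.a5_comp (h : CA S M V z H Y F) {K : Subgroup G} (hK : Blk H 𝑼 𝒁 K) :
    ∃ w ∈ bW 𝑼 𝒁 K, w ∉ 𝒁 ∧ ∀ t ∈ H ⊓ M, t ∈ 𝐍[K] → ⁅w, t⁆ ∈ 𝒁 := by
  obtain ⟨v, hv, hv'⟩ := h.a5_exists_v
  obtain ⟨w, hw⟩ := h.modU.exists_comp hK (CP.le_ncl V H hv)
  exact ⟨w, hw.1, h.aff_comp_notMem hK hv hv' hw, fun t ht hn => h.aff_comp_fix hK hv hw ht hn⟩

/-- blocks meet `D` trivially -/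
theorem CA.a5_ff3 (h : CA S M V z H Y F) (hm : m ∈ M) (hne : m * z * m⁻¹ ≠ z) {K K' : Subgroup G}
    {t : G} (ht : Tv H 𝑼 𝒁 K t) (htM : t ∈ M) (h8 : Nat.card ↥(𝑼) ≠ 8) (hK' : Blk H 𝑼 𝒁 K') :
    bW 𝑼 𝒁 K' ⊓ 𝑼' ≤ 𝒁 := by
  obtain ⟨g, hg, rfl⟩ := h.aff_trans ht.blk hK'
  have t1 := ht.cj g
  rw [cj_of_mem hg.1, cj_of_mem_normalizer (h.modU.normU hg.1),
    cj_of_mem_normalizer (h.H_norm_Z hg.1)] at t1
  have t2 : g * t * g⁻¹ ∈ M := mul_mem (mul_mem hg.2 htM) (inv_mem hg.2)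
  generalize g * t * g⁻¹ = t at t1 t2
  generalize cj(g, K) = K at t1 hK'
  obtain ⟨v, hv, hv'⟩ := h.a5_exists_v
  obtain ⟨w, hw⟩ := h.modU.exists_comp hK' (CP.le_ncl V H hv)
  obtain ⟨-, -, f1, f2, -⟩ := h.modU.tv_facts t1
  have hZD : 𝒁 ≤ 𝑫 := h.aff_Z_le.trans (h.V_le_D hm)
  have h1 : ∀ d ∈ bW 𝑼 𝒁 (zpowers t), d ∈ 𝑫 → d ∈ 𝒁 := fun d hd hd' => by
    by_contra hc
    have i2 := Amal.mul_mem_of_relIndex_two f1 (f2.le ⟨hw.1, (h.modU.mem_fx_zpowers t1.mem).2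
      ⟨h.modU.bW_le hK'.le hw.1, h.aff_comp_fix hK' hv hw ⟨t1.mem, t2⟩ t1.norm⟩⟩) hd
      (h.aff_comp_notMem hK' hv hv' hw) hc
    exact h.ff1 hm hne hK' h8 hv hv' hw ((mul_mem_cancel_right hd').1 (hZD i2))
  intro d hd
  have hdD : d ∈ 𝑫 := ⟨h.modU.bW_le hK'.le hd.1, hd.2⟩
  exact h1 d (f2.le ⟨hd.1, (h.modU.mem_fx_zpowers t1.mem).2 ⟨hdD.1, h1 _
    (mem_sup_left (commutator_mem_commutator hdD.1 (mem_zpowers _)))
    (le_normalizer_iff_commutator_le_left.1 (h.norm_D hm hne) (commutator_mem_commutator hdD t2))⟩⟩) hdD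

/-- the key lemma -/
theorem CA.a5_key (h : CA S M V z H Y F) {K K' : Subgroup G} {a x : G} (ha : Tv H 𝑼 𝒁 K a)
    (haM : a ∈ M) (hK' : Blk H 𝑼 𝒁 K') (hne : K' ≠ K) (hx : x ∈ K) (hx' : x ∉ Y) :
    ∃ y ∈ Y ⊓ 𝐂[V], ⁅a, y⁆ ∉ 𝐂[cj(x, V)] := by
  have hK := ha.blk
  obtain ⟨v, hv, hv'⟩ := h.a5_exists_v
  have hvU := CP.le_ncl V H hv
  obtain ⟨w, hw⟩ := h.modU.exists_comp hK hvU
  obtain ⟨-, -, f1, f2, -⟩ := h.modU.tv_facts ha
  have hwU := h.modU.bW_le hK.le hw.1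
  have hwZ := h.aff_comp_notMem hK hv hv' hw
  have hwa : w ∈ bW 𝑼 𝒁 (zpowers a) := f2.le ⟨hw.1, (h.modU.mem_fx_zpowers ha.mem).2
    ⟨hwU, h.aff_comp_fix hK hv hw ⟨ha.mem, haM⟩ ha.norm⟩⟩
  have hVU := CP.le_ncl V H
  obtain ⟨y, hy, hyc, hyz⟩ := h.dual.2 (V ⊔ fx 𝑼 𝒁 F) (h.cent_Y.trans le_sup_right)
    (sup_le hVU (fx_le _ _ _)) w hwU (fun e => by
      obtain ⟨u, hu, f, hf, e⟩ := (mem_sup_of_le_normalizer_right
        (h.aff_norm_of_le hVU (fx_le _ _ _))).1 e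
      by_cases huZ : u ∈ 𝒁
      · exact hwZ ((h.modU.blk_compl hK).2.le ⟨hw.1, e ▸ mul_mem (h.modU.le_fx hK.le huZ)
          (fx_anti _ _ (h.aff_le_F hK) hf)⟩)
      · refine h.aff_full hu huZ K' hK' ?_
        rw [eq_mul_inv_of_mul_eq e.symm]
        exact mul_mem ((h.modU.blk_ne hK' hK hne).1 hw.1) (inv_mem (fx_anti _ _ (h.aff_le_F hK') hf)))
  refine ⟨y, ⟨hy, centralizer_anti le_sup_left hyc⟩, fun e => ?_⟩
  have hxH := hK.le hx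
  have hu : x * v * x⁻¹ ∈ 𝑼 := conj_mem_of_mem_normalizer (h.modU.normU hxH) hvU
  have e1 := e _ (conj_mem_cj x hv)
  set u := x * v * x⁻¹ with hud
  have h1 : ⁅u, a⁻¹⁆ ∉ 𝒁 := fun e => by
    have i1 : u ∈ fx 𝑼 𝒁 (zpowers a) := by
      rw [← zpowers_inv (g := a)]; exact (h.modU.mem_fx_zpowers (inv_mem ha.mem)).2 ⟨hu, e⟩
    have i2 : v ∈ fx 𝑼 𝒁 (zpowers a) :=
      (h.modU.mem_fx_zpowers ha.mem).2 ⟨hvU, comm_symm (h.comm_V ⟨ha.mem, haM⟩ hv)⟩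
    have i3 : ⁅x, v⁆ ∈ bW 𝑼 𝒁 (zpowers a) := f2.le ⟨comm_symm (mem_sup_left
      (commutator_mem_commutator hvU hx)), (fx 𝑼 𝒁 (zpowers a)).mul_mem i1 (inv_mem i2)⟩
    have i4 : ⁅x, v⁆ ∉ 𝒁 := fun e => hx' (h.aff_mem_Y hv hv' (h.aff_le_F hK hx) (comm_symm e))
    have i5 := Amal.mul_mem_of_relIndex_two f1 i3 hwa i4 hwZ
    have i6 : ⁅x, v * w⁻¹⁆ ∈ 𝒁 := comm_symm ((h.modU.mem_fx.1 hw.2).2 x hx)
    have i7 : x * w * x⁻¹ ∈ 𝒁 := by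
      have := mul_mem (inv_mem i6) i5
      rw [show ⁅x, v * w⁻¹⁆⁻¹ * (⁅x, v⁆ * w) = v * (w⁻¹ * (x * w * x⁻¹)) * v⁻¹ * w by group,
        isEA_comm h.U_ea hvU (mul_mem (inv_mem hwU)
          (conj_mem_of_mem_normalizer (h.modU.normU hxH) hwU)), mul_inv_cancel_right,
        isEA_comm h.U_ea (inv_mem hwU) (conj_mem_of_mem_normalizer (h.modU.normU hxH) hwU),
        inv_mul_cancel_right] at this
      exact this
    have := inv_conj_mem_of_mem_normalizer (h.H_norm_Z hxH) i7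
    rw [show x⁻¹ * (x * w * x⁻¹) * x = w by group] at this
    exact hwZ this
  have h2 : ⁅u, a⁻¹⁆ ∈ bW 𝑼 𝒁 (zpowers a) :=
    mem_sup_left (commutator_mem_commutator hu (inv_mem (mem_zpowers a)))
  have h3 := Amal.mul_mem_of_relIndex_two f1 h2 hwa h1 hwZ
  have h4 := hyc _ (mem_sup_left (h.aff_Z_le h3))
  have h5 : ⁅u, a⁻¹⁆ * y = y * ⁅u, a⁻¹⁆ := by
    have hu' : a⁻¹ * u * a ∈ 𝑼 := inv_conj_mem_of_mem_normalizer (h.modU.normU ha.mem) hu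
    have j1 : ⁅y⁻¹, u⁆ ∈ 𝒁 := h.comm_U (inv_mem hy) hu
    have j2 : ∀ g ∈ H, g * ⁅y⁻¹, u⁆ * g⁻¹ = ⁅y⁻¹, u⁆ := fun g hg => by
      rcases (TA.mem_zp_two h.z_sq).1 j1 with e | e <;> rw [e]
      · group
      · exact h.fix_z hg
    have j3 : y⁻¹ * (a⁻¹ * u * a) * y = ⁅y⁻¹, u⁆ * (a⁻¹ * u * a) := by
      calc y⁻¹ * (a⁻¹ * u * a) * y = y⁻¹ * a⁻¹ * (u * ⁅a, y⁆) * y * a := by group
        _ = a⁻¹ * ⁅y⁻¹, u⁆ * a⁻¹⁻¹ * (a⁻¹ * u * a) := by rw [e1]; group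
        _ = _ := by rw [j2 _ (inv_mem ha.mem)]
    have j4 := j2 _ (inv_mem (h.Y_le_H (h.U_le_Y (mul_mem hu (inv_mem hu')))))
    calc ⁅u, a⁻¹⁆ * y = y * (⁅y⁻¹, u⁆ * u) * (y⁻¹ * (a⁻¹ * u * a) * y)⁻¹ := by group
      _ = y * (u * (a⁻¹ * u * a)⁻¹) * ((u * (a⁻¹ * u * a)⁻¹)⁻¹ * ⁅y⁻¹, u⁆ *
          (u * (a⁻¹ * u * a)⁻¹)⁻¹⁻¹) * ⁅y⁻¹, u⁆⁻¹ := by rw [j3]; group
      _ = y * ⁅u, a⁻¹⁆ := by rw [j4]; group
  refine h.z_ne (hyz.symm.trans (commutatorElement_eq_one_iff_mul_comm.2 ?_))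
  rw [mul_assoc, ← mul_assoc y, ← h5, mul_assoc] at h4
  exact mul_left_cancel h4

theorem CA.a5_core (h : CA S M V z H Y F) {w : G} (hw : w ∈ H) (hc : ∀ g ∈ H, w ∈ cj(g, M)) :
    w ∈ Y := by
  refine h.Y_max (ncl (zpowers w) H) (CP.ncl_le_iff.2 fun g hg => le_inf
    (cj_le_of_mem (zpowers_le.2 hw) hg) (cj_le_iff.2 (zpowers_le.2 (hc _ (inv_mem hg)))))
    (CP.le_normalizer_ncl _ _) (CP.le_ncl _ _ (mem_zpowers w))

/-- an element outside a proper subgroup can be chosen in a block or in the fixed space -/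
theorem CA.a5_choose (h : CA S M V z H Y F) {K A : Subgroup G} (hK : Blk H 𝑼 𝒁 K) (hZ : 𝒁 ≤ A)
    (hA : ¬ 𝑼 ≤ A) : ∃ a ∈ 𝑼, a ∉ A ∧ (a ∈ fx 𝑼 𝒁 H ∨ ∃ K', Blk H 𝑼 𝒁 K' ∧ a ∈ bW 𝑼 𝒁 K') := by
  by_contra hc
  push Not at hc
  refine hA ?_
  obtain ⟨e1, e2, -⟩ := h.modU.bWs_all
  rw [← e2, ← e1, ← h.aff_F_eq hK]
  refine sup_le (sup_le hZ (iSup₂_le fun K' hK' a ha => ?_)) fun a ha => ?_
  · by_contra n
    exact (hc a (h.modU.bW_le hK'.le ha) n).2 K' hK' ha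
  · by_contra n
    exact (hc a ha.1 n).1 (h.aff_fx_le ha)

end Cfsg.Agent.NG
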