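import Mathlib
import Cfsg.Agent.NG.A5_a

set_option autoImplicit false

namespace Cfsg.Agent.NG

open Subgroup Cfsg.Agent.PLocal Cfsg.Agent.PLocal.Amb Cfsg.Agent.PLocal.JC
open Cfsg.Agent.PLocal.CP (IsCharP ncl secCent mem_secCent le_secCent_iff le_secCent_iff'
  le_normalizer_secCent)
open scoped Cfsg.Agent.PLocal.CP commutatorElement
open AFF A5

variable {G : Type*} [Group G] [Finite G]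

theorem A5.mul_mem_of_le_two {D X : Subgroup G} (h : D.relIndex X ≤ 2) {x y : G} (hx : x ∈ X)
    (hy : y ∈ X) (hx' : x ∉ D) (hy' : y ∉ D) : x * y ∈ D := by
  have h0 : D.relIndex X ≠ 0 := FiniteIndex.index_ne_zero
  have h1 : D.relIndex X ≠ 1 := fun e => hx' (relIndex_eq_one.1 e hx)
  exact Amal.mul_mem_of_relIndex_two (by omega) hx hy hx' hy'

theorem A5.idx_two {X Z P D : Subgroup G} {a : G} (hP : P ≤ 𝐍[Z]) (h2 : Z.relIndex X ≤ 2)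
    (hX : ∀ u ∈ P, ⁅u, a⁆ ∈ X) (hD : ∀ u ∈ P, ⁅u, a⁆ ∈ Z → u ∈ D) : D.relIndex P ≤ 2 := by
  refine relIndex_le_two_of' fun u hu v hv hu' hv' => hD _ (mul_mem hu hv) ?_
  have e : ⁅u * v, a⁆ = u * ⁅v, a⁆ * u⁻¹ * ⁅u, a⁆ := by group
  rw [e]
  refine mul_mem_of_le_two h2 ((mul_mem_cancel_right (hX u hu)).1 (e ▸ hX _ (mul_mem hu hv)))
    (hX u hu) (fun e1 => hv' (hD v hv ?_)) fun e1 => hu' (hD u hu e1)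
  have := inv_conj_mem_of_mem_normalizer (hP hu) e1
  rwa [show u⁻¹ * (u * ⁅v, a⁆ * u⁻¹) * u = ⁅v, a⁆ by group] at this

/-- an element that fixes a nonzero vector of a block moves the block only by that vector -/
theorem A5.blk_comm_mem {L U Z K : Subgroup G} (h : Mod L U Z) (hK : Blk L U Z K) {w a u : G}
    (hw : w ∈ bW U Z K) (hw' : w ∉ Z) (ha : a ∈ bW U Z K) (hu : u ∈ L) (hc : ⁅w, u⁆ ∈ Z) :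
    ⁅u, a⁆ ∈ zpowers w ⊔ Z := by
  have hle : zpowers w ⊔ Z ≤ bW U Z K := sup_le (zpowers_le.2 hw) (le_bW _ _ _)
  have e : u * w * u⁻¹ = ⁅w, u⁆⁻¹ * w := by group
  have h1 : u * w * u⁻¹ ∈ zpowers w ⊔ Z :=
    e ▸ mul_mem (mem_sup_right (inv_mem hc)) (mem_sup_left (mem_zpowers w))
  refine comm_symm (comm_mem_of_le_two ?_ (h.mem_normalizer_blk hK hu hw hw' (hle h1)).2
    (mem_normalizer_of_cj_le ?_) ha)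
  · have h2 := relIndex_mul_relIndex Z _ _ le_sup_right hle
    rw [hK.card] at h2
    have h3 : Z.relIndex (zpowers w ⊔ Z) ≠ 1 := fun e =>
      hw' (relIndex_eq_one.1 e (mem_sup_left (mem_zpowers w)))
    by_contra h4
    have h0 : Z.relIndex (zpowers w ⊔ Z) ≠ 0 := FiniteIndex.index_ne_zero
    nlinarith [Nat.mul_le_mul (show 2 ≤ Z.relIndex (zpowers w ⊔ Z) by omega)
      (show 3 ≤ (zpowers w ⊔ Z).relIndex (bW U Z K) by omega)]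
  · rw [cj_sup, cj_of_mem_normalizer (h.normU₀ hu), TA.cj_zp]
    exact sup_le (zpowers_le.2 h1) le_sup_right

variable {S M V H Y F : Subgroup G} {z : G}

set_option quotPrecheck false

local notation "𝑼" => ncl V H
local notation "𝒁" => zpowers z
local notation "H⟦" β "⟧" => tr H β
local notation "U⟦" β "⟧" => tr (ncl V H) β
local notation "Z⟦" β "⟧" => tr (zpowers z) β
local notation "Y⟦" β "⟧" => tr Y β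
local notation "F⟦" β "⟧" => tr F β
local notation "M⟦" l "⟧" => tr M l
local notation "V⟦" l "⟧" => tr V l

variable (h : CA S M V z H Y F) {β γ δ : G ⧸ H} {l : G ⧸ M}

include h

theorem CA.a5_at (hi : Inc M H β l) : ∃ (S' : Subgroup G) (ζ : G),
    CA S' M⟦l⟧ V⟦l⟧ ζ H⟦β⟧ Y⟦β⟧ F⟦β⟧ ∧ ncl V⟦l⟧ H⟦β⟧ = U⟦β⟧ ∧ zpowers ζ = Z⟦β⟧ := by
  obtain ⟨g, rfl, rfl, e1, e2, -, e3, e4, e5, -, -, e6⟩ := h.toGeo.flag hi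
  refine ⟨cj(g, S), g * z * g⁻¹, ?_, e6.symm, (h.tr_D g).symm⟩
  rw [e1, e2, e3, e4, e5]
  exact h.cj g

theorem CA.a5_smul (g : G) (β : G ⧸ H) : H⟦g • β⟧ = cj(g, H⟦β⟧) ∧ U⟦g • β⟧ = cj(g, U⟦β⟧) ∧
    Z⟦g • β⟧ = cj(g, Z⟦β⟧) ∧ Y⟦g • β⟧ = cj(g, Y⟦β⟧) :=
  ⟨tr_smul le_normalizer _ _, tr_smul (CP.le_normalizer_ncl _ _) _ _, tr_smul h.H_norm_Z _ _,
    tr_smul h.Y_norm _ _⟩

theorem CA.a5_smulL (g : G) (l : G ⧸ M) : M⟦g • l⟧ = cj(g, M⟦l⟧) ∧ V⟦g • l⟧ = cj(g, V⟦l⟧) :=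
  ⟨tr_smul le_normalizer _ _, tr_smul h.NV.ge _ _⟩

theorem CA.a5_mk (g : G) : H⟦(g : G ⧸ H)⟧ = cj(g, H) ∧ U⟦(g : G ⧸ H)⟧ = cj(g, 𝑼) ∧
    Z⟦(g : G ⧸ H)⟧ = cj(g, 𝒁) ∧ M⟦(g : G ⧸ M)⟧ = cj(g, M) :=
  ⟨tr_mk le_normalizer _, tr_mk (CP.le_normalizer_ncl _ _) _, tr_mk h.H_norm_Z _,
    tr_mk le_normalizer _⟩

theorem CA.a5_pt (β : G ⧸ H) : Mod H⟦β⟧ U⟦β⟧ Z⟦β⟧ ∧ H⟦β⟧ ⊓ secCent U⟦β⟧ Z⟦β⟧ = Y⟦β⟧ ∧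
    IsElementaryAbelian 2 U⟦β⟧ ∧ H⟦β⟧ ≤ 𝐂[Z⟦β⟧] ∧ U⟦β⟧ ≤ Y⟦β⟧ ∧ H⟦β⟧ ≤ 𝐍[Y⟦β⟧] ∧
    ∃ ζ : G, ζ * ζ = 1 ∧ ζ ≠ 1 ∧ zpowers ζ = Z⟦β⟧ := by
  obtain ⟨l, hl⟩ := exists_inc_line M β
  obtain ⟨S', ζ, c, eU, eZ⟩ := h.a5_at hl
  rw [← eU, ← eZ]
  exact ⟨c.modU, c.ker_eq, c.U_ea, c.H_le, c.U_le_Y, c.Y_norm, ζ, c.z_sq, c.z_ne, rfl⟩

theorem CA.a5_mod (β : G ⧸ H) : Mod H⟦β⟧ U⟦β⟧ Z⟦β⟧ := (h.a5_pt β).1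

theorem CA.a5_ea (β : G ⧸ H) : IsElementaryAbelian 2 U⟦β⟧ := (h.a5_pt β).2.2.1

theorem CA.a5_HC (β : G ⧸ H) : H⟦β⟧ ≤ 𝐂[Z⟦β⟧] := (h.a5_pt β).2.2.2.1

theorem CA.a5_mem_Y {u : G} (hu : u ∈ H⟦β⟧) : u ∈ Y⟦β⟧ ↔ u ∈ secCent U⟦β⟧ Z⟦β⟧ := by
  rw [← (h.a5_pt β).2.1, mem_inf, and_iff_right hu]

theorem CA.a5_YH (β : G ⧸ H) : Y⟦β⟧ ≤ H⟦β⟧ := tr_mono h.Y_le_H β

theorem CA.a5_cardZ (β : G ⧸ H) : Nat.card Z⟦β⟧ ≤ 2 := by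
  obtain ⟨ζ, h1, -, e⟩ := (h.a5_pt β).2.2.2.2.2.2
  rw [← e]; exact card_zp_le h1

theorem CA.a5_Z_or (β : G ⧸ H) (X : Subgroup G) : Z⟦β⟧ ≤ X ∨ Z⟦β⟧ ⊓ X = ⊥ := by
  obtain ⟨ζ, h1, -, e⟩ := (h.a5_pt β).2.2.2.2.2.2
  rw [← e]
  refine or_iff_not_imp_left.2 fun n => eq_bot_iff.2 fun x hx => ?_
  rcases (TA.mem_zp_two h1).1 hx.1 with rfl | rfl
  · exact one_mem _
  · exact (n (zpowers_le.2 hx.2)).elim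

theorem CA.a5_CV (hi : Inc M H β l) : 𝐂[V⟦l⟧] ≤ H⟦β⟧ ⊓ M⟦l⟧ := by
  obtain ⟨S', ζ, c, -, -⟩ := h.a5_at hi
  exact le_inf c.CV_le_H c.CV_le_M

theorem CA.a5_le_CV (h1 : Inc M H β l) (h2 : Inc M H γ l) (hne : β ≠ γ) {A : Subgroup G}
    (e1 : A ≤ 𝐂[Z⟦β⟧]) (e2 : A ≤ 𝐂[Z⟦γ⟧]) : A ≤ 𝐂[V⟦l⟧] := by
  rw [(h.V_eq_sup h1 h2 hne).1, Amb.centralizer_sup]
  exact le_inf e1 e2

theorem CA.a5_ncard (β : G ⧸ H) :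
    {K | Blk H⟦β⟧ U⟦β⟧ Z⟦β⟧ K}.ncard = {K | Blk H 𝑼 𝒁 K}.ncard := by
  induction β using QuotientGroup.induction_on with | H g => ?_
  obtain ⟨e1, e2, e3, -⟩ := h.a5_mk g
  rw [e1, e2, e3, ncard_blk_cj]

omit h [Finite G] in
theorem CA.a5_cardU (β : G ⧸ H) : Nat.card U⟦β⟧ = Nat.card ↥(𝑼) := card_cj _ _

theorem CA.a5_tv_up {K : Subgroup G} {t : G} (ht : Tv H 𝑼 𝒁 K t) (htM : t ∈ M)
    (hi : Inc M H β l) : ∃ K t, Tv H⟦β⟧ U⟦β⟧ Z⟦β⟧ K t ∧ t ∈ M⟦l⟧ := by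
  obtain ⟨g, rfl, rfl⟩ := hi
  obtain ⟨e1, e2, e3, e4⟩ := h.a5_mk g
  rw [e1, e2, e3, e4]
  exact ⟨_, _, ht.cj g, conj_mem_cj g htM⟩

theorem CA.a5_tv_down {K : Subgroup G} {t : G} (ht : Tv H⟦β⟧ U⟦β⟧ Z⟦β⟧ K t) (htM : t ∈ M⟦l⟧)
    (hi : Inc M H β l) : ∃ K t, Tv H 𝑼 𝒁 K t ∧ t ∈ M := by
  obtain ⟨g, rfl, rfl⟩ := hi
  obtain ⟨e1, e2, e3, e4⟩ := h.a5_mk g
  rw [e1, e2, e3] at ht
  rw [e4, mem_cj] at htM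
  have := ht.cj g⁻¹
  rw [cj_inv_cj, cj_inv_cj, cj_inv_cj, inv_inv] at this
  exact ⟨_, _, this, htM⟩

theorem CA.a5_other {K K' : Subgroup G} (hK : Blk H 𝑼 𝒁 K) (hK' : Blk H 𝑼 𝒁 K') (hne : K ≠ K')
    (β : G ⧸ H) (X : Subgroup G) : ∃ K, Blk H⟦β⟧ U⟦β⟧ Z⟦β⟧ K ∧ K ≠ X := by
  induction β using QuotientGroup.induction_on with | H g => ?_
  obtain ⟨e1, e2, e3, -⟩ := h.a5_mk g
  rw [e1, e2, e3]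
  by_cases e : cj(g, K) = X
  · exact ⟨_, hK'.cj g, fun e' => hne (cj_inj.1 (e.trans e'.symm))⟩
  · exact ⟨_, hK.cj g, e⟩

theorem CA.a5_at2 (h1 : Inc M H β l) (h2 : Inc M H γ l) (hne : β ≠ γ) :
    ∃ (S' : Subgroup G) (ζ m : G), CA S' M⟦l⟧ V⟦l⟧ ζ H⟦β⟧ Y⟦β⟧ F⟦β⟧ ∧ m ∈ M⟦l⟧ ∧
      m * ζ * m⁻¹ ≠ ζ ∧ ncl V⟦l⟧ H⟦β⟧ = U⟦β⟧ ∧ zpowers ζ = Z⟦β⟧ ∧ cj(m, U⟦β⟧) = U⟦γ⟧ := by
  obtain ⟨S', ζ, c, eU, eZ⟩ := h.a5_at h1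
  obtain ⟨m, hm, rfl⟩ := h1.exists_point h2
  refine ⟨S', ζ, m, c, hm, fun e => c.z_ne ?_, eU, eZ, (h.a5_smul m β).2.1.symm⟩
  have := (h.V_eq_sup h1 h2 hne).2
  rw [(h.a5_smul m β).2.2.1, ← eZ, TA.cj_zp, e, inf_idem, zpowers_eq_bot] at this
  exact this

theorem CA.a5_ff3' {K : Subgroup G} {t : G} (ht : Tv H 𝑼 𝒁 K t) (htM : t ∈ M)
    (h8 : Nat.card ↥(𝑼) ≠ 8) (h1 : Inc M H β l) (h2 : Inc M H γ l) (hne : β ≠ γ) :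
    2 ^ ({K | Blk H 𝑼 𝒁 K}.ncard + 1) ≤ U⟦γ⟧.relIndex U⟦β⟧ ∧
    ∀ K', Blk H⟦β⟧ U⟦β⟧ Z⟦β⟧ K' → bW U⟦β⟧ Z⟦β⟧ K' ⊓ U⟦γ⟧ ≤ Z⟦β⟧ := by
  obtain ⟨K, t, ht, htM⟩ := h.a5_tv_up ht htM h1
  obtain ⟨S', ζ, m, c, hm, hn, eU, eZ, e⟩ := h.a5_at2 h1 h2 hne
  rw [← CA.a5_cardU β] at h8
  rw [← h.a5_ncard β, ← e, ← inf_relIndex_left]
  rw [← eU, ← eZ] at ht ⊢
  rw [← eU] at h8
  exact ⟨c.ff_index hm hn ht htM h8, fun K' hK' => c.a5_ff3 hm hn ht htM h8 hK'⟩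

theorem CA.a5_core' {w : G} (hw : w ∈ H⟦β⟧) (hc : ∀ l, Inc M H β l → w ∈ M⟦l⟧) : w ∈ Y⟦β⟧ := by
  obtain ⟨l, hl⟩ := exists_inc_line M β
  obtain ⟨S', ζ, c, -, -⟩ := h.a5_at hl
  refine c.a5_core hw fun g hg => ?_
  rw [← (h.a5_smulL g l).1]
  exact hc _ (mem_tr_self.1 hg ▸ hl.smul g)

/-- the normalizer of the join of the `U_ε` along a line -/
theorem CA.a5_W (hc : CC M V H 1) (hi : Inc M H β l) :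
    𝐍[(⨆ ε : {ε : G ⧸ H // Inc M H ε l}, U⟦ε.1⟧ : Subgroup G)] = M⟦l⟧ := by
  obtain ⟨S', ζ, c, eU, -⟩ := h.a5_at hi
  refine c.toTwo.normalizer_eq (isEA_isPGroup (isEA_iSup (fun ε => h.a5_ea ε.1) fun ε ε' =>
    hc _ _ (PP.of_inc ε.2 ε'.2))) (fun e => c.toTwo.V_ne (le_bot_iff.1 (le_trans ?_ e.le)))
    fun m hm => mem_normalizer_of_cj_le ?_
  · exact ((CP.le_ncl _ _).trans eU.le).trans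
      (le_iSup (fun ε : {ε : G ⧸ H // Inc M H ε l} => U⟦ε.1⟧) ⟨β, hi⟩)
  · rw [cj_iSup]
    refine iSup_le fun ε => ?_
    rw [← (h.a5_smul m ε.1).2.1]
    exact le_iSup (fun ε : {ε : G ⧸ H // Inc M H ε l} => U⟦ε.1⟧)
      ⟨m • ε.1, by have := ε.2.smul m; rwa [mem_tr_self.1 hm] at this⟩

theorem CA.a5_star (h1 : Inc M H β l) (h2 : Inc M H γ l) (hne : β ≠ γ) {y u : G}
    (hy : y ∈ Y⟦β⟧) (hy' : y ∉ 𝐂[V⟦l⟧]) (hu : u ∈ U⟦γ⟧) (hc : ⁅y, u⁆ ∈ Z⟦β⟧) : u ∈ U⟦β⟧ := by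
  obtain ⟨-, -, i1, -, i2⟩ := h.third h1 h2 hne hy hy'
  refine (i2.le ⟨hu, ?_⟩).1
  have h3 : y * u * y⁻¹ ∈ U⟦y • γ⟧ := by rw [(h.a5_smul y γ).2.1]; exact conj_mem_cj y hu
  rw [TA.conj_eq_comm_mul] at h3
  exact (mul_mem_cancel_left ((h.toGeo.V_le_U i1).2.1 ((h.toGeo.V_le_U h1).1 hc))).1 h3

/-- the key configuration -/
theorem CA.a5_key' {o : G ⧸ H} (h1 : Inc M H o l) (h2 : Inc M H δ l) (hne : δ ≠ o)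
    {K K' : Subgroup G} {a : G} (ha : Tv H⟦o⟧ U⟦o⟧ Z⟦o⟧ K a) (hc : a ∈ 𝐂[U⟦δ⟧])
    (hK' : Blk H⟦o⟧ U⟦o⟧ Z⟦o⟧ K') (hK : K' ≠ K) :
    ∃ γ μ, Inc M H o μ ∧ Inc M H γ μ ∧ o ≠ γ ∧ (∀ u ∈ U⟦γ⟧, ⁅u, a⁆ ∈ U⟦o⟧ → u ∈ U⟦o⟧) ∧
      U⟦γ⟧ ⊓ U⟦δ⟧ ≤ U⟦o⟧ := by
  obtain ⟨S', ζ, c, eU, eZ⟩ := h.a5_at h1
  have haM : a ∈ M⟦l⟧ := (h.a5_CV h1 (centralizer_anti (h.toGeo.V_le_U h2).2.1 hc)).2
  have key : ∀ x ∈ K, x ∉ Y⟦o⟧ → ∃ y ∈ Y⟦o⟧, y ∈ 𝐂[U⟦δ⟧] ∧ y ∉ 𝐂[V⟦x • l⟧] := fun x hx hx' => by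
    rw [← eU, ← eZ] at ha hK'
    obtain ⟨y, hy, hy'⟩ := c.a5_key ha haM hK' hK hx hx'
    refine ⟨⁅a, y⁆, mul_mem (conj_mem_of_mem_normalizer (c.Y_norm ha.mem) hy.1) (inv_mem hy.1), ?_,
      by rwa [(h.a5_smulL x l).2]⟩
    rw [show ⁅a, y⁆ = a * (y * a⁻¹ * y⁻¹) by group]
    exact mul_mem hc (conj_mem_of_mem_normalizer (normalizer_le_normalizer_centralizer _
      ((h.a5_mod δ).normU (h.a5_CV h2 hy.2).1)) (inv_mem hc))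
  obtain ⟨x, hx, -, hx1, hx3, -⟩ := (h.a5_mod o).blk_gen ha.blk
  have hxH := ha.blk.le hx
  have hxo := mem_tr_self.1 hxH
  have hao := mem_tr_self.1 ha.mem
  have hYn := (h.a5_pt o).2.2.2.2.2.1
  have hμ : Inc M H o (x • l) := hxo ▸ h1.smul x
  have hγ : Inc M H ((a⁻¹ * x⁻¹) • δ) (x • l) := by
    have i1 : a * x * a⁻¹ * x ∈ Y⟦o⟧ := (h.a5_mem_Y (mul_mem (mul_mem (mul_mem ha.mem hxH)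
      (inv_mem ha.mem)) hxH)).2 (ha.inv x hx)
    have i2 := (h.toGeo.V_le_U h1).2.2.1 (conj_mem_of_mem_normalizer (hYn hxH) i1)
    have i3 := mem_tr_self.1 (mul_mem i2 haM)
    have i4 := h2.smul (a⁻¹ * x⁻¹)
    rwa [← i3, ← mul_smul, show a⁻¹ * x⁻¹ * (x * (a * x * a⁻¹ * x) * x⁻¹ * a) = x by group] at i4
  have hn : o ≠ (a⁻¹ * x⁻¹) • δ := fun e => hne (by
    rw [eq_comm, smul_eq_iff_eq_inv_smul] at e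
    rw [e]
    exact mem_tr_self.1 (inv_mem (mul_mem (inv_mem ha.mem) (inv_mem hxH))))
  refine ⟨_, _, hμ, hγ, hn, fun u hu hu' => ?_, fun u hu => ?_⟩
  · obtain ⟨y, hy, hy1, hy2⟩ := key (x * x) (mul_mem hx hx) fun e => hx1 (by
      have := mul_mem hx3 (inv_mem ((h.a5_mem_Y (mul_mem hxH hxH)).1 e))
      rwa [show x ^ 3 * (x * x)⁻¹ = x by group] at this)
    have i1 : x⁻¹ * y * x ∈ Y⟦o⟧ := inv_conj_mem_of_mem_normalizer (hYn hxH) hy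
    refine h.a5_star hμ hγ hn i1 (fun e => hy2 ?_) hu ?_
    · rwa [mul_smul, (h.a5_smulL x _).2, centralizer_cj, mem_cj]
    · have i2 : x * (a * u * a⁻¹) * x⁻¹ ∈ U⟦δ⟧ := by
        rw [(h.a5_smul _ δ).2.1, mem_cj] at hu
        simpa [mul_assoc] using hu
      have i3 := hy1 _ i2
      have i4 : ⁅x⁻¹ * y * x, u⁆ = ⁅x⁻¹ * y * x, u * (a * u⁻¹ * a⁻¹)⁆ := by
        calc ⁅x⁻¹ * y * x, u⁆ = x⁻¹ * y * x * u * (a * u⁻¹ * a⁻¹) * x⁻¹ *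
              (x * (a * u * a⁻¹) * x⁻¹ * y⁻¹) * x * u⁻¹ := by group
          _ = x⁻¹ * y * x * u * (a * u⁻¹ * a⁻¹) * x⁻¹ *
              (y⁻¹ * (x * (a * u * a⁻¹) * x⁻¹)) * x * u⁻¹ := by
            rw [mul_inv_eq_iff_eq_mul.2 (show x * (a * u * a⁻¹) * x⁻¹ =
              y⁻¹ * (x * (a * u * a⁻¹) * x⁻¹) * y by rw [mul_assoc y⁻¹, i3]; group)]
          _ = _ := by group
      rw [i4]
      refine ((h.a5_mem_Y (h.a5_YH o i1)).1 i1).2 _ ?_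
      rwa [show u * (a * u⁻¹ * a⁻¹) = ⁅u, a⁆ by group]
  · obtain ⟨y, hy, hy1, hy2⟩ := key x hx fun e => hx1 ((h.a5_mem_Y hxH).1 e)
    refine h.a5_star hμ hγ hn hy hy2 hu.1 ?_
    rw [commutatorElement_eq_one_iff_mul_comm.2 (hy1 u hu.2).symm]
    exact one_mem _

end Cfsg.Agent.NG
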