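import Mathlib
import Cfsg.Agent.NG.A5_b

set_option autoImplicit false

namespace Cfsg.Agent.NG

open Subgroup Cfsg.Agent.PLocal Cfsg.Agent.PLocal.Amb Cfsg.Agent.PLocal.JC
open Cfsg.Agent.PLocal.CP (IsCharP ncl secCent mem_secCent le_secCent_iff le_secCent_iff'
  le_normalizer_secCent)
open scoped Cfsg.Agent.PLocal.CP commutatorElement
open AFF A5

variable {G : Type*} [Group G] [Finite G]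

variable {S M V H Y F : Subgroup G} {z m : G}

set_option quotPrecheck false

/-- `U = ⟨V^H⟩` -/
local notation "𝑼" => ncl V H
local notation "𝒁" => zpowers z
local notation "H⟦" β "⟧" => tr H β
local notation "U⟦" β "⟧" => tr (ncl V H) β
local notation "Z⟦" β "⟧" => tr (zpowers z) β
local notation "Y⟦" β "⟧" => tr Y β
local notation "F⟦" β "⟧" => tr F β
local notation "M⟦" l "⟧" => tr M l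
local notation "V⟦" l "⟧" => tr V l

section aux

variable (h : CA S M V z H Y F) {k : ℕ} (hlt : ∀ j < k + 2, YY M V H Y j ∧ CC M V H j)
  {β γ : G ⧸ H} (hp : PP M H (k + 2) β γ)

include h hlt hp

theorem CA.a5_UH : U⟦β⟧ ≤ H⟦γ⟧ := h.toGeo.U_le_H (hlt (k + 1) (by omega)).2 hp

theorem CA.a5_not_le (hc : ¬ U⟦β⟧ ≤ Y⟦γ⟧) : ¬ U⟦β⟧ ≤ secCent U⟦γ⟧ Z⟦γ⟧ := fun e =>
  hc fun _ hu => (h.a5_mem_Y (h.a5_UH hlt hp hu)).2 (e hu)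

theorem CA.a5_i (hc : ¬ U⟦β⟧ ≤ Y⟦γ⟧) (hZ : Z⟦γ⟧ ≤ U⟦β⟧) : ⁅U⟦γ⟧, U⟦β⟧⁆ ≤ Z⟦β⟧ ⊔ Z⟦γ⟧ := by
  have c1 := (hlt 1 (by omega)).2
  have hγβ := h.a5_UH hlt hp.symm
  obtain ⟨δ, l, p1, p2, p3⟩ := hp
  have hne : δ ≠ γ := fun e => hc ((hlt (k + 1) (by omega)).1 _ _ (e ▸ p1))
  have h1 : ∀ ε, PP M H 1 β ε → U⟦ε⟧ ≤ H⟦γ⟧ ⊓ M⟦l⟧ := fun ε hε =>
    (h.a5_le_CV p2 p3 hne ((h.a5_UH hlt (by
      have := hε.symm.trans p1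
      rwa [show 1 + (k + 1) = k + 2 by omega] at this)).trans (h.a5_HC δ))
      ((c1 _ _ hε.symm).trans (centralizer_anti hZ))).trans (h.a5_CV p3)
  have mγ := h.a5_mod γ
  have mβ := h.a5_mod β
  refine commutator_le.2 fun u hu a ha => ?_
  have haH := h1 β (PP.refl 1 β) ha
  obtain ⟨S', ζ, c, eU, eZ⟩ := h.a5_at p3
  obtain ⟨q1, q2, -⟩ := c.q1 haH (by rw [← pow_two, (h.a5_ea β).2 a ha]; exact one_mem _)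
  rw [eU, eZ] at q1 q2
  set E := ⁅F⟦γ⟧, zpowers a⁆ ⊔ Y⟦γ⟧ with hE
  have hEH : E ≤ H⟦γ⟧ := sup_le ((commutator_mono c.F_le (zpowers_le.2 haH.1)).trans
    (le_normalizer_iff_commutator_le_left.1 le_normalizer)) c.Y_le_H
  have hW := mγ.bW_le hEH
  have key : ∀ w ∈ bW U⟦γ⟧ Z⟦γ⟧ E, w ∈ Y⟦β⟧ := fun w hw => by
    have hwH := hγβ (hW hw)
    refine h.a5_core' hwH fun l' hl' => ?_
    rw [← h.a5_W c1 hl']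
    refine mem_normalizer_of_cj_le ?_
    rw [cj_iSup]
    refine iSup_le fun ε => cj_le_iff_forall.2 fun y hy => ?_
    have hε := PP.of_inc hl' ε.2
    have hy1 := c1 _ _ hε.symm hy
    have hyH := (h1 _ hε hy).1
    have hy2 : w * y * w⁻¹ ∈ 𝐂[U⟦β⟧] := conj_mem_of_mem_normalizer
      (normalizer_le_normalizer_centralizer _ (mβ.normU hwH)) hy1
    have hn : zpowers y ≤ 𝐍[bW U⟦γ⟧ Z⟦γ⟧ E] := by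
      have i0 := zpowers_le.2 hyH
      have i1 : zpowers y ≤ 𝐍[zpowers a] := zpowers_le.2 (centralizer_le_normalizer' _
        (centralizer_anti (zpowers_le.2 ha) hy1))
      exact le_normalizer_sup (le_normalizer_commutator (i0.trans mγ.normU) (le_normalizer_sup
        (le_normalizer_commutator (i0.trans c.F_norm) i1) (i0.trans c.Y_norm))) (i0.trans mγ.normU₀)
    have i2 : ⁅w, y⁆ ∈ bW U⟦γ⟧ Z⟦γ⟧ E :=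
      le_normalizer_iff_commutator_le_left.1 hn (commutator_mem_commutator hw (mem_zpowers y))
    have i3 : ⁅w, y⁆ ∈ bW U⟦γ⟧ Z⟦γ⟧ (zpowers a) := q1.le ⟨i2, (mγ.mem_fx_zpowers haH.1).2
      ⟨hW i2, by
        rw [show ⁅⁅w, y⁆, a⁆ = 1 from
          commutatorElement_eq_one_iff_mul_comm.2 ((mul_mem hy2 (inv_mem hy1)) a ha).symm]
        exact one_mem _⟩⟩
    have i4 : bW U⟦γ⟧ Z⟦γ⟧ (zpowers a) ≤ U⟦β⟧ := sup_le ((commutator_mono le_rfl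
      (zpowers_le.2 ha)).trans (le_normalizer_iff_commutator_le_right.1 (hγβ.trans mβ.normU))) hZ
    rw [TA.conj_eq_comm_mul]
    exact mul_mem (le_iSup (fun ε : {ε : G ⧸ H // Inc M H ε l'} => U⟦ε.1⟧) ⟨β, hl'⟩ (i4 i3))
      (le_iSup (fun ε : {ε : G ⧸ H // Inc M H ε l'} => U⟦ε.1⟧) ε hy)
  obtain ⟨w, hw, f, hf, rfl⟩ := (mem_sup_of_le_normalizer_right (hW.trans
    ((isEA_le_centralizer (h.a5_ea γ)).trans ((centralizer_anti (fx_le _ _ _)).trans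
    (centralizer_le_normalizer' _))))).1 (q2.ge hu)
  rw [show ⁅w * f, a⁆ = w * ⁅f, a⁆ * w⁻¹ * ⁅w, a⁆ by group]
  exact mul_mem (mem_sup_right (conj_mem_of_mem_normalizer (mγ.normU₀ (h.a5_YH γ
    ((h.a5_pt γ).2.2.2.2.1 (hW hw)))) ((mγ.mem_fx_zpowers haH.1).1 hf).2))
    (mem_sup_left (((h.a5_mem_Y (hγβ (hW hw))).1 (key w hw)).2 a ha))

theorem CA.a5_II_of (hc : ¬ U⟦β⟧ ≤ Y⟦γ⟧) (e : ⁅U⟦γ⟧, U⟦β⟧⁆ ≤ Z⟦β⟧ ⊔ Z⟦γ⟧) :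
    Z⟦β⟧ ≤ U⟦γ⟧ ∧ Y⟦γ⟧.relIndex U⟦β⟧ = 2 ∧ bW U⟦γ⟧ Z⟦γ⟧ U⟦β⟧ = Z⟦β⟧ ⊔ Z⟦γ⟧ ∧
      ∀ a ∈ U⟦β⟧, a ∉ Y⟦γ⟧ → ∃ K, Tv H⟦γ⟧ U⟦γ⟧ Z⟦γ⟧ K a := by
  have hU := h.a5_UH hlt hp
  obtain ⟨t1, t2, t3, t4⟩ := typeII (h.a5_mod γ) hU (h.a5_mod β).le (h.a5_cardZ β)
    (h.a5_not_le hlt hp hc) e
  refine ⟨t1, ?_, t3, fun a ha ha' => t4 a ha fun e => ha' ((h.a5_mem_Y (hU ha)).2 e)⟩
  rw [← (h.a5_pt γ).2.1, ← inf_relIndex_right, inf_right_comm, inf_of_le_right hU, inf_comm,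
    inf_relIndex_right, t2]

/-- the common configuration -/
theorem CA.a5_setup (hc : ¬ U⟦β⟧ ≤ Y⟦γ⟧) {K K' : Subgroup G} (hK : Blk H 𝑼 𝒁 K)
    (hK' : Blk H 𝑼 𝒁 K') (hne : K ≠ K') {K₁ : Subgroup G} {a : G} (ha : a ∈ U⟦β⟧)
    (ht : Tv H⟦γ⟧ U⟦γ⟧ Z⟦γ⟧ K₁ a) :
    ∃ ε l ω μ, Inc M H β l ∧ Inc M H ε l ∧ β ≠ ε ∧ Inc M H γ μ ∧ Inc M H ω μ ∧ γ ≠ ω ∧
      PP M H (k + 2) ω ε ∧ (∀ u ∈ U⟦ω⟧, ⁅u, a⁆ ∈ U⟦γ⟧ → u ∈ U⟦γ⟧) ∧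
      (k = 0 → U⟦ω⟧ ⊓ U⟦ε⟧ ≤ U⟦γ⟧) := by
  obtain ⟨δ, l, p1, p2, p3⟩ := hp
  have y1 := (hlt (k + 1) (by omega)).1
  obtain ⟨ε, l₂, p4, p5, p6⟩ := p1.succ_left
  obtain ⟨K₂, hK₂, hn⟩ := h.a5_other hK hK' hne γ K₁
  obtain ⟨ω, μ, i1, i2, i3, i4, i5⟩ := h.a5_key' p3 p2 (fun e => hc (y1 _ _ (e ▸ p1))) ht
    ((hlt (k + 1) (by omega)).2 _ _ p1 ha) hK₂ hn
  refine ⟨ε, l₂, ω, μ, p4, p5, fun e => hc (y1 _ _ ⟨δ, l, e ▸ p6, p2, p3⟩), i1, i2, i3,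
    PP.symm ⟨γ, μ, ⟨δ, l, p6, p2, p3⟩, i1, i2⟩, i4, ?_⟩
  rintro rfl
  rwa [show ε = δ from p6]

theorem CA.a5_tv {K₁ : Subgroup G} {a : G} (ha : a ∈ U⟦β⟧) (ht : Tv H⟦γ⟧ U⟦γ⟧ Z⟦γ⟧ K₁ a) :
    ∃ K t, Tv H 𝑼 𝒁 K t ∧ t ∈ M := by
  obtain ⟨δ, l, p1, p2, p3⟩ := hp
  exact h.a5_tv_down ht (h.a5_CV p3 (centralizer_anti (h.toGeo.V_le_U p2).2.1
    ((hlt (k + 1) (by omega)).2 _ _ p1 ha))).2 p3

variable {K K' : Subgroup G} {t : G} (ht : Tv H (ncl V H) (zpowers z) K t) (htM : t ∈ M)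
  (hK' : Blk H (ncl V H) (zpowers z) K') (hne : K ≠ K')

include ht htM hK' hne

theorem CA.a5_II (hc : ¬ U⟦β⟧ ≤ Y⟦γ⟧) (hZ : Z⟦β⟧ ≤ U⟦γ⟧)
    (htv : ∀ a ∈ U⟦β⟧, a ∉ Y⟦γ⟧ → ∃ K, Tv H⟦γ⟧ U⟦γ⟧ Z⟦γ⟧ K a) : False := by
  have mβ := h.a5_mod β
  obtain ⟨a, ha, ha', hcase⟩ : ∃ a ∈ U⟦β⟧, a ∉ Y⟦γ⟧ ∧ (a ∈ fx U⟦β⟧ Z⟦β⟧ H⟦β⟧ ∨
      ∃ K', Blk H⟦β⟧ U⟦β⟧ Z⟦β⟧ K' ∧ a ∈ bW U⟦β⟧ Z⟦β⟧ K') := by
    obtain ⟨K₀, hK₀, -⟩ := h.a5_other ht.blk hK' hne β ⊥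
    obtain ⟨l, hl⟩ := exists_inc_line M β
    obtain ⟨S', ζ, c, eU, eZ⟩ := h.a5_at hl
    rw [← eU, ← eZ] at hK₀ ⊢
    exact c.a5_choose hK₀ (eZ.le.trans (hZ.trans (h.a5_pt γ).2.2.2.2.1)) (eU ▸ hc)
  obtain ⟨K₁, ht₁⟩ := htv a ha ha'
  obtain ⟨ε, l, ω, μ, p1, p2, p3, p4, p5, p6, p7, hs, -⟩ :=
    h.a5_setup hlt hp hc ht.blk hK' hne ha ht₁
  have hidx := (h.a5_ff3' ht htM (h.a5_ne_eight ht.blk hK' hne) p5 p4 p6.symm).1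
  have hω : U⟦ω⟧ ≤ H⟦β⟧ ⊓ M⟦l⟧ := (h.a5_le_CV p1 p2 p3 (((hlt 1 (by omega)).2 _ _
    (PP.of_inc p5 p4)).trans (centralizer_anti hZ)) ((h.a5_UH hlt p7).trans (h.a5_HC ε))).trans
    (h.a5_CV p1)
  have hr := Nat.lt_two_pow_self (n := {K | Blk H 𝑼 𝒁 K}.ncard)
  rcases hcase with e | ⟨K₂, hK₂, e⟩
  · rw [relIndex_eq_one.2 fun u hu => hs u hu (hZ (comm_symm ((mβ.mem_fx.1 e).2 u (hω hu).1)))]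
      at hidx
    omega
  · obtain ⟨w, hw, hw', hw2⟩ : ∃ w ∈ bW U⟦β⟧ Z⟦β⟧ K₂, w ∉ Z⟦β⟧ ∧
        ∀ t ∈ H⟦β⟧ ⊓ M⟦l⟧, t ∈ 𝐍[K₂] → ⁅w, t⁆ ∈ Z⟦β⟧ := by
      obtain ⟨S', ζ, c, eU, eZ⟩ := h.a5_at p1
      rw [← eU, ← eZ] at hK₂ ⊢
      exact c.a5_comp hK₂
    have hwU := mβ.bW_le hK₂.le hw
    have i1 := relIndex_normalizer_le U⟦ω⟧ K₂ {K | Blk H⟦β⟧ U⟦β⟧ Z⟦β⟧ K}
      fun g hg => (mβ.blk_cj hK₂ (hω hg).1).1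
    have i2 : U⟦γ⟧.relIndex (𝐍[K₂] ⊓ U⟦ω⟧) ≤ 2 := idx_two (a := a)
      (inf_le_right.trans (hω.trans (inf_le_left.trans mβ.normU₀)))
      (relIndex_sup_le_two (zpowers_le.2 (mβ.normU₀ (h.a5_YH β ((h.a5_pt β).2.2.2.2.1 hwU))))
        (card_zp_le (by rw [← pow_two, (h.a5_ea β).2 w hwU])))
      (fun u hu => blk_comm_mem mβ hK₂ hw hw' e (hω hu.2).1 (hw2 u (hω hu.2) hu.1))
      fun u hu hu' => hs u hu.2 (hZ hu')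
    have i3 := (relIndex_le_mul U⟦γ⟧ 𝐍[K₂] U⟦ω⟧).trans (Nat.mul_le_mul i2 i1)
    rw [h.a5_ncard β] at i3
    omega

theorem CA.a5_I (hc : ¬ U⟦β⟧ ≤ Y⟦γ⟧) (hI : ∀ β γ : G ⧸ H, PP M H (k + 2) β γ →
    ¬ U⟦β⟧ ≤ Y⟦γ⟧ → Z⟦β⟧ ⊓ U⟦γ⟧ = ⊥ ∧ Z⟦γ⟧ ⊓ U⟦β⟧ = ⊥) : False := by
  have mβ := h.a5_mod β
  have h8 := h.a5_ne_eight ht.blk hK' hne
  obtain ⟨K₂, a, r, hK₂, ha, hr, hr1, hr2, K₁, ht₁⟩ := typeI mβ (h.a5_mod γ) (h.a5_UH hlt hp)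
    (h.a5_UH hlt hp.symm) (hI _ _ hp hc).1 (hI _ _ hp hc).2 (h.a5_ea β) (h.a5_ea γ)
    (h.a5_not_le hlt hp hc)
  obtain ⟨ε, l, ω, μ, p1, p2, p3, p4, p5, p6, p7, hs, hs'⟩ :=
    h.a5_setup hlt hp hc ht.blk hK' hne (mβ.bW_le hK₂.le ha) ht₁
  obtain ⟨hidx, hff⟩ := h.a5_ff3' ht htM h8 p5 p4 p6.symm
  have hωγ := (hlt 1 (by omega)).2 _ _ (PP.of_inc p5 p4)
  have hωε := h.a5_UH hlt p7
  have hrU := mβ.bW_le hK₂.le hr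
  have hX : ∀ u ∈ U⟦ω⟧, u ∈ M⟦l⟧ → ⁅u, a⁆ ∈ zpowers r ⊔ Z⟦β⟧ := fun u hu huM => by
    have i1 : r * u = u * r := hωγ hu r hr2
    refine blk_comm_mem mβ hK₂ hr hr1 ha (mem_tr_self.2 ?_)
      (by rw [commutatorElement_eq_one_iff_mul_comm.2 i1]; exact one_mem _)
    by_contra n
    have i2 : Inc M H (u • β) l := by have := p1.smul u; rwa [mem_tr_self.1 huM] at this
    refine hr1 ((h.a5_ff3' ht htM h8 p1 i2 (Ne.symm n)).2 K₂ hK₂ (mem_inf.2 ⟨hr, ?_⟩))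
    rw [(h.a5_smul u β).2.1, mem_cj, mul_assoc, i1, inv_mul_cancel_left]
    exact hrU
  have h2 : (zpowers r).relIndex (zpowers r ⊔ Z⟦β⟧) ≤ 2 := by
    rw [sup_comm]
    exact relIndex_sup_le_two ((mβ.le.trans (isEA_le_centralizer (h.a5_ea β))).trans
      ((centralizer_anti (zpowers_le.2 hrU)).trans (centralizer_le_normalizer' _))) (h.a5_cardZ β)
  have h3 : ∀ X : Subgroup G, r ∈ X → X.relIndex (zpowers r ⊔ Z⟦β⟧) ≤ 2 := fun X hX =>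
    (relIndex_le_of_le_left (zpowers_le.2 hX) FiniteIndex.index_ne_zero).trans h2
  have hr0 : {K | Blk H 𝑼 𝒁 K}.ncard ≠ 0 := Set.ncard_ne_zero_of_mem (a := K) ht.blk
  have hnM : ¬ U⟦ω⟧ ≤ M⟦l⟧ := fun e => by
    have i1 : U⟦γ⟧.relIndex U⟦ω⟧ ≤ 2 := idx_two (hωγ.trans (centralizer_le_normalizer' _))
      (h3 _ hr2) (fun u hu => hX u hu (e hu)) hs
    have := Nat.pow_le_pow_right (show 0 < 2 by omega)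
      (show 2 ≤ {K | Blk H 𝑼 𝒁 K}.ncard + 1 by omega)
    omega
  have hYM := (h.toGeo.V_le_U p2).2.2.1
  have hc' : ¬ U⟦ω⟧ ≤ Y⟦ε⟧ := fun e => hnM (e.trans hYM)
  rcases Nat.eq_zero_or_pos k with hk | hk
  · obtain ⟨K₃, -, s, hK₃, -, hs1, hs2, hs3, -⟩ := typeI (h.a5_mod ω) (h.a5_mod ε) hωε
      (h.a5_UH hlt p7.symm) (hI _ _ p7 hc').1 (hI _ _ p7 hc').2 (h.a5_ea ω) (h.a5_ea ε)
      (h.a5_not_le hlt p7 hc')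
    exact hs2 (hff K₃ hK₃ ⟨hs1, hs' hk ⟨(h.a5_mod ω).bW_le hK₃.le hs1, hs3⟩⟩)
  · have i1 := typeI_idx (h.a5_mod ω) (h.a5_mod ε) hωε (h.a5_UH hlt p7.symm) (hI _ _ p7 hc').1
      (hI _ _ p7 hc').2 (h.a5_ea ω) (h.a5_ea ε)
    rw [h.a5_ncard ε, ← inf_relIndex_right] at i1
    have i2 : secCent U⟦ε⟧ Z⟦ε⟧ ⊓ U⟦ω⟧ ≤ U⟦γ⟧ := fun u hu => hs u hu.2 (by
      have j1 := hX u hu.2 (hYM ((h.a5_mem_Y (hωε hu.2)).2 hu.1))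
      by_contra n
      have j2 : ⁅u, a⁆ ∈ 𝐂[U⟦ω⟧] := by
        rw [show ⁅u, a⁆ = u * (a * u⁻¹ * a⁻¹) by group]
        refine mul_mem (isEA_le_centralizer (h.a5_ea ω) hu.2) ((hlt 2 (by omega)).2 (a • ω) ω ?_ ?_)
        · have := (PP.of_inc p5 p4).smul a
          rw [mem_tr_self.1 ht₁.mem] at this
          exact this.trans (PP.of_inc p4 p5)
        · rw [(h.a5_smul a ω).2.1]
          exact conj_mem_cj a (inv_mem hu.2)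
      have j3 : zpowers r ≤ 𝐂[U⟦ω⟧] := zpowers_le.2 (le_centralizer_iff.1 hωγ hr2)
      have j4 : Z⟦β⟧ ≤ 𝐂[U⟦ω⟧] := fun x hx => by
        by_cases e : x ∈ zpowers r
        · exact j3 e
        · exact (mul_mem_cancel_right j2).1 (j3 (mul_mem_of_le_two h2 (mem_sup_right hx) j1 e
            fun e => n (zpowers_le.2 hr2 e)))
      exact hnM ((h.a5_le_CV p1 p2 p3 (le_centralizer_iff.1 j4) (hωε.trans (h.a5_HC ε))).trans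
        ((h.a5_CV p1).trans inf_le_right)))
    have i3 := (relIndex_le_of_le_left (L := U⟦ω⟧) i2 FiniteIndex.index_ne_zero).trans i1
    have := Nat.two_pow_pos {K | Blk H 𝑼 𝒁 K}.ncard
    omega

end aux

/-- type analysis of a critical pair for `b ≥ 5` -/
theorem CA.types (h : CA S M V z H Y F) {n : ℕ} (hn : 2 ≤ n)
    (hlt : ∀ k < n, YY M V H Y k ∧ CC M V H k) {β γ : G ⧸ H} (hp : PP M H n β γ)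
    (hc : ¬ tr 𝑼 β ≤ tr Y γ) :
    (∃ β' γ' : G ⧸ H, PP M H n β' γ' ∧ tr 𝒁 β' ≤ tr 𝑼 γ' ∧ (tr Y γ').relIndex (tr 𝑼 β') = 2 ∧
      bW (tr 𝑼 γ') (tr 𝒁 γ') (tr 𝑼 β') = tr 𝒁 β' ⊔ tr 𝒁 γ') ∨
    (tr 𝒁 β ⊓ tr 𝑼 γ = ⊥ ∧ tr 𝒁 γ ⊓ tr 𝑼 β = ⊥) := by
  obtain ⟨k, rfl⟩ : ∃ k, n = k + 2 := ⟨n - 2, by omega⟩
  have key : ∀ β γ : G ⧸ H, PP M H (k + 2) β γ → ¬ U⟦β⟧ ≤ Y⟦γ⟧ →
      ⁅U⟦γ⟧, U⟦β⟧⁆ ≤ Z⟦β⟧ ⊔ Z⟦γ⟧ → ∃ β' γ' : G ⧸ H, PP M H (k + 2) β' γ' ∧ Z⟦β'⟧ ≤ U⟦γ'⟧ ∧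
      Y⟦γ'⟧.relIndex U⟦β'⟧ = 2 ∧ bW U⟦γ'⟧ Z⟦γ'⟧ U⟦β'⟧ = Z⟦β'⟧ ⊔ Z⟦γ'⟧ := fun β γ hp hc e => by
    obtain ⟨t1, t2, t3, -⟩ := h.a5_II_of hlt hp hc e
    exact ⟨β, γ, hp, t1, t2, t3⟩
  rcases h.a5_Z_or γ U⟦β⟧ with e | e
  · exact Or.inl (key _ _ hp hc (h.a5_i hlt hp hc e))
  rcases h.a5_Z_or β U⟦γ⟧ with e' | e'
  · by_cases hc' : U⟦γ⟧ ≤ Y⟦β⟧
    · exact Or.inl (key _ _ hp hc (le_sup_left.trans' (commutator_le.2 fun u hu a ha =>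
        ((h.a5_mem_Y (h.a5_YH β (hc' hu))).1 (hc' hu)).2 a ha)))
    · exact Or.inl (key _ _ hp.symm hc' (h.a5_i hlt hp.symm hc' e'))
  · exact Or.inr ⟨e', e⟩

theorem CA.five (h : CA S M V z H Y F) {n : ℕ} (hn : 2 ≤ n)
    (hlt : ∀ k < n, YY M V H Y k ∧ CC M V H k) (hc : ¬ YY M V H Y n) :
    Y.relIndex F = 3 ∧ ¬ H ⊓ M ≤ Y := by
  obtain ⟨k, rfl⟩ : ∃ k, n = k + 2 := ⟨n - 2, by omega⟩
  have fin : (∃ K t, Tv H 𝑼 𝒁 K t ∧ t ∈ M) → (∀ K K' t, Tv H 𝑼 𝒁 K t → t ∈ M →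
      Blk H 𝑼 𝒁 K' → K ≠ K' → False) → Y.relIndex F = 3 ∧ ¬ H ⊓ M ≤ Y := by
    rintro ⟨K, t, ht, htM⟩ hno
    refine ⟨?_, fun e => tv_notMem h.modU ht (h.Y_le_sec (e ⟨ht.mem, htM⟩))⟩
    have : F = K := le_antisymm ((h.aff_F_eq ht.blk).le.trans (sup_le ht.blk.ge (sSup_le
      fun K' hK' => (not_not.1 (hno K K' t ht htM hK')).ge))) (h.aff_le_F ht.blk)
    rw [this]
    exact (h.aff_blk ht.blk).2.1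
  by_cases h2 : ∃ β' γ' : G ⧸ H, PP M H (k + 2) β' γ' ∧ Z⟦β'⟧ ≤ U⟦γ'⟧ ∧
      Y⟦γ'⟧.relIndex U⟦β'⟧ = 2 ∧ bW U⟦γ'⟧ Z⟦γ'⟧ U⟦β'⟧ = Z⟦β'⟧ ⊔ Z⟦γ'⟧
  · obtain ⟨β, γ, hp, t1, t2, t3⟩ := h2
    have hc' : ¬ U⟦β⟧ ≤ Y⟦γ⟧ := fun e => by rw [relIndex_eq_one.2 e] at t2; omega
    have htv := (h.a5_II_of hlt hp hc' (le_sup_left.trans t3.le)).2.2.2
    obtain ⟨a, ha, ha'⟩ := SetLike.not_le_iff_exists.1 hc'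
    obtain ⟨K₁, ht₁⟩ := htv a ha ha'
    exact fin (h.a5_tv hlt hp ha ht₁) fun K K' t ht htM hK' hne =>
      h.a5_II hlt hp ht htM hK' hne hc' t1 htv
  · have hI := fun β γ hp hc => (h.types (β := β) (γ := γ) hn hlt hp hc).resolve_left h2
    simp only [YY, not_forall] at hc
    obtain ⟨β, γ, hp, hc⟩ := hc
    obtain ⟨K₂, a, r, hK₂, ha, -, -, -, K₁, ht₁⟩ := typeI (h.a5_mod β) (h.a5_mod γ)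
      (h.a5_UH hlt hp) (h.a5_UH hlt hp.symm) (hI _ _ hp hc).1 (hI _ _ hp hc).2 (h.a5_ea β)
      (h.a5_ea γ) (h.a5_not_le hlt hp hc)
    exact fin (h.a5_tv hlt hp ((h.a5_mod β).bW_le hK₂.le ha) ht₁) fun K K' t ht htM hK' hne =>
      h.a5_I hlt hp ht htM hK' hne hc hI

end Cfsg.Agent.NG
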