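import Mathlib

/-! Commutator calculus in the group `R = O₂(M)` of the `M₁₂` amalgam. -/

set_option autoImplicit false

namespace Cfsg.Agent.NG.AM

/-- coordinates for the four-group -/
abbrev K := ZMod 2 × ZMod 2

/-- the action of the element of order three -/
def σ (p : K) : K := (p.2, p.1 + p.2)

set_option synthInstance.maxSize 4000 in
set_option synthInstance.maxHeartbeats 200000 in
theorem K1 : ∀ (β γ : K) (ε i j l : ZMod 2), ¬(β = 0 ∧ γ = 0) → ¬(β = (1, 1) ∧ γ = (0, 1)) →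
    σ γ = ε • 0 + (i • 0 + j • (1, 1) + l • (0, 1)) →
    σ 0 = ε • β + (i • (1, 1) + j • 0 + l • (1, 0)) →
    σ β = ε • γ + (i • (0, 1) + j • (1, 0) + l • 0) →
    (0 + σ γ + σ (σ β) = (0, 1) ∧ β + σ 0 + σ (σ γ) = (1, 1) ∧ γ + σ β + σ (σ 0) = (1, 0)) ∨
      0 + σ γ + σ (σ β) + (1, 0) = (0, 1) ∧ β + σ 0 + σ (σ γ) + (0, 1) = (1, 1) ∧
        γ + σ β + σ (σ 0) + (1, 1) = (1, 0) := by decide

theorem K2 : ∀ ε i j l : ZMod 2, ε • ((0, 1) : K) + (i • 0 + j • (1, 1) + (l + ε) • (0, 1)) =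
    ε • ((0, 1) + (0, 1)) + (i • 0 + j • (1, 1) + l • (0, 1)) := by decide

theorem K3 : ∀ ε i j l : ZMod 2, ε • ((1, 1) : K) + (i • (1, 1) + j • 0 + (l + ε) • (1, 0)) =
    ε • ((1, 1) + (1, 0)) + (i • (1, 1) + j • 0 + l • (1, 0)) := by decide

theorem K4 : ∀ ε i j l : ZMod 2, ε • ((1, 0) : K) + (i • (0, 1) + j • (1, 0) + (l + ε) • 0) =
    ε • ((1, 0) + 0) + (i • (0, 1) + j • (1, 0) + l • 0) := by decide

set_option synthInstance.maxSize 4000 in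
theorem K5 : ∀ (ε i j l : ZMod 2) (α : K), α = 0 ∨ α = (1, 0) →
    α = ε • (0, 1) + (i • 0 + j • (1, 1) + l • (0, 1)) →
    0 + i • ε • ((0, 1) : K) + j • (ε • (1, 1) + i • (1, 1)) +
      l • (ε • (1, 0) + i • (0, 1) + j • (1, 0)) = 0 →
    ε = 0 ∧ ((j = 0 ∧ l = 0) ∨ (i = 1 ∧ j = 1 ∧ l = 1)) := by decide

theorem K6 : ∀ ε i j l : ZMod 2, ε • (0 : K) + (i • (0, 1) + j • (1, 1) + l • (1, 0)) = 0 →
    j = i ∧ l = i := by decide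

theorem K7 : ∀ ε i j l : ZMod 2, ε • (0 : K) + (i • (1, 0) + j • (0, 1) + l • (1, 1)) = 0 →
    j = i ∧ l = i := by decide

variable {G : Type*} [Group G]

/-- the four-group -/
def ι (z0 z1 : G) (p : K) : G := z0 ^ p.1.val * z1 ^ p.2.val

theorem z2_cases (i : ZMod 2) : i = 0 ∨ i = 1 := by revert i; decide

theorem val0 : (0 : ZMod 2).val = 0 := rfl

theorem val1 : (1 : ZMod 2).val = 1 := rfl

/-- the basic configuration -/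
structure RS (R V : Subgroup G) (z0 z1 a0 a1 a2 ρ : G) : Prop where
  V_le : V ≤ R
  cent : ∀ r ∈ R, ∀ v ∈ V, r * v = v * r
  memV : ∀ v ∈ V, v = 1 ∨ v = z0 ∨ v = z1 ∨ v = z0 * z1
  z0V : z0 ∈ V
  z1V : z1 ∈ V
  sq0 : z0 * z0 = 1
  sq1 : z1 * z1 = 1
  ne0 : z0 ≠ 1
  ne1 : z1 ≠ 1
  ne01 : z0 ≠ z1
  a0R : a0 ∈ R
  a00 : a0 * a0 = 1
  r0 : ρ * a0 * ρ⁻¹ = a1
  r1 : ρ * a1 * ρ⁻¹ = a2
  r2 : ρ * a2 * ρ⁻¹ = a0
  rR : ∀ r ∈ R, ρ * r * ρ⁻¹ ∈ R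
  rz0 : ρ * z0 * ρ⁻¹ = z1
  rz1 : ρ * z1 * ρ⁻¹ = z0 * z1
  ex0 : ∀ r ∈ R, ∃ v ∈ V, r * a0 = a0 * r * v
  ex1 : ∀ r ∈ R, ∃ v ∈ V, r * a1 = a1 * r * v
  ex2 : ∀ r ∈ R, ∃ v ∈ V, r * a2 = a2 * r * v
  c01 : a0 * a1 = a1 * a0 * (z0 * z1)

/-- the commutator of `r` and `b` has coordinates `α` -/
def Cm (z0 z1 b r : G) (α : K) : Prop := r * b = b * r * ι z0 z1 α

namespace RS

variable {R V : Subgroup G} {z0 z1 a0 a1 a2 ρ : G} (h : RS R V z0 z1 a0 a1 a2 ρ)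
include h

theorem a1R : a1 ∈ R := h.r0 ▸ h.rR _ h.a0R

theorem a2R : a2 ∈ R := h.r1 ▸ h.rR _ h.a1R

theorem a11 : a1 * a1 = 1 := by
  rw [← h.r0, conj_mul, h.a00]; group

theorem a22 : a2 * a2 = 1 := by
  rw [← h.r1, conj_mul, h.a11]; group

theorem ιV (p : K) : ι z0 z1 p ∈ V := mul_mem (pow_mem h.z0V _) (pow_mem h.z1V _)

omit h in
theorem ι0 : ι z0 z1 0 = 1 := by simp [ι]

omit h in
theorem ι10 : ι z0 z1 (1, 0) = z0 := by simp [ι, val1]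

omit h in
theorem ι01 : ι z0 z1 (0, 1) = z1 := by simp [ι, val1]

omit h in
theorem ι11 : ι z0 z1 (1, 1) = z0 * z1 := by simp [ι, val1]

theorem ι_add (p q : K) : ι z0 z1 (p + q) = ι z0 z1 p * ι z0 z1 q := by
  have k : ∀ {z : G}, z * z = 1 → ∀ i j : ZMod 2, z ^ (i + j).val = z ^ i.val * z ^ j.val := by
    intro z hz i j
    rcases z2_cases i with rfl | rfl <;> rcases z2_cases j with rfl | rfl <;>
      simp [val1, hz, show (1 + 1 : ZMod 2) = 0 from rfl]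
  have c : Commute z1 z0 := h.cent _ (h.V_le h.z1V) _ h.z0V
  simp only [ι, Prod.fst_add, Prod.snd_add, k h.sq0, k h.sq1]
  exact (c.pow_pow _ _).symm.mul_mul_mul_comm _ _

theorem ι_eq_one {p : K} (e : ι z0 z1 p = 1) : p = 0 := by
  obtain ⟨i, j⟩ := p
  rcases z2_cases i with rfl | rfl <;> rcases z2_cases j with rfl | rfl
  · rfl
  · exact absurd (ι01.symm.trans e) h.ne1
  · exact absurd (ι10.symm.trans e) h.ne0
  · rw [ι11] at e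
    exact absurd (mul_left_cancel (h.sq0.trans e.symm)) h.ne01

theorem ι_sq (p : K) : ι z0 z1 p * ι z0 z1 p = 1 := by
  rw [← h.ι_add, show p + p = 0 by revert p; decide, ι0]

theorem ι_inj {p q : K} (e : ι z0 z1 p = ι z0 z1 q) : p = q := by
  have := h.ι_eq_one (p := p + q) (by rw [h.ι_add, e, h.ι_sq])
  clear e
  revert p q
  decide

theorem ι_surj {v : G} (hv : v ∈ V) : ∃ p, v = ι z0 z1 p := by
  rcases h.memV v hv with rfl | rfl | rfl | rfl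
  exacts [⟨_, ι0.symm⟩, ⟨_, ι10.symm⟩, ⟨_, ι01.symm⟩, ⟨_, ι11.symm⟩]

theorem V_sq {v : G} (hv : v ∈ V) : v * v = 1 := by
  obtain ⟨p, rfl⟩ := h.ι_surj hv
  exact h.ι_sq p

theorem ι_rho (p : K) : ρ * ι z0 z1 p * ρ⁻¹ = ι z0 z1 (σ p) := by
  obtain ⟨i, j⟩ := p
  rcases z2_cases i with rfl | rfl <;> rcases z2_cases j with rfl | rfl
  · rw [show σ (0, 0) = 0 from rfl, show ((0, 0) : K) = 0 from rfl, ι0]; group
  · rw [show σ (0, 1) = (1, 1) from rfl, ι01, ι11, h.rz1]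
  · rw [show σ (1, 0) = (0, 1) from rfl, ι10, ι01, h.rz0]
  · rw [show σ (1, 1) = (1, 0) from rfl, ι11, ι10, ← conj_mul, h.rz0, h.rz1,
      h.cent _ (h.V_le h.z1V) _ (mul_mem h.z0V h.z1V), mul_assoc, h.sq1, mul_one]

theorem rV {v : G} (hv : v ∈ V) : ρ * v * ρ⁻¹ ∈ V := by
  obtain ⟨p, rfl⟩ := h.ι_surj hv
  rw [h.ι_rho]
  exact h.ιV _

theorem rV' {v : G} (hv : ρ * v * ρ⁻¹ ∈ V) : v ∈ V := by
  obtain ⟨p, e⟩ := h.ι_surj hv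
  rw [show p = σ (σ (σ p)) by clear e; revert p; decide, ← h.ι_rho] at e
  rw [mul_left_cancel (mul_right_cancel e)]
  exact h.ιV _

variable {b r s : G} {α β : K}

theorem cm_uniq (h1 : Cm z0 z1 b r α) (h2 : Cm z0 z1 b r β) : α = β :=
  h.ι_inj (mul_left_cancel (h1.symm.trans h2))

omit h in
theorem cm_zero : Cm z0 z1 b r 0 ↔ r * b = b * r := by rw [Cm, ι0, mul_one]

theorem cm_V (hb : b ∈ R) {v : G} (hv : v ∈ V) : Cm z0 z1 b v 0 :=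
  cm_zero.2 (h.cent b hb v hv).symm

theorem cm_mul (hs : s ∈ R) (h1 : Cm z0 z1 b r α) (h2 : Cm z0 z1 b s β) :
    Cm z0 z1 b (r * s) (α + β) := by
  unfold Cm at *
  rw [h.ι_add, mul_assoc, h2, ← mul_assoc, ← mul_assoc, h1, mul_assoc _ _ s,
    ← h.cent s hs _ (h.ιV α)]
  group

theorem cm_symm (h1 : Cm z0 z1 b r α) : Cm z0 z1 r b α := by
  unfold Cm at *
  rw [h1, mul_assoc, h.ι_sq, mul_one]

theorem cm_inv (hb : b ∈ R) (hr : r ∈ R) (h1 : Cm z0 z1 b r α) : Cm z0 z1 b r⁻¹ α := by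
  have h2 := h.cm_symm h1
  unfold Cm at *
  calc r⁻¹ * b = r⁻¹ * (b * r) * r⁻¹ := by group
    _ = b * (ι z0 z1 α * r⁻¹) := by rw [h2]; group
    _ = _ := by rw [← h.cent _ (inv_mem hr) _ (h.ιV α), mul_assoc]

omit h in
theorem cm_pow (h1 : Cm z0 z1 b r α) (i : ZMod 2) : Cm z0 z1 b (r ^ i.val) (i • α) := by
  rcases z2_cases i with rfl | rfl
  · rw [zero_smul, cm_zero, val0, pow_zero, one_mul, mul_one]
  · rwa [one_smul, val1, pow_one]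

theorem cm_rho (h1 : Cm z0 z1 b r α) : Cm z0 z1 (ρ * b * ρ⁻¹) (ρ * r * ρ⁻¹) (σ α) := by
  unfold Cm at *
  rw [← h.ι_rho, conj_mul, conj_mul, conj_mul, h1]

theorem sq_step (hb : b * b = 1) (hbR : b ∈ R) (h1 : Cm z0 z1 b r α) (h2 : r * r = ι z0 z1 β)
    (i : ZMod 2) : r * b ^ i.val * (r * b ^ i.val) = ι z0 z1 (β + i • α) := by
  rcases z2_cases i with rfl | rfl
  · simpa using h2
  · have h3 := h.cm_symm h1
    unfold Cm at h3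
    rw [one_smul, val1, pow_one, h.ι_add, ← h2]
    calc _ = r * (b * r) * b := by group
      _ = r * r * (b * (ι z0 z1 α * b)) := by rw [h3]; group
      _ = _ := by rw [← h.cent b hbR _ (h.ιV α), ← mul_assoc b, hb, one_mul]

theorem sq_V (hr : r ∈ R) {v : G} (hv : v ∈ V) : r * v * (r * v) = r * r := by
  calc _ = r * (v * r) * v := by group
    _ = r * r * (v * v) := by rw [← h.cent r hr v hv]; group
    _ = _ := by rw [h.V_sq hv, mul_one]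

theorem exc0 (hr : r ∈ R) : ∃ α, Cm z0 z1 a0 r α := by
  obtain ⟨v, hv, e⟩ := h.ex0 r hr
  obtain ⟨p, rfl⟩ := h.ι_surj hv
  exact ⟨p, e⟩

theorem exc1 (hr : r ∈ R) : ∃ α, Cm z0 z1 a1 r α := by
  obtain ⟨v, hv, e⟩ := h.ex1 r hr
  obtain ⟨p, rfl⟩ := h.ι_surj hv
  exact ⟨p, e⟩

theorem exc2 (hr : r ∈ R) : ∃ α, Cm z0 z1 a2 r α := by
  obtain ⟨v, hv, e⟩ := h.ex2 r hr
  obtain ⟨p, rfl⟩ := h.ι_surj hv
  exact ⟨p, e⟩

theorem c10 : Cm z0 z1 a1 a0 (1, 1) := by rw [Cm, ι11, h.c01]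

theorem c21 : Cm z0 z1 a2 a1 (1, 0) := by
  have := h.cm_rho h.c10
  rwa [h.r0, h.r1] at this

theorem c02 : Cm z0 z1 a0 a2 (0, 1) := by
  have := h.cm_rho h.c21
  rwa [h.r1, h.r2] at this

omit h in
theorem cm_self : Cm z0 z1 b b 0 := cm_zero.2 rfl

/-- the commutators with a word in the generators -/
theorem cm_word {γ : K} (h0 : Cm z0 z1 b a0 α) (h1 : Cm z0 z1 b a1 β) (h2 : Cm z0 z1 b a2 γ)
    (hb : b ∈ R) (i j l : ZMod 2) {v : G} (hv : v ∈ V) :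
    Cm z0 z1 b (a0 ^ i.val * a1 ^ j.val * a2 ^ l.val * v) (i • α + j • β + l • γ) := by
  have := h.cm_mul (h.V_le hv) (h.cm_mul (pow_mem h.a2R _) (h.cm_mul (pow_mem h.a1R _)
    (cm_pow h0 i) (cm_pow h1 j)) (cm_pow h2 l)) (h.cm_V hb hv)
  rwa [add_zero] at this

theorem word_mem (i j l : ZMod 2) {v : G} (hv : v ∈ V) :
    a0 ^ i.val * a1 ^ j.val * a2 ^ l.val * v ∈ R :=
  mul_mem (mul_mem (mul_mem (pow_mem h.a0R _) (pow_mem h.a1R _)) (pow_mem h.a2R _)) (h.V_le hv)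

theorem eR : a0 * a1 * a2 ∈ R := mul_mem (mul_mem h.a0R h.a1R) h.a2R

theorem ce0 : Cm z0 z1 a0 (a0 * a1 * a2) (1, 0) :=
  h.cm_mul h.a2R (h.cm_mul h.a1R cm_self (h.cm_symm h.c10)) h.c02

theorem ce1 : Cm z0 z1 a1 (a0 * a1 * a2) (0, 1) :=
  h.cm_mul h.a2R (h.cm_mul h.a1R h.c10 cm_self) (h.cm_symm h.c21)

theorem ce2 : Cm z0 z1 a2 (a0 * a1 * a2) (1, 1) :=
  h.cm_mul h.a2R (h.cm_mul h.a1R (h.cm_symm h.c02) h.c21) cm_self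

theorem ee : a0 * a1 * a2 * (a0 * a1 * a2) = 1 := by
  have h1 := h.sq_step h.a11 h.a1R h.c10 (β := 0) (by rw [h.a00, ι0]) 1
  rw [val1, pow_one] at h1
  have h2 := h.sq_step h.a22 h.a2R (h.cm_mul h.a1R (h.cm_symm h.c02) h.c21) h1 1
  rw [val1, pow_one] at h2
  exact h2.trans ι0

/-- the commutator of `r` with `e` -/
theorem cm_e {γ : K} (h0 : Cm z0 z1 a0 r α) (h1 : Cm z0 z1 a1 r β) (h2 : Cm z0 z1 a2 r γ) :
    Cm z0 z1 (a0 * a1 * a2) r (α + β + γ) :=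
  h.cm_symm (h.cm_mul h.a2R (h.cm_mul h.a1R (h.cm_symm h0) (h.cm_symm h1)) (h.cm_symm h2))

theorem exists_kill (hr : r ∈ R) : ∃ j l : ZMod 2, Cm z0 z1 a0 (r * (a1 ^ j.val * a2 ^ l.val)⁻¹) 0 := by
  obtain ⟨α, hα⟩ := h.exc0 hr
  obtain ⟨j, l, e⟩ : ∃ j l : ZMod 2, α + (j • ((1, 1) : K) + l • ((0, 1) : K)) = 0 := by
    clear hα; revert α; decide
  have m := mul_mem (pow_mem h.a1R j.val) (pow_mem h.a2R l.val)
  exact ⟨j, l, e ▸ h.cm_mul (inv_mem m) hα (h.cm_inv h.a0R m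
    (h.cm_mul (pow_mem h.a2R _) (cm_pow (h.cm_symm h.c10) j) (cm_pow h.c02 l)))⟩

end RS

/-- the configuration of order 64 -/
structure RK (R V : Subgroup G) (z0 z1 a0 a1 a2 ρ k : G) : Prop
    extends RS R V z0 z1 a0 a1 a2 ρ where
  kR : k ∈ R
  kk : k * k = 1
  k0 : Cm z0 z1 a0 k (0, 1)
  k1 : Cm z0 z1 a1 k (1, 1)
  k2 : Cm z0 z1 a2 k (1, 0)
  rk : k⁻¹ * (ρ * k * ρ⁻¹) ∈ V
  nf : ∀ r ∈ R, ∃ (ε i j l : ZMod 2), ∃ v ∈ V,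
    r = k ^ ε.val * (a0 ^ i.val * a1 ^ j.val * a2 ^ l.val * v)

namespace RS

variable {R V : Subgroup G} {z0 z1 a0 a1 a2 ρ : G} (h : RS R V z0 z1 a0 a1 a2 ρ)
include h

theorem cm_words (i j l : ZMod 2) {v : G} (hv : v ∈ V) :
    Cm z0 z1 a0 (a0 ^ i.val * a1 ^ j.val * a2 ^ l.val * v) (i • 0 + j • (1, 1) + l • (0, 1)) ∧
    Cm z0 z1 a1 (a0 ^ i.val * a1 ^ j.val * a2 ^ l.val * v) (i • (1, 1) + j • 0 + l • (1, 0)) ∧
    Cm z0 z1 a2 (a0 ^ i.val * a1 ^ j.val * a2 ^ l.val * v) (i • (0, 1) + j • (1, 0) + l • 0) :=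
  ⟨h.cm_word cm_self (h.cm_symm h.c10) h.c02 h.a0R i j l hv,
    h.cm_word h.c10 cm_self (h.cm_symm h.c21) h.a1R i j l hv,
    h.cm_word (h.cm_symm h.c02) h.c21 cm_self h.a2R i j l hv⟩

variable {U : Subgroup G} (hU : ∀ u ∈ U, u ∈ V ∨ a0 * u ∈ V)
  (h2 : ∀ r ∈ R, ∀ s ∈ R, Cm z0 z1 a0 r 0 → Cm z0 z1 a0 s 0 → r ∉ U → s ∉ U → r * s ∈ U)
include hU

theorem mem_V_of_U {u : G} (hu : u ∈ U) (h1 : Cm z0 z1 a1 u 0) : u ∈ V := by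
  refine (hU u hu).resolve_right fun hv => ?_
  have := h.cm_mul (h.V_le hv) h.c10 (h.cm_V h.a1R hv)
  rw [← mul_assoc, h.a00, one_mul] at this
  exact absurd (h.cm_uniq this h1) (by decide)

include h2

theorem nf_of {k : G} (hk : k ∈ R) (hk0 : Cm z0 z1 a0 k 0) (hn : k ∉ U) {r : G} (hr : r ∈ R) :
    ∃ (ε i j l : ZMod 2), ∃ v ∈ V, r = k ^ ε.val * (a0 ^ i.val * a1 ^ j.val * a2 ^ l.val * v) := by
  obtain ⟨j, l, e⟩ := h.exists_kill hr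
  have m := mul_mem (pow_mem h.a1R j.val) (pow_mem h.a2R l.val)
  obtain ⟨ε, hu⟩ : ∃ ε : ZMod 2, (k ^ ε.val)⁻¹ * (r * (a1 ^ j.val * a2 ^ l.val)⁻¹) ∈ U := by
    by_cases hu : r * (a1 ^ j.val * a2 ^ l.val)⁻¹ ∈ U
    · exact ⟨0, by simpa using hu⟩
    · refine ⟨1, ?_⟩
      rw [val1, pow_one]
      exact h2 _ (inv_mem hk) _ (mul_mem hr (inv_mem m)) (h.cm_inv h.a0R hk hk0) e
        (by rwa [inv_mem_iff]) hu
  obtain ⟨i, hv⟩ : ∃ i : ZMod 2,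
      (a0 ^ i.val)⁻¹ * ((k ^ ε.val)⁻¹ * (r * (a1 ^ j.val * a2 ^ l.val)⁻¹)) ∈ V := by
    rcases hU _ hu with hv | hv
    · exact ⟨0, by simpa using hv⟩
    · exact ⟨1, by rwa [val1, pow_one, inv_eq_of_mul_eq_one_right h.a00]⟩
  refine ⟨ε, i, j, l, _, hv, ?_⟩
  rw [mul_assoc (a0 ^ i.val), mul_assoc (a0 ^ i.val), h.cent _ m _ hv]
  group

variable (hΩ : ∀ r ∈ R, r * r = 1 → (∀ s ∈ R, s * r = r * s) → r ∈ V)
include hΩ

theorem cw {r : G} (hr : r ∈ R) (h0 : Cm z0 z1 a0 r 0) (h1 : Cm z0 z1 a1 r 0)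
    (h3 : Cm z0 z1 a2 r 0) : r ∈ V := by
  by_contra hn
  have n1 : r ∉ U := fun hu => hn (h.mem_V_of_U hU hu h1)
  have b0 := h.cm_rho h3
  have b1 := h.cm_rho h0
  rw [h.r2] at b0
  rw [h.r0] at b1
  have n2 : ρ * r * ρ⁻¹ ∉ U := fun hu => hn (h.rV' (h.mem_V_of_U hU hu b1))
  have m1 : r * r ∈ V := h.mem_V_of_U hU (h2 r hr r hr h0 h0 n1 n1) (h.cm_mul hr h1 h1)
  have m2 : r⁻¹ * (ρ * r * ρ⁻¹) ∈ V :=
    h.mem_V_of_U hU (h2 _ (inv_mem hr) _ (h.rR r hr) (h.cm_inv h.a0R hr h0) b0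
      (by rwa [inv_mem_iff]) n2) (h.cm_mul (h.rR r hr) (h.cm_inv h.a1R hr h1) b1)
  obtain ⟨p, hp⟩ := h.ι_surj m1
  have e := h.sq_V hr m2
  rw [mul_inv_cancel_left, conj_mul, hp, h.ι_rho] at e
  have e1 : p = 0 := by
    have := h.ι_inj e
    revert this; clear hp e; revert p; decide
  rw [e1, ι0] at hp
  refine hn (hΩ r hr hp fun s hs => ?_)
  obtain ⟨ε, i, j, l, v, hv, rfl⟩ := h.nf_of hU h2 hr h0 n1 hs
  have := h.cm_mul (h.word_mem i j l hv) (cm_pow (cm_self (b := r)) ε)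
    (h.cm_word (h.cm_symm h0) (h.cm_symm h1) (h.cm_symm h3) hr i j l hv)
  simp only [smul_zero, add_zero] at this
  exact cm_zero.1 this

theorem eqv {r s : G} (hr : r ∈ R) (hs : s ∈ R) {α β γ : K} (h0 : Cm z0 z1 a0 r α)
    (h1 : Cm z0 z1 a1 r β) (h3 : Cm z0 z1 a2 r γ) (e0 : Cm z0 z1 a0 s α)
    (e1 : Cm z0 z1 a1 s β) (e3 : Cm z0 z1 a2 s γ) : r⁻¹ * s ∈ V := by
  have k : ∀ p : K, p + p = 0 := by decide
  exact h.cw hU h2 hΩ (mul_mem (inv_mem hr) hs) (k α ▸ h.cm_mul hs (h.cm_inv h.a0R hr h0) e0)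
    (k β ▸ h.cm_mul hs (h.cm_inv h.a1R hr h1) e1) (k γ ▸ h.cm_mul hs (h.cm_inv h.a2R hr h3) e3)

theorem exists_RK (hVU : V ≤ U) (haU : a0 ∈ U) {k : G} (hk : k ∈ R) (hk0 : Cm z0 z1 a0 k 0)
    (hn : k ∉ U) : ∃ k, RK R V z0 z1 a0 a1 a2 ρ k := by
  have rho : ∀ {r : G} {α β γ : K}, Cm z0 z1 a0 r α → Cm z0 z1 a1 r β → Cm z0 z1 a2 r γ →
      Cm z0 z1 a0 (ρ * r * ρ⁻¹) (σ γ) ∧ Cm z0 z1 a1 (ρ * r * ρ⁻¹) (σ α) ∧
        Cm z0 z1 a2 (ρ * r * ρ⁻¹) (σ β) := fun h0 h1 h3 =>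
    ⟨h.r2 ▸ h.cm_rho h3, h.r0 ▸ h.cm_rho h0, h.r1 ▸ h.cm_rho h1⟩
  obtain ⟨k, hk, k0, k1, k2⟩ : ∃ k ∈ R, Cm z0 z1 a0 k (0, 1) ∧ Cm z0 z1 a1 k (1, 1) ∧
      Cm z0 z1 a2 k (1, 0) := by
    obtain ⟨β, hβ⟩ := h.exc1 hk
    obtain ⟨γ, hγ⟩ := h.exc2 hk
    have n1 : ¬ (β = 0 ∧ γ = 0) := fun e =>
      hn (hVU (h.cw hU h2 hΩ hk hk0 (e.1 ▸ hβ) (e.2 ▸ hγ)))
    have n2 : ¬ (β = (1, 1) ∧ γ = (0, 1)) := fun e => hn (by
      have := mul_mem haU (hVU (h.eqv hU h2 hΩ h.a0R hk cm_self h.c10 (h.cm_symm h.c02) hk0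
        (e.1 ▸ hβ) (e.2 ▸ hγ)))
      rwa [mul_inv_cancel_left] at this)
    obtain ⟨b0, b1, b2⟩ := rho hk0 hβ hγ
    obtain ⟨c0, c1, c2⟩ := rho b0 b1 b2
    have m1 := h.rR k hk
    have m2 := h.rR _ m1
    have d0 := h.cm_mul m2 (h.cm_mul m1 hk0 b0) c0
    have d1 := h.cm_mul m2 (h.cm_mul m1 hβ b1) c1
    have d2 := h.cm_mul m2 (h.cm_mul m1 hγ b2) c2
    have m3 := mul_mem (mul_mem hk m1) m2
    obtain ⟨ε, i, j, l, v, hv, e⟩ := h.nf_of hU h2 hk hk0 hn m1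
    obtain ⟨w0, w1, w2⟩ := h.cm_words i j l hv
    have m := h.word_mem i j l hv
    have f0 := h.cm_uniq b0 (e ▸ h.cm_mul m (cm_pow hk0 ε) w0)
    have f1 := h.cm_uniq b1 (e ▸ h.cm_mul m (cm_pow hβ ε) w1)
    have f2 := h.cm_uniq b2 (e ▸ h.cm_mul m (cm_pow hγ ε) w2)
    rcases K1 β γ ε i j l n1 n2 f0 f1 f2 with ⟨g0, g1, g2⟩ | ⟨g0, g1, g2⟩
    · exact ⟨_, m3, g0 ▸ d0, g1 ▸ d1, g2 ▸ d2⟩
    · exact ⟨_, mul_mem m3 h.eR, g0 ▸ h.cm_mul h.eR d0 h.ce0, g1 ▸ h.cm_mul h.eR d1 h.ce1,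
        g2 ▸ h.cm_mul h.eR d2 h.ce2⟩
  obtain ⟨b0, b1, b2⟩ := rho k0 k1 k2
  have rk := h.eqv hU h2 hΩ hk (h.rR k hk) k0 k1 k2 b0 b1 b2
  refine ⟨k, h, hk, ?_, k0, k1, k2, rk, fun r hr => ?_⟩
  · obtain ⟨p, hp⟩ := h.ι_surj (h.cw hU h2 hΩ (mul_mem hk hk) (h.cm_mul hk k0 k0)
      (h.cm_mul hk k1 k1) (h.cm_mul hk k2 k2))
    have e := h.sq_V hk rk
    rw [mul_inv_cancel_left, conj_mul, hp, h.ι_rho] at e
    have e1 : p = 0 := by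
      have := h.ι_inj e
      revert this; clear hp e; revert p; decide
    rw [hp, e1, ι0]
  · have c0 := h.cm_mul h.a2R k0 h.c02
    have c1 := h.cm_mul h.a2R k1 (h.cm_symm h.c21)
    have c2 := h.cm_mul h.a2R k2 cm_self
    have n1 : k * a2 ∉ U := fun hu => by
      rcases hU _ hu with hv | hv
      · exact absurd (h.cm_uniq c2 (h.cm_V h.a2R hv)) (by decide)
      · exact absurd (h.cm_uniq (h.cm_mul (mul_mem hk h.a2R) (h.cm_symm h.c02) c2)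
          (h.cm_V h.a2R hv)) (by decide)
    obtain ⟨ε, i, j, l, v, hv, e⟩ := h.nf_of hU h2 (mul_mem hk h.a2R) c0 n1 hr
    obtain ⟨w0, w1, w2⟩ := h.cm_words i j l hv
    obtain ⟨u0, u1, u2⟩ := h.cm_words i j (l + ε) (one_mem V)
    have m := h.word_mem i j l hv
    have m' := h.word_mem i j (l + ε) (one_mem V)
    have := h.eqv hU h2 hΩ (mul_mem (pow_mem hk ε.val) m') hr (h.cm_mul m' (cm_pow k0 ε) u0)
      (h.cm_mul m' (cm_pow k1 ε) u1) (h.cm_mul m' (cm_pow k2 ε) u2)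
      (by rw [K2, e]; exact h.cm_mul m (cm_pow c0 ε) w0)
      (by rw [K3, e]; exact h.cm_mul m (cm_pow c1 ε) w1)
      (by rw [K4, e]; exact h.cm_mul m (cm_pow c2 ε) w2)
    exact ⟨ε, i, j, l + ε, _, this, by group⟩

end RS

namespace RK

open RS

variable {R V : Subgroup G} {z0 z1 a0 a1 a2 ρ k : G} (h : RK R V z0 z1 a0 a1 a2 ρ k)
include h

theorem ke : k * (a0 * a1 * a2) = a0 * a1 * a2 * k := cm_zero.1 (h.cm_e h.k0 h.k1 h.k2)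

theorem inv_class {r : G} (hr : r ∈ R) (h2 : r * r = 1) {α : K} (h0 : Cm z0 z1 a0 r α)
    (hα : α = 0 ∨ α = (1, 0)) : r ∈ V ∨ a0⁻¹ * r ∈ V ∨ (a0 * a1 * a2)⁻¹ * r ∈ V := by
  obtain ⟨ε, i, j, l, v, hv, rfl⟩ := h.nf r hr
  have e0 := h.cm_uniq h0 (h.cm_mul (h.word_mem i j l hv) (cm_pow h.k0 ε) (h.cm_words i j l hv).1)
  have s0 : k ^ ε.val * k ^ ε.val = ι z0 z1 0 := by
    rcases z2_cases ε with rfl | rfl <;> simp [ι0, val1, h.kk]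
  have s1 := h.sq_step h.a00 h.a0R (cm_pow h.k0 ε) s0 i
  have s2 := h.sq_step h.a11 h.a1R
    (h.cm_mul (pow_mem h.a0R _) (cm_pow h.k1 ε) (cm_pow h.c10 i)) s1 j
  have s3 := h.sq_step h.a22 h.a2R (h.cm_mul (pow_mem h.a1R _) (h.cm_mul (pow_mem h.a0R _)
    (cm_pow h.k2 ε) (cm_pow (h.cm_symm h.c02) i)) (cm_pow h.c21 j)) s2 l
  rw [← h.sq_V (mul_mem (mul_mem (mul_mem (pow_mem h.kR _) (pow_mem h.a0R _)) (pow_mem h.a1R _))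
    (pow_mem h.a2R _)) hv] at s3
  simp only [mul_assoc] at h2 s3
  rw [h2] at s3
  obtain ⟨rfl, ⟨rfl, rfl⟩ | ⟨rfl, rfl, rfl⟩⟩ := K5 ε i j l α hα e0 (h.ι_eq_one s3.symm)
  · rcases z2_cases i with rfl | rfl
    · exact Or.inl (by simpa using hv)
    · exact Or.inr (Or.inl (by simpa [val1] using hv))
  · refine Or.inr (Or.inr ?_)
    rwa [val0, val1, pow_zero, one_mul, pow_one, pow_one, pow_one, inv_mul_cancel_left]

theorem mem_E {r : G} (hr : r ∈ R) (hc : r * k = k * r ∨ r * (a0 * a1 * a2) = a0 * a1 * a2 * r) :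
    ∃ ε i : ZMod 2, ∃ v ∈ V, r = k ^ ε.val * ((a0 * a1 * a2) ^ i.val * v) := by
  obtain ⟨ε, i, j, l, v, hv, rfl⟩ := h.nf r hr
  have m := h.word_mem i j l hv
  obtain ⟨rfl, rfl⟩ : j = i ∧ l = i := by
    rcases hc with hc | hc
    · exact K6 ε i j l (h.cm_uniq (h.cm_mul m (cm_pow cm_self ε) (h.cm_word (h.cm_symm h.k0)
        (h.cm_symm h.k1) (h.cm_symm h.k2) h.kR i j l hv)) (cm_zero.2 hc))
    · exact K7 ε i j l (h.cm_uniq (h.cm_mul m (cm_pow (cm_zero.2 h.ke) ε)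
        (h.cm_word (h.cm_symm h.ce0) (h.cm_symm h.ce1) (h.cm_symm h.ce2) h.eR i j l hv))
        (cm_zero.2 hc))
  refine ⟨ε, l, v, hv, ?_⟩
  rcases z2_cases l with rfl | rfl <;> simp [val1]

theorem comm_E {r s : G} (hr : r ∈ R) (hc : r * k = k * r ∨ r * (a0 * a1 * a2) = a0 * a1 * a2 * r)
    (hs : s ∈ R) (h1 : Commute s k) (h2 : Commute s (a0 * a1 * a2)) : Commute s r := by
  obtain ⟨ε, i, v, hv, rfl⟩ := h.mem_E hr hc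
  exact (h1.pow_right _).mul_right ((h2.pow_right _).mul_right (h.cent s hs v hv))

end RK

end Cfsg.Agent.NG.AM
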