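import Mathlib
import Cfsg.Agent.NG.Basic
import Cfsg.Agent.X32.Main

/-! The groups `2³ · L₃(2)`, `A₈`, `A₉`, `M₁₂` do not satisfy the standing hypothesis. -/

set_option autoImplicit false
set_option maxRecDepth 100000

namespace Cfsg.Agent.NG

open Subgroup Cfsg.Agent.PLocal Cfsg.Agent.PLocal.Amb Cfsg.Agent.PLocal.CP Cfsg.Agent.PLocal.JC
  Cfsg.Agent.X32 Cfsg.Agent.Comp Equiv Equiv.Perm
open scoped commutatorElement

theorem triple_comm {G : Type*} [Group G] {x y : G} (h : Commute x y) {a b c : ℕ}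
    (hab : a.Coprime b) (hac : a.Coprime c) (hbc : b.Coprime c) (hx : x ^ a = 1) (hy : y ^ b = 1)
    (hxy : (x * y) ^ c = 1) : x = 1 ∧ y = 1 := by
  rw [h.mul_pow] at hxy
  have e := eq_inv_of_mul_eq_one_left hxy
  have h1 : (x ^ c) ^ a = 1 := by rw [← pow_mul, mul_comm, pow_mul, hx, one_pow]
  have h2 : (x ^ c) ^ b = 1 := by rw [e, inv_pow, ← pow_mul, mul_comm, pow_mul, hy, one_pow, inv_one]
  have h3 : x ^ c = 1 := by
    have := (pow_gcd_eq_one.2 ⟨h1, h2⟩)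
    rwa [hab, pow_one] at this
  have h4 := pow_gcd_eq_one.2 ⟨hx, h3⟩
  rw [h3, one_mul] at hxy
  have h5 := pow_gcd_eq_one.2 ⟨hy, hxy⟩
  rw [hac, pow_one] at h4
  rw [hbc, pow_one] at h5
  exact ⟨h4, h5⟩

theorem triple_solv {G : Type*} [Group G] (hs : Group.IsSolvable G) {x y : G} {a b c : ℕ}
    (hab : a.Coprime b) (hac : a.Coprime c) (hbc : b.Coprime c) (hx : x ^ a = 1) (hy : y ^ b = 1)
    (hxy : (x * y) ^ c = 1) : x = 1 := by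
  have key : ∀ n, x ∈ derivedSeries G n ∧ y ∈ derivedSeries G n := by
    intro n
    induction n with
    | zero => exact ⟨mem_top _, mem_top _⟩
    | succ n ih =>
      let π := QuotientGroup.mk' (derivedSeries G (n + 1))
      have c : Commute (π x) (π y) := by
        rw [← commutatorElement_eq_one_iff_commute, ← map_commutatorElement]
        exact (QuotientGroup.eq_one_iff _).2 (commutator_mem_commutator ih.1 ih.2)
      have := triple_comm c hab hac hbc (by rw [← map_pow, hx, map_one])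
        (by rw [← map_pow, hy, map_one]) (by rw [← map_mul, ← map_pow, hxy, map_one])
      exact ⟨(QuotientGroup.eq_one_iff _).1 this.1, (QuotientGroup.eq_one_iff _).1 this.2⟩
  obtain ⟨n, hn⟩ := hs.solvable
  simpa [hn] using (key n).1

/-- a witness for a nonsolvable 2-local subgroup -/
def Wit {G : Type*} [Group G] (t₁ t₂ t₃ p q : G) (b : ℕ) : Prop :=
  t₁ ≠ 1 ∧ t₁ * t₁ = 1 ∧ t₂ * t₂ = 1 ∧ t₃ * t₃ = 1 ∧ t₁ * t₂ = t₂ * t₁ ∧ t₁ * t₃ = t₃ * t₁ ∧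
    t₂ * t₃ = t₃ * t₂ ∧ p * t₁ = t₁ * p ∧ p * t₂ = t₃ * p ∧ (p * t₃ = t₂ * t₃ * p ∨ p * t₃ = t₃ * p) ∧
    q * t₁ = t₂ * q ∧ (q * t₂ = t₁ * t₃ * q ∨ q * t₂ = t₂ * q) ∧ q * t₃ = t₁ * q ∧ p ≠ 1 ∧ p ^ 3 = 1 ∧
    q ^ b = 1 ∧ (p * q) ^ 2 = 1

theorem Hyp.not_wit {G G' : Type*} [Group G] [Finite G] [Group G'] (h : Hyp G) (e : G ≃* G')
    {t₁ t₂ t₃ p q : G'} {b : ℕ} (hb : b = 5 ∨ b = 7) : ¬ Wit t₁ t₂ t₃ p q b := by
  obtain ⟨t₁, rfl⟩ := e.surjective t₁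
  obtain ⟨t₂, rfl⟩ := e.surjective t₂
  obtain ⟨t₃, rfl⟩ := e.surjective t₃
  obtain ⟨p, rfl⟩ := e.surjective p
  obtain ⟨q, rfl⟩ := e.surjective q
  simp only [Wit, ← map_mul, ← map_pow, e.apply_eq_iff_eq, ne_eq, e.map_eq_one_iff]
  rintro ⟨n1, s1, s2, s3, c12, c13, c23, p1, p2, p3, q1, q2, q3, pn, hp, hq, hpq⟩
  have nm : ∀ {s t : G}, s * t = t * s → zpowers s ≤ 𝐍[zpowers t] := fun c =>
    zpowers_le.2 (centralizer_le_normalizer' _ (by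
      rw [Amb.centralizer_zpowers, mem_centralizer_singleton_iff]; exact c))
  have hT : IsPGroup 2 ↥(zpowers t₁ ⊔ (zpowers t₂ ⊔ zpowers t₃)) :=
    isPGroup_sup (two_zpowers s1) (isPGroup_sup (two_zpowers s2) (two_zpowers s3) (nm c23))
      (Amb.le_normalizer_sup (nm c12) (nm c13))
  obtain ⟨T, eT⟩ : ∃ T, T = zpowers t₁ ⊔ (zpowers t₂ ⊔ zpowers t₃) := ⟨_, rfl⟩
  have m1 : t₁ ∈ T := eT ▸ mem_sup_left (mem_zpowers _)
  have m2 : t₂ ∈ T := eT ▸ mem_sup_right (mem_sup_left (mem_zpowers _))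
  have m3 : t₃ ∈ T := eT ▸ mem_sup_right (mem_sup_right (mem_zpowers _))
  have nT : ∀ {g s₁ s₂ s₃ : G}, s₁ ∈ T → s₂ ∈ T → s₃ ∈ T → g * t₁ = s₁ * g → g * t₂ = s₂ * g →
      g * t₃ = s₃ * g → g ∈ 𝐍[T] := fun {g _ _ _} a1 a2 a3 b1 b2 b3 => by
    refine mem_normalizer_of_cj_le ?_
    rw [cj_le_iff]
    nth_rw 1 [eT]
    simp only [sup_le_iff, zpowers_le, mem_cj, inv_inv, b1, b2, b3, mul_inv_cancel_right]
    exact ⟨a1, a2, a3⟩
  have hpN : p ∈ 𝐍[T] := p3.elim (nT m1 m3 (mul_mem m2 m3) p1 p2) (nT m1 m3 m3 p1 p2)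
  have hqN : q ∈ 𝐍[T] := q2.elim (fun a => nT m2 (mul_mem m1 m3) m1 q1 a q3)
    fun a => nT m2 m2 m1 q1 a q3
  have hs := h.solv T (eT ▸ hT) fun e => n1 (by rwa [e, mem_bot] at m1)
  refine pn (congrArg Subtype.val (triple_solv hs (x := ⟨p, hpN⟩) (y := ⟨q, hqN⟩) (a := 3) (b := b)
    (c := 2) ?_ (by norm_num) ?_ (Subtype.ext hp) (Subtype.ext hq) (Subtype.ext hpq))) <;>
    rcases hb with rfl | rfl <;> norm_num

theorem wit_A8 : Wit (a8 (swap 0 1 * swap 2 3 * swap 4 5 * swap 6 7))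
    (a8 (swap 0 2 * swap 1 3 * swap 4 6 * swap 5 7)) (a8 (swap 0 4 * swap 1 5 * swap 2 6 * swap 3 7))
    (a8 (swap 2 4 * swap 4 6 * swap 3 5 * swap 5 7))
    (a8 (swap 1 2 * swap 2 5 * swap 5 3 * swap 3 7 * swap 7 6 * swap 6 4)) 7 := by
  refine ⟨?_, ?_, ?_, ?_, ?_, ?_, ?_, ?_, ?_, ?_, ?_, ?_, ?_, ?_, ?_, ?_, ?_⟩ <;> decide +kernel

/-- an element of `A₉` -/
def a9 (σ : Perm (Fin 9)) (h : sign σ = 1 := by simp) : alternatingGroup (Fin 9) := ⟨σ, h⟩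

theorem wit_A9 : Wit (a9 (swap 0 1 * swap 2 3)) (a9 (swap 0 1 * swap 2 3)) (a9 (swap 0 1 * swap 2 3))
    (a9 (swap 4 5 * swap 5 6)) (a9 (swap 4 6 * swap 6 8 * swap 8 5 * swap 5 7)) 5 := by
  refine ⟨?_, ?_, ?_, ?_, ?_, ?_, ?_, ?_, ?_, ?_, ?_, ?_, ?_, ?_, ?_, ?_, ?_⟩ <;> decide +kernel

theorem wit_M12 : Wit (BN.ev y12 [0, 6]) (BN.ev y12 [0, 6]) (BN.ev y12 [0, 6]) (BN.ev y12 [0, 11])
    (BN.ev y12 [8, 2, 11, 8, 11, 6, 9, 11, 8, 11, 9, 11, 9]) 5 := by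
  have h1 : BN.ev y12 [0, 6] * BN.ev y12 [0, 6] = 1 := by
    rw [← BN.ev_append]; exact ev12_eq (V := []) (by decide +kernel)
  refine ⟨fun h => ?_, h1, h1, h1, rfl, rfl, rfl, w3.2.2, w3.2.2, Or.inr w3.2.2, w5.2.2,
    Or.inr w5.2.2, w5.2.2, w3.2.1, w3.1, w5.1, ?_⟩
  · have := ev12_apply (U := [0, 6]) (p := 0) (q := 3) (by norm_num) (by decide +kernel)
    rw [h] at this; exact absurd this (by simp)
  · rw [← BN.ev_append, ← BN.ev_powW]; exact ev12_eq (V := []) (by decide +kernel)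

theorem Hyp.not_list {G : Type*} [Group G] [Finite G] (h : Hyp G) :
    ¬ (E8L G ∨ Nonempty (G ≃* alternatingGroup (Fin 8)) ∨ Nonempty (G ≃* alternatingGroup (Fin 9)) ∨
      Spor.IsoM12 G) := by
  rintro (⟨N, hN, -, a, b, -⟩ | ⟨⟨e⟩⟩ | ⟨⟨e⟩⟩ | ⟨⟨e⟩⟩)
  · have : N ≤ pCore 2 G := le_pCore' (Amb.isPGroup_iff.2 fun x hx => ⟨1, a x hx⟩)
    rw [h.core, le_bot_iff] at this
    simp [this] at b
  · exact h.not_wit e (Or.inr rfl) wit_A8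
  · exact h.not_wit e (Or.inl rfl) wit_A9
  · exact h.not_wit (e.trans Spor.ModelM12.equiv) (Or.inl rfl) wit_M12

end Cfsg.Agent.NG
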