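import Mathlib
import Cfsg.Agent.NG.AFF
import Cfsg.Agent.NG.A0_a
import Cfsg.Agent.S2751

set_option autoImplicit false

namespace Cfsg.Agent.NG

open Subgroup Cfsg.Agent.PLocal Cfsg.Agent.PLocal.Amb Cfsg.Agent.PLocal.CP Cfsg.Agent.PLocal.JC
open scoped commutatorElement

variable {G : Type*} [Group G] [Finite G]

variable {S M V H Y F : Subgroup G} {z m : G}

set_option quotPrecheck false

/-- `U = ⟨V^H⟩` -/
local notation "𝑼" => ncl V H
local notation "𝒁" => zpowers z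
local notation "𝑼'" => cj(m, ncl V H)
local notation "𝑫" => ncl V H ⊓ cj(m, ncl V H)

theorem card_mul_rel {A B : Subgroup G} (h : A ≤ B) : Nat.card A * A.relIndex B = Nat.card B := by
  rw [← card_mul_index (A.subgroupOf B), Nat.card_congr (subgroupOfEquivOfLe h).toEquiv]; rfl

theorem s3_of {L T : Subgroup G} (hT : IsSyl 2 T L) (h3 : T.relIndex L = 3)
    (h2 : (𝐐[L]).relIndex T = 2) : Nonempty (L ⧸ pCore 2 L ≃* Equiv.Perm (Fin 3)) := by
  classical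
  set φ := MulAction.toPermHom L (L ⧸ T.subgroupOf L) with hφ
  have hk : φ.ker = pCore 2 L := by
    rw [hφ, ← normalCore_eq_ker]
    refine le_antisymm (le_pCore' ((Amb.isPGroup_subgroupOf hT.pgrp L).to_le (normalCore_le _))) ?_
    rw [← Amb.pCoreOf_subgroupOf]
    haveI := normal_subgroupOf' (Amb.le_normalizer_pCoreOf 2 L)
    exact normal_le_normalCore.2 (subgroupOf_mono _ hT.pCoreOf_le)
  have hc : Nat.card (L ⧸ T.subgroupOf L) = 3 := h3
  have e : (L ⧸ T.subgroupOf L) ≃ Fin 3 := Finite.equivFinOfCardEq hc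
  have hi : φ.ker.index = 6 := by
    rw [hk, ← Amb.pCoreOf_subgroupOf]
    change (𝐐[L]).relIndex L = 6
    rw [← relIndex_mul_relIndex _ _ _ hT.pCoreOf_le hT.le, h2, h3]
  have hr : φ.range = ⊤ := by
    refine eq_top_of_card_eq _ ?_
    rw [← index_ker, hi, Nat.card_perm, hc]; rfl
  exact ⟨((QuotientGroup.quotientMulEquivOfEq hk.symm).trans
    (QuotientGroup.quotientKerEquivOfSurjective φ (MonoidHom.range_eq_top.1 hr))).trans
    e.permCongrHom⟩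

/-- Goldschmidt's bound -/
theorem CA.tri_card (h : CA S M V z H Y F) (h3 : Y.relIndex F = 3) (h2 : ¬ H ⊓ M ≤ Y) :
    Nat.card S ≤ 128 ∧ Nat.card S = 2 * Nat.card Y ∧ Nat.card H = 3 * Nat.card S := by
  obtain ⟨f1, f2, -⟩ := h.ff_one h3
  obtain ⟨t1, t2, t3, t4, t5, t6⟩ := h.of_two f1
  obtain ⟨-, -, -, -, -, -, g7, -⟩ := h.toGeo.basic
  have hSH : S ≤ H := h.basic.1
  have hYS : Y ≤ S := t3 ▸ h.Y_le
  have i2 : Y.relIndex S = 2 := by
    rw [t3] at f2 h2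
    have h0 : Y.relIndex S ≠ 0 := index_ne_zero_of_finite
    have h1 : Y.relIndex S ≠ 1 := fun e => h2 (relIndex_eq_one.1 e)
    omega
  have i3 : S.relIndex H = 3 := by
    rw [← t3, inf_comm, inf_relIndex_right, g7, h3]
  have sH : IsSyl 2 S H := h.syl.mono hSH le_top
  have sM : IsSyl 2 S M := h.syl.mono h.le le_top
  refine ⟨?_, ?_, ?_⟩
  · have := Cfsg.Agent.S2751.result H M (by rw [t3]; exact sH.exists_sylow)
      (by rw [t3]; exact sM.exists_sylow) (s3_of sH i3 (t2 ▸ i2))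
      (s3_of sM t6 (t5 ▸ h.one.basic.2.2.2.2.2.2.1)) (fun N hN n1 n2 => by
        by_contra hne
        rw [t3] at hN
        have a1 : H ≤ 𝐍[N] := (normal_subgroupOf_iff_le_normalizer (hN.trans hSH)).1 n1
        have a2 : M ≤ 𝐍[N] := (normal_subgroupOf_iff_le_normalizer (hN.trans h.le)).1 n2
        exact h.not_le (h.toTwo.normalizer_eq (h.syl.pgrp.to_le hN) hne a2 ▸ a1))
    rw [t3] at this
    exact this
  · rw [← i2, mul_comm, card_mul_rel hYS]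
  · rw [← i3, mul_comm, card_mul_rel hSH]

theorem CA.tri_five (h : CA S M V z H Y F) (h3 : Y.relIndex F = 3) (h2 : ¬ H ⊓ M ≤ Y)
    (hc : CC M V H 1) : False := by
  obtain ⟨c1, c2, -⟩ := h.tri_card h3 h2
  obtain ⟨-, -, f3, -, f5⟩ := h.ff_one h3
  obtain ⟨b1, b2, b3, b4, b5, b6, b7, b8, b9, b10, b11, b12, b13, -⟩ := h.basic
  obtain ⟨-, -, -, -, o5, -⟩ := h.one.basic
  have hHU : H ≤ 𝐍[𝑼] := le_normalizer_ncl V H
  -- all `M`-conjugates of `U` centralize `U`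
  have hCY : 𝐂[𝑼] ≤ Y := by
    rw [← b5]
    refine le_inf ((centralizer_anti (le_ncl V H)).trans h.toGeo.basic.2.2.2.1) fun g hg => ?_
    rw [mem_secCent]
    refine ⟨centralizer_le_normalizer' _ (centralizer_anti ((zpowers_le.2 h.one.basic.1).trans
      (le_ncl V H)) hg), fun a ha => ?_⟩
    rw [commutatorElement_eq_one_iff_mul_comm.2 (hg a ha).symm]
    exact one_mem _
  have hn : ∀ n ∈ M, cj(n, 𝑼) ≤ 𝐂[𝑼] := fun n hn => by
    have hp : PP M H 1 ((n : G) : G ⧸ H) ((1 : G) : G ⧸ H) :=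
      PP.of_inc (l := ((1 : G) : G ⧸ M)) ⟨n, rfl, QuotientGroup.eq.2 (by simpa using hn)⟩
        ⟨1, rfl, rfl⟩
    have := hc _ _ hp
    rwa [tr_mk hHU, tr_mk hHU, cj_one] at this
  have hcard : Nat.card ↥(𝐂[𝑼]) ≤ 16 := by
    have e := card_mul_rel hCY
    nlinarith
  have : ¬ M ≤ 𝐂₁[z] := fun hle => by
    rw [relIndex_eq_one.2 hle] at o5; omega
  obtain ⟨m, hm, hm'⟩ := SetLike.not_le_iff_exists.1 this
  have hne : m * z * m⁻¹ ≠ z := fun he => hm' (TA.mem_c₁_conj.2 he)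
  obtain ⟨d1, d2, -, -, -, -, -, -, -, d10⟩ := h.D_facts hm hne
  have hUC : 𝑼 ≤ 𝐂[𝑼] := by have := hn 1 (one_mem _); rwa [cj_one] at this
  have e1 := card_sup_mul_card_inf (A := cj(m, 𝑼)) (B := 𝑼) ((hn m hm).trans (centralizer_le_normalizer' _))
  rw [card_cj, inf_comm] at e1
  have e2 : 2 * Nat.card ↥(𝑼 ⊓ cj(m, 𝑼)) ≤ Nat.card ↥(𝑼) := mul_card_le_of_lt (isEA_isPGroup b6) d10
  have e3 : Nat.card ↥(cj(m, 𝑼) ⊔ 𝑼) ≤ Nat.card ↥(𝐂[𝑼]) := card_le_card_of_le (sup_le (hn m hm) hUC)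
  have e4 : 4 ≤ Nat.card ↥(𝑼 ⊓ cj(m, 𝑼)) := h.four ▸ card_le_card_of_le d1
  rcases f3 with f3 | f3
  · rw [f3] at e1 e2
    have e5 : Nat.card ↥(𝑼 ⊓ cj(m, 𝑼)) = 4 := by omega
    rw [e5] at e1
    have e6 : cj(m, 𝑼) ⊔ 𝑼 = 𝐂[𝑼] := eq_of_le_of_card_le (sup_le (hn m hm) hUC) (by omega)
    have e7 : ncl 𝑼 M = 𝐂[𝑼] :=
      le_antisymm (ncl_le_iff.2 hn) (e6 ▸ sup_le (cj_le_ncl _ hm) (le_ncl _ _))
    have hY2 : IsPGroup 2 Y := (h.of_two (h.ff_one h3).1).1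
    have := h.toTwo.normalizer_eq (N := 𝐂[𝑼]) (hY2.to_le hCY) (fun e => by
      rw [e6, e] at e1; simp at e1) (e7 ▸ le_normalizer_ncl _ _)
    exact h.not_le (this ▸ Amb.le_normalizer_centralizer hHU)
  · rw [f3] at e1 e2
    nlinarith

end Cfsg.Agent.NG
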