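import Mathlib
import Cfsg.Agent.NG.ATri
import Cfsg.Agent.NG.AM12_a
import Cfsg.Agent.NG.AM12_b

set_option autoImplicit false

namespace Cfsg.Agent.NG

open Subgroup Cfsg.Agent.PLocal Cfsg.Agent.PLocal.Amb Cfsg.Agent.PLocal.CP Cfsg.Agent.PLocal.JC
  Cfsg.Agent.NG.AM Cfsg.Agent.NG.AM.RS Cfsg.Agent.NG.TA
open scoped commutatorElement

variable {G : Type*} [Group G] [Finite G]

variable {S M V H Y F : Subgroup G} {z m : G}

set_option quotPrecheck false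

/-- `U = ⟨V^H⟩` -/
local notation "𝑼" => ncl V H
local notation "𝒁" => zpowers z
local notation "𝑼'" => cj(m, ncl V H)
local notation "𝑫" => ncl V H ⊓ cj(m, ncl V H)

omit [Finite G] in
theorem am_two {K L : Subgroup G} (h : K.relIndex L = 2) {a b : G} (ha : a ∈ L) (hb : b ∈ L)
    (h1 : a ∉ K) (h2 : b ∉ K) : a * b ∈ K :=
  (mul_mem_iff_of_index_two h (a := (⟨a, ha⟩ : L)) (b := ⟨b, hb⟩)).2 (iff_of_false h1 h2)

/-- the configuration with `|U| = 8` -/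
structure A8 (S M V : Subgroup G) (z : G) (H Y F : Subgroup G) (m : G) : Prop
    extends CA3 S M V z H Y F m where
  h3 : Y.relIndex F = 3
  h8 : Nat.card (ncl V H) = 8

namespace A8

variable (h : A8 S M V z H Y F m)
include h

theorem two : IsPGroup 2 Y ∧ Y = 𝐐[H] ∧ H ⊓ M = S ∧ 𝐂[V] ≤ S ∧ 𝐂[V] = 𝐐[M] ∧ S.relIndex M = 3 :=
  h.of_two (h.ff_one h.h3).1

theorem HS : H ⊓ M = S := h.two.2.2.1

theorem RS_le : 𝐂[V] ≤ S := h.two.2.2.2.1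

theorem YS : Y ≤ S := h.HS ▸ h.Y_le

theorem VU : V ≤ 𝑼 := h.V_lt_U.le

theorem z1V : m * z * m⁻¹ ∈ V := h.conj_mem_V h.m_mem h.z_mem_V

theorem mulU {a b : G} (ha : a ∈ 𝑼) (hb : b ∈ 𝑼) (h1 : a ∉ V) (h2 : b ∉ V) : a * b ∈ V := by
  have := card_mul_rel h.VU
  rw [h.four, h.h8] at this
  exact am_two (by omega) ha hb h1 h2

theorem conjV {g v : G} (hg : g ∈ M) : g * v * g⁻¹ ∈ V ↔ v ∈ V :=
  (mem_normalizer_iff.1 (h.NV.ge hg) v).symm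

theorem conjR {g v : G} (hg : g ∈ M) : g * v * g⁻¹ ∈ 𝐂[V] ↔ v ∈ 𝐂[V] :=
  (mem_normalizer_iff.1 (h.M_norm_CV hg) v).symm

theorem conjU {g v : G} (hg : g ∈ H) : g * v * g⁻¹ ∈ 𝑼 ↔ v ∈ 𝑼 :=
  (mem_normalizer_iff.1 (le_normalizer_ncl V H hg) v).symm

theorem conjY {g v : G} (hg : g ∈ H) : g * v * g⁻¹ ∈ Y ↔ v ∈ Y :=
  (mem_normalizer_iff.1 (h.Y_norm hg) v).symm

theorem cent {r : G} (hr : r ∈ 𝐂[V]) {v : G} (hv : v ∈ V) : r * v = v * r :=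
  (mem_centralizer_iff.1 hr v hv).symm

theorem memR {g : G} (hg : g ∈ H) (e : g * (m * z * m⁻¹) = m * z * m⁻¹ * g) : g ∈ 𝐂[V] :=
  h.mem_CV h.m_mem h.m_ne (h.fix_z hg) (by rw [e, mul_inv_cancel_right])

theorem memY {a r : G} (ha : a ∈ 𝑼) (haV : a ∉ V) (hr : r ∈ 𝐂[V]) {α : K}
    (hc : Cm z (m * z * m⁻¹) a r α) (hα : α = 0 ∨ α = (1, 0)) : r ∈ Y := by
  have c : ⁅r, a⁆ ∈ 𝒁 := by
    have c1 : Commute (ι z (m * z * m⁻¹) α) (a * r) :=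
      (h.cent (mul_mem (h.U_le_CV ha) hr)
        (mul_mem (pow_mem h.z_mem_V _) (pow_mem h.z1V _))).symm
    rw [commutatorElement_def, hc, ← c1.eq, mul_assoc, mul_assoc, ← mul_inv_rev, mul_inv_cancel,
      mul_one]
    rcases hα with rfl | rfl
    · rw [ι0]; exact one_mem _
    · rw [ι10]; exact mem_zpowers z
  refine h.ker_eq.le ⟨h.CV_le_H hr, h.H_norm_Z (h.CV_le_H hr), fun u hu => ?_⟩
  by_cases hv : u ∈ V
  · rw [commutatorElement_eq_one_iff_mul_comm.2 (h.cent hr hv)]; exact one_mem _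
  · have := h.cent hr (h.mulU (inv_mem ha) hu (by rwa [inv_mem_iff]) hv)
    convert c using 1
    calc ⁅r, u⁆ = r * a * r⁻¹ * (r * (a⁻¹ * u)) * r⁻¹ * u⁻¹ := by rw [commutatorElement_def]; group
      _ = _ := by rw [this, commutatorElement_def]; group

theorem cmY {u y : G} (hu : u ∈ 𝑼) (hy : y ∈ Y) :
    Cm z (m * z * m⁻¹) u y 0 ∨ Cm z (m * z * m⁻¹) u y (1, 0) := by
  have c : Commute z (u * y) := (mem_centralizer_singleton_iff.1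
    (h.H_le_C (h.Y_le_H (mul_mem (h.U_le_Y hu) hy)))).symm
  rcases (mem_zp_two h.z_sq).1 (h.comm_U hy hu) with e | e
  · exact Or.inl (cm_zero.2 (commutatorElement_eq_one_iff_mul_comm.1 e))
  · refine Or.inr ?_
    rw [Cm, ι10, ← c.eq, ← e, commutatorElement_def]
    group

theorem memCU {a r : G} (ha : a ∈ 𝑼) (haV : a ∉ V) (hr : r ∈ 𝐂[V]) (hc : r * a = a * r) :
    r ∈ 𝐂[𝑼] := mem_centralizer_iff.2 fun u hu => by
  by_cases hv : u ∈ V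
  · exact (h.cent hr hv).symm
  · have := h.cent hr (h.mulU (inv_mem ha) hu (by rwa [inv_mem_iff]) hv)
    calc u * r = a * (a⁻¹ * u * r) := by group
      _ = r * u := by rw [← this, ← mul_assoc, ← hc]; group

theorem exists_rho : ∃ ρ ∈ M, ρ * z * ρ⁻¹ = m * z * m⁻¹ ∧
    ρ * (m * z * m⁻¹) * ρ⁻¹ = z * (m * z * m⁻¹) ∧ ρ * ρ * ρ = 1 := by
  obtain ⟨g, hg, ho, e, -⟩ := (h.L_facts h.m_mem h.m_ne).2.2.2.2.2
  have hM : g⁻¹ ∈ M := inv_mem ((sup_le h.Y_le_M (cj_le_of_mem h.Y_le_M h.m_mem)) hg)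
  rw [← orderOf_inv] at ho
  have e1 : g⁻¹ * z * g⁻¹⁻¹ = m * z * m⁻¹ := by nth_rw 1 [← e]; group
  generalize g⁻¹ = ρ at hM ho e1
  have hne := h.m_ne
  have hm := h.mem_CV h.m_mem h.m_ne (g := ρ * ρ * ρ)
  have hv := h.mem_V h.m_mem h.m_ne ((h.conjV hM).2 h.z1V)
  have n1 := h.conj_ne_one m
  have s1 := h.conj_sq m
  have c : z * (m * z * m⁻¹) = m * z * m⁻¹ * z := h.cent (h.U_le_CV (h.VU h.z_mem_V)) h.z1V
  generalize m * z * m⁻¹ = z1 at *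
  have odd : ∀ {K : Subgroup G} {g : G} {k : ℕ}, Odd (orderOf g) → g ^ 2 ^ k ∈ K → g ∈ K :=
    fun {K g k} h1 h2 => zpowers_le.2 h2 (mem_zpowers_pow_iff.2
      ((Nat.coprime_two_left.2 h1).pow_left k))
  have e2 : ρ * z1 * ρ⁻¹ = z * z1 := by
    rcases hv with e | e | e | e
    · exact absurd (by simpa using e) n1
    · have : ρ ∈ 𝐂₁[z] := odd (k := 1) ho (mem_c₁_conj.2 (by
        rw [pow_one, sq, show ρ * ρ * z * (ρ * ρ)⁻¹ = ρ * (ρ * z * ρ⁻¹) * ρ⁻¹ by group, e1, e]))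
      exact absurd (e1.symm.trans (mem_c₁_conj.1 this)) hne
    · exact absurd (by simpa using e.trans e1.symm) hne
    · exact e
  have e3 : ρ * (z * z1) * ρ⁻¹ = z := by
    rw [← conj_mul, e1, e2, c, ← mul_assoc, s1, one_mul]
  have k : ∀ x : G, ρ * ρ * ρ * x * (ρ * ρ * ρ)⁻¹ = ρ * (ρ * (ρ * x * ρ⁻¹) * ρ⁻¹) * ρ⁻¹ :=
    fun x => by group
  refine ⟨ρ, hM, e1, e2, ?_⟩
  refine eq_one_of_isPGroup_of_coprime (h.syl.pgrp.to_le h.RS_le)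
    (hm (by rw [k, e1, e2, e3]) (by rw [k, e2, e3, e1])) ?_
  rw [← pow_three']
  exact Nat.coprime_two_right.2 (ho.of_dvd_nat (orderOf_pow_dvd 3))

theorem exists_RS : ∃ a0 a1 a2 ρ, RS 𝐂[V] V z (m * z * m⁻¹) a0 a1 a2 ρ ∧ ρ ∈ M ∧ a0 ∈ 𝑼 ∧ a0 ∉ V ∧
    a1 ∉ Y := by
  obtain ⟨ρ, hρ, e1, e2, e3⟩ := h.exists_rho
  obtain ⟨a, ha, haV⟩ := SetLike.exists_of_lt h.V_lt_U
  have ex0 : ∀ r ∈ 𝐂[V], ∃ v ∈ V, r * a = a * r * v := fun r hr => by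
    have hv := h.mulU (inv_mem ha) ((h.conjU (h.CV_le_H hr)).2 ha) (by rwa [inv_mem_iff])
      (by rwa [h.conjV (h.CV_le_M hr)])
    exact ⟨_, hv, by rw [mul_assoc a, h.cent hr hv]; group⟩
  have exs : ∀ b : G, (∀ r ∈ 𝐂[V], ∃ v ∈ V, r * b = b * r * v) →
      ∀ r ∈ 𝐂[V], ∃ v ∈ V, r * (ρ * b * ρ⁻¹) = ρ * b * ρ⁻¹ * r * v := fun b hb r hr => by
    obtain ⟨v, hv, e⟩ := hb _ ((h.conjR (inv_mem hρ)).2 hr)
    refine ⟨_, (h.conjV hρ).2 hv, ?_⟩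
    calc _ = ρ * (ρ⁻¹ * r * ρ⁻¹⁻¹ * b) * ρ⁻¹ := by group
      _ = _ := by rw [e]; group
  have r2 : ρ * (ρ * (ρ * a * ρ⁻¹) * ρ⁻¹) * ρ⁻¹ = a := by
    calc _ = ρ * ρ * ρ * a * (ρ * ρ * ρ)⁻¹ := by group
      _ = a := by rw [e3]; group
  have VY := h.VU.trans h.U_le_Y
  have key : ∀ g ∈ M, g * a * g⁻¹ ∈ Y → cj(g, 𝑼) ≤ Y := fun g hg hY => by
    refine cj_le_iff_forall.2 fun u hu => ?_
    by_cases hv : u ∈ V
    · exact VY ((h.conjV hg).2 hv)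
    · have := mul_mem hY (VY ((h.conjV hg).2 (h.mulU (inv_mem ha) hu (by rwa [inv_mem_iff]) hv)))
      rwa [conj_mul, mul_inv_cancel_left] at this
  have n1 : ρ * a * ρ⁻¹ ∉ Y := fun hY =>
    h.crit (h.cj_eq_of_eq hρ h.m_mem e1 h.HM_norm_U ▸ key ρ hρ hY)
  have n2 : ρ * (ρ * a * ρ⁻¹) * ρ⁻¹ ∉ Y := fun hY => by
    obtain ⟨y, hy, hy'⟩ := h.exists_y
    have := key (ρ * ρ) (mul_mem hρ hρ) (by convert hY using 1; group)
    rw [← h.cj_eq_of_eq (mul_mem (h.Y_le_M hy) hρ) (mul_mem hρ hρ) (by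
      rw [show y * ρ * z * (y * ρ)⁻¹ = y * (ρ * z * ρ⁻¹) * y⁻¹ by group,
        show ρ * ρ * z * (ρ * ρ)⁻¹ = ρ * (ρ * z * ρ⁻¹) * ρ⁻¹ by group, e1, e2,
        h.move h.m_mem h.m_ne (h.Y_le hy) hy']) h.HM_norm_U, cj_mul] at this
    exact n1 ((h.conjY (h.Y_le_H hy)).1 (this (conj_mem_cj y (conj_mem_cj ρ ha))))
  have aR := h.U_le_CV ha
  have a1R := (h.conjR hρ).2 aR
  refine ⟨a, _, _, ρ, ⟨h.VU.trans h.U_le_CV, fun r hr v hv => h.cent hr hv,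
    fun v hv => h.mem_V h.m_mem h.m_ne hv, h.z_mem_V, h.z1V, h.z_sq, h.conj_sq m, h.z_ne,
    h.conj_ne_one m, h.m_ne.symm, aR, h.U_sq a ha, rfl, rfl, r2, fun r hr => (h.conjR hρ).2 hr, e1,
    e2, ex0, exs a ex0, exs _ (exs a ex0), ?_⟩, hρ, ha, haV, n1⟩
  obtain ⟨v, hv, e⟩ := exs a ex0 a aR
  have e' : ρ * a * ρ⁻¹ * a = a * (ρ * a * ρ⁻¹) * v := by
    rw [e, mul_assoc _ v, h.V_sq v hv, mul_one]
  rcases h.mem_V h.m_mem h.m_ne hv with rfl | rfl | rfl | rfl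
  · exact absurd (h.memY ha haV a1R (α := 0) (by rwa [Cm, ι0]) (Or.inl rfl)) n1
  · exact absurd (h.memY ha haV a1R (α := (1, 0)) (by rwa [Cm, ι10]) (Or.inr rfl)) n1
  · refine absurd (h.memY ha haV ((h.conjR hρ).2 a1R) (α := (1, 0)) ?_ (Or.inr rfl)) n2
    rw [Cm, ι10]
    generalize ρ * (ρ * a * ρ⁻¹) * ρ⁻¹ = a2 at r2
    refine (MulAut.conj ρ).injective ?_
    simp only [map_mul, MulAut.conj_apply, r2, e1]
    exact e
  · exact e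

theorem memM {g : G} (h1 : g * z * g⁻¹ = z) (h2 : g * (m * z * m⁻¹) * g⁻¹ ∈ V) : g ∈ M := by
  refine h.NV.le (mem_normalizer_of_cj_le ?_)
  nth_rw 1 [h.V_eq_zz h.m_mem h.m_ne]
  rw [cj_sup, cj_zp, cj_zp, h1]
  exact sup_le (zpowers_le.2 h.z_mem_V) (zpowers_le.2 h2)

theorem conjR_ex {x : G} (hx : x ∈ F) (hxY : x ∉ Y) {t : G} (ht : t ∈ Y) :
    ∃ g ∈ zpowers x, g * t * g⁻¹ ∈ 𝐂[V] := by
  have xH := h.F_le hx
  have nV : ∀ f ∈ F, f * (m * z * m⁻¹) * f⁻¹ ∈ V → f ∈ Y := fun f hf e =>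
    h.F_inf.le ⟨hf, h.memM (h.fix_z (h.F_le hf)) e⟩
  have x2 : x * x ∉ Y := fun e => by
    obtain ⟨n, ⟨k, rfl⟩, hn⟩ := h.F_odd hx
    rw [pow_succ, pow_mul, sq] at hn
    exact hxY ((mul_mem_cancel_left (pow_mem e k)).1 hn)
  have fin : ∀ g ∈ zpowers x, t * (g * (m * z * m⁻¹) * g⁻¹) = g * (m * z * m⁻¹) * g⁻¹ * t →
      ∃ g ∈ zpowers x, g * t * g⁻¹ ∈ 𝐂[V] := fun g hg e => by
    have gH : g⁻¹ ∈ H := inv_mem (zpowers_le.2 xH hg)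
    refine ⟨g⁻¹, inv_mem hg, h.memR (h.Y_le_H ((h.conjY gH).2 ht)) ?_⟩
    calc _ = g⁻¹ * (t * (g * (m * z * m⁻¹) * g⁻¹)) * g := by group
      _ = _ := by rw [e]; group
  have u1 := h.VU h.z1V
  have ub := (h.conjU xH).2 u1
  have uc := (h.conjU (mul_mem xH xH)).2 u1
  have nb : x * (m * z * m⁻¹) * x⁻¹ ∉ V := fun e => hxY (nV x hx e)
  have nc : x * x * (m * z * m⁻¹) * (x * x)⁻¹ ∉ V := fun e => x2 (nV _ (mul_mem hx hx) e)
  have fz := h.fix_z xH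
  rcases h.cmY u1 ht with e1 | e1
  · exact fin 1 (one_mem _) (by simpa using cm_zero.1 e1)
  rcases h.cmY ub ht with e2 | e2
  · exact fin x (mem_zpowers x) (cm_zero.1 e2)
  rcases h.cmY uc ht with e3 | e3
  · exact fin _ (mul_mem (mem_zpowers x) (mem_zpowers x)) (cm_zero.1 e3)
  exfalso
  have hv := h.mulU (inv_mem ub) uc (by rwa [inv_mem_iff]) nc
  have tz := mem_c₁.1 (h.H_le_C (h.Y_le_H ht))
  have cz := mem_c₁.1 (h.H_le_C (h.Y_le_H (h.U_le_Y uc)))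
  have bz := mem_c₁.1 (h.H_le_C (h.Y_le_H (h.U_le_Y ub)))
  have hc : x * x * (m * z * m⁻¹) * (x * x)⁻¹ = x * (x * (m * z * m⁻¹) * x⁻¹) * x⁻¹ := by group
  rw [Cm, ι10] at e1 e2 e3
  have tv : t * ((x * (m * z * m⁻¹) * x⁻¹)⁻¹ * (x * x * (m * z * m⁻¹) * (x * x)⁻¹)) =
      (x * (m * z * m⁻¹) * x⁻¹)⁻¹ * (x * x * (m * z * m⁻¹) * (x * x)⁻¹) * t := by
    generalize x * x * (m * z * m⁻¹) * (x * x)⁻¹ = c at *
    generalize x * (m * z * m⁻¹) * x⁻¹ = b at *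
    calc _ = b⁻¹ * (b * t * z) * z⁻¹ * b⁻¹ * c := by group
      _ = b⁻¹ * t * (b * z⁻¹ * b⁻¹) * c := by rw [← e2]; group
      _ = b⁻¹ * (t * c) * (c⁻¹ * z⁻¹ * c) := by
        rw [(show Commute b z from bz).inv_right.eq]; group
      _ = _ := by rw [e3, (show Commute c z from cz).inv_inv.eq]; group
  have k1 : t * (m * z * m⁻¹) ≠ m * z * m⁻¹ * t := fun e => h.z_ne (by
    rw [e] at e1
    exact left_eq_mul.1 e1)
  rcases h.mem_V h.m_mem h.m_ne hv with e | e | e | e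
  · rw [inv_mul_eq_one, hc] at e
    exact nb ((mul_left_cancel (mul_right_cancel e)) ▸ h.z1V)
  · rw [inv_mul_eq_iff_eq_mul, hc] at e
    nth_rw 3 [← fz] at e
    rw [conj_mul] at e
    exact nb ((mul_left_cancel (mul_right_cancel e)) ▸ mul_mem h.z1V h.z_mem_V)
  · exact k1 (e ▸ tv)
  · rw [e, ← mul_assoc, tz, mul_assoc, mul_assoc z] at tv
    exact k1 (mul_left_cancel tv)

variable {a0 a1 a2 ρ : G} (r : RS 𝐂[V] V z (m * z * m⁻¹) a0 a1 a2 ρ) (hρ : ρ ∈ M) (ha : a0 ∈ ncl V H)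
  (haV : a0 ∉ V) (h1 : a1 ∉ Y)

include r hρ in
theorem M_dec {n : G} (hn : n ∈ M) : ∃ j : ℕ, ∃ s ∈ S, n = s * ρ ^ j := by
  have k : ∀ j : ℕ, (ρ ^ j)⁻¹ * z * (ρ ^ j)⁻¹⁻¹ = n⁻¹ * z * n⁻¹⁻¹ → ∃ j : ℕ, ∃ s ∈ S, n = s * ρ ^ j :=
    fun j e => ⟨j, _, h.HS.le (h.mem_HM_of_eq (inv_mem (pow_mem hρ j)) (inv_mem hn) e), by group⟩
  have e3 : ρ * (z * (m * z * m⁻¹)) * ρ⁻¹ = z := by
    have := r.ι_rho (1, 1)
    rwa [ι11, show σ (1, 1) = (1, 0) from rfl, ι10] at this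
  rcases h.mem_V h.m_mem h.m_ne ((h.conjV (inv_mem hn)).2 h.z_mem_V) with e | e | e | e
  · exact absurd e (h.conj_ne_one _)
  · exact k 0 (by rw [e]; group)
  · refine k 2 ?_
    rw [← r.rz1] at e3
    rw [e]
    nth_rw 1 [← e3]
    rw [sq]
    group
  · refine k 1 ?_
    rw [e]
    nth_rw 1 [← e3]
    group

include r ha haV in
theorem eY : a0 * a1 * a2 ∈ Y := h.memY ha haV r.eR r.ce0 (Or.inr rfl)

include r ha haV in
theorem eU : a0 * a1 * a2 ∉ 𝑼 := fun e =>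
  absurd (r.cm_uniq r.ce0 (cm_zero.2 (mem_centralizer_iff.1 (h.U_comm ha) _ e))) (by decide)

include r hρ ha haV in
theorem case16 {k : G} (q : RK 𝐂[V] V z (m * z * m⁻¹) a0 a1 a2 ρ k) : False := by
  have SH := h.S_le_H
  have eY := h.eY r ha haV
  have cls : ∀ t ∈ 𝐂[V], t ∈ Y → t * t = 1 → t ∈ V ∨ a0⁻¹ * t ∈ V ∨ (a0 * a1 * a2)⁻¹ * t ∈ V :=
    fun t h1 h2 h3 => (h.cmY ha h2).elim (fun e => q.inv_class h1 h3 e (Or.inl rfl))
      fun e => q.inv_class h1 h3 e (Or.inr rfl)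
  have Se : ∀ s ∈ S, (a0 * a1 * a2)⁻¹ * (s * (a0 * a1 * a2) * s⁻¹) ∈ V := fun s hs => by
    have n : s * (a0 * a1 * a2) * s⁻¹ ∉ 𝑼 := by
      rw [h.conjU (SH hs)]; exact h.eU r ha haV
    rcases cls _ ((h.conjR (h.le hs)).2 r.eR) ((h.conjY (SH hs)).2 eY)
      (by rw [conj_mul, r.ee]; group) with e | e | e
    · exact absurd (h.VU e) n
    · exact absurd ((mul_mem_cancel_left (inv_mem ha)).1 (h.VU e)) n
    · exact e
  obtain ⟨E, hE⟩ : ∃ E, E = 𝐂[V] ⊓ 𝐂₁[a0 * a1 * a2] := ⟨_, rfl⟩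
  have mE : ∀ {g}, g ∈ E ↔ g ∈ 𝐂[V] ∧ g * (a0 * a1 * a2) = a0 * a1 * a2 * g := by
    intro g; rw [hE, mem_inf, mem_c₁]
  have nE : ∀ g ∈ M, (a0 * a1 * a2)⁻¹ * (g * (a0 * a1 * a2) * g⁻¹) ∈ V → g ∈ 𝐍[E] := fun g hg e => by
    refine mem_normalizer_of_cj_le (cj_le_iff_forall.2 fun x hx => ?_)
    rw [mE] at hx ⊢
    have m1 := (h.conjR hg).2 hx.1
    refine ⟨m1, ?_⟩
    have c1 : Commute (g * x * g⁻¹) (g * (a0 * a1 * a2) * g⁻¹) := by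
      change _ * _ = _ * _
      rw [conj_mul, conj_mul, hx.2]
    have := c1.mul_right (show Commute (g * x * g⁻¹) _ from h.cent m1 e).inv_right
    rwa [mul_inv_rev, inv_inv, mul_inv_cancel_left] at this
  have ME : M ≤ 𝐍[E] := fun n hn => by
    obtain ⟨j, s, hs, rfl⟩ := h.M_dec r hρ hn
    refine mul_mem (nE s (h.le hs) (Se s hs)) (pow_mem (nE ρ hρ ?_) j)
    have := r.cm_mul r.a2R (r.cm_symm r.c10) r.c02
    rw [← conj_mul, ← conj_mul, r.r0, r.r1, r.r2, this, ← mul_assoc a0, inv_mul_cancel_left]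
    exact r.ιV _
  have E2 : IsPGroup 2 E := h.syl.pgrp.to_le (hE.le.trans (inf_le_left.trans h.RS_le))
  have NE := h.toTwo.normalizer_eq E2 (fun e => h.z_ne (mem_bot.1 (e ▸
    mE.2 ⟨r.V_le h.z_mem_V, (r.cent _ r.eR _ h.z_mem_V).symm⟩))) ME
  have Ek : ∀ x ∈ E, Commute k x := fun x hx =>
    q.comm_E (mE.1 hx).1 (Or.inr (mE.1 hx).2) q.kR (Commute.refl k) q.ke
  have Ec : ∀ x ∈ E, ∀ y ∈ E, Commute x y := fun x hx y hy =>
    q.comm_E (mE.1 hy).1 (Or.inr (mE.1 hy).2) (mE.1 hx).1 (Ek x hx).symm (mE.1 hx).2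
  have rk : ∀ j : ℕ, k⁻¹ * (ρ ^ j * k * (ρ ^ j)⁻¹) ∈ V := fun j => by
    induction j with
    | zero => simpa using one_mem V
    | succ j ih =>
      convert mul_mem q.rk (r.rV ih) using 1
      rw [pow_succ']; group
  have sR : ∀ s ∈ S, k⁻¹ * (s * k * s⁻¹) ∈ V → s ∈ 𝐂[V] := fun s hs e => by
    have e' := h.mulU (inv_mem ha) ((h.conjU (SH hs)).2 ha) (by rwa [inv_mem_iff])
      (by rwa [h.conjV (h.le hs)])
    have c1 := r.cm_mul (r.V_le e) q.k0 (r.cm_V r.a0R e)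
    have kv := mul_mem q.kR (r.V_le e)
    have c2 := r.cm_symm (r.cm_mul (r.V_le e') (r.cm_symm c1) (r.cm_V kv e'))
    have c3 := q.k0
    rw [mul_inv_cancel_left, mul_inv_cancel_left, add_zero, add_zero] at c2
    rw [Cm, ι01] at c2 c3
    rw [conj_mul, conj_mul, c3, ← conj_mul, mul_right_inj] at c2
    exact h.mem_CV h.m_mem h.m_ne (h.fix_z (SH hs)) c2
  have syl : IsSyl 2 E 𝐂₁[k] := by
    refine isSyl_of_isSyl_normalizer ⟨le_inf (fun x hx => mem_c₁.2 (Ek x hx).symm) le_normalizer,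
      E2, fun P hP _ hP2 s hs => ?_⟩
    rw [NE] at hP2
    obtain ⟨n, hn, e⟩ := (h.syl.mono h.le le_top).exists_cj_le hP (hP2.trans inf_le_right)
    obtain ⟨j, s0, hs0, rfl⟩ := h.M_dec r hρ hn
    have m1 : ρ ^ j * s * (ρ ^ j)⁻¹ ∈ S := by
      have := mul_mem (mul_mem (inv_mem hs0) (e (conj_mem_cj _ hs))) hs0
      convert this using 1
      group
    have c := mem_c₁.1 (hP2 hs).1
    have m2 : s ∈ 𝐂[V] := by
      refine (h.conjR (pow_mem hρ j)).1 (sR _ m1 ?_)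
      convert mul_mem (rk j) (inv_mem ((h.conjV (h.le m1)).2 (rk j))) using 1
      have c' : k * s * k⁻¹ = s := by rw [← c]; group
      calc _ = k⁻¹ * (ρ ^ j * (k * s * k⁻¹) * (ρ ^ j)⁻¹) * k * (ρ ^ j * s * (ρ ^ j)⁻¹)⁻¹ := by
            rw [c']; group
        _ = _ := by group
    exact mE.2 ⟨m2, (q.comm_E m2 (Or.inl c) r.eR q.ke.symm (Commute.refl _)).symm⟩
  have kY : k ∉ Y := fun e => by
    rcases h.cmY ha e with c | c <;> exact absurd (r.cm_uniq c q.k0) (by decide)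
  have i2 : Y.relIndex S = 2 := by
    have := card_mul_rel h.YS
    rw [(h.tri_card h.h3 fun e => kY (e (h.HS.ge (h.RS_le q.kR)))).2.1, mul_comm 2] at this
    exact Nat.eq_of_mul_eq_mul_left Nat.card_pos this
  obtain ⟨g, hg⟩ := h.hyp.transfer h.syl h.YS i2 q.kk (h.RS_le q.kR) kY
  obtain ⟨x, hx, hxM⟩ := SetLike.not_le_iff_exists.1 h.F_not_le
  obtain ⟨c, hc, tR⟩ := h.conjR_ex hx (fun e => hxM (h.Y_le_M e)) hg
  have tY := (h.conjY (zpowers_le.2 (h.F_le hx) hc)).2 hg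
  rw [show c * (g * k * g⁻¹) * c⁻¹ = c * g * k * (c * g)⁻¹ by group] at tR tY
  generalize c * g = d at tR tY
  have ab : ∀ u ∈ S, ∀ w ∈ S, u ∈ 𝐂₁[d * k * d⁻¹] → w ∈ 𝐂₁[d * k * d⁻¹] → Commute u w := by
    intro u hu w hw h1 h2
    obtain ⟨n, -, e⟩ := (syl.cj d).exists_cj_le (R := S ⊓ 𝐂₁[d * k * d⁻¹])
      (h.syl.pgrp.to_le inf_le_left) (by rw [centralizer_singleton_conj]; exact inf_le_right)
    have := Ec _ (mem_cj.1 (e (conj_mem_cj n ⟨hu, h1⟩))) _ (mem_cj.1 (e (conj_mem_cj n ⟨hw, h2⟩)))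
    simpa [mul_assoc] using this.map (MulAut.conj (n⁻¹ * d))
  have t2 : d * k * d⁻¹ * (d * k * d⁻¹) = 1 := by rw [conj_mul, q.kk]; group
  generalize d * k * d⁻¹ = t at tR tY ab t2
  obtain ⟨y, hy, hy'⟩ := h.exists_y
  have fin : ∀ (b : G) (α β : K), b ∈ 𝐂[V] → b⁻¹ * t ∈ V → b⁻¹ * (y * b * y⁻¹) ∈ V →
      Cm z (m * z * m⁻¹) a1 b α → Cm z (m * z * m⁻¹) a2 b β →
      (∀ p : K, ∃ j l : ZMod 2, p = j • α + l • β) → False := by
    intro b α β hb h1 h2 c1 c2 hp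
    have m1 : t⁻¹ * (y * t * y⁻¹) ∈ V := by
      convert mul_mem (mul_mem (inv_mem h1) h2) ((h.conjV (h.Y_le_M hy)).2 h1) using 1
      group
    obtain ⟨p, e⟩ := r.ι_surj m1
    obtain ⟨j, l, rfl⟩ := hp p
    have d1 := r.cm_mul (r.V_le h1) c1 (r.cm_V r.a1R h1)
    have d2 := r.cm_mul (r.V_le h1) c2 (r.cm_V r.a2R h1)
    rw [mul_inv_cancel_left, add_zero] at d1 d2
    have d3 := r.cm_mul (pow_mem r.a2R l.val) (cm_pow (r.cm_symm d1) j) (cm_pow (r.cm_symm d2) l)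
    have wR := mul_mem (pow_mem r.a1R j.val) (pow_mem r.a2R l.val)
    generalize a1 ^ j.val * a2 ^ l.val = w at d3 wR
    rw [Cm, mul_assoc, r.cent w wR _ (r.ιV _), ← e] at d3
    have sS := mul_mem (inv_mem (h.RS_le wR)) (h.YS hy)
    have := ab _ sS _ (h.RS_le (r.V_le h.z1V)) (mem_c₁.2 (by
      calc w⁻¹ * y * t = w⁻¹ * (t * (t⁻¹ * (y * t * y⁻¹) * w)) * w⁻¹ * y := by group
        _ = _ := by rw [← d3]; group)) (mem_c₁.2 (r.cent t tR _ h.z1V).symm)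
    exact hy' ((mul_mem_cancel_left (inv_mem wR)).1 (h.memR (SH sS) this))
  rcases cls t tR tY t2 with e | e | e
  · exact absurd (r.cm_uniq r.c10 (cm_zero.2 (ab _ (h.RS_le r.a0R) _ (h.RS_le r.a1R)
      (mem_c₁.2 (r.cent _ r.a0R _ e)) (mem_c₁.2 (r.cent _ r.a1R _ e))))) (by decide)
  · exact fin a0 _ _ r.a0R e (h.mulU (inv_mem ha) ((h.conjU (h.Y_le_H hy)).2 ha)
      (by rwa [inv_mem_iff]) (by rwa [h.conjV (h.Y_le_M hy)])) r.c10 (r.cm_symm r.c02) (by decide)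
  · exact fin _ _ _ r.eR e (Se y (h.YS hy)) r.ce1 r.ce2 (by decide)

include r hρ ha haV h1 in
theorem case8 (hC : 𝐂[𝑼] ≤ 𝑼) : False := by
  have SH := h.S_le_H
  have eY := h.eY r ha haV
  have a1S := h.RS_le r.a1R
  -- the element of order three
  obtain ⟨x, hx, hxY, x3, xi⟩ : ∃ x ∈ F, x ∉ Y ∧ x * x * x = 1 ∧ a1 * x * a1⁻¹ = x⁻¹ := by
    obtain ⟨-, -, -, q1, q2⟩ := h.q1 (h.HS.ge a1S) (by rw [r.a11]; exact one_mem _)
    obtain ⟨f, hf, hfY⟩ := SetLike.not_le_iff_exists.1 (q2 h1)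
    have fF : f ∈ F := commutator_le.2 (fun f hf g hg => by
      rw [commutatorElement_def, mul_assoc, mul_assoc, ← mul_assoc g]
      exact mul_mem hf (Amb.conj_mem_of_mem_normalizer (zpowers_le.2 (h.F_norm (SH a1S)) hg)
        (inv_mem hf))) hf
    obtain ⟨x, ho, hi, hm, -⟩ := exists_odd_inverted r.a11 (h.Y_norm (SH a1S))
      (h.Y_norm (h.F_le fF)) (h.F_odd fF) (q1 f (mem_sup_left hf))
    have xF : x ∈ F := (mul_mem_cancel_right (inv_mem fF)).1 (h.Y_le_F hm)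
    refine ⟨x, xF, fun e => hfY (inv_mem_iff.1 ((mul_mem_cancel_left e).1 hm)), ?_, hi⟩
    have := normal_subgroupOf' (h.F_le.trans h.Y_norm)
    have m3 : x ^ 3 ∈ Y := h.h3 ▸ (Y.subgroupOf F).pow_index_mem ⟨x, xF⟩
    rw [← pow_three']
    exact eq_one_of_isPGroup_of_coprime h.two.1 m3
      (Nat.coprime_two_right.2 (ho.of_dvd_nat (orderOf_pow_dvd 3)))
  have xH := h.F_le hx
  have zY := h.U_le_Y (h.VU h.z_mem_V)
  have yz : ∀ y ∈ H, Commute y z := fun y hy => mem_c₁.1 (h.H_le_C hy)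
  have sq0 : ∀ t ∈ Y, t ∈ 𝐂[V] → t * t ∈ 𝒁 := fun t ht tR => by
    rcases h.cmY ha ht with e | e
    · rw [h.U_sq t (hC (h.memCU ha haV tR (cm_zero.1 e)))]; exact one_mem _
    · have uR := mul_mem (inv_mem r.eR) tR
      have uU := hC (h.memCU ha haV uR (cm_zero.1 (r.cm_mul tR (r.cm_inv r.a0R r.eR r.ce0) e)))
      rcases h.cmY uU eY with c | c
      · have := r.sq_step (h.U_sq _ uU) uR c (β := 0) (by rw [r.ee, ι0]) 1
        rw [val1, pow_one, mul_inv_cancel_left, smul_zero, add_zero, ι0] at this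
        rw [this]; exact one_mem _
      · have := r.sq_step (h.U_sq _ uU) uR c (β := 0) (by rw [r.ee, ι0]) 1
        rw [val1, pow_one, mul_inv_cancel_left, one_smul, zero_add, ι10] at this
        rw [this]; exact mem_zpowers z
  have sqZ : ∀ t ∈ Y, t * t ∈ 𝒁 := fun t ht => by
    obtain ⟨g, hg, tR⟩ := h.conjR_ex hx hxY ht
    have gH := zpowers_le.2 xH hg
    have := sq0 _ ((h.conjY gH).2 ht) tR
    rwa [conj_mul, ← mem_normalizer_iff.1 (h.H_norm_Z gH)] at this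
  have nV : ∀ v ∈ V, x * v * x⁻¹ ∈ V → v ∈ 𝒁 := fun v hv e => by
    have k : x * (m * z * m⁻¹) * x⁻¹ ∉ V := fun e =>
      hxY (h.F_inf.le ⟨hx, h.memM (h.fix_z xH) e⟩)
    rcases h.mem_V h.m_mem h.m_ne hv with rfl | rfl | rfl | rfl
    · exact one_mem _
    · exact mem_zpowers _
    · exact absurd e k
    · rw [← conj_mul, h.fix_z xH, mul_mem_cancel_left h.z_mem_V] at e
      exact absurd e k
  have bU := (h.conjU xH).2 (h.VU h.z1V)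
  have bV : x * (m * z * m⁻¹) * x⁻¹ ∉ V := fun e => by
    rcases (mem_zp_two h.z_sq).1 (nV _ h.z1V e) with e | e
    exacts [h.conj_ne_one m e, h.m_ne e]
  have tri : ∀ w ∈ 𝑼, w ∉ V → x * w * x⁻¹ ∉ V → x⁻¹ * w * x⁻¹⁻¹ ∈ V := fun w wU n1 n2 => by
    have nZ := mem_normalizer_iff.1 (h.H_norm_Z xH)
    have cV : x * (x * (m * z * m⁻¹) * x⁻¹) * x⁻¹ ∉ V := fun e => by
      have := nV _ e (by
        rw [show x * (x * (x * (m * z * m⁻¹) * x⁻¹) * x⁻¹) * x⁻¹ =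
          x * x * x * (m * z * m⁻¹) * (x * x * x)⁻¹ by group, x3, one_mul, inv_one, mul_one]
        exact h.z1V)
      exact bV (zpowers_le.2 h.z_mem_V ((nZ _).2 this))
    have v := nV _ (h.mulU (inv_mem wU) bU (by rwa [inv_mem_iff]) bV) (by
      rw [← conj_mul, ← conj_inv]
      exact h.mulU (inv_mem ((h.conjU xH).2 wU)) ((h.conjU xH).2 bU) (by rwa [inv_mem_iff]) cV)
    rw [show w⁻¹ * (x * (m * z * m⁻¹) * x⁻¹) =
      x * ((x⁻¹ * w * x⁻¹⁻¹)⁻¹ * (m * z * m⁻¹)) * x⁻¹ by group, ← nZ] at v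
    exact inv_mem_iff.1 ((mul_mem_cancel_right h.z1V).1 (zpowers_le.2 h.z_mem_V v))
  have es : Grp.ES.IsES 2 z Y := by
    refine ⟨orderOf_eq_prime (by rw [sq, h.z_sq]) h.z_ne, zY, fun s hs => yz s (h.Y_le_H hs),
      fun s hs t ht => ?_, fun t ht hc => ?_⟩
    · convert mul_mem (mul_mem (sqZ s hs) (sqZ _ (mul_mem (inv_mem hs) ht))) (inv_mem (sqZ t ht))
        using 1
      rw [commutatorElement_def]
      group
    · have tU := hC (mem_centralizer_iff.2 fun u hu => (hc u (h.U_le_Y hu)).symm)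
      have tV : t ∈ V := by
        by_contra hn
        have v := h.mulU (inv_mem ha) tU (by rwa [inv_mem_iff]) hn
        have := r.cm_mul (r.V_le v) (r.cm_symm r.ce0) (r.cm_V r.eR v)
        rw [mul_inv_cancel_left] at this
        exact absurd (r.cm_uniq this (cm_zero.2 (hc _ eY))) (by decide)
      exact (h.D_inf_CY h.m_mem h.m_ne).le ⟨h.V_le_D h.m_mem tV,
        mem_centralizer_iff.2 fun y hy => (hc y hy).symm⟩
  have xd : X32.XD z x Y := by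
    refine ⟨es, x3, yz x xH, fun q hq => (h.conjY xH).2 hq, fun t ht hc => ?_⟩
    obtain ⟨g, ⟨i, rfl⟩, tR⟩ := h.conjR_ex hx hxY ht
    rw [(hc.zpow_left i).eq, mul_inv_cancel_right] at tR
    have tU := hC (h.memCU bU bV tR
      (((hc.symm.mul_right (h.cent tR h.z1V)).mul_right hc.symm.inv_right).eq))
    have tx : x * t * x⁻¹ = t := by rw [hc.eq, mul_inv_cancel_right]
    by_cases tV : t ∈ V
    · exact nV t tV (by rwa [tx])
    have := tri t tU tV (by rwa [tx])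
    rw [hc.inv_left.eq, inv_inv, inv_mul_cancel_right] at this
    exact absurd this tV
  have CH : 𝐂₁[z] = H := by
    refine le_antisymm (fun c hc => ?_) h.H_le_C
    have n1 : 𝑼 ≤ ncl V 𝐂₁[z] := ncl_le_iff.2 fun g hg => cj_le_ncl _ (h.H_le_C hg)
    have n2 : ncl V 𝐂₁[z] ≤ 𝑼 := (h.ab.trans (centralizer_anti n1)).trans hC
    have wU : c * (m * z * m⁻¹) * c⁻¹ ∈ 𝑼 := n2 (cj_le_ncl _ hc (conj_mem_cj c h.z1V))
    have fin : ∀ g ∈ H, g * (c * (m * z * m⁻¹) * c⁻¹) * g⁻¹ ∈ V → c ∈ H := fun g hg e => by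
      have e1 := mem_c₁_conj.1 (mul_mem (h.H_le_C hg) hc)
      exact (mul_mem_cancel_left hg).1 (h.mem_HM (h.memM e1 (by convert e using 1; group)) e1).1
    by_cases n3 : c * (m * z * m⁻¹) * c⁻¹ ∈ V
    · exact fin 1 (one_mem _) (by simpa using n3)
    by_cases n4 : x * (c * (m * z * m⁻¹) * c⁻¹) * x⁻¹ ∈ V
    · exact fin x xH n4
    · exact fin _ (inv_mem xH) (tri _ wU n3 n4)
  have cY : Nat.card Y = 32 := by
    have e1 : 𝐂[𝑼] = 𝑼 := le_antisymm hC h.U_comm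
    have e2 := card_mul_rel h.U_le_Y
    have e3 := (h.ff_one h.h3).2.2.2.2
    have e4 := h.dual.1
    have e5 := card_mul_rel (inf_le_right : 𝐂[Y] ⊓ 𝑼 ≤ 𝑼)
    have e6 : Nat.card 𝒁 ≤ Nat.card ↥(𝐂[Y] ⊓ 𝑼) := card_le_of_le (zpowers_le.2
      ⟨mem_centralizer_iff.2 fun y hy => yz y (h.Y_le_H hy), h.VU h.z_mem_V⟩)
    rw [h.one.card_Z] at e6
    rw [inf_relIndex_right, ← e4, h.h8] at e5
    rw [e1] at e3 e5
    rw [h.h8] at e2
    have : Y.relIndex Y = 1 := relIndex_self Y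
    nlinarith
  obtain ⟨-, c1, c2⟩ := h.tri_card h.h3 fun e => h1 (e (h.HS.ge a1S))
  refine h.hyp.not_list (xd.main cY xi (yz _ (SH a1S)) (Or.inl r.a11)
    (fun c hc q hq => (h.conjY (CH.le (mem_c₁.2 hc))).2 hq) (by rw [CH, c2, c1, cY]) (g := m)
    (h.U_le_Y (h.VU h.z1V)) h.m_ne)

theorem false : False := by
  obtain ⟨a0, a1, a2, ρ, r, hρ, ha, haV, h1⟩ := h.exists_RS
  by_cases hC : 𝐂[𝑼] ≤ 𝑼
  · exact h.case8 r hρ ha haV h1 hC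
  obtain ⟨k, hk, hkU⟩ := SetLike.not_le_iff_exists.1 hC
  have CR : 𝐂[𝑼] ≤ 𝐂[V] := centralizer_anti h.VU
  have CY : 𝐂[𝑼] ≤ Y := fun g hg => h.memY ha haV (CR hg)
    (cm_zero.2 (mem_centralizer_iff.1 hg _ ha).symm) (Or.inl rfl)
  have i2 : (𝑼).relIndex 𝐂[𝑼] = 2 := by
    obtain ⟨c0, c1, -⟩ := h.tri_card h.h3 fun e => h1 (e (h.HS.ge (h.RS_le r.a1R)))
    have e1 := card_mul_rel CY
    have e2 := card_mul_rel h.U_comm
    have e3 := (h.ff_one h.h3).2.2.2.2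
    have e4 : (𝑼).relIndex 𝐂[𝑼] ≠ 0 := index_ne_zero_of_finite
    have e5 : (𝑼).relIndex 𝐂[𝑼] ≠ 1 := fun e => hC (relIndex_eq_one.1 e)
    rw [h.h8] at e2
    have : 4 * Nat.card 𝐂[𝑼] ≤ Nat.card Y := by rw [← e1, mul_comm]; exact Nat.mul_le_mul_left _ e3
    omega
  obtain ⟨k, q⟩ := r.exists_RK (U := 𝑼)
    (fun u hu => or_iff_not_imp_left.2 fun hv => h.mulU ha hu haV hv)
    (fun a aR b bR c1 c2 n1 n2 => am_two i2 (h.memCU ha haV aR (cm_zero.1 c1))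
      (h.memCU ha haV bR (cm_zero.1 c2)) n1 n2)
    (fun a aR a2 hc => h.one.basic.2.2.2.2.2.2.2.2.2.2.2.2.2.le (mem_omegaZ.2
      ⟨⟨h.RS_le aR, aR⟩, mem_centralizer_iff.2 fun s hs => hc s hs.2, by rwa [sq]⟩))
    h.VU ha (CR hk) (cm_zero.2 (mem_centralizer_iff.1 hk _ ha).symm) hkU
  exact h.case16 r hρ ha haV q

end A8

theorem CA3.not_eight (h : CA3 S M V z H Y F m) (h3 : Y.relIndex F = 3)
    (h8 : Nat.card ↥(𝑼) = 8) : False := A8.false ⟨h, h3, h8⟩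

end Cfsg.Agent.NG
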