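import Mathlib
import Cfsg.Agent.NG.One
import Cfsg.Agent.FGS.Pairing
import Cfsg.Agent.Misc.Four

set_option autoImplicit false
set_option linter.unusedSectionVars false

namespace Cfsg.Agent.NG

open Subgroup Cfsg.Agent.PLocal Cfsg.Agent.PLocal.Amb Cfsg.Agent.PLocal.CP Cfsg.Agent.PLocal.JC
open scoped commutatorElement

variable {G : Type*} [Group G] [Finite G]

variable {S M V : Subgroup G} {z m : G}

set_option quotPrecheck false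

/-- the symmetric form of case N: the point `z` -/
structure NP (M V : Subgroup G) (z : G) : Prop where
  ex : ∃ S, One S M V z
  nab : ¬ ncl V 𝐂₁[z] ≤ 𝐂[ncl V 𝐂₁[z]]

local notation "𝑼[" y "]" => ncl V 𝐂₁[y]

theorem n0_mem_iff {C X : Subgroup G} (h : C.relIndex X = 2) {a b : G} (ha : a ∈ X)
    (hb : b ∈ X) : a * b ∈ C ↔ (a ∈ C ↔ b ∈ C) :=
  mul_mem_iff_of_index_two (H := C.subgroupOf X) h (a := ⟨a, ha⟩) (b := ⟨b, hb⟩)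

theorem n0_comm_left {A : Subgroup G} {a g : G} (ha : a ∈ A) (hg : g ∈ 𝐍[A]) : ⁅a, g⁆ ∈ A := by
  have := A.mul_mem ha (Amb.conj_mem_of_mem_normalizer hg (A.inv_mem ha))
  simpa [commutatorElement_def, mul_assoc] using this

theorem n0_comm_right {A : Subgroup G} {a g : G} (ha : a ∈ A) (hg : g ∈ 𝐍[A]) : ⁅g, a⁆ ∈ A :=
  A.mul_mem (Amb.conj_mem_of_mem_normalizer hg ha) (A.inv_mem ha)

theorem n0_comm_le_left {A B : Subgroup G} (h : B ≤ 𝐍[A]) : ⁅A, B⁆ ≤ A :=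
  commutator_le.2 fun _ ha _ hb => n0_comm_left ha (h hb)

theorem n0_comm_le_right {A B : Subgroup G} (h : A ≤ 𝐍[B]) : ⁅A, B⁆ ≤ B :=
  commutator_le.2 fun _ ha _ hb => n0_comm_right hb (h ha)

theorem n0_le_norm {A B : Subgroup G} (h : ⁅A, B⁆ ≤ A) : B ≤ 𝐍[A] := fun b hb =>
  mem_normalizer_of_cj_le (cj_le_iff_forall.2 fun a ha => by
    have := A.mul_mem (A.inv_mem (h (commutator_mem_commutator ha hb))) ha
    simpa [commutatorElement_def, mul_assoc] using this)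

theorem n0_relIndex_cj (g : G) (H K : Subgroup G) : (cj(g, H)).relIndex cj(g, K) = H.relIndex K :=
  relIndex_map_map_of_injective _ _ (MulAut.conj g).injective

theorem n0_relIndex_le {C : Subgroup G} {x : G} (hn : x ∈ 𝐍[C]) (h2 : x * x ∈ C) :
    C.relIndex (zpowers x ⊔ C) ≤ 2 := by
  rw [relIndex_sup_of_le_normalizer (zpowers_le.2 hn)]
  have := normal_subgroupOf' (zpowers_le.2 hn)
  rw [← card_qI le_rfl]
  have h1 : qI (zpowers x) C (zpowers x) ≤ zpowers (qπ _ C ⟨x, mem_zpowers x⟩) := by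
    rintro _ ⟨⟨_, n, rfl⟩, -, rfl⟩
    exact ⟨n, (map_zpow _ _ _).symm⟩
  refine (card_le_of_le h1).trans ?_
  rw [Nat.card_zpowers]
  refine Nat.le_of_dvd two_pos (orderOf_dvd_of_pow_eq_one ?_)
  rw [← map_pow, qπ_eq_one, pow_two]
  exact h2

namespace NP

variable {y : G}

section one

variable (h : NP M V z)
include h

theorem normV : 𝐍[V] = M := let ⟨_, h⟩ := h.ex; h.toTwo.basic.2.2.2.1

theorem CV_le : 𝐂[V] ≤ M := let ⟨_, h⟩ := h.ex; h.toTwo.basic.2.2.2.2.1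

theorem normCV : M ≤ 𝐍[𝐂[V]] := Amb.le_normalizer_centralizer h.normV.ge

theorem zV : z ∈ V := let ⟨_, h⟩ := h.ex; h.z_mem_V

theorem ne : z ≠ 1 := let ⟨_, h⟩ := h.ex; h.z_ne

theorem four : Nat.card V = 4 := let ⟨_, h⟩ := h.ex; h.four

theorem ea : IsElementaryAbelian 2 V := let ⟨_, h⟩ := h.ex; h.toTwo.ea

theorem V2 : ∀ v ∈ V, v * v = 1 := sq_eq_one_of_isEA h.ea

theorem sq : z * z = 1 := h.V2 z h.zV

theorem V_le_CV : V ≤ 𝐂[V] := elemAb_le_centralizer h.ea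

theorem CV_le_C : 𝐂[V] ≤ 𝐂₁[z] := centralizer_le (by simpa using h.zV)

theorem Z_le : zpowers z ≤ V := zpowers_le.2 h.zV

theorem V_le : V ≤ 𝑼[z] := le_ncl _ _

theorem normU : 𝐂₁[z] ≤ 𝐍[𝑼[z]] := le_normalizer_ncl _ _

theorem mod : Mod 𝐂₁[z] 𝑼[z] (zpowers z) := let ⟨_, h⟩ := h.ex; (h.mod h.S_le_C le_rfl).1

theorem U_le_C : 𝑼[z] ≤ 𝐂₁[z] := ncl_le_of_le (h.V_le_CV.trans h.CV_le_C)

theorem U_le_M : 𝑼[z] ≤ M :=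
  let ⟨_, h⟩ := h.ex
  let h1 := h.mod h.S_le_C le_rfl
  h1.2.1.trans (h1.2.2.2.2.trans h.le)

theorem U_two : IsPGroup 2 𝑼[z] :=
  let ⟨_, h⟩ := h.ex
  (Amb.isPGroup_pCoreOf 2 _).to_le (h.mod h.S_le_C le_rfl).2.1

theorem comm : ⁅𝑼[z], 𝑼[z]⁆ ≤ zpowers z := h.mod.comm

theorem not_le : ¬ 𝑼[z] ≤ 𝐂[V] := fun h1 => h.nab (le_centralizer_ncl h1 h.normU)

theorem idxP : (𝐂[V]).relIndex (𝐂₁[z] ⊓ M) = 2 := let ⟨_, h⟩ := h.ex; h.basic.2.2.2.2.2.1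

theorem idxM : (𝐂[V]).relIndex M = 6 := let ⟨_, h⟩ := h.ex; h.basic.2.2.2.1

theorem idx3 : (𝐂₁[z]).relIndex M = 3 := let ⟨_, h⟩ := h.ex; h.idx_three

theorem idxU : (𝐂[V]).relIndex 𝑼[z] = 2 := by
  have h3 := four_two_group h.V2 h.four (h.U_le_M.trans h.normV.ge) h.U_two
  have h4 : (𝐂[V]).relIndex 𝑼[z] ≠ 1 := fun h4 => h.not_le (relIndex_eq_one.1 h4)
  have h5 : (𝐂[V]).relIndex 𝑼[z] ≠ 0 := index_ne_zero_of_finite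
  omega

theorem cj_U {n : G} (hn : n ∈ M) : cj(n, 𝑼[z]) = 𝑼[n * z * n⁻¹] := by
  rw [cj_ncl, cj_of_mem_normalizer (h.normV.ge hn), centralizer_singleton_conj]

theorem conj {n : G} (hn : n ∈ M) : NP M V (n * z * n⁻¹) := by
  obtain ⟨S, hS⟩ := h.ex
  have h1 := hS.cj n
  rw [cj_of_mem hn, cj_of_mem_normalizer (h.normV.ge hn)] at h1
  refine ⟨⟨_, h1⟩, ?_⟩
  rw [← h.cj_U hn, centralizer_cj, cj_le_cj_iff]
  exact h.nab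

theorem of_mem {v : G} (hv : v ∈ V) (h1 : v ≠ 1) : NP M V v := by
  obtain ⟨S, hS⟩ := h.ex
  obtain ⟨n, hn, rfl⟩ := hS.trans hv h1
  exact h.conj hn

theorem V_le_of {N : Subgroup G} (hN : IsPGroup 2 N) (h1 : N ≠ ⊥) (hM : M ≤ 𝐍[N]) : V ≤ N :=
  let ⟨_, h⟩ := h.ex; h.V_le hN h1 hM

theorem CV_normU : 𝐂[V] ≤ 𝐍[𝑼[z]] := h.CV_le_C.trans h.normU

theorem CV_normE : 𝐂[V] ≤ 𝐍[𝑼[z] ⊓ 𝐂[V]] := Amb.le_normalizer_inf h.CV_normU le_normalizer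

theorem comm_CV : ⁅𝐂[V], 𝑼[z]⁆ ≤ 𝑼[z] ⊓ 𝐂[V] :=
  le_inf (n0_comm_le_right h.CV_normU) (n0_comm_le_left (h.U_le_M.trans h.normCV))

theorem E_le_Q : 𝑼[z] ⊓ 𝐂[V] ≤ 𝐐[M] :=
  (Amb.le_pCoreOf h.U_two.to_inf_left inf_le_right h.CV_normE).trans
    (pCoreOf_mono_of_normal h.CV_le h.normCV)

theorem exists_inv : ∃ u ∈ 𝑼[z], u ∉ 𝐂[V] ∧ u * u = 1 := by
  by_contra hc
  push Not at hc
  refine h.not_le (ncl_le_iff.2 fun g hg x hx => ?_)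
  by_contra h1
  refine hc x (cj_le_ncl V hg hx) h1 ?_
  obtain ⟨v, hv, rfl⟩ := mem_cj_iff_exists.1 hx
  calc g * v * g⁻¹ * (g * v * g⁻¹) = g * (v * v) * g⁻¹ := by group
    _ = 1 := by rw [h.V2 v hv]; group

theorem sup_eq {u : G} (hu : u ∈ 𝑼[z]) (hu' : u ∉ 𝐂[V]) : zpowers u ⊔ (𝑼[z] ⊓ 𝐂[V]) = 𝑼[z] :=
  sup_zpowers_eq (by rw [inf_relIndex_left, h.idxU]; exact Nat.prime_two) inf_le_left hu
    fun h1 => hu' h1.2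

theorem mul_mem_E {u u' : G} (hu : u ∈ 𝑼[z]) (h1 : u ∉ 𝐂[V]) (hu' : u' ∈ 𝑼[z]) (h2 : u' ∉ 𝐂[V]) :
    u * u' ∈ 𝑼[z] ⊓ 𝐂[V] :=
  ⟨mul_mem hu hu', (n0_mem_iff h.idxU hu hu').2 (iff_of_false h1 h2)⟩

theorem odd_mem {x : G} (hx : x ∈ 𝐂₁[z]) (hM : x ∈ M) (ho : Odd (orderOf x)) : x ∈ 𝐂[V] :=
  mem_of_pow_mem_of_coprime (n := 2) (by
    rw [pow_two]
    exact (n0_mem_iff h.idxP ⟨hx, hM⟩ ⟨hx, hM⟩).2 Iff.rfl) (coprime_two_iff.2 ho)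

end one

section two

variable (h : NP M V z) (h' : NP M V y) (hne : z ≠ y)
include h h' hne

theorem mem_V {v : G} : v ∈ V ↔ v = 1 ∨ v = z ∨ v = y ∨ v = z * y := by
  have hc := elemAb_comm h.ea h.zV h'.zV
  rw [← Misc.mem_closure_pair_iff h.sq h'.sq hc]
  have : closure {z, y} = V := eq_of_le_of_card_ge
    ((closure_le _).2 (by rintro _ (rfl | rfl); exacts [h.zV, h'.zV]))
    (by rw [h.four, Misc.card_closure_pair h.sq h'.sq hc h.ne h'.ne hne])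
  rw [this]

theorem mem_CV {x : G} (h1 : x ∈ 𝐂₁[z]) (h2 : x ∈ 𝐂₁[y]) : x ∈ 𝐂[V] := by
  rw [mem_centralizer_singleton_iff] at h1 h2
  intro v hv
  rcases (h.mem_V h' hne).1 hv with rfl | rfl | rfl | rfl
  · simp
  · exact h1.symm
  · exact h2.symm
  · rw [mul_assoc, ← h2, ← mul_assoc, ← h1, mul_assoc]

theorem mul_ne_one : z * y ≠ 1 := fun e => hne (by
  rw [← mul_one z, ← h'.sq, ← mul_assoc, e, one_mul])

theorem third : NP M V (z * y) := h.of_mem (V.mul_mem h.zV h'.zV) (h.mul_ne_one h' hne)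

theorem ne_left : z ≠ z * y := fun e => h'.ne (by simpa using e)

theorem ne_right : y ≠ z * y := fun e => h.ne (by simpa using e)

theorem mul_comm' : z * y = y * z := elemAb_comm h.ea h.zV h'.zV

theorem Z_inf : zpowers z ⊓ zpowers y = ⊥ := by
  rw [eq_bot_iff]
  rintro x ⟨h1, h2⟩
  rcases (Misc.mem_zpowers_two h.sq).1 h1 with rfl | rfl
  · exact one_mem _
  · rcases (Misc.mem_zpowers_two h'.sq).1 h2 with e | e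
    · exact absurd e h.ne
    · exact absurd e hne

theorem eq_one {x : G} (h1 : x ∈ zpowers z) (h2 : x ∈ zpowers y) : x = 1 :=
  mem_bot.1 ((h.Z_inf h' hne).le ⟨h1, h2⟩)

theorem act {u : G} (hu : u ∈ 𝐂₁[z]) (hM : u ∈ M) (hu' : u ∉ 𝐂[V]) : u * y * u⁻¹ = z * y := by
  have h1 := mem_centralizer_singleton_iff.1 hu
  rcases (h.mem_V h' hne).1 (Amb.conj_mem_of_mem_normalizer (h.normV.ge hM) h'.zV) with e | e | e | e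
  · exact absurd (by simpa using e) h'.ne
  · exact absurd (by
      rw [mul_inv_eq_iff_eq_mul, ← h1] at e
      exact (mul_left_cancel e).symm) hne
  · exact absurd (h.mem_CV h' hne hu
      (mem_centralizer_singleton_iff.2 (mul_inv_eq_iff_eq_mul.1 e))) hu'
  · exact e

theorem actU {u : G} (hu : u ∈ 𝑼[z]) (hu' : u ∉ 𝐂[V]) : cj(u, 𝑼[y]) = 𝑼[z * y] := by
  rw [h'.cj_U (h.U_le_M hu), h.act h' hne (h.U_le_C hu) (h.U_le_M hu) hu']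

theorem gen {X : Subgroup G} (h1 : 𝐂[V] ≤ X) (h2 : 𝑼[z] ≤ X) (h3 : 𝑼[y] ≤ X) : M ≤ X := by
  obtain ⟨u, hu, hu', -⟩ := h.exists_inv
  obtain ⟨w, hw, hw', -⟩ := h'.exists_inv
  have e1 := sup_zpowers_eq (h.idxP ▸ Nat.prime_two) (le_inf h.CV_le_C h.CV_le)
    ⟨h.U_le_C hu, h.U_le_M hu⟩ hu'
  have e2 := sup_zpowers_eq (C := 𝐂₁[z] ⊓ M) (X := M)
    (by rw [inf_relIndex_right, h.idx3]; exact Nat.prime_three) inf_le_right (h'.U_le_M hw)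
    fun e => hw' (h.mem_CV h' hne e.1 (h'.U_le_C hw))
  rw [← e2, ← e1]
  exact sup_le (zpowers_le.2 (h3 hw)) (sup_le (zpowers_le.2 (h2 hu)) h1)

theorem D_le_CV : 𝑼[z] ⊓ 𝑼[y] ≤ 𝐂[V] := fun _ hd =>
  h.mem_CV h' hne (h.U_le_C hd.1) (h'.U_le_C hd.2)

theorem D_ea : IsElementaryAbelian 2 (𝑼[z] ⊓ 𝑼[y]) := isEA_of_sq fun d hd =>
  h.eq_one h' hne (h.mod.sq d hd.1) (h'.mod.sq d hd.2)

omit hne in
theorem V_le_D : V ≤ 𝑼[z] ⊓ 𝑼[y] := le_inf h.V_le h'.V_le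

omit h' hne in
theorem comm_DU : ⁅𝑼[z] ⊓ 𝑼[y], 𝑼[z]⁆ ≤ zpowers z :=
  (commutator_mono inf_le_left le_rfl).trans h.comm

omit h hne in
theorem comm_DU' : ⁅𝑼[z] ⊓ 𝑼[y], 𝑼[y]⁆ ≤ zpowers y :=
  (commutator_mono inf_le_right le_rfl).trans h'.comm

theorem normD : M ≤ 𝐍[𝑼[z] ⊓ 𝑼[y]] :=
  h.gen h' hne (Amb.le_normalizer_inf h.CV_normU h'.CV_normU)
    (n0_le_norm (h.comm_DU.trans (h.Z_le.trans (h.V_le_D h'))))
    (n0_le_norm (h'.comm_DU'.trans (h'.Z_le.trans (h.V_le_D h'))))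

theorem D_eq : 𝑼[z] ⊓ 𝑼[z * y] = 𝑼[z] ⊓ 𝑼[y] := by
  obtain ⟨u, hu, hu', -⟩ := h.exists_inv
  conv_rhs => rw [← cj_of_mem_normalizer (h.normD h' hne (h.U_le_M hu)), cj_inf, cj_of_mem hu,
    h.actU h' hne hu hu']

theorem D_eq' : 𝑼[y] ⊓ 𝑼[z * y] = 𝑼[z] ⊓ 𝑼[y] := by
  rw [h.mul_comm' h' hne, h'.D_eq h hne.symm, inf_comm]

omit h' hne in
theorem comm_UA : ⁅𝑼[z], 𝑼[y] ⊓ 𝐂[V]⁆ ≤ 𝑼[z] ⊓ 𝐂[V] := by
  rw [commutator_comm]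
  exact (commutator_mono inf_le_right le_rfl).trans h.comm_CV

omit hne in
theorem comm_EA : ⁅𝑼[z] ⊓ 𝐂[V], 𝑼[y] ⊓ 𝐂[V]⁆ ≤ 𝑼[z] ⊓ 𝑼[y] :=
  le_inf ((commutator_mono inf_le_left le_rfl).trans (h.comm_UA.trans inf_le_left))
    ((commutator_mono inf_le_right inf_le_left).trans (h'.comm_CV.trans inf_le_left))

local notation "𝑰" => (ncl V 𝐂₁[z] ⊓ 𝐂[V]) ⊔ (ncl V 𝐂₁[y] ⊓ 𝐂[V])
local notation "𝑳" => ncl V 𝐂₁[z] ⊔ ncl V 𝐂₁[y]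
local notation "𝑫" => ncl V 𝐂₁[z] ⊓ ncl V 𝐂₁[y]

omit h h' hne in
theorem I_le_CV : 𝑰 ≤ 𝐂[V] := sup_le inf_le_right inf_le_right

omit h h' hne in
theorem I_le_L : 𝑰 ≤ 𝑳 := sup_le_sup inf_le_left inf_le_left

omit hne in
theorem L_le : 𝑳 ≤ M := sup_le h.U_le_M h'.U_le_M

theorem D_le_I : 𝑫 ≤ 𝑰 := (le_inf inf_le_left (h.D_le_CV h' hne)).trans le_sup_left

theorem normI : M ≤ 𝐍[𝑰] :=
  h.gen h' hne (Amb.le_normalizer_sup h.CV_normE h'.CV_normE)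
    (n0_le_norm
      ((commutator_mono I_le_CV le_rfl).trans (h.comm_CV.trans le_sup_left)))
    (n0_le_norm
      ((commutator_mono I_le_CV le_rfl).trans (h'.comm_CV.trans le_sup_right)))

theorem normL : M ≤ 𝐍[𝑳] :=
  h.gen h' hne (Amb.le_normalizer_sup h.CV_normU h'.CV_normU) (le_sup_left.trans le_normalizer)
    (le_sup_right.trans le_normalizer)

omit hne in
theorem I_le_Q : 𝑰 ≤ 𝐐[M] := sup_le h.E_le_Q h'.E_le_Q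

omit hne in
theorem I_two : IsPGroup 2 ↥(𝑰) := (Amb.isPGroup_pCoreOf 2 M).to_le (h.I_le_Q h')

omit hne in
theorem comm_DL : ⁅𝑫, 𝑳⁆ ≤ V :=
  CP.commutator_sup_le (h.U_le_M.trans h.normV.ge) (h'.U_le_M.trans h.normV.ge)
    (h.comm_DU.trans h.Z_le) (h'.comm_DU'.trans h'.Z_le)

theorem comm_CVL : ⁅𝐂[V], 𝑳⁆ ≤ 𝑰 :=
  CP.commutator_sup_le (h.U_le_M.trans (h.normI h' hne)) (h'.U_le_M.trans (h.normI h' hne))
    (h.comm_CV.trans le_sup_left) (h'.comm_CV.trans le_sup_right)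

theorem comm_II : ⁅𝑰, 𝑰⁆ ≤ 𝑫 := by
  have n1 : 𝑼[z] ⊓ 𝐂[V] ≤ 𝐍[𝑫] := inf_le_right.trans (h.CV_le.trans (h.normD h' hne))
  have n2 : 𝑼[y] ⊓ 𝐂[V] ≤ 𝐍[𝑫] := inf_le_right.trans (h.CV_le.trans (h.normD h' hne))
  refine CP.commutator_sup_le n1 n2 (CommMod.commutator_sup_le n1 n2 ?_ ?_)
    (CommMod.commutator_sup_le n1 n2 (h.comm_EA h') ?_)
  · exact (commutator_mono inf_le_left inf_le_left).trans
      (h.comm.trans (h.Z_le.trans (h.V_le_D h')))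
  · rw [commutator_comm]; exact h.comm_EA h'
  · exact (commutator_mono inf_le_left inf_le_left).trans
      (h'.comm.trans (h'.Z_le.trans (h.V_le_D h')))

theorem mem_I {x : G} : x ∈ 𝑰 ↔ ∃ e ∈ 𝑼[z] ⊓ 𝐂[V], ∃ a ∈ 𝑼[y] ⊓ 𝐂[V], x = e * a :=
  mem_sup_of_le_normalizer_right (inf_le_right.trans h'.CV_normE)

theorem actE {u : G} (hu : u ∈ 𝑼[z]) (hu' : u ∉ 𝐂[V]) :
    cj(u, 𝑼[y] ⊓ 𝐂[V]) = 𝑼[z * y] ⊓ 𝐂[V] := by
  rw [cj_inf, h.actU h' hne hu hu', cj_of_mem_normalizer (h.normCV (h.U_le_M hu))]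

theorem E3_le : 𝑼[z * y] ⊓ 𝐂[V] ≤ 𝑰 := by
  obtain ⟨u, hu, hu', -⟩ := h.exists_inv
  rw [← h.actE h' hne hu hu']
  exact cj_le_of_mem_normalizer le_sup_right (h.normI h' hne (h.U_le_M hu))

theorem comm_not_mem {a u : G} (ha : a ∈ 𝑼[y]) (ha' : a ∉ 𝑫) (hu : u ∈ 𝑼[z]) (hu' : u ∉ 𝐂[V]) :
    ⁅a, u⁆ ∉ 𝑫 := by
  intro h1
  apply ha'
  have h2 : u * a⁻¹ * u⁻¹ ∈ 𝑫 := by
    rw [← h.D_eq' h' hne, ← h.actU h' hne hu hu']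
    refine ⟨?_, conj_mem_cj u (inv_mem ha)⟩
    have := mul_mem (inv_mem ha) h1.2
    simpa [commutatorElement_def, mul_assoc] using this
  have := Amb.inv_conj_mem_of_mem_normalizer (h.normD h' hne (h.U_le_M hu)) h2
  simpa [mul_assoc] using this

/-- the braid relation -/
theorem cube {u w : G} (hu : u ∈ 𝑼[z]) (hu' : u ∉ 𝐂[V]) (hw : w ∈ 𝑼[y]) (hw' : w ∉ 𝐂[V])
    (u2 : u * u = 1) (w2 : w * w = 1) : (u * w) ^ 3 ∈ 𝑰 ∧ u * w ∉ 𝐂[V] := by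
  have h3 := h.third h' hne
  have n1 : ∀ {a b : G}, a ∈ M → b ∉ 𝐂[V] → a * b * a⁻¹ ∉ 𝐂[V] := fun ha hb e => hb (by
    simpa [mul_assoc] using Amb.inv_conj_mem_of_mem_normalizer (h.normCV ha) e)
  have e1 : u * w * u⁻¹ ∈ 𝑼[z * y] := h.actU h' hne hu hu' ▸ conj_mem_cj u hw
  have e2 : w * u * w⁻¹ ∈ 𝑼[z * y] := by
    rw [h.mul_comm' h' hne]
    exact h'.actU h hne.symm hw hw' ▸ conj_mem_cj w hu
  have e3 := h.E3_le h' hne (h3.mul_mem_E e1 (n1 (h.U_le_M hu) hw') e2 (n1 (h'.U_le_M hw) hu'))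
  refine ⟨?_, fun e => hw' (h.mem_CV h' hne ?_ (h'.U_le_C hw))⟩
  · rw [inv_eq_of_mul_eq_one_right u2, inv_eq_of_mul_eq_one_right w2] at e3
    have : (u * w) ^ 3 = u * w * u * (w * u * w) := by simp only [pow_succ, pow_zero]; group
    rwa [this]
  · simpa using mul_mem (inv_mem (h.U_le_C hu)) (h.CV_le_C e)

theorem idxL : (𝐂[V]).relIndex 𝑳 = 6 := by
  have h1 : 𝑳 ⊔ 𝐂[V] = M := le_antisymm (sup_le (h.L_le h') h.CV_le)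
    (h.gen h' hne le_sup_right (le_sup_left.trans le_sup_left) (le_sup_right.trans le_sup_left))
  rw [← relIndex_sup_of_le_normalizer ((h.L_le h').trans h.normCV), h1, h.idxM]

theorem L_eq {u w : G} (hu : u ∈ 𝑼[z]) (hu' : u ∉ 𝐂[V]) (hw : w ∈ 𝑼[y]) (hw' : w ∉ 𝐂[V]) :
    zpowers u ⊔ (zpowers (u * w) ⊔ 𝑰) = 𝑳 := by
  refine le_antisymm (sup_le (zpowers_le.2 (mem_sup_left hu)) (sup_le (zpowers_le.2
    (mul_mem (mem_sup_left hu) (mem_sup_right hw))) I_le_L)) (sup_le ?_ ?_)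
  · refine (h.sup_eq hu hu').ge.trans (sup_le le_sup_left ?_)
    exact le_sup_of_le_right (le_sup_of_le_right le_sup_left)
  · refine (h'.sup_eq hw hw').ge.trans (sup_le (zpowers_le.2 ?_) ?_)
    · have := mul_mem (inv_mem (mem_sup_left (T := zpowers (u * w) ⊔ 𝑰) (mem_zpowers u)))
        (mem_sup_right (mem_sup_left (mem_zpowers (u * w))))
      simpa using this
    · exact le_sup_of_le_right (le_sup_of_le_right le_sup_right)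

theorem idxI : (𝑰).relIndex 𝑳 = 6 ∧ 𝑳 ⊓ 𝐂[V] = 𝑰 := by
  obtain ⟨u, hu, hu', u2⟩ := h.exists_inv
  obtain ⟨w, hw, hw', w2⟩ := h'.exists_inv
  obtain ⟨c1, c2⟩ := h.cube h' hne hu hu' hw hw' u2 w2
  have hn := h.normI h' hne
  have e1 := relIndex_zpowers_sup (hn (M.mul_mem (h.U_le_M hu) (h'.U_le_M hw)))
    (fun e => c2 (I_le_CV e)) c1
  have e2 : (zpowers (u * w) ⊔ 𝑰).relIndex 𝑳 ≤ 2 := by
    rw [← h.L_eq h' hne hu hu' hw hw']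
    refine n0_relIndex_le (mem_normalizer_of_cj_le ?_) (u2 ▸ one_mem _)
    rw [cj_sup, cj_of_mem_normalizer (hn (h.U_le_M hu)), MonoidHom.map_zpowers]
    refine sup_le_sup_right (zpowers_le.2 ?_) _
    have : (MulAut.conj u).toMonoidHom (u * w) = (u * w)⁻¹ := by
      change u * (u * w) * u⁻¹ = _
      rw [← mul_assoc, u2, mul_inv_rev, inv_eq_of_mul_eq_one_right w2, one_mul]
    rw [this]
    exact inv_mem (mem_zpowers _)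
  have e3 := relIndex_mul_relIndex 𝑰 (zpowers (u * w) ⊔ 𝑰) 𝑳 le_sup_right
    (le_sup_right.trans (h.L_eq h' hne hu hu' hw hw').le)
  have e4 := relIndex_mul_relIndex 𝑰 (𝑳 ⊓ 𝐂[V]) 𝑳 (le_inf I_le_L I_le_CV) inf_le_left
  rw [inf_relIndex_left, h.idxL h' hne] at e4
  rw [e1] at e3
  have e5 : (𝑰).relIndex (𝑳 ⊓ 𝐂[V]) ≠ 0 := index_ne_zero_of_finite
  have e6 : (𝑰).relIndex (𝑳 ⊓ 𝐂[V]) = 1 := by omega
  exact ⟨by omega, le_antisymm (relIndex_eq_one.1 e6) (le_inf I_le_L I_le_CV)⟩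

/-- fixed points of `u` on `I / D` -/
theorem fix_u {u x : G} (hu : u ∈ 𝑼[z]) (hu' : u ∉ 𝐂[V]) (hx : x ∈ 𝑰) (hc : ⁅x, u⁆ ∈ 𝑫) :
    x ∈ 𝑼[z] := by
  obtain ⟨e, he, a, ha, rfl⟩ := (h.mem_I h' hne).1 hx
  refine mul_mem he.1 ?_
  by_contra h1
  refine h.comm_not_mem h' hne ha.1 (fun e => h1 e.1) hu hu' ?_
  have h2 : ⁅e, u⁆ ∈ 𝑫 := h.V_le_D h' (h.Z_le (h.comm (commutator_mem_commutator he.1 hu)))
  have := Amb.inv_conj_mem_of_mem_normalizer (h.normD h' hne (h.U_le_M he.1))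
    (mul_mem hc (inv_mem h2))
  simpa [commutatorElement_def, mul_assoc] using this

theorem exists_swap : ∃ w ∈ 𝑳, w * w = 1 ∧ w * z * w⁻¹ = y ∧ w * y * w⁻¹ = z ∧
    ∀ u ∈ 𝑼[z], u ∉ 𝐂[V] → ∀ e ∈ 𝑼[z] ⊓ 𝐂[V], e * ⁅w * e * w⁻¹, u⁆⁻¹ ∈ 𝑫 := by
  obtain ⟨u₀, hu₀, hu₀', -⟩ := h.exists_inv
  obtain ⟨w₀, hw₀, hw₀', w2⟩ := h'.exists_inv
  have h3 := h.third h' hne
  set w := u₀ * w₀ * u₀⁻¹ with hw
  have e1 : w ∈ 𝑼[z * y] := h.actU h' hne hu₀ hu₀' ▸ conj_mem_cj u₀ hw₀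
  have e2 : w ∉ 𝐂[V] := fun e => hw₀' (by
    simpa [hw, mul_assoc] using Amb.inv_conj_mem_of_mem_normalizer (h.normCV (h.U_le_M hu₀)) e)
  have e3 : w * w = 1 := by
    calc w * w = u₀ * (w₀ * w₀) * u₀⁻¹ := by rw [hw]; group
      _ = 1 := by rw [w2]; group
  have e4 : w * z * w⁻¹ = y := by
    rw [h3.act h (h.ne_left h' hne).symm (h3.U_le_C e1) (h3.U_le_M e1) e2, h.mul_comm' h' hne,
      mul_assoc, h.sq, mul_one]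
  have e5 : w * y * w⁻¹ = z := by
    rw [h3.act h' (h.ne_right h' hne).symm (h3.U_le_C e1) (h3.U_le_M e1) e2,
      mul_assoc, h'.sq, mul_one]
  refine ⟨w, mul_mem (mul_mem (mem_sup_left hu₀) (mem_sup_right hw₀)) (inv_mem (mem_sup_left hu₀)),
    e3, e4, e5, fun u hu hu' e he => ?_⟩
  set a := w * e * w⁻¹ with ha
  have haA : a ∈ 𝑼[y] ⊓ 𝐂[V] :=
    ⟨by rw [← e4, ← h.cj_U (h3.U_le_M e1)]; exact conj_mem_cj w he.1,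
      Amb.conj_mem_of_mem_normalizer (h.normCV (h3.U_le_M e1)) he.2⟩
  have hII : (𝑼[z * y] ⊓ 𝐂[V]) ⊔ (𝑼[z] ⊓ 𝐂[V]) = 𝑰 := by
    refine le_antisymm (sup_le (h.E3_le h' hne) le_sup_left) (sup_le le_sup_right ?_)
    have := h3.E3_le h (h.ne_left h' hne).symm
    rwa [h.mul_comm' h' hne, mul_assoc, h.sq, mul_one, ← h.mul_comm' h' hne] at this
  have hDD : 𝑼[z * y] ⊓ 𝑼[z] = 𝑫 := by rw [inf_comm, h.D_eq h' hne]
  have e6 : e * a ∈ 𝑼[z * y] := by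
    refine h3.fix_u h (h.ne_left h' hne).symm e1 e2
      (hII ▸ mul_mem (mem_sup_left he) (mem_sup_right haA)) ?_
    rw [hDD]
    have hwi : w⁻¹ = w := inv_eq_of_mul_eq_one_right e3
    have : ⁅e * a, w⁆ = ⁅e, a⁆ := by
      have e7 : w * a⁻¹ * w⁻¹ = e⁻¹ := by
        rw [ha, hwi]
        calc w * (w * e * w)⁻¹ * w = w * w⁻¹ * e⁻¹ * (w⁻¹ * w) := by group
          _ = e⁻¹ := by group
      calc ⁅e * a, w⁆ = e * a * (w * a⁻¹ * w⁻¹) * (w * e * w⁻¹)⁻¹ := by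
            rw [commutatorElement_def]; group
        _ = _ := by rw [e7, ← ha, commutatorElement_def]
    rw [this]
    exact h.comm_EA h' (commutator_mem_commutator he haA)
  have e7 : u * a⁻¹ * u⁻¹ ∈ 𝑼[z * y] := h.actU h' hne hu hu' ▸ conj_mem_cj u (inv_mem haA.1)
  have e8 : ⁅a, u⁆ ∈ 𝑼[z] := n0_comm_right hu (h.CV_normU haA.2)
  have e9 : e * ⁅a, u⁆ ∈ 𝑫 := by
    rw [← h.D_eq h' hne]
    refine ⟨mul_mem he.1 e8, ?_⟩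
    have := mul_mem e6 e7
    simpa [commutatorElement_def, mul_assoc] using this
  have := mul_mem e9 (inv_mem (h.V_le_D h' (h.Z_le (h.mod.sq _ e8))))
  rwa [mul_inv_rev, mul_assoc, mul_inv_cancel_left] at this

theorem D_inf_CL : 𝑫 ⊓ 𝐂[𝑳] = ⊥ := by
  by_contra h1
  have h2 := h.V_le_of (h.U_two.to_le (inf_le_left.trans inf_le_left)) h1
    (Amb.le_normalizer_inf (h.normD h' hne) (Amb.le_normalizer_centralizer (h.normL h' hne)))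
  exact h.not_le (le_sup_left.trans (le_centralizer_iff.1 (h2.trans inf_le_right)))

omit h hne in
theorem cent_U {d w : G} (hw : w ∈ 𝑼[y]) (hw' : w ∉ 𝐂[V]) (h1 : d ∈ 𝐂[𝑼[y] ⊓ 𝐂[V]])
    (h2 : ⁅d, w⁆ = 1) : d ∈ 𝐂[𝑼[y]] := by
  rw [← h'.sup_eq hw hw', Amb.centralizer_sup, Amb.centralizer_zpowers]
  exact ⟨mem_centralizer_singleton_iff.2 (commutatorElement_eq_one_iff_mul_comm.1 h2), h1⟩

theorem comm_zw {w : G} (hw : w ∈ 𝑼[y]) (hw' : w ∉ 𝐂[V]) : ⁅z, w⁆ = y := by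
  have := h'.act h hne.symm (h'.U_le_C hw) (h'.U_le_M hw) hw'
  calc ⁅z, w⁆ = z * (w * z⁻¹ * w⁻¹) := by rw [commutatorElement_def]; group
    _ = y := by
      rw [inv_eq_of_mul_eq_one_right h.sq, this, ← h.mul_comm' h' hne, ← mul_assoc, h.sq, one_mul]

theorem comm_or {d w : G} (hd : d ∈ 𝑫) (hw : w ∈ 𝑼[y]) (hw' : w ∉ 𝐂[V]) :
    ⁅d, w⁆ = 1 ∨ ⁅d * z, w⁆ = 1 := by
  rcases (Misc.mem_zpowers_two h'.sq).1 (h'.comm_DU' (commutator_mem_commutator hd hw)) with e | e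
  · exact Or.inl e
  · right
    have e1 : d * y * d⁻¹ = y := by
      rw [mem_centralizer_singleton_iff.1 (h'.U_le_C hd.2), mul_inv_cancel_right]
    rw [commutatorElement_mul_left_eq_conj_mul, h.comm_zw h' hne hw hw', e, e1, h'.sq]

theorem z_cent : z ∈ 𝐂[𝑼[z]] := fun _ hu => mem_centralizer_singleton_iff.1 (h.U_le_C hu)

theorem D_inf_CU : 𝑫 ⊓ 𝐂[𝑼[z]] = zpowers z := by
  refine le_antisymm (fun d hd => ?_)
    (le_inf (h.Z_le.trans (h.V_le_D h')) (zpowers_le.2 (h.z_cent h' hne)))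
  obtain ⟨w, hw, hw', -⟩ := h'.exists_inv
  have key : ∀ d ∈ 𝑫 ⊓ 𝐂[𝑼[z]], ⁅d, w⁆ = 1 → d = 1 := fun d hd h1 => by
    rw [← mem_bot, ← h.D_inf_CL h' hne, Amb.centralizer_sup]
    refine ⟨hd.1, hd.2, h'.cent_U hw hw' (fun a ha => ?_) h1⟩
    have h2 := h'.comm_DU' (commutator_mem_commutator hd.1 ha.1)
    have h3 : ⁅d, a⁆ ∈ 𝐂[𝑼[z]] := n0_comm_left hd.2
      (Amb.le_normalizer_centralizer h.CV_normU ha.2)
    rcases (Misc.mem_zpowers_two h'.sq).1 h2 with e | e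
    · exact (commutatorElement_eq_one_iff_mul_comm.1 e).symm
    · rw [e] at h3
      exact absurd (fun u hu => h.mem_CV h' hne (h.U_le_C hu)
        (mem_centralizer_singleton_iff.2 (h3 u hu))) h.not_le
  rcases h.comm_or h' hne hd.1 hw hw' with e | e
  · rw [key d hd e]; exact one_mem _
  · have := key _ (mul_mem hd ⟨h.V_le_D h' h.zV, h.z_cent h' hne⟩) e
    rw [eq_inv_of_mul_eq_one_left this]
    exact inv_mem (mem_zpowers z)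

theorem D_inf_CA : 𝑫 ⊓ 𝐂[𝑼[y] ⊓ 𝐂[V]] = V := by
  have h1 : V ≤ 𝑫 ⊓ 𝐂[𝑼[y] ⊓ 𝐂[V]] := le_inf (h.V_le_D h') (le_centralizer_iff.1 inf_le_right)
  refine le_antisymm (fun d hd => ?_) h1
  obtain ⟨w, hw, hw', -⟩ := h'.exists_inv
  have key : ∀ d ∈ 𝑫 ⊓ 𝐂[𝑼[y] ⊓ 𝐂[V]], ⁅d, w⁆ = 1 → d ∈ V := fun d hd h1 =>
    h'.Z_le ((h'.D_inf_CU h hne.symm).le ⟨⟨hd.1.2, hd.1.1⟩, h'.cent_U hw hw' hd.2 h1⟩)
  rcases h.comm_or h' hne hd.1 hw hw' with e | e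
  · exact key d hd e
  · exact (V.mul_mem_cancel_right h.zV).1 (key _ (mul_mem hd (h1 h.zV)) e)

theorem D_inf_CI : 𝑫 ⊓ 𝐂[𝑰] = V :=
  le_antisymm ((inf_le_inf_left _ (centralizer_anti le_sup_right)).trans (h.D_inf_CA h' hne).le)
    (le_inf (h.V_le_D h') (le_centralizer_iff.1 I_le_CV))

theorem A_inf_Y : (𝑼[y] ⊓ 𝐂[V]) ⊓ (𝐂₁[z] ⊓ secCent 𝑼[z] (zpowers z)) = 𝑫 := by
  refine le_antisymm (fun a ha => ?_) (le_inf (le_inf inf_le_right (h.D_le_CV h' hne))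
    (le_inf (inf_le_left.trans h.U_le_C) (le_secCent_iff.2
      ⟨inf_le_left.trans (h.U_le_C.trans h.mod.normU₀), h.comm_DU⟩)))
  by_contra h1
  obtain ⟨u, hu, hu', -⟩ := h.exists_inv
  exact h.comm_not_mem h' hne ha.1.1 h1 hu hu' (h.V_le_D h' (h.Z_le (ha.2.2.2 u hu)))

theorem card_EA : (𝑫).relIndex (𝑼[z] ⊓ 𝐂[V]) = (𝑫).relIndex (𝑼[y] ⊓ 𝐂[V]) := by
  obtain ⟨w, hw, -, e, -⟩ := h.exists_swap h' hne
  have hM := h.L_le h' hw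
  rw [← n0_relIndex_cj w, cj_of_mem_normalizer (h.normD h' hne hM), cj_inf, h.cj_U hM, e,
    cj_of_mem_normalizer (h.normCV hM)]

theorem card_VD : V.relIndex 𝑫 ≤ (𝑫).relIndex (𝑼[y] ⊓ 𝐂[V]) := by
  have h1 := FGS.relIndex_inf_centralizer_symm 𝑫 (𝑼[y] ⊓ 𝐂[V]) (zpowers y)
    ((commutator_mono le_rfl inf_le_left).trans h'.comm_DU')
    (by rw [Amb.centralizer_zpowers]; exact inf_le_right.trans h'.U_le_C)
    (by rw [Amb.centralizer_zpowers]; exact inf_le_left.trans h'.U_le_C)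
  rw [h.D_inf_CA h' hne] at h1
  rw [h1]
  exact relIndex_le_of_le_left (le_inf (le_inf inf_le_right (h.D_le_CV h' hne))
    (elemAb_le_centralizer (h.D_ea h' hne))) index_ne_zero_of_finite

theorem E_ne : 𝑼[z] ⊓ 𝐂[V] ≠ V := by
  intro hE
  obtain ⟨S, hS⟩ := h.ex
  have hyU : ∀ c ∈ 𝐂₁[z], c * y * c⁻¹ ∈ 𝑼[z] := fun c hc => cj_le_ncl V hc (conj_mem_cj c h'.zV)
  have key : ∀ c ∈ 𝐂₁[z], c * y * c⁻¹ ∈ 𝐂[V] → c ∈ M := fun c hc h1 => by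
    have h2 : c * y * c⁻¹ ∈ V := hE.le ⟨hyU c hc, h1⟩
    have h3 : c * z * c⁻¹ = z := by rw [mem_centralizer_singleton_iff.1 hc, mul_inv_cancel_right]
    refine h.normV.le (mem_normalizer_of_cj_le (cj_le_iff_forall.2 fun v hv => ?_))
    rcases (h.mem_V h' hne).1 hv with rfl | rfl | rfl | rfl
    · simp
    · rwa [h3]
    · exact h2
    · have := V.mul_mem h.zV h2
      rw [← h3] at this
      simpa [mul_assoc] using this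
  refine hS.basic.2.2.1 ?_
  rw [← (hS.syl.mono hS.S_le_C le_top).pRes_sup]
  refine sup_le (pRes_le_iff.2 fun x hx ho => ?_) hS.le
  by_contra hxM
  have hx2 : x * x ∉ M := fun e => hxM (mem_of_pow_mem_of_coprime (n := 2) (by rwa [pow_two]) ho)
  have h1 := hE.le (h.mul_mem_E (hyU x hx) (mt (key x hx) hxM) (hyU _ (mul_mem hx hx))
    (mt (key _ (mul_mem hx hx)) hx2))
  refine hxM (key x hx (h.mem_CV h' hne (h.U_le_C (hyU x hx)) ?_))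
  have h2 := h.V2 _ h1
  rw [mem_centralizer_singleton_iff]
  have h3 : (y * (x * y * x⁻¹)) * (y * (x * y * x⁻¹)) = 1 := by
    calc _ = x⁻¹ * (x * y * x⁻¹ * (x * x * y * (x * x)⁻¹) *
        (x * y * x⁻¹ * (x * x * y * (x * x)⁻¹))) * x := by group
      _ = 1 := by rw [h2]; group
  have h4 : (x * y * x⁻¹) * (x * y * x⁻¹) = 1 := by
    calc _ = x * (y * y) * x⁻¹ := by group
      _ = 1 := by rw [h'.sq]; group
  calc x * y * x⁻¹ * y = (y * y) * (x * y * x⁻¹ * y) * ((x * y * x⁻¹) * (x * y * x⁻¹)) := by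
        rw [h4, h'.sq]; group
    _ = y * ((y * (x * y * x⁻¹)) * (y * (x * y * x⁻¹))) * (x * y * x⁻¹) := by group
    _ = _ := by rw [h3, mul_one]

theorem two_le : 2 ≤ (𝑫).relIndex (𝑼[y] ⊓ 𝐂[V]) := by
  by_contra h1
  have h2 : (𝑫).relIndex (𝑼[y] ⊓ 𝐂[V]) ≠ 0 := index_ne_zero_of_finite
  have h3 : V.relIndex 𝑫 ≠ 0 := index_ne_zero_of_finite
  have h4 := h.card_VD h' hne
  have h5 := h.card_EA h' hne
  refine h.E_ne h' hne (le_antisymm ?_ (le_inf h.V_le h.V_le_CV))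
  exact (relIndex_eq_one.1 (by omega)).trans (relIndex_eq_one.1 (show V.relIndex 𝑫 = 1 by omega))

theorem E_le_comm {u w i : G} (hu : u ∈ 𝑼[z]) (hu' : u ∉ 𝐂[V]) (hw : w ∈ 𝑼[y]) (hi : i ∈ 𝑰) :
    𝑼[z] ⊓ 𝐂[V] ≤ ⁅𝑰, zpowers (u * (w * i))⁆ ⊔ 𝑫 := by
  intro e he
  obtain ⟨s, hs, -, e1, -, e2⟩ := h.exists_swap h' hne
  have hM := h.L_le h' hs
  have ha : s * e * s⁻¹ ∈ 𝑼[y] ⊓ 𝐂[V] :=
    ⟨by rw [← e1, ← h.cj_U hM]; exact conj_mem_cj s he.1,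
      Amb.conj_mem_of_mem_normalizer (h.normCV hM) he.2⟩
  have h1 := e2 u hu hu' e he
  generalize s * e * s⁻¹ = a at ha h1
  have hn := h.normD h' hne
  have h2 : ⁅a, w * i⁆ ∈ 𝑫 := by
    rw [show ⁅a, w * i⁆ = ⁅a, w⁆ * (w * ⁅a, i⁆ * w⁻¹) by simp only [commutatorElement_def]; group]
    exact mul_mem (h.V_le_D h' (h'.Z_le (h'.comm (commutator_mem_commutator ha.1 hw))))
      (Amb.conj_mem_of_mem_normalizer (hn (h'.U_le_M hw))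
        (h.comm_II h' hne (commutator_mem_commutator (mem_sup_right ha) hi)))
  have h3 : e = e * ⁅a, u⁆⁻¹ * ⁅a, u * (w * i)⁆ * (u * ⁅a, w * i⁆ * u⁻¹)⁻¹ := by
    rw [commutatorElement_mul_right_eq_mul_conj a u]; group
  rw [h3]
  exact mul_mem (mul_mem (mem_sup_right h1) (mem_sup_left
    (commutator_mem_commutator (mem_sup_right ha) (mem_zpowers _))))
    (mem_sup_right (inv_mem (Amb.conj_mem_of_mem_normalizer (hn (h.U_le_M hu)) h2)))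

theorem exists_three : ∃ g ∈ 𝑳, orderOf g = 3 ∧ g ∉ 𝐂[V] ∧
    (∀ u ∈ 𝑼[z], u ∉ 𝐂[V] → u * g * u⁻¹ * g ∈ 𝑰) ∧ 𝑰 ≤ ⁅𝑰, zpowers g⁆ ⊔ 𝑫 ∧
    𝑳 = zpowers g ⊔ 𝑼[z] ⊔ 𝑰 := by
  obtain ⟨u, hu, hu', u2⟩ := h.exists_inv
  obtain ⟨w, hw, hw', w2⟩ := h'.exists_inv
  obtain ⟨c1, c2⟩ := h.cube h' hne hu hu' hw hw' u2 w2
  obtain ⟨k, hk⟩ := isPGroup_iff.1 (h.I_two h') _ c1
  obtain ⟨q, hq⟩ : ∃ q, 2 ^ k * 2 ^ k = 3 * q + 1 := by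
    refine ⟨(2 ^ k * 2 ^ k) / 3, ?_⟩
    have : (2 ^ k * 2 ^ k) % 3 = 1 := by rw [← mul_pow, Nat.pow_mod]; simp
    omega
  set i := ((u * w) ^ 3) ^ q with hi
  have hiI : i ∈ 𝑰 := pow_mem c1 q
  have hg : u * (w * i) = (u * w) ^ (2 ^ k * 2 ^ k) := by
    rw [hq, hi, ← pow_mul, pow_succ', mul_assoc]
  have hn := h.normI h' hne
  have huM := h.U_le_M hu
  have hwM := h'.U_le_M hw
  have hg' : u * (w * i) ∉ 𝐂[V] := fun e => c2 (by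
    rwa [← mul_assoc, Subgroup.mul_mem_cancel_right _ (I_le_CV hiI)] at e)
  refine ⟨u * (w * i), mul_mem (mem_sup_left hu) (mul_mem (mem_sup_right hw) (I_le_L hiI)),
    orderOf_eq_prime ?_ fun e => hg' (e ▸ one_mem _), hg', fun u₁ hu₁ hu₁' => ?_,
    sup_le (h.E_le_comm h' hne hu hu' hw hiI) ?_, le_antisymm (sup_le ?_ ?_) ?_⟩
  · rw [hg, ← pow_mul, mul_comm _ 3, pow_mul, pow_mul, hk, one_pow]
  · have e1 : u₁ * u ∈ 𝑰 := mem_sup_left (h.mul_mem_E hu₁ hu₁' hu hu')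
    have e0 : u₁ = u₁ * u * u := by rw [mul_assoc, u2, mul_one]
    generalize u₁ * u = e at e0 e1
    have e2 : e * u * (u * (w * i)) * (e * u)⁻¹ * (u * (w * i)) =
        e * (u * u) * (w * (i * (u⁻¹ * e⁻¹ * u)) * w⁻¹) * (w * w) * i := by group
    rw [e0, e2, u2, w2, mul_one, mul_one]
    exact mul_mem (mul_mem e1 (Amb.conj_mem_of_mem_normalizer (hn hwM) (mul_mem hiI
      (Amb.inv_conj_mem_of_mem_normalizer (hn huM) (inv_mem e1))))) hiI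
  · have e1 : (w * u)⁻¹ * i⁻¹ * (w * u) ∈ 𝑰 :=
      Amb.inv_conj_mem_of_mem_normalizer (hn (M.mul_mem hwM huM)) (inv_mem hiI)
    rw [sup_comm] at e1
    have e2 := h'.E_le_comm h hne.symm hw hw' hu e1
    have e3 : w * (u * ((w * u)⁻¹ * i⁻¹ * (w * u))) = (u * (w * i))⁻¹ := by
      rw [mul_inv_rev u, mul_inv_rev w i, inv_eq_of_mul_eq_one_right u2,
        inv_eq_of_mul_eq_one_right w2]
      group
    rwa [e3, zpowers_inv, sup_comm (ncl V 𝐂₁[y] ⊓ 𝐂[V]), 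
      inf_comm (ncl V 𝐂₁[y]) (ncl V 𝐂₁[z])] at e2
  · exact le_sup_of_le_left le_sup_right
  · refine (h'.sup_eq hw hw').ge.trans (sup_le (zpowers_le.2 ?_) (le_sup_of_le_right le_sup_right))
    have : u⁻¹ * (u * (w * i)) * i⁻¹ ∈ zpowers (u * (w * i)) ⊔ 𝑼[z] ⊔ 𝑰 :=
      mul_mem (mem_sup_left (mul_mem (mem_sup_right (inv_mem hu))
        (mem_sup_left (mem_zpowers _)))) (mem_sup_right (inv_mem hiI))
    rwa [inv_mul_cancel_left, mul_inv_cancel_right] at this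
  · exact sup_le (sup_le (zpowers_le.2 (mul_mem (mem_sup_left hu)
      (mul_mem (mem_sup_right hw) (I_le_L hiI)))) le_sup_left) I_le_L

theorem not_mem_M {a x : G} (ha : a ∈ 𝑼[y] ⊓ 𝐂[V]) (hx : x ∈ 𝐂₁[z]) (ho : Odd (orderOf x))
    (hi : a * x * a⁻¹ * x ∈ 𝐂₁[z] ⊓ secCent 𝑼[z] (zpowers z)) (hxM : x ∈ M) :
    x ∈ 𝐂₁[z] ⊓ secCent 𝑼[z] (zpowers z) := by
  have h1 : ⁅a, x⁆ ∈ 𝑼[y] ⊓ 𝐂[V] := n0_comm_left ha (h'.CV_normE (h.odd_mem hx hxM ho))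
  obtain ⟨k, hk⟩ := isPGroup_iff.1 h'.U_two _ (inv_mem h1.1)
  obtain ⟨c, hc, e⟩ := exists_mul_pow_eq (Amb.le_normalizer_inf le_normalizer
    (le_normalizer_secCent h.mod.normU h.mod.normU₀) (h.CV_le_C (inv_mem h1.2))) hi (2 ^ k)
  have e1 : ⁅a, x⁆⁻¹ * (a * x * a⁻¹ * x) = x ^ 2 := by rw [commutatorElement_def, pow_two]; group
  rw [hk, one_mul, e1, ← pow_mul, ← pow_succ'] at e
  exact mem_of_pow_mem_of_coprime (e ▸ hc) (Nat.Coprime.pow_right _ (coprime_two_iff.2 ho))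

end two

end NP

/-- `C = C(z)` -/
local notation "𝑪" => 𝐂₁[z]
/-- `U = ⟨V^C⟩` -/
local notation "𝑼" => ncl V 𝐂₁[z]
local notation "𝑼'" => cj(m, ncl V 𝐂₁[z])
local notation "𝑫" => ncl V 𝐂₁[z] ⊓ cj(m, ncl V 𝐂₁[z])
local notation "𝑨" => cj(m, ncl V 𝐂₁[z]) ⊓ 𝐂[V]
local notation "𝑰" => (ncl V 𝐂₁[z] ⊓ 𝐂[V]) ⊔ (cj(m, ncl V 𝐂₁[z]) ⊓ 𝐂[V])
local notation "𝑳" => ncl V 𝐂₁[z] ⊔ cj(m, ncl V 𝐂₁[z])
local notation "𝒀" => 𝐂₁[z] ⊓ secCent (ncl V 𝐂₁[z]) (zpowers z)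

theorem CN.np (h : CN S M V z m) : NP M V z := ⟨⟨S, h.toOne⟩, h.nab⟩

theorem CN.np' (h : CN S M V z m) : NP M V (m * z * m⁻¹) := h.np.conj h.m_mem

theorem CN.U'_eq (h : CN S M V z m) : 𝑼' = ncl V 𝐂₁[m * z * m⁻¹] := h.np.cj_U h.m_mem

theorem CN.basic (h : CN S M V z m) : 𝑼 ≤ S ∧ ¬ 𝑼 ≤ 𝐂[V] ∧ (𝐂[V]).relIndex 𝑼 = 2 ∧ 𝑨 ≤ S ∧
    V ≤ 𝑫 ∧ 𝑫 ≤ 𝐂[V] ∧ IsElementaryAbelian 2 𝑫 ∧ M ≤ 𝐍[𝑫] ∧ M ≤ 𝐍[𝑰] ∧ M ≤ 𝐍[𝑳] ∧ 𝑳 ≤ M ∧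
    IsPGroup 2 ↥(𝑰) ∧ ⁅𝑫, 𝑳⁆ ≤ V ∧ ⁅𝑼 ⊓ 𝐂[V], 𝑨⁆ ≤ 𝑫 ∧ ⁅𝑫, 𝑨⁆ ≤ zpowers (m * z * m⁻¹) ∧
    ⁅𝑼, 𝑨⁆ ≤ 𝑼 ⊓ 𝐂[V] ∧ (𝑰).relIndex 𝑳 = 6 ∧ 𝑳 ⊓ 𝐂[V] = 𝑰 ∧ 𝐂[V] ≤ 𝐍[𝑨] ∧
    ⁅S ⊓ 𝐂[V], 𝑳⁆ ≤ 𝑰 := by
  have h1 := h.np
  have h2 := h.np'
  have hne := h.m_ne.symm
  have hm := h.toOne.mod h.toOne.S_le_C le_rfl
  rw [h.U'_eq]
  exact ⟨hm.2.1.trans hm.2.2.2.2, h1.not_le, h1.idxU,
    h2.E_le_Q.trans (h.syl.mono h.le le_top).pCoreOf_le, h1.V_le_D h2, h1.D_le_CV h2 hne,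
    h1.D_ea h2 hne, h1.normD h2 hne, h1.normI h2 hne, h1.normL h2 hne, h1.L_le h2, h1.I_two h2,
    h1.comm_DL h2, h1.comm_EA h2, (commutator_mono le_rfl inf_le_left).trans h2.comm_DU',
    h1.comm_UA, (h1.idxI h2 hne).1, (h1.idxI h2 hne).2, h2.CV_normE,
    (commutator_mono inf_le_right le_rfl).trans (h1.comm_CVL h2 hne)⟩

/-- an element of order 3 of `L`, inverted modulo `I` by the elements of `U` outside `C(V)` -/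
theorem CN.exists_three (h : CN S M V z m) : ∃ g ∈ 𝑳, orderOf g = 3 ∧ g ∉ 𝐂[V] ∧
    (∀ u ∈ 𝑼, u ∉ 𝐂[V] → u * g * u⁻¹ * g ∈ 𝑰) ∧ 𝑰 ≤ ⁅𝑰, zpowers g⁆ ⊔ 𝑫 ∧
    𝑳 = zpowers g ⊔ 𝑼 ⊔ 𝑰 := by
  rw [h.U'_eq]
  exact h.np.exists_three h.np' h.m_ne.symm

/-- an element of `M` that fixes `z z'` and interchanges `U` and `U'` -/
theorem CN.exists_swap (h : CN S M V z m) : ∃ w ∈ 𝑳, w * w = 1 ∧ w * z * w⁻¹ = m * z * m⁻¹ ∧
    cj(w, 𝑼) = 𝑼' ∧ cj(w, 𝑼') = 𝑼 ∧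
    ∀ u ∈ 𝑼, u ∉ 𝐂[V] → ∀ e ∈ 𝑼 ⊓ 𝐂[V], ∃ a ∈ 𝑨, (w * e * w⁻¹) * a⁻¹ ∈ 𝑫 ∧ e * ⁅a, u⁆⁻¹ ∈ 𝑫 := by
  rw [h.U'_eq]
  obtain ⟨w, hw, e1, e2, e3, e4⟩ := h.np.exists_swap h.np' h.m_ne.symm
  have hM := h.np.L_le h.np' hw
  have e5 : cj(w, 𝑼) = ncl V 𝐂₁[m * z * m⁻¹] := by rw [h.np.cj_U hM, e2]
  refine ⟨w, hw, e1, e2, e5, by rw [h.np'.cj_U hM, e3], fun u hu hu' e he =>
    ⟨w * e * w⁻¹, ⟨e5 ▸ conj_mem_cj w he.1,
      Amb.conj_mem_of_mem_normalizer (h.np.normCV hM) he.2⟩, ?_, e4 u hu hu' e he⟩⟩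
  rw [mul_inv_cancel]
  exact one_mem _

theorem CN.comm_not_mem (h : CN S M V z m) {a u : G} (ha : a ∈ 𝑨) (ha' : a ∉ 𝑫) (hu : u ∈ 𝑼)
    (hu' : u ∉ 𝐂[V]) : ⁅a, u⁆ ∉ 𝑫 := by
  rw [h.U'_eq] at ha ha' ⊢
  exact h.np.comm_not_mem h.np' h.m_ne.symm ha.1 ha' hu hu'

theorem CN.cent (h : CN S M V z m) : 𝑨 ⊓ 𝒀 = 𝑫 ∧ 𝑫 ⊓ 𝐂[𝑼] = zpowers z ∧ 𝑫 ⊓ 𝐂[𝑨] = V ∧
    𝑫 ⊓ 𝐂[𝑰] = V := by
  rw [h.U'_eq]
  exact ⟨h.np.A_inf_Y h.np' h.m_ne.symm, h.np.D_inf_CU h.np' h.m_ne.symm,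
    h.np.D_inf_CA h.np' h.m_ne.symm, h.np.D_inf_CI h.np' h.m_ne.symm⟩

theorem CN.card (h : CN S M V z m) : (𝑫).relIndex (𝑼 ⊓ 𝐂[V]) = (𝑫).relIndex 𝑨 ∧
    V.relIndex 𝑫 ≤ (𝑫).relIndex 𝑨 ∧ (∃ k : ℕ, (𝑫).relIndex 𝑨 = 2 ^ k) ∧
    (∃ k : ℕ, V.relIndex 𝑫 = 2 ^ k) ∧ 2 ≤ (𝑫).relIndex 𝑨 ∧ EAMod 𝑨 (secCent 𝑼 (zpowers z)) := by
  rw [h.U'_eq]
  have h1 := h.np
  have h2 := h.np'
  have hne := h.m_ne.symm
  have h3 : zpowers (m * z * m⁻¹) ≤ secCent 𝑼 (zpowers z) :=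
    (h2.Z_le.trans h1.V_le).trans (le_secCent_iff.2 ⟨h1.U_le_C.trans h1.mod.normU₀, h1.comm⟩)
  exact ⟨h1.card_EA h2 hne, h1.card_VD h2 hne, h2.U_two.to_inf_left.index _,
    h1.U_two.to_inf_left.index _, h1.two_le h2 hne,
    (commutator_mono inf_le_left inf_le_left).trans (h2.comm.trans h3),
    fun a ha => h3 (h2.mod.sq a ha.1)⟩

/-- an element of odd order inverted modulo `Y` by an element of `A` moves `V` -/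
theorem CN.not_mem_M (h : CN S M V z m) {a x : G} (ha : a ∈ 𝑨) (hx : x ∈ 𝑪)
    (ho : Odd (orderOf x)) (hi : a * x * a⁻¹ * x ∈ 𝒀) (hxM : x ∈ M) : x ∈ 𝒀 := by
  rw [h.U'_eq] at ha
  exact h.np.not_mem_M h.np' h.m_ne.symm ha hx ho hi hxM

end Cfsg.Agent.NG
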