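import Mathlib
import Cfsg.Agent.NG.CaseN0

/-! Tools for the two small subcases of Case N. -/

set_option autoImplicit false

namespace Cfsg.Agent.NG

open Subgroup Cfsg.Agent.PLocal Cfsg.Agent.PLocal.Amb Cfsg.Agent.PLocal.CP Cfsg.Agent.PLocal.JC
open scoped commutatorElement

variable {G : Type*} [Group G]

namespace N2

theorem mem_or_of_two {P E : Subgroup G} (h : P.relIndex E = 2) {e x : G} (he : e ∈ E)
    (he' : e ∉ P) (hx : x ∈ E) : x ∈ P ∨ e⁻¹ * x ∈ P := by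
  by_cases hp : x ∈ P
  · exact Or.inl hp
  · exact Or.inr (Amal.mul_mem_of_relIndex_two h (E.inv_mem he) hx (fun h' => he' (by simpa using h')) hp)

theorem relIndex_of_card [Finite G] {P E : Subgroup G} (h : P ≤ E) {n : ℕ}
    (hc : Nat.card E = n * Nat.card P) : P.relIndex E = n := by
  have h1 := card_mul_relIndex_of_le h
  rw [hc, mul_comm n] at h1
  exact Nat.eq_of_mul_eq_mul_left Nat.card_pos h1

theorem card_of_relIndex {P E : Subgroup G} (h : P ≤ E) {n k : ℕ} (hn : P.relIndex E = n)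
    (hk : Nat.card P = k) : Nat.card E = k * n := by
  rw [← card_mul_relIndex_of_le h, hn, hk]

theorem ncard_orbit (X C : Subgroup G) :
    {Y : Subgroup G | ∃ c ∈ C, cj(c, X) = Y}.ncard = (𝐍[X]).relIndex C := by
  rw [relIndex, index, ← Nat.card_coe_set_eq]
  symm
  let f : C ⧸ (𝐍[X]).subgroupOf C → {Y : Subgroup G | ∃ c ∈ C, cj(c, X) = Y} :=
    Quotient.lift (fun c : C => ⟨cj((c : G), X), c, c.2, rfl⟩) (by
      intro a b hab
      have h1 : (a : G)⁻¹ * b ∈ 𝐍[X] := by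
        simpa [mem_subgroupOf] using QuotientGroup.leftRel_apply.1 hab
      apply Subtype.ext
      show cj((a : G), X) = cj((b : G), X)
      rw [show (b : G) = a * ((a : G)⁻¹ * b) by group, cj_mul, cj_of_mem_normalizer h1])
  refine Nat.card_congr (Equiv.ofBijective f ⟨?_, ?_⟩)
  · intro a b
    induction a using QuotientGroup.induction_on with | H a => ?_
    induction b using QuotientGroup.induction_on with | H b => ?_
    intro hab
    have h1 : cj((a : G), X) = cj((b : G), X) := congrArg Subtype.val hab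
    rw [QuotientGroup.eq, mem_subgroupOf]
    show (a : G)⁻¹ * b ∈ 𝐍[X]
    rw [← cj_eq_iff, cj_mul, ← h1, cj_inv_cj]
  · rintro ⟨_, c, hc, rfl⟩
    exact ⟨((⟨c, hc⟩ : C) : C ⧸ (𝐍[X]).subgroupOf C), rfl⟩

/-- three different elementary abelian subgroups halfway between `P` and `H`, `|H : P| = 4` -/
theorem three_ea [Finite G] {P H E₁ E₂ E₃ : Subgroup G} {n : ℕ} (hP : Nat.card P = n)
    (hH : Nat.card H = 4 * n) (p₁ : P ≤ E₁) (p₂ : P ≤ E₂) (p₃ : P ≤ E₃) (l₁ : E₁ ≤ H)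
    (l₂ : E₂ ≤ H) (l₃ : E₃ ≤ H) (c₁ : Nat.card E₁ = 2 * n) (c₂ : Nat.card E₂ = 2 * n)
    (c₃ : Nat.card E₃ = 2 * n) (s₁ : ∀ e ∈ E₁, e * e = 1) (s₂ : ∀ e ∈ E₂, e * e = 1)
    (s₃ : ∀ e ∈ E₃, e * e = 1) (n₁₂ : E₁ ≠ E₂) (n₁₃ : E₁ ≠ E₃) (n₂₃ : E₂ ≠ E₃) :
    ∃ e ∈ E₂, e ∉ E₁ ∧ e ∈ 𝐂[E₁] := by
  subst hP
  have i₁ := relIndex_of_card p₁ c₁
  have i₃ := relIndex_of_card p₃ c₃
  have iH : E₁.relIndex H = 2 := relIndex_of_card l₁ (by rw [hH, c₁]; ring)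
  have hpos : 0 < Nat.card P := Nat.card_pos
  obtain ⟨e₃, h₃, h₃'⟩ := Misc.exists_mem_not_mem_of_card_lt (A := P) (B := E₃) (by omega)
  have key : ∀ E : Subgroup G, P ≤ E → Nat.card E = 2 * Nat.card P → E ≠ E₃ → e₃ ∉ E := by
    intro E hE hc hne he
    refine hne (eq_of_le_of_card_le (fun x hx => ?_) (by omega)).symm
    rcases mem_or_of_two i₃ h₃ h₃' hx with h | h
    · exact hE h
    · simpa using E.mul_mem he (hE h)
  obtain ⟨e₂, h₂, h₂'⟩ : ∃ e ∈ E₂, e ∉ E₁ := by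
    by_contra hc
    push Not at hc
    exact n₁₂ (eq_of_le_of_card_le hc (by omega)).symm
  have m₁ : e₃ * e₂ ∈ E₁ :=
    Amal.mul_mem_of_relIndex_two iH (l₃ h₃) (l₂ h₂) (key E₁ p₁ c₁ n₁₃) h₂'
  have m₂ : e₃ * e₂ ∉ P := fun h => key E₂ p₂ c₂ n₂₃ (by
    simpa using E₂.mul_mem (p₂ h) (E₂.inv_mem h₂))
  have hc : e₃ * e₂ * e₂ = e₂ * (e₃ * e₂) := by
    have a := s₁ _ m₁
    have b := s₂ _ h₂
    have c := s₃ _ h₃
    calc e₃ * e₂ * e₂ = e₃ * (e₃ * e₂ * (e₃ * e₂)) * (e₂ * e₂) := by rw [a]; group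
      _ = (e₃ * e₃) * (e₂ * (e₃ * e₂)) * (e₂ * e₂) := by group
      _ = _ := by rw [b, c]; group
  have hP : ∀ p ∈ P, p * e₂ = e₂ * p := fun p hp =>
    Misc.comm_of_sq (A := E₂) (fun a ha => by rw [pow_two]; exact s₂ a ha) p (p₂ hp) e₂ h₂
  refine ⟨e₂, h₂, h₂', mem_centralizer_iff.2 fun x hx => ?_⟩
  rcases mem_or_of_two i₁ m₁ m₂ hx with h | h
  · exact hP x h
  · calc x * e₂ = e₃ * e₂ * ((e₃ * e₂)⁻¹ * x * e₂) := by group
      _ = (e₃ * e₂ * e₂) * ((e₃ * e₂)⁻¹ * x) := by rw [hP _ h]; group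
      _ = e₂ * x := by rw [hc]; group

theorem ncard_modEq_conj [Finite G] {Z : Set G} {v : G} {r k : ℕ}
    (hr : r.Prime) (hk : v ^ r ^ k = 1) (hZ : ∀ x ∈ Z, v * x * v⁻¹ ∈ Z) :
    Z.ncard ≡ {x | x ∈ Z ∧ v * x = x * v}.ncard [MOD r] := by
  classical
  have : Fact r.Prime := ⟨hr⟩
  let F : Function.End Z := fun x => ⟨v * x * v⁻¹, hZ x x.2⟩
  have := Fintype.ofFinite Z
  have h0 : ∀ (n : ℕ) (x : Z), ((F ^ n) x : G) = v ^ n * x * (v ^ n)⁻¹ := by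
    intro n
    induction n with
    | zero => intro x; simp; rfl
    | succ n ih =>
      intro x
      rw [pow_succ]
      refine (ih (F x)).trans ?_
      simp only [F, pow_succ]
      group
  have h1 : F ^ r ^ k = 1 := funext fun x => Subtype.ext ((h0 _ x).trans (by rw [hk]; simp; rfl))
  have h2 := Equiv.Perm.card_fixedPoints_modEq h1
  rw [← Nat.card_eq_fintype_card, ← Nat.card_eq_fintype_card] at h2
  rw [← Nat.card_coe_set_eq, ← Nat.card_coe_set_eq]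
  convert h2 using 1
  exact Nat.card_congr ⟨fun x => ⟨⟨x, x.2.1⟩, Subtype.ext (mul_inv_eq_iff_eq_mul.2 x.2.2)⟩,
    fun x => ⟨x.1, x.1.2, mul_inv_eq_iff_eq_mul.1 (congrArg Subtype.val x.2)⟩, fun x => rfl,
    fun x => rfl⟩

theorem ncard_mul_le {α β : Type*} [Finite α] [Finite β] {s : Set α} {t : Set β} (r : α → β → Prop)
    {m n : ℕ} (hm : ∀ a ∈ s, m ≤ {b | b ∈ t ∧ r a b}.ncard)
    (hn : ∀ b ∈ t, {a | a ∈ s ∧ r a b}.ncard ≤ n) : s.ncard * m ≤ t.ncard * n := by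
  classical
  have := Fintype.ofFinite α
  have := Fintype.ofFinite β
  rw [Set.ncard_eq_toFinset_card' s, Set.ncard_eq_toFinset_card' t]
  refine Finset.card_mul_le_card_mul r (fun a ha => ?_) fun b hb => ?_
  · refine (hm a (by simpa using ha)).trans (le_of_eq ?_)
    rw [Set.ncard_eq_toFinset_card']
    congr 1; ext b; simp
  · refine (le_of_eq ?_).trans (hn b (by simpa using hb))
    rw [Set.ncard_eq_toFinset_card']
    congr 1; ext a; simp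

/-- a four-group lies in each subgroup that contains two different nontrivial elements of it -/
theorem four_le [Finite G] {X N : Subgroup G} (h4 : Nat.card X = 4) {a b : G} (ha : a ∈ X)
    (hb : b ∈ X) (ha' : a ∈ N) (hb' : b ∈ N) (a1 : a ≠ 1) (b1 : b ≠ 1) (hab : a ≠ b) : X ≤ N := by
  rcases four_cases h4 (inf_le_left : X ⊓ N ≤ X) with h | h | h
  · exact absurd (mem_bot.1 (h ▸ (⟨ha, ha'⟩ : a ∈ X ⊓ N))) a1
  · obtain ⟨y, -, hy⟩ := (Nat.card_eq_two_iff' (1 : ↥(X ⊓ N))).1 h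
    have e1 := hy ⟨a, ha, ha'⟩ (fun h => a1 (congrArg Subtype.val h))
    have e2 := hy ⟨b, hb, hb'⟩ (fun h => b1 (congrArg Subtype.val h))
    exact absurd (congrArg Subtype.val (e1.trans e2.symm)) hab
  · exact inf_eq_left.1 h

end N2

variable [Finite G] {S M V : Subgroup G} {z m : G}

set_option quotPrecheck false

/-- `C = C(z)` -/
local notation "𝑪" => 𝐂₁[z]
/-- `U = ⟨V^C⟩` -/
local notation "𝑼" => ncl V 𝐂₁[z]
local notation "𝑼'" => cj(m, ncl V 𝐂₁[z])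
local notation "𝑫" => ncl V 𝐂₁[z] ⊓ cj(m, ncl V 𝐂₁[z])
local notation "𝑨" => cj(m, ncl V 𝐂₁[z]) ⊓ 𝐂[V]

theorem CN.n2_mod (h : CN S M V z m) : Mod 𝑪 𝑼 (zpowers z) :=
  (h.toOne.mod h.toOne.S_le_C le_rfl).1

theorem CN.n2_comm (h : CN S M V z m) {a b : G} (ha : a ∈ 𝑼) (hb : b ∈ 𝑼) :
    a * b = b * a ∨ a * b = z * (b * a) := by
  rcases eq_or_eq_of_sq h.z_sq (h.n2_mod.comm (commutator_mem_commutator ha hb)) with h1 | h1
  · exact Or.inl (commutatorElement_eq_one_iff_mul_comm.1 h1)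
  · refine Or.inr ?_
    rw [← h1, commutatorElement_def]
    group

theorem CN.n2_sq (h : CN S M V z m) {a : G} (ha : a ∈ 𝑼) : a * a = 1 ∨ a * a = z :=
  eq_or_eq_of_sq h.z_sq (h.n2_mod.sq a ha)

theorem CN.n2_U_le (h : CN S M V z m) : 𝑼 ≤ 𝑪 := h.basic.1.trans h.toOne.S_le_C

theorem CN.n2_z_comm (h : CN S M V z m) {a : G} (ha : a ∈ 𝑼) : a * z = z * a :=
  mem_centralizer_singleton_iff.1 (h.n2_U_le ha)

theorem CN.n2_z_mem (h : CN S M V z m) : z ∈ 𝑼 := le_ncl _ _ h.toOne.z_mem_V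

theorem CN.n2_swap (h : CN S M V z m) : ∃ w ∈ M, w * w = 1 ∧ w * z * w⁻¹ ≠ z ∧
    cj(w, 𝑼 ⊓ 𝐂[V]) = 𝑨 ∧ cj(w, 𝑫) = 𝑫 := by
  obtain ⟨w, hw, h1, h2, h3, h4, -⟩ := h.exists_swap
  have hM : w ∈ M := h.basic.2.2.2.2.2.2.2.2.2.2.1 hw
  refine ⟨w, hM, h1, h2 ▸ h.m_ne, ?_, ?_⟩
  · rw [cj_inf, h3, ← centralizer_cj, cj_of_mem_normalizer (h.toTwo.norm_V.ge hM)]
  · rw [cj_inf, h3, h4, inf_comm]

theorem CN.n2_idx (h : CN S M V z m) : (𝑼 ⊓ 𝐂[V]).relIndex 𝑼 = 2 := by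
  rw [inf_comm, inf_relIndex_right]
  exact h.basic.2.2.1

/-- the centralizer in `U` of a noncentral element has index 2 -/
theorem CN.n2_cent_idx (h : CN S M V z m) {p : G} (hp : p ∈ 𝑼) (hp' : p ∉ 𝐂[𝑼]) :
    (𝑼 ⊓ 𝐂₁[p]).relIndex 𝑼 = 2 := by
  rw [inf_comm, inf_relIndex_right]
  have h1 := Grp.PChain.relIndex_centralizer_le 𝑼 (zpowers z) (u := p)
    fun g hg => h.n2_mod.comm (commutator_mem_commutator hp hg)
  rw [h.toOne.card_Z] at h1
  have h2 := relIndex_ne_zero' 𝐂₁[p] 𝑼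
  have h3 : (𝐂₁[p]).relIndex 𝑼 ≠ 1 := fun h3 => hp' (mem_centralizer_iff.2 fun g hg =>
    mem_centralizer_singleton_iff.1 (relIndex_eq_one.1 h3 hg))
  omega

/-- the number of conjugates under `C` of a subgroup normalized by `C ⊓ M` is odd -/
theorem CN.n2_odd (h : CN S M V z m) {X : Subgroup G} (hX : M ⊓ 𝑪 ≤ 𝐍[X]) :
    Odd ((𝐍[X]).relIndex 𝑪) := by
  have h1 := h.toOne.basic.2.2.2.2.2.2.2.2.1
  rw [← inf_relIndex_right] at h1
  exact h1.of_dvd_nat (relIndex_dvd_of_le_left _ hX)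

end Cfsg.Agent.NG
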