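import Mathlib
import Cfsg.Agent.NG.CaseN0
import Cfsg.Agent.NG.CaseN2a

set_option autoImplicit false

namespace Cfsg.Agent.NG

open Subgroup Cfsg.Agent.PLocal Cfsg.Agent.PLocal.Amb Cfsg.Agent.PLocal.CP Cfsg.Agent.PLocal.JC
open scoped commutatorElement

variable {G : Type*} [Group G] [Finite G]

variable {S M V : Subgroup G} {z m : G}

set_option quotPrecheck false

/-- `C = C(z)` -/
local notation "𝑪" => 𝐂₁[z]
/-- `U = ⟨V^C⟩` -/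
local notation "𝑼" => ncl V 𝐂₁[z]
local notation "𝑼'" => cj(m, ncl V 𝐂₁[z])
local notation "𝑫" => ncl V 𝐂₁[z] ⊓ cj(m, ncl V 𝐂₁[z])
local notation "𝑨" => cj(m, ncl V 𝐂₁[z]) ⊓ 𝐂[V]
local notation "𝑰" => (ncl V 𝐂₁[z] ⊓ 𝐂[V]) ⊔ (cj(m, ncl V 𝐂₁[z]) ⊓ 𝐂[V])
local notation "𝑳" => ncl V 𝐂₁[z] ⊔ cj(m, ncl V 𝐂₁[z])
local notation "𝒀" => 𝐂₁[z] ⊓ secCent (ncl V 𝐂₁[z]) (zpowers z)

local instance n21Fact : Fact (Nat.Prime 2) := ⟨Nat.prime_two⟩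

/-- The subcase `D = V`, `|A : D| = 2`, with a central element `ζ` of `U` outside `V`, an
involution `u` of `U` outside `C(V)` and a swap `w`. -/
structure N21 (S M V : Subgroup G) (z m ζ u w : G) : Prop extends CN S M V z m where
  D_le : ncl V 𝐂₁[z] ⊓ cj(m, ncl V 𝐂₁[z]) ≤ V
  idx : V.relIndex (ncl V 𝐂₁[z] ⊓ 𝐂[V]) = 2
  comm : ∀ a ∈ ncl V 𝐂₁[z] ⊓ 𝐂[V], ∀ b ∈ ncl V 𝐂₁[z] ⊓ 𝐂[V], a * b = b * a
  ζ_mem : ζ ∈ ncl V 𝐂₁[z]
  ζ_cent : ζ ∈ 𝐂[ncl V 𝐂₁[z]]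
  ζ_not : ζ ∉ V
  u_mem : u ∈ ncl V 𝐂₁[z]
  u_not : u ∉ 𝐂[V]
  u_sq : u * u = 1
  u_conj : IsConj z u
  w_mem : w ∈ M
  w_sq : w * w = 1
  w_ne : w * z * w⁻¹ ≠ z
  w_cj : cj(w, ncl V 𝐂₁[z] ⊓ 𝐂[V]) = cj(m, ncl V 𝐂₁[z]) ⊓ 𝐂[V]

theorem CN.n21_cent (h : CN S M V z m) {u x : G} (hu : u ∈ 𝑼) (hu' : u ∉ 𝐂[V])
    (h1 : ∀ e ∈ 𝑼 ⊓ 𝐂[V], e * x = x * e) (h2 : u * x = x * u) : x ∈ 𝐂[𝑼] := by
  refine mem_centralizer_iff.2 fun y hy => ?_
  rcases N2.mem_or_of_two h.n2_idx hu (fun e => hu' e.2) hy with e | e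
  · exact h1 y e
  · calc y * x = u * (u⁻¹ * y * x) := by group
      _ = (u * x) * (u⁻¹ * y) := by rw [h1 _ e]; group
      _ = x * y := by rw [h2]; group

theorem CN.n21_VZ (h : CN S M V z m) {u v : G} (hu : u ∈ 𝑼) (hu' : u ∉ 𝐂[V]) (hv : v ∈ V)
    (hc : u * v = v * u) : v = 1 ∨ v = z :=
  eq_or_eq_of_sq h.z_sq (h.cent.2.1.le ⟨h.basic.2.2.2.2.1 hv,
    h.n21_cent hu hu' (fun _ he => (mem_centralizer_iff.1 he.2 v hv).symm) hc⟩)

theorem CN.n21_v (h : CN S M V z m) {u : G} (hu : u ∈ 𝑼) (hu' : u ∉ 𝐂[V]) :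
    ∃ v ∈ V, v * u = z * (u * v) := by
  by_contra hc
  push Not at hc
  exact hu' (mem_centralizer_iff.2 fun v hv =>
    (h.n2_comm (le_ncl _ _ hv) hu).resolve_right (hc v hv))

theorem CN.conj_V (h : CN S M V z m) {v : G} (hv : v ∈ V) (h1 : v ≠ 1) : IsConj z v := by
  obtain ⟨n, -, e⟩ := h.toOne.trans hv h1
  exact isConj_iff.2 ⟨n, e⟩

theorem CN.exists_N21 (h : CN S M V z m) (h2 : (𝑫).relIndex 𝑨 = 2) (h1 : V.relIndex 𝑫 = 1) :
    ∃ ζ u w, N21 S M V z m ζ u w := by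
  have hD : 𝑫 ≤ V := relIndex_eq_one.1 h1
  have e : 𝑫 = V := le_antisymm hD h.basic.2.2.2.2.1
  have hi : V.relIndex (𝑼 ⊓ 𝐂[V]) = 2 :=
    (congrArg (fun X : Subgroup G => X.relIndex (𝑼 ⊓ 𝐂[V])) e).symm.trans (h.card.1.trans h2)
  have hc : ∀ a ∈ 𝑼 ⊓ 𝐂[V], ∀ b ∈ 𝑼 ⊓ 𝐂[V], a * b = b * a := fun a ha b hb => by
    by_cases haV : a ∈ V
    · exact mem_centralizer_iff.1 hb.2 a haV
    rcases N2.mem_or_of_two hi ha haV hb with e | e
    · exact (mem_centralizer_iff.1 ha.2 b e).symm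
    · calc a * b = a * (a * (a⁻¹ * b)) := by group
        _ = b * a := by rw [← mem_centralizer_iff.1 ha.2 _ e]; group
  obtain ⟨u, hu, hu', us, uc⟩ : ∃ u ∈ 𝑼, u ∉ 𝐂[V] ∧ u * u = 1 ∧ IsConj z u := by
    have := h.basic.2.1
    rw [ncl_le_iff] at this
    push Not at this
    obtain ⟨c, hc, hn⟩ := this
    rw [cj_le_iff_forall] at hn
    push Not at hn
    obtain ⟨v, hv, hn⟩ := hn
    refine ⟨_, cj_le_ncl _ hc (conj_mem_cj c hv), hn, ?_,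
      (h.conj_V hv fun e => hn (by simp [e])).trans (isConj_iff.2 ⟨c, rfl⟩)⟩
    calc c * v * c⁻¹ * (c * v * c⁻¹) = c * (v * v) * c⁻¹ := by group
      _ = 1 := by rw [h.toTwo.sq_eq_one hv]; group
  obtain ⟨ζ, m1, m2, m3⟩ : ∃ ζ ∈ 𝑼 ⊓ 𝐂[V], ζ ∉ V ∧ u * ζ = ζ * u := by
    obtain ⟨x, hx, hx'⟩ : ∃ x ∈ 𝑼 ⊓ 𝐂[V], x ∉ V := by
      by_contra hc
      push Not at hc
      have := relIndex_eq_one.2 (show 𝑼 ⊓ 𝐂[V] ≤ V from hc)
      omega
    rcases h.n2_comm hx.1 hu with e | e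
    · exact ⟨x, hx, hx', e.symm⟩
    · obtain ⟨v, hv, hv'⟩ := h.n21_v hu hu'
      refine ⟨x * v, mul_mem hx ⟨le_ncl _ _ hv, h.toTwo.V_comm hv⟩,
        fun e => hx' ((mul_mem_cancel_right hv).1 e), Eq.symm ?_⟩
      calc x * v * u = (x * z) * (u * v) := by rw [mul_assoc, hv']; group
        _ = z * (x * u) * v := by rw [h.n2_z_comm hx.1]; group
        _ = (z * z) * (u * (x * v)) := by rw [e]; group
        _ = _ := by rw [h.z_sq, one_mul]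
  obtain ⟨w, w1, w2, w3, w4, -⟩ := h.n2_swap
  exact ⟨ζ, u, w, h, hD, hi, hc, m1.1, h.n21_cent hu hu' (fun e he => hc e he ζ m1) m3, m2, hu, hu',
    us, uc, w1, w2, w3, w4⟩

variable {ζ u w : G}

theorem N21.ζ_U1 (h : N21 S M V z m ζ u w) : ζ ∈ 𝑼 ⊓ 𝐂[V] :=
  ⟨h.ζ_mem, centralizer_anti (le_ncl _ _) h.ζ_cent⟩

theorem N21.V_le (h : N21 S M V z m ζ u w) : V ≤ 𝑼 ⊓ 𝐂[V] := le_inf (le_ncl _ _) h.toTwo.V_comm

theorem N21.card_U1 (h : N21 S M V z m ζ u w) : Nat.card ↥(𝑼 ⊓ 𝐂[V]) = 8 :=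
  N2.card_of_relIndex h.V_le h.idx h.four

theorem N21.card_U (h : N21 S M V z m ζ u w) : Nat.card ↥(𝑼) = 16 :=
  N2.card_of_relIndex inf_le_left h.toCN.n2_idx h.card_U1

theorem N21.U1_cases (h : N21 S M V z m ζ u w) {e : G} (he : e ∈ 𝑼 ⊓ 𝐂[V]) :
    e ∈ V ∨ ∃ v ∈ V, e = ζ * v :=
  (N2.mem_or_of_two h.idx h.ζ_U1 h.ζ_not he).imp id fun h1 => ⟨_, h1, by group⟩

theorem N21.sq_mul (h : N21 S M V z m ζ u w) {v : G} (hv : v ∈ V) : ζ * v * (ζ * v) = ζ * ζ := by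
  calc ζ * v * (ζ * v) = ζ * (v * ζ) * v := by group
    _ = ζ * ζ * (v * v) := by rw [mem_centralizer_iff.1 h.ζ_U1.2 v hv]; group
    _ = _ := by rw [h.toTwo.sq_eq_one hv, mul_one]

theorem N21.conj_ζ (h : N21 S M V z m ζ u w) {r : G} (hr : r ∈ S) :
    r * ζ * r⁻¹ = ζ ∨ r * ζ * r⁻¹ = ζ * z := by
  have hn := h.toCN.n2_mod.normU (h.toOne.S_le_C hr)
  have h1 := Amb.conj_mem_of_mem_normalizer hn h.ζ_mem
  have h2 := Amb.conj_mem_of_mem_normalizer (Amb.normalizer_le_normalizer_centralizer _ hn) h.ζ_cent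
  have h3 : r * ζ * r⁻¹ ∉ V := fun e => h.ζ_not (by
    simpa [mul_assoc] using Amb.inv_conj_mem_of_mem_normalizer (h.toTwo.norm_V.ge (h.le hr)) e)
  rcases N2.mem_or_of_two h.idx h.ζ_U1 h.ζ_not ⟨h1, centralizer_anti (le_ncl _ _) h2⟩ with e | e
  · exact absurd e h3
  · rcases h.toCN.n21_VZ h.u_mem h.u_not e (mem_centralizer_iff.1
      (mul_mem (inv_mem h.ζ_cent) h2) u h.u_mem) with e' | e'
    · exact Or.inl (inv_mul_eq_one.1 e').symm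
    · exact Or.inr (inv_mul_eq_iff_eq_mul.1 e')

theorem N21.ζ_sq (h : N21 S M V z m ζ u w) : ζ * ζ = z := by
  refine (h.toCN.n2_sq h.ζ_mem).resolve_left fun hζ => ?_
  have hz := h.toOne.z_mem_V
  have cP := Misc.card_closure_pair h.z_sq hζ (h.toCN.n2_z_comm h.ζ_mem).symm h.z_ne
    (fun e => h.ζ_not (e ▸ one_mem _)) (fun e => h.ζ_not (e ▸ hz))
  have good : ∀ Y ∈ {Y : Subgroup G | ∃ c ∈ 𝑪, cj(c, 𝑼 ⊓ 𝐂[V]) = Y}, closure {z, ζ} ≤ Y ∧ Y ≤ 𝑼 ∧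
      Nat.card Y = 2 * 4 ∧ (∀ e ∈ Y, e * e = 1) ∧ 𝑼 ⊓ 𝐂[Y] ≤ Y := by
    rintro _ ⟨c, hc, rfl⟩
    have hn := h.toCN.n2_mod.normU hc
    refine ⟨?_, cj_le_of_mem_normalizer inf_le_left hn, (card_cj _ _).trans h.card_U1,
      fun e he => ?_, ?_⟩
    · have h1 : closure {z, ζ} ≤ 𝑼 ⊓ 𝐂[𝑼] := (closure_le _).2 (by
        rintro _ (rfl | rfl)
        · exact ⟨h.toCN.n2_z_mem, mem_centralizer_iff.2 fun a ha => h.toCN.n2_z_comm ha⟩
        · exact ⟨h.ζ_mem, h.ζ_cent⟩)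
      refine h1.trans ?_
      rw [← cj_of_mem_normalizer (Amb.le_normalizer_inf h.toCN.n2_mod.normU
        (Amb.le_normalizer_centralizer h.toCN.n2_mod.normU) hc)]
      exact cj_mono _ (inf_le_inf_left _ (centralizer_anti (le_ncl _ _)))
    · obtain ⟨d, hd, rfl⟩ := mem_cj_iff_exists.1 he
      have : d * d = 1 := by
        rcases h.U1_cases hd with e | ⟨v, hv, rfl⟩
        · exact h.toTwo.sq_eq_one e
        · rw [h.sq_mul hv, hζ]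
      calc c * d * c⁻¹ * (c * d * c⁻¹) = c * (d * d) * c⁻¹ := by group
        _ = 1 := by rw [this]; group
    · have := cj_mono c (inf_le_inf_left 𝑼 (centralizer_anti h.V_le))
      rwa [cj_inf c 𝑼, cj_of_mem_normalizer hn, ← centralizer_cj] at this
  have h2 : (𝐍[𝑼 ⊓ 𝐂[V]]).relIndex 𝑪 ≤ 2 := by
    rw [← N2.ncard_orbit]
    by_contra hc
    obtain ⟨E₁, E₂, E₃, m₁, m₂, m₃, n₁, n₂, n₃⟩ :=
      (Set.two_lt_ncard_iff (Set.toFinite _)).1 (not_le.1 hc)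
    obtain ⟨e, he, he', hc⟩ := N2.three_ea cP h.card_U (good _ m₁).1 (good _ m₂).1 (good _ m₃).1
      (good _ m₁).2.1 (good _ m₂).2.1 (good _ m₃).2.1 (good _ m₁).2.2.1 (good _ m₂).2.2.1
      (good _ m₃).2.2.1 (good _ m₁).2.2.2.1 (good _ m₂).2.2.2.1 (good _ m₃).2.2.2.1 n₁ n₂ n₃
    exact he' ((good _ m₁).2.2.2.2 ⟨(good _ m₂).2.1 he, hc⟩)
  obtain ⟨k, hk⟩ := h.toCN.n2_odd (X := 𝑼 ⊓ 𝐂[V]) (Amb.le_normalizer_inf
    (inf_le_right.trans h.toCN.n2_mod.normU)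
    (Amb.le_normalizer_centralizer (inf_le_left.trans h.toTwo.norm_V.ge)))
  have h3 : 𝑪 ≤ 𝐍[𝑼 ⊓ 𝐂[V]] := relIndex_eq_one.1 (by omega)
  exact h.toCN.basic.2.1 ((ncl_le h.V_le h3).trans inf_le_right)

theorem N21.mem_V (h : N21 S M V z m ζ u w) {e : G} (he : e ∈ 𝑼 ⊓ 𝐂[V]) (h1 : e * e = 1) :
    e ∈ V := by
  rcases h.U1_cases he with e | ⟨v, hv, rfl⟩
  · exact e
  · rw [h.sq_mul hv, h.ζ_sq] at h1
    exact absurd h1 h.z_ne

theorem N21.w_V (h : N21 S M V z m ζ u w) {v : G} (hv : v ∈ V) : w * v * w⁻¹ ∈ V :=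
  Amb.conj_mem_of_mem_normalizer (h.toTwo.norm_V.ge h.w_mem) hv

theorem N21.mem_A (h : N21 S M V z m ζ u w) {a : G} :
    a ∈ 𝑨 ↔ ∃ e ∈ 𝑼 ⊓ 𝐂[V], w * e * w⁻¹ = a := by
  rw [← h.w_cj, mem_cj_iff_exists]

theorem N21.ζ_comm (h : N21 S M V z m ζ u w) : w * ζ * w⁻¹ * ζ = ζ * (w * ζ * w⁻¹) := by
  have hA : w * ζ * w⁻¹ ∈ 𝑨 := h.mem_A.2 ⟨ζ, h.ζ_U1, rfl⟩
  rcases h.conj_ζ (h.toCN.basic.2.2.2.1 hA) with e | e
  · exact mul_inv_eq_iff_eq_mul.1 e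
  exfalso
  have c1 := mem_centralizer_iff.1 hA.2 _ h.toOne.z_mem_V
  have h1 : w * (w * ζ * w⁻¹) * w⁻¹ = ζ := by
    calc w * (w * ζ * w⁻¹) * w⁻¹ = (w * w) * ζ * (w * w)⁻¹ := by group
      _ = ζ := by rw [h.w_sq]; group
  obtain ⟨y, hy⟩ : ∃ y, y = w * ζ * w⁻¹ := ⟨_, rfl⟩
  rw [← hy] at e c1 h1
  have e1 : y * ζ = ζ * y * z := by
    rw [mul_inv_eq_iff_eq_mul.1 e, mul_assoc, c1, ← mul_assoc]
  have e2 : ζ * y = y * ζ * (w * z * w⁻¹) := by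
    calc ζ * y = (w * y * w⁻¹) * (w * ζ * w⁻¹) := by rw [h1, ← hy]
      _ = w * (y * ζ) * w⁻¹ := by group
      _ = (w * ζ * w⁻¹) * (w * y * w⁻¹) * (w * z * w⁻¹) := by rw [e1]; group
      _ = _ := by rw [h1, ← hy]
  rw [e2, mul_assoc (y * ζ), left_eq_mul] at e1
  exact h.w_ne ((eq_inv_of_mul_eq_one_left e1).trans (inv_eq_of_mul_eq_one_right h.z_sq))

theorem N21.I_comm (h : N21 S M V z m ζ u w) : 𝑰 ≤ 𝐂[𝑰] := by
  have h1 : 𝑼 ⊓ 𝐂[V] ≤ 𝐂[𝑼 ⊓ 𝐂[V]] := fun a ha => mem_centralizer_iff.2 fun b hb => h.comm b hb a ha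
  have h2 : 𝑨 ≤ 𝐂[𝑨] := by
    rw [← h.w_cj, centralizer_cj]
    exact cj_mono _ h1
  have h3 : 𝑼 ⊓ 𝐂[V] ≤ 𝐂[𝑨] := fun e he => by
    have hV : V ≤ 𝐂[𝑨] := le_centralizer_iff.1 inf_le_right
    rcases h.U1_cases he with e | ⟨v, hv, rfl⟩
    · exact hV e
    refine mul_mem (mem_centralizer_iff.2 fun a ha => ?_) (hV hv)
    obtain ⟨e, he, rfl⟩ := h.mem_A.1 ha
    rcases h.U1_cases he with e | ⟨v, hv, rfl⟩
    · exact mem_centralizer_iff.1 h.ζ_U1.2 _ (h.w_V e)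
    · calc w * (ζ * v) * w⁻¹ * ζ = w * ζ * w⁻¹ * (w * v * w⁻¹ * ζ) := by group
        _ = (w * ζ * w⁻¹ * ζ) * (w * v * w⁻¹) := by
          rw [mem_centralizer_iff.1 h.ζ_U1.2 _ (h.w_V hv)]; group
        _ = _ := by rw [h.ζ_comm]; group
  rw [Amb.centralizer_sup]
  exact sup_le (le_inf h1 h3) (le_inf (le_centralizer_iff.1 h3) h2)

theorem N21.comm_I (h : N21 S M V z m ζ u w) {a b : G} (ha : a ∈ 𝑰) (hb : b ∈ 𝑰) : a * b = b * a :=
  mem_centralizer_iff.1 (h.I_comm hb) a ha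

theorem N21.norm_A (h : N21 S M V z m ζ u w) : 𝐂[V] ≤ 𝐍[𝑨] :=
  h.toCN.basic.2.2.2.2.2.2.2.2.2.2.2.2.2.2.2.2.2.2.1

theorem N21.sq_I (h : N21 S M V z m ζ u w) {i : G} (hi : i ∈ 𝑰) : i * i ∈ V ∧ (i * i = 1 → i ∈ V) := by
  obtain ⟨e, he, a, ha, rfl⟩ := (mem_sup_of_le_normalizer_right (inf_le_right.trans h.norm_A)).1 hi
  have h1 : e * a * (e * a) = e * e * (a * a) := by
    calc e * a * (e * a) = e * (a * e) * a := by group
      _ = _ := by rw [h.comm_I (mem_sup_right ha) (mem_sup_left he)]; group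
  obtain ⟨f, hf, rfl⟩ := h.mem_A.1 ha
  have h2 : w * f * w⁻¹ * (w * f * w⁻¹) = w * (f * f) * w⁻¹ := by group
  have hz := h.toOne.z_mem_V
  rw [h1, h2]
  rcases h.toCN.n2_sq he.1 with e1 | e1 <;> rcases h.toCN.n2_sq hf.1 with e2 | e2 <;> rw [e1, e2]
  · exact ⟨by simp, fun _ => mul_mem (h.mem_V he e1) (h.w_V (h.mem_V hf e2))⟩
  · exact ⟨mul_mem (one_mem _) (h.w_V hz), fun e => absurd (by simpa using e) h.z_ne⟩
  · exact ⟨by simpa using hz, fun e => absurd (by simpa using e) h.z_ne⟩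
  · exact ⟨mul_mem hz (h.w_V hz), fun e => absurd
      ((eq_inv_of_mul_eq_one_right e).trans (inv_eq_of_mul_eq_one_right h.z_sq)) h.w_ne⟩

theorem N21.card_I (h : N21 S M V z m ζ u w) : Nat.card ↥(𝑰) = 16 := by
  have h1 := card_sup_mul_card_inf (A := 𝑼 ⊓ 𝐂[V]) (B := 𝑨) (inf_le_right.trans h.norm_A)
  have h2 : Nat.card ↥(𝑨) = 8 := by rw [← h.w_cj, card_cj, h.card_U1]
  have h3 : (𝑼 ⊓ 𝐂[V]) ⊓ 𝑨 = V := le_antisymm
    ((inf_le_inf inf_le_left inf_le_left).trans h.D_le)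
    (le_inf h.V_le (le_inf (h.toCN.basic.2.2.2.2.1.trans inf_le_right) h.toTwo.V_comm))
  rw [h3, h2, h.card_U1, h.four] at h1
  omega

theorem N21.I_le (h : N21 S M V z m ζ u w) : 𝑰 ≤ S ⊓ 𝐂[V] :=
  sup_le (inf_le_inf_right _ h.toCN.basic.1) (le_inf h.toCN.basic.2.2.2.1 inf_le_right)

theorem N21.norm_I (h : N21 S M V z m ζ u w) : M ≤ 𝐍[𝑰] := h.toCN.basic.2.2.2.2.2.2.2.2.1

/-- the involutions of `I ⟨u⟩` are conjugate to `z` -/
theorem N21.conj_of_mem (h : N21 S M V z m ζ u w) {t : G} (ht : t ∈ 𝑰 ⊔ zpowers u)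
    (h2 : t * t = 1) (h1 : t ≠ 1) : IsConj z t := by
  have huI := h.norm_I (h.le (h.toCN.basic.1 h.u_mem))
  have hu : u⁻¹ = u := inv_eq_of_mul_eq_one_right h.u_sq
  rcases (Misc.mem_sup_zpowers_two h.u_sq fun a ha =>
    Amb.conj_mem_of_mem_normalizer huI ha).1 ht with hi | hi
  · exact h.toCN.conj_V ((h.sq_I hi).2 h2) h1
  obtain ⟨i, rfl⟩ : ∃ i, t = i * u := ⟨t * u, by rw [mul_assoc, h.u_sq, mul_one]⟩
  rw [mul_assoc, h.u_sq, mul_one] at hi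
  have hinv : u * i * u⁻¹ = i⁻¹ := by
    rw [hu]
    exact eq_inv_of_mul_eq_one_right (by rw [← h2]; group)
  have key : ∀ j ∈ V, u * j * u⁻¹ = j⁻¹ → j = 1 ∨ j = z := fun j hj e =>
    h.toCN.n21_VZ h.u_mem h.u_not hj (by
      rw [inv_eq_of_mul_eq_one_right (h.toTwo.sq_eq_one hj)] at e
      exact mul_inv_eq_iff_eq_mul.1 e)
  obtain ⟨v, hv, hv'⟩ := h.toCN.n21_v h.u_mem h.u_not
  have fin : ∀ y ∈ 𝐂[V], IsConj z (y * u) → ∀ j, j = 1 ∨ j = z → IsConj z (j * y * u) := by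
    rintro y hy hc j (rfl | rfl)
    · rwa [one_mul]
    · refine hc.trans (isConj_iff.2 ⟨v, ?_⟩)
      calc v * (y * u) * v⁻¹ = (v * y) * u * v⁻¹ := by group
        _ = y * (v * u) * v⁻¹ := by rw [mem_centralizer_iff.1 hy v hv]; group
        _ = (y * j) * u := by rw [hv']; group
        _ = _ := by rw [← mem_centralizer_iff.1 hy j h.toOne.z_mem_V]
  rcases key _ (h.sq_I hi).1 (by
    calc u * (i * i) * u⁻¹ = (u * i * u⁻¹) * (u * i * u⁻¹) := by group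
      _ = _ := by rw [hinv]; group) with e | e
  · simpa using fin 1 (one_mem _) (by simpa using h.u_conj) i (key i ((h.sq_I hi).2 e) hinv)
  have hA : w * ζ * w⁻¹ ∈ 𝑨 := h.mem_A.2 ⟨ζ, h.ζ_U1, rfl⟩
  have hA' : w * ζ * w⁻¹ ∉ 𝑫 := fun e => h.ζ_not (by
    simpa [mul_assoc] using Amb.inv_conj_mem_of_mem_normalizer (h.toTwo.norm_V.ge h.w_mem) (h.D_le e))
  generalize w * ζ * w⁻¹ = a at hA hA'
  have y1 : ⁅a, u⁆ ∈ 𝑼 ⊓ 𝐂[V] := by
    rw [← commutatorElement_inv]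
    exact inv_mem (h.toCN.basic.2.2.2.2.2.2.2.2.2.2.2.2.2.2.2.1
      (commutator_mem_commutator h.u_mem hA))
  have y2 : ⁅a, u⁆ * ⁅a, u⁆ = z := (h.toCN.n2_sq y1.1).resolve_left fun e =>
    h.toCN.comm_not_mem hA hA' h.u_mem h.u_not (h.toCN.basic.2.2.2.2.1 (h.mem_V y1 e))
  have y3 : u * ⁅a, u⁆ * u⁻¹ = ⁅a, u⁆⁻¹ := by
    calc u * ⁅a, u⁆ * u⁻¹ = u * a * u * a⁻¹ * (u * u)⁻¹ := by rw [commutatorElement_def]; group
      _ = _ := by rw [h.u_sq, commutatorElement_inv, commutatorElement_def, hu]; group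
  have y4 : IsConj z (⁅a, u⁆ * u) :=
    h.u_conj.trans (isConj_iff.2 ⟨a, by rw [commutatorElement_def]; group⟩)
  generalize ⁅a, u⁆ = y at y1 y2 y3 y4
  have c := h.comm_I hi (inv_mem (mem_sup_left y1))
  have j1 : i * y⁻¹ ∈ V := (h.sq_I (mul_mem hi (inv_mem (mem_sup_left y1)))).2 (by
    calc i * y⁻¹ * (i * y⁻¹) = i * (y⁻¹ * i) * y⁻¹ := by group
      _ = (i * i) * (y * y)⁻¹ := by rw [← c]; group
      _ = 1 := by rw [e, y2]; group)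
  have := fin y y1.2 y4 _ (key _ j1 (by
    calc u * (i * y⁻¹) * u⁻¹ = (u * i * u⁻¹) * (u * y * u⁻¹)⁻¹ := by group
      _ = (y⁻¹ * i)⁻¹ := by rw [hinv, y3]; group
      _ = _ := by rw [c]))
  simpa using this

theorem fpf_of_three {X : Subgroup G} (h4 : Nat.card X = 4) (hX : ∀ v ∈ X, v * v = 1) {g : G}
    (hg : g ∈ 𝐍[X]) (h3 : orderOf g = 3) (hn : g ∉ 𝐂[X]) {v : G} (hv : v ∈ X) (h1 : v ≠ 1) :
    g * v * g⁻¹ ≠ v := fun e => by
  have a := four_stab_le_two hX h4 (zpowers_le_of_mem hg) hv h1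
    (zpowers_le_of_mem (mem_centralizer_singleton_iff.2 (mul_inv_eq_iff_eq_mul.1 e)))
  have b := relIndex_dvd_card 𝐂[X] (zpowers g)
  rw [Nat.card_zpowers, h3] at b
  rcases (Nat.dvd_prime Nat.prime_three).1 b with c | c
  · exact hn (relIndex_eq_one.1 c (mem_zpowers g))
  · omega

theorem exists_mem_of_idx {X N H : Subgroup G} (h4 : 4 ≤ Nat.card X) (hX : X ≤ H)
    (h2 : N.relIndex H = 2) : ∃ x ∈ X, x ∈ N ∧ x ≠ 1 := by
  have a := card_inf_mul_relIndex N X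
  have b := relIndex_le_of_le_right (H := N) hX (by omega)
  obtain ⟨x, hx, h1⟩ := JC.exists_ne_one (V := N ⊓ X) (fun e => by
    rw [e, card_bot] at a
    omega)
  exact ⟨x, hx.2, hx.1, h1⟩

/-- an element of `S ⊓ C(V)` centralizing `g` and `ζ` is trivial -/
theorem N21.eq_one (h : N21 S M V z m ζ u w) {g : G} (hg : g ∈ 𝑳) (h3 : orderOf g = 3)
    (hn : g ∉ 𝐂[V]) (hu : u * g * u⁻¹ * g ∈ 𝑰) {r : G} (hr : r ∈ S ⊓ 𝐂[V]) (hrg : g * r = r * g)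
    (hζ : ζ * r = r * ζ) : r = 1 := by
  have hgM : g ∈ M := h.toCN.basic.2.2.2.2.2.2.2.2.2.2.1 hg
  have hz := h.toOne.z_mem_V
  have fpf := fpf_of_three h.four (fun _ hv => h.toTwo.sq_eq_one hv) (h.toTwo.norm_V.ge hgM) h3 hn
    hz h.z_ne
  have hRL := h.toCN.basic.2.2.2.2.2.2.2.2.2.2.2.2.2.2.2.2.2.2.2
  have hSV : S ≤ 𝐍[V] := h.le.trans h.toTwo.norm_V.ge
  have hn : S ≤ 𝐍[𝑰 ⊔ zpowers g] := le_normalizer_iff_cj.2 fun s hs => by
    rw [cj_sup, cj_of_mem_normalizer (h.norm_I (h.le hs))]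
    refine sup_le le_sup_left (cj_le_iff.2 (zpowers_le_of_mem (mem_cj.2 ?_)))
    rw [inv_inv]
    have hR : ∀ r ∈ S ⊓ 𝐂[V], ∃ i ∈ 𝑰, r * g * r⁻¹ = i * g := fun r hr =>
      ⟨_, hRL (commutator_mem_commutator hr hg), by rw [commutatorElement_def]; group⟩
    have huS := h.toCN.basic.1 h.u_mem
    rcases N2.mem_or_of_two h.toOne.basic.2.2.2.2.2.2.1 huS h.u_not hs with e | e
    · obtain ⟨i, hi, e'⟩ := hR s ⟨hs, e⟩
      rw [e']
      exact mul_mem (mem_sup_left hi) (mem_sup_right (mem_zpowers g))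
    · obtain ⟨i, hi, e'⟩ := hR _ ⟨S.mul_mem (S.inv_mem huS) hs, e⟩
      have : s * g * s⁻¹ = (u * i * u⁻¹) * (u * g * u⁻¹ * g) * g⁻¹ := by
        calc s * g * s⁻¹ = u * (u⁻¹ * s * g * (u⁻¹ * s)⁻¹) * u⁻¹ := by group
          _ = _ := by rw [e']; group
      rw [this]
      exact mul_mem (mem_sup_left (mul_mem
        (Amb.conj_mem_of_mem_normalizer (h.norm_I (h.le huS)) hi) hu))
        (mem_sup_right (Subgroup.inv_mem _ (mem_zpowers g)))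
  have hK : (S ⊓ 𝐂[V]) ⊓ 𝐂[𝑰 ⊔ zpowers g] = ⊥ := by
    by_contra hK
    have := h.toOne.z_mem (h.syl.pgrp.to_le (inf_le_left.trans inf_le_left)) hK
      (Amb.le_normalizer_inf (Amb.le_normalizer_inf le_normalizer (Amb.le_normalizer_centralizer hSV))
        (Amb.le_normalizer_centralizer hn))
    exact fpf (mul_inv_eq_iff_eq_mul.2
      (mem_centralizer_iff.1 this.2 g (mem_sup_right (mem_zpowers g))))
  refine mem_bot.1 (hK.le ⟨hr, ?_⟩)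
  have c1 : 𝑼 ⊓ 𝐂[V] ≤ 𝐂₁[r] := fun e he => by
    have hV : V ≤ 𝐂₁[r] := fun v hv =>
      mem_centralizer_singleton_iff.2 (mem_centralizer_iff.1 hr.2 v hv)
    rcases h.U1_cases he with e | ⟨v, hv, rfl⟩
    · exact hV e
    · exact mul_mem (mem_centralizer_singleton_iff.2 hζ) (hV hv)
  have cg : g ∈ 𝐂₁[r] := mem_centralizer_singleton_iff.2 hrg
  have c2 : g * ζ * g⁻¹ ∈ 𝐂₁[r] := mul_mem (mul_mem cg (c1 h.ζ_U1)) (inv_mem cg)
  have c3 : g * ζ * g⁻¹ ∉ 𝑼 ⊓ 𝐂[V] := fun e => by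
    have e' : g * ζ * g⁻¹ * (g * ζ * g⁻¹) = g * z * g⁻¹ := by rw [← h.ζ_sq]; group
    rcases h.toCN.n2_sq e.1 with e1 | e1 <;> rw [e'] at e1
    · exact h.z_ne (by simpa using e1)
    · exact fpf e1
  have c4 : 𝑰 ≤ 𝐂₁[r] := fun i hi => by
    rcases N2.mem_or_of_two (N2.relIndex_of_card le_sup_left (by rw [h.card_I, h.card_U1]))
      (Amb.conj_mem_of_mem_normalizer (h.norm_I hgM) (mem_sup_left h.ζ_U1)) c3 hi with e | e
    · exact c1 e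
    · have := mul_mem c2 (c1 e)
      rwa [mul_inv_cancel_left] at this
  exact mem_centralizer_iff.2 fun x hx =>
    mem_centralizer_singleton_iff.1 (sup_le c4 (zpowers_le_of_mem cg) hx)

theorem N21.not_le (h : N21 S M V z m ζ u w) : ¬ S ⊓ 𝐂[V] ≤ 𝑰 := fun hR => by
  obtain ⟨E, hE, hEA, h8⟩ := h.hyp.exists_eight h.syl
  rw [Misc.isElementaryAbelian_two_iff] at hEA
  have h1 : 𝐂[V] ⊓ E ≤ V := fun e he =>
    (h.sq_I (hR ⟨hE he.2, he.1⟩)).2 (by rw [← pow_two]; exact hEA e he.2)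
  have a := card_inf_mul_relIndex 𝐂[V] E
  have b := relIndex_le_of_le_right (H := 𝐂[V]) hE (relIndex_ne_zero' _ _)
  rw [h.toOne.basic.2.2.2.2.2.2.1] at b
  have c : Nat.card V ≤ Nat.card ↥(𝐂[V] ⊓ E) := by
    rw [h.four]
    nlinarith
  have d : V ≤ E := (eq_of_le_of_card_le h1 c).ge.trans inf_le_right
  have e : E ≤ V := (le_inf (fun e he => mem_centralizer_iff.2 fun v hv =>
    Misc.comm_of_sq hEA v (d hv) e he) le_rfl).trans h1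
  have := card_le_of_le e
  rw [h.four] at this
  omega

/-- `C(z)` contains no `A₄` whose four-group avoids `z` -/
theorem N21.no_A4 (h : N21 S M V z m ζ u w) (c64 : Nat.card S = 64) {X : Subgroup G} {y : G}
    (hX : X ≤ S) (h4 : Nat.card X = 4) (h2 : ∀ x ∈ X, x * x = 1) (hz : z ∉ X) (hy : y ∈ 𝑪)
    (hyX : y ∈ 𝐍[X]) (h3 : orderOf y = 3) (hn : y ∉ 𝐂[X]) : False := by
  have irr : ∀ N : Subgroup G, y ∈ 𝐍[N] → ∀ x ∈ X, x ∈ N → x ≠ 1 → X ≤ N := fun N hN x hx hx' h1 =>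
    N2.four_le h4 (Amb.conj_mem_of_mem_normalizer hyX hx) hx
      (Amb.conj_mem_of_mem_normalizer hN hx') hx' (by simpa using h1) h1
      (fpf_of_three h4 h2 hyX h3 hn hx h1)
  have hyU := h.toCN.n2_mod.normU hy
  by_cases hb : X ⊓ 𝑼 = ⊥
  · have a := card_sup_mul_card_inf (hX.trans (h.toOne.S_le_C.trans h.toCN.n2_mod.normU))
    rw [hb, card_bot, h4, h.card_U] at a
    have e : X ⊔ 𝑼 = S := eq_of_le_of_card_le (sup_le hX h.toCN.basic.1) (by omega)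
    have hyS : y ∈ 𝐍[S] := e ▸ Amb.le_normalizer_sup (zpowers_le_of_mem hyX) (zpowers_le_of_mem hyU)
      (mem_zpowers y)
    have hyM := h.nB (normalizer_le_normalizer_bau _ hyS)
    have hyV : y ∈ 𝐂[V] := by
      by_contra hc
      have h5 := Amal.mul_mem_of_relIndex_two h.toOne.basic.2.2.2.2.2.1 ⟨hy, hyM⟩ ⟨hy, hyM⟩ hc hc
      have : y = y * y * (y * y) := by
        calc y = y ^ orderOf y * y := by rw [pow_orderOf_eq_one, one_mul]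
          _ = _ := by rw [h3, pow_three]; group
      exact hc (this ▸ mul_mem h5 h5)
    have huS := h.toCN.basic.1 h.u_mem
    have e0 : 𝑰 ⊔ zpowers u = 𝑰 ⊔ 𝑼 := le_antisymm (sup_le_sup_left (zpowers_le_of_mem h.u_mem) _)
      (sup_le le_sup_left fun x hx => by
        rcases N2.mem_or_of_two h.toCN.n2_idx h.u_mem (fun e => h.u_not e.2) hx with e | e
        · exact mem_sup_left (mem_sup_left e)
        · simpa using mul_mem (mem_sup_right (mem_zpowers u))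
            (mem_sup_left (mem_sup_left e) : _ ∈ 𝑰 ⊔ zpowers u))
    have c0 := Misc.card_sup_zpowers_two h.u_sq (fun e => h.u_not (h.I_le e).2)
      (h.norm_I (h.le huS))
    rw [e0, h.card_I] at c0
    have l0 : 𝑰 ⊔ 𝑼 ≤ S := sup_le (h.I_le.trans inf_le_left) h.toCN.basic.1
    obtain ⟨x, hx, hx', h1⟩ := exists_mem_of_idx h4.ge hX
      (N2.relIndex_of_card l0 (n := 2) (by rw [c0, c64]))
    have := irr _ (Amb.le_normalizer_sup (zpowers_le_of_mem (h.norm_I hyM)) (zpowers_le_of_mem hyU)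
      (mem_zpowers y)) x hx hx' h1
    have := card_le_of_le (e.ge.trans (sup_le this le_sup_right))
    omega
  · obtain ⟨x, hx, h1⟩ := JC.exists_ne_one hb
    have hXU := irr _ hyU x hx.1 hx.2 h1
    obtain ⟨x, hx, hx', h1⟩ := exists_mem_of_idx h4.ge hXU h.toCN.n2_idx
    have hXV : X ≤ V := fun a ha => h.mem_V ⟨hXU ha, mem_centralizer_iff.2 fun v hv =>
      mem_centralizer_singleton_iff.1 (N2.four_le (N := 𝐂₁[a]) h.four (h.mem_V hx' (h2 x hx))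
        h.toOne.z_mem_V (mem_centralizer_singleton_iff.2 (Misc.comm_of_sq
          (fun b hb => by rw [pow_two]; exact h2 b hb) x hx a ha))
        (mem_centralizer_singleton_iff.2 (h.toCN.n2_z_comm (hXU ha)).symm) h1 h.z_ne
        (fun e => hz (e ▸ hx)) hv)⟩ (h2 a ha)
    exact hz ((eq_of_le_of_card_le hXV (by rw [h4, h.four])).ge h.toOne.z_mem_V)

theorem N21.false (h : N21 S M V z m ζ u w) : False := by
  obtain ⟨g, hg, h3, hn, hu, -⟩ := h.toCN.exists_three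
  have hu := hu u h.u_mem h.u_not
  have hgM : g ∈ M := h.toCN.basic.2.2.2.2.2.2.2.2.2.2.1 hg
  have hRL := h.toCN.basic.2.2.2.2.2.2.2.2.2.2.2.2.2.2.2.2.2.2.2
  have hR2 : IsPGroup 2 ↥(S ⊓ 𝐂[V]) := h.syl.pgrp.to_le inf_le_left
  have hgR : g ∈ 𝐍[S ⊓ 𝐂[V]] := mem_normalizer_of_cj_le (cj_le_iff_forall.2 fun r hr => by
    have := mul_mem (inv_mem (h.I_le (hRL (commutator_mem_commutator hr hg)))) hr
    rwa [commutatorElement_inv, commutatorElement_def, inv_mul_cancel_right] at this)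
  have dec : ∀ r ∈ S ⊓ 𝐂[V], ∃ c ∈ S ⊓ 𝐂[V], g * c = c * g ∧ ∃ i ∈ 𝑰, r = c * i := fun r hr => by
    obtain ⟨c, hc, d, hd, e⟩ := Solv.coprime_exists_centralizer_mul_commutator (zpowers g)
      (S ⊓ 𝐂[V]) (zpowers_le_of_mem hgR) (coprime_card_zpowers hR2 (by rw [h3]; norm_num))
      (Or.inr (Solv.isSolvable_of_isPGroup hR2)) r hr
    exact ⟨c, hc.1, mem_centralizer_iff.1 hc.2 g (mem_zpowers g), d,
      hRL (commutator_mono le_rfl (zpowers_le_of_mem hg) hd), e⟩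
  have act : ∀ r ∈ S ⊓ 𝐂[V], g * r = r * g → r ≠ 1 → r * ζ * r⁻¹ = ζ * z := fun r hr hc h1 =>
    (h.conj_ζ hr.1).resolve_left fun e =>
      h1 (h.eq_one hg h3 hn hu hr hc (mul_inv_eq_iff_eq_mul.1 e).symm)
  have two : ∀ r ∈ S ⊓ 𝐂[V], g * r = r * g → r ≠ 1 → ∀ s ∈ S ⊓ 𝐂[V], g * s = s * g → s ≠ 1 →
      r * s = 1 := fun r hr hc h1 s hs hc' h1' => by
    refine h.eq_one hg h3 hn hu (mul_mem hr hs) (by rw [← mul_assoc, hc, mul_assoc, hc', mul_assoc])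
      (mul_inv_eq_iff_eq_mul.1 ?_).symm
    calc r * s * ζ * (r * s)⁻¹ = r * (s * ζ * s⁻¹) * r⁻¹ := by group
      _ = (r * ζ * r⁻¹) * (r * z) * r⁻¹ := by rw [act s hs hc' h1']; group
      _ = ζ * (z * z) := by
        rw [act r hr hc h1, ← mem_centralizer_iff.1 hr.2 z h.toOne.z_mem_V]; group
      _ = ζ := by rw [h.z_sq, mul_one]
  obtain ⟨c, hc, hcg, c1⟩ : ∃ c ∈ S ⊓ 𝐂[V], g * c = c * g ∧ c ≠ 1 := by
    by_contra hc
    push Not at hc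
    refine h.not_le fun r hr => ?_
    obtain ⟨c, h1, h2, i, hi, rfl⟩ := dec r hr
    rwa [hc c h1 h2, one_mul]
  have c2 := two c hc hcg c1 c hc hcg c1
  have cI : c ∉ 𝑰 := fun e => h.z_ne (by
    have := act c hc hcg c1
    rw [h.comm_I e (mem_sup_left h.ζ_U1), mul_inv_cancel_right] at this
    simpa using this)
  have eR : 𝑰 ⊔ zpowers c = S ⊓ 𝐂[V] := le_antisymm (sup_le h.I_le (zpowers_le_of_mem hc))
    fun r hr => by
      obtain ⟨d, h1, h2, i, hi, rfl⟩ := dec r hr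
      refine mul_mem (mem_sup_right ?_) (mem_sup_left hi)
      by_cases d1 : d = 1
      · exact d1 ▸ one_mem _
      · rw [eq_inv_of_mul_eq_one_left (two d h1 h2 d1 c hc hcg c1)]
        exact inv_mem (mem_zpowers c)
  have cR := Misc.card_sup_zpowers_two c2 cI (h.norm_I (h.le hc.1))
  rw [eR, h.card_I] at cR
  have c64 : Nat.card S = 64 := by
    have := card_inf_mul_relIndex 𝐂[V] S
    rw [inf_comm, cR, h.toOne.basic.2.2.2.2.2.2.1] at this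
    omega
  have huS := h.toCN.basic.1 h.u_mem
  have huI := h.norm_I (h.le huS)
  have l0 : 𝑰 ⊔ zpowers u ≤ S := sup_le (h.I_le.trans inf_le_left) (zpowers_le_of_mem huS)
  have c0 := Misc.card_sup_zpowers_two h.u_sq (fun e => h.u_not (h.I_le e).2) huI
  obtain ⟨y, hy⟩ := h.hyp.transfer h.syl l0 (N2.relIndex_of_card l0 (by rw [c0, h.card_I, c64]))
    c2 hc.1 (fun e => by
      rcases (Misc.mem_sup_zpowers_two h.u_sq fun a ha =>
        Amb.conj_mem_of_mem_normalizer huI ha).1 e with e | e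
      · exact cI e
      · exact h.u_not ((Subgroup.mul_mem_cancel_left _ hc.2).1 (h.I_le e).2))
  have hconj : IsConj c z := (isConj_iff.2 ⟨y, rfl⟩).trans (h.conj_of_mem hy (by
    calc y * c * y⁻¹ * (y * c * y⁻¹) = y * (c * c) * y⁻¹ := by group
      _ = 1 := by rw [c2]; group) (by simpa using c1)).symm
  obtain ⟨k, hk⟩ := isConj_iff.1 hconj
  have hVc : V ≤ 𝐂₁[c] := fun v hv =>
    mem_centralizer_singleton_iff.2 (mem_centralizer_iff.1 hc.2 v hv)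
  obtain ⟨k', hk', hS⟩ := (h.syl.mono h.toOne.S_le_C le_top).exists_cj_le
    (isPGroup_cj k h.toTwo.V_two) (by
      rw [← hk, centralizer_singleton_conj]
      exact cj_mono _ hVc)
  rw [← cj_mul] at hS
  have hk2 : k' * k * c * (k' * k)⁻¹ = z := by
    calc k' * k * c * (k' * k)⁻¹ = k' * (k * c * k⁻¹) * k'⁻¹ := by group
      _ = z := by rw [hk, mem_centralizer_singleton_iff.1 hk', mul_inv_cancel_right]
  generalize k' * k = n at hS hk2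
  refine h.no_A4 c64 (y := n * g * n⁻¹) hS ((card_cj _ _).trans h.four) (fun x hx => ?_) ?_ ?_ ?_
    ((orderOf_conj' _ _).trans h3) ?_
  · obtain ⟨v, hv, rfl⟩ := mem_cj_iff_exists.1 hx
    calc n * v * n⁻¹ * (n * v * n⁻¹) = n * (v * v) * n⁻¹ := by group
      _ = 1 := by rw [h.toTwo.sq_eq_one hv]; group
  · rw [← hk2, conj_mem_cj_iff]
    exact fun e => cI (mem_sup_left (h.V_le e))
  · rw [← hk2, centralizer_singleton_conj, conj_mem_cj_iff]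
    exact mem_centralizer_singleton_iff.2 hcg
  · rw [normalizer_cj, conj_mem_cj_iff]
    exact h.toTwo.norm_V.ge hgM
  · rwa [centralizer_cj, conj_mem_cj_iff]

theorem CN.not_two_one (h : CN S M V z m) (h2 : (𝑫).relIndex 𝑨 = 2) (h1 : V.relIndex 𝑫 = 1) :
    False := by
  obtain ⟨ζ, u, w, h'⟩ := h.exists_N21 h2 h1
  exact h'.false

end Cfsg.Agent.NG
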