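import Mathlib
import Cfsg.Agent.NG.CaseN0
import Cfsg.Agent.NG.CaseN2a

set_option autoImplicit false

namespace Cfsg.Agent.NG

open Subgroup Cfsg.Agent.PLocal Cfsg.Agent.PLocal.Amb Cfsg.Agent.PLocal.CP Cfsg.Agent.PLocal.JC
open scoped commutatorElement

variable {G : Type*} [Group G] [Finite G]

variable {S M V : Subgroup G} {z m : G}

set_option quotPrecheck false

/-- `C = C(z)` -/
local notation "𝑪" => 𝐂₁[z]
/-- `U = ⟨V^C⟩` -/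
local notation "𝑼" => ncl V 𝐂₁[z]
local notation "𝑼'" => cj(m, ncl V 𝐂₁[z])
local notation "𝑫" => ncl V 𝐂₁[z] ⊓ cj(m, ncl V 𝐂₁[z])
local notation "𝑨" => cj(m, ncl V 𝐂₁[z]) ⊓ 𝐂[V]
local notation "𝑰" => (ncl V 𝐂₁[z] ⊓ 𝐂[V]) ⊔ (cj(m, ncl V 𝐂₁[z]) ⊓ 𝐂[V])
local notation "𝑳" => ncl V 𝐂₁[z] ⊔ cj(m, ncl V 𝐂₁[z])
local notation "𝒀" => 𝐂₁[z] ⊓ secCent (ncl V 𝐂₁[z]) (zpowers z)

theorem CN.n22_card (h : CN S M V z m) (h2 : (𝑫).relIndex 𝑨 = 2) (h2' : V.relIndex 𝑫 = 2) :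
    Nat.card ↥(𝑫) = 8 ∧ Nat.card ↥(𝑼) = 32 := by
  obtain ⟨-, -, -, -, hVD, hDC, -⟩ := h.basic
  have cD : Nat.card ↥(𝑫) = 8 := N2.card_of_relIndex hVD h2' h.four
  have c1 : Nat.card ↥(𝑼 ⊓ 𝐂[V]) = 16 :=
    N2.card_of_relIndex (le_inf inf_le_left hDC) (h.card.1.trans h2) cD
  exact ⟨cD, N2.card_of_relIndex inf_le_left h.n2_idx c1⟩

theorem CN.n22_sq (h : CN S M V z m) {d : G} (hd : d ∈ 𝑫) : d * d = 1 := by
  rw [← pow_two]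
  exact Misc.isElementaryAbelian_two_iff.1 h.basic.2.2.2.2.2.2.1 d hd

theorem CN.n22_comm (h : CN S M V z m) {a b : G} (ha : a ∈ 𝑫) (hb : b ∈ 𝑫) : a * b = b * a :=
  Misc.comm_of_sq (Misc.isElementaryAbelian_two_iff.1 h.basic.2.2.2.2.2.2.1) a ha b hb

theorem CN.n22_self (h : CN S M V z m) (h2 : (𝑫).relIndex 𝑨 = 2) (h2' : V.relIndex 𝑫 = 2) :
    𝑼 ⊓ 𝐂[𝑫] ≤ 𝑫 := by
  obtain ⟨-, -, -, -, hVD, hDC, -⟩ := h.basic
  intro x hx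
  by_contra hxD
  have hDD : 𝑫 ≤ 𝐂[𝑫] := fun a ha => mem_centralizer_iff.2 fun b hb => h.n22_comm hb ha
  have h1 : 𝑼 ⊓ 𝐂[V] ≤ 𝐂[𝑫] := fun y hy => by
    rcases N2.mem_or_of_two (h.card.1.trans h2) (⟨hx.1, centralizer_anti hVD hx.2⟩ : x ∈ 𝑼 ⊓ 𝐂[V])
      hxD hy with h3 | h3
    · exact hDD h3
    · simpa using mul_mem hx.2 (hDD h3)
  obtain ⟨w, -, -, -, h3, h4⟩ := h.n2_swap
  have h5 := cj_mono w h1
  rw [h3, ← centralizer_cj, h4] at h5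
  have h6 : 𝑫 ≤ V := (le_inf le_rfl (le_centralizer_iff.1 h5)).trans h.cent.2.2.1.le
  have := card_le_of_le h6
  rw [(h.n22_card h2 h2').1, h.four] at this
  omega

theorem CN.n22_center (h : CN S M V z m) (h2 : (𝑫).relIndex 𝑨 = 2) (h2' : V.relIndex 𝑫 = 2)
    {p : G} (hp : p ∈ 𝑼) (hc : p ∈ 𝐂[𝑼]) : p ∈ zpowers z :=
  h.cent.2.1 ▸ ⟨h.n22_self h2 h2' ⟨hp, centralizer_anti inf_le_left hc⟩, hc⟩

/-- `U` has 12 elements of order 4 and 12 involutions outside `D` -/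
theorem CN.n22_count (h : CN S M V z m) (h2 : (𝑫).relIndex 𝑨 = 2) (h2' : V.relIndex 𝑫 = 2) :
    {u | u ∈ 𝑼 ∧ u ∉ 𝑫 ∧ u * u = 1}.ncard = 12 ∧ {u | u ∈ 𝑼 ∧ u * u = z}.ncard = 12 := by
  have hδ : ∀ q : G ⧸ (𝑫), ∃ d ∈ 𝑫, ∀ w ∈ 𝑼, w ∉ 𝑫 → (w : G ⧸ (𝑫)) = q →
      w * d * (w * d) = z * (w * w) := by
    intro q
    by_cases hq : ∃ w ∈ 𝑼, w ∉ 𝑫 ∧ (w : G ⧸ (𝑫)) = q
    · obtain ⟨w₀, hw₀, hw₀', rfl⟩ := hq
      obtain ⟨d, hd, hd'⟩ : ∃ d ∈ 𝑫, d * w₀ ≠ w₀ * d := by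
        by_contra hc
        push Not at hc
        exact hw₀' (h.n22_self h2 h2' ⟨hw₀, mem_centralizer_iff.2 hc⟩)
      refine ⟨d, hd, fun w hw hw' hq => ?_⟩
      have h1 : w⁻¹ * w₀ ∈ 𝑫 := QuotientGroup.eq.1 hq
      rcases h.n2_comm hd.1 hw with h3 | h3
      · refine absurd ?_ hd'
        calc d * w₀ = d * w * (w⁻¹ * w₀) := by group
          _ = w * (d * (w⁻¹ * w₀)) := by rw [h3]; group
          _ = w₀ * d := by rw [h.n22_comm hd h1]; group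
      · calc w * d * (w * d) = w * (d * w) * d := by group
          _ = (w * z) * w * (d * d) := by rw [h3]; group
          _ = z * (w * w) := by rw [h.n2_z_comm hw, h.n22_sq hd]; group
    · exact ⟨1, one_mem _, fun w hw hw' hq' => absurd ⟨w, hw, hw', hq'⟩ hq⟩
  choose δ hδ1 hδ2 using hδ
  let φ : G → G := fun w => w * δ w
  have hφ : Function.Involutive φ := fun w => by
    have e : ((w * δ w : G) : G ⧸ (𝑫)) = w := QuotientGroup.mk_mul_of_mem w (hδ1 _)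
    show w * δ w * δ (w * δ w : G) = w
    rw [e, mul_assoc, h.n22_sq (hδ1 _), mul_one]
  have hn : ∀ u, u * u = z → u ∉ 𝑫 := fun u hu hd => h.z_ne (hu.symm.trans (h.n22_sq hd))
  have l1 : {u | u ∈ 𝑼 ∧ u ∉ 𝑫 ∧ u * u = 1}.ncard ≤ {u | u ∈ 𝑼 ∧ u * u = z}.ncard := by
    refine Set.ncard_le_ncard_of_injOn φ (fun u hu => ⟨mul_mem hu.1 (hδ1 _).1, ?_⟩)
      hφ.injective.injOn
    rw [hδ2 _ u hu.1 hu.2.1 rfl, hu.2.2, mul_one]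
  have l2 : {u | u ∈ 𝑼 ∧ u * u = z}.ncard ≤ {u | u ∈ 𝑼 ∧ u ∉ 𝑫 ∧ u * u = 1}.ncard := by
    refine Set.ncard_le_ncard_of_injOn φ (fun u hu => ⟨mul_mem hu.1 (hδ1 _).1,
      fun hd => hn u hu.2 ((mul_mem_cancel_right (hδ1 _)).1 hd), ?_⟩) hφ.injective.injOn
    rw [hδ2 _ u hu.1 (hn u hu.2) rfl, hu.2, h.z_sq]
  have e : ((𝑼 : Subgroup G) : Set G) \ (𝑫 : Subgroup G) =
      {u | u ∈ 𝑼 ∧ u ∉ 𝑫 ∧ u * u = 1} ∪ {u | u ∈ 𝑼 ∧ u * u = z} := by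
    ext u
    constructor
    · rintro ⟨h1, h3⟩
      rcases h.n2_sq h1 with h4 | h4
      · exact Or.inl ⟨h1, h3, h4⟩
      · exact Or.inr ⟨h1, h4⟩
    · rintro (⟨h1, h3, -⟩ | ⟨h1, h3⟩)
      · exact ⟨h1, h3⟩
      · exact ⟨h1, hn u h3⟩
  have e2 := ncard_diff_of_le (inf_le_left : 𝑫 ≤ 𝑼)
  rw [e, Set.ncard_union_eq (Set.disjoint_left.2 fun u h1 h3 => h.z_ne (h3.2.symm.trans h1.2.2)),
    (h.n22_card h2 h2').1, (h.n22_card h2 h2').2] at e2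
  omega

theorem CN.n22_le_six (h : CN S M V z m) (h2 : (𝑫).relIndex 𝑨 = 2) (h2' : V.relIndex 𝑫 = 2) :
    M.relIndex 𝑪 ≤ 6 := by
  obtain ⟨cD, cU⟩ := h.n22_card h2 h2'
  have hzD : z ∈ 𝑫 := h.basic.2.2.2.2.1 h.toOne.z_mem_V
  have hN : 𝐍[𝑫] = M := h.toTwo.normalizer_eq
    (Misc.isPGroup_of_isElementaryAbelian h.basic.2.2.2.2.2.2.1) (ne_bot_of_card cD (by norm_num))
    h.basic.2.2.2.2.2.2.2.1
  have good : ∀ Y ∈ {Y : Subgroup G | ∃ c ∈ 𝑪, cj(c, 𝑫) = Y}, Y ≤ 𝑼 ∧ Nat.card Y = 8 ∧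
      (∀ e ∈ Y, e * e = 1) ∧ z ∈ Y ∧ 𝑼 ⊓ 𝐂[Y] ≤ Y := by
    rintro _ ⟨c, hc, rfl⟩
    have hU := cj_of_mem_normalizer (h.n2_mod.normU hc)
    refine ⟨cj_le_of_mem_normalizer inf_le_left (h.n2_mod.normU hc), (card_cj _ _).trans cD,
      fun e he => ?_, ?_, ?_⟩
    · obtain ⟨d, hd, rfl⟩ := mem_cj_iff_exists.1 he
      calc c * d * c⁻¹ * (c * d * c⁻¹) = c * (d * d) * c⁻¹ := by group
        _ = 1 := by rw [h.n22_sq hd]; group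
    · have := conj_mem_cj c hzD
      rwa [mem_centralizer_singleton_iff.1 hc, mul_inv_cancel_right] at this
    · have := cj_mono c (h.n22_self h2 h2')
      rwa [cj_inf c 𝑼, hU, ← centralizer_cj] at this
  have hS : {p | p ∈ 𝑼 ∧ p ∉ zpowers z ∧ p * p = 1}.ncard ≤ 18 := by
    have e := ncard_diff_of_le (zpowers_le_of_mem hzD)
    rw [cD, h.toOne.card_Z] at e
    refine (Set.ncard_le_ncard (t := {u | u ∈ 𝑼 ∧ u ∉ 𝑫 ∧ u * u = 1} ∪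
      (((𝑫 : Subgroup G) : Set G) \ zpowers z)) (fun p hp => ?_)).trans
      ((Set.ncard_union_le _ _).trans ?_)
    · by_cases hd : p ∈ 𝑫
      · exact Or.inr ⟨hd, hp.2.1⟩
      · exact Or.inl ⟨hp.1, hd, hp.2.2⟩
    · rw [e, (h.n22_count h2 h2').1]
  have key := N2.ncard_mul_le (s := {Y : Subgroup G | ∃ c ∈ 𝑪, cj(c, 𝑫) = Y})
    (t := {p | p ∈ 𝑼 ∧ p ∉ zpowers z ∧ p * p = 1}) (fun Y p => p ∈ Y) (m := 6) (n := 2)
    (fun Y hY => by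
      obtain ⟨g1, g2, g3, g4, -⟩ := good Y hY
      have e := ncard_diff_of_le (zpowers_le_of_mem g4)
      rw [g2, h.toOne.card_Z] at e
      exact e.ge.trans (Set.ncard_le_ncard fun p hp => ⟨⟨g1 hp.1, hp.2, g3 p hp.1⟩, hp.1⟩))
    (fun p hp => by
      by_contra hc
      obtain ⟨E₁, E₂, E₃, m₁, m₂, m₃, n₁, n₂, n₃⟩ :=
        (Set.two_lt_ncard_iff (Set.toFinite _)).1 (not_le.1 hc)
      have hp1 : p ≠ 1 := fun e => hp.2.1 (e ▸ one_mem _)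
      have hpz : z ≠ p := fun e => hp.2.1 (e ▸ mem_zpowers _)
      have cP := Misc.card_closure_pair h.z_sq hp.2.2 (h.n2_z_comm hp.1).symm h.z_ne hp1 hpz
      have cH : Nat.card ↥(𝑼 ⊓ 𝐂₁[p]) = 4 * 4 := by
        have := card_mul_relIndex_of_le (inf_le_left : 𝑼 ⊓ 𝐂₁[p] ≤ 𝑼)
        rw [h.n2_cent_idx hp.1 fun hc => hp.2.1 (h.n22_center h2 h2' hp.1 hc), cU] at this
        omega
      have g : ∀ E ∈ {Y | Y ∈ {Y : Subgroup G | ∃ c ∈ 𝑪, cj(c, 𝑫) = Y} ∧ p ∈ Y},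
          closure {z, p} ≤ E ∧ E ≤ 𝑼 ⊓ 𝐂₁[p] := fun E hE => by
        obtain ⟨g1, g2, g3, g4, -⟩ := good E hE.1
        refine ⟨(closure_le _).2 ?_, fun e he => ⟨g1 he, mem_centralizer_singleton_iff.2 ?_⟩⟩
        · rintro _ (rfl | rfl)
          exacts [g4, hE.2]
        · exact Misc.comm_of_sq (fun a ha => by rw [pow_two]; exact g3 a ha) e he p hE.2
      obtain ⟨e, he, he', hc⟩ := N2.three_ea cP cH (g _ m₁).1 (g _ m₂).1 (g _ m₃).1 (g _ m₁).2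
        (g _ m₂).2 (g _ m₃).2 (good _ m₁.1).2.1 (good _ m₂.1).2.1 (good _ m₃.1).2.1
        (good _ m₁.1).2.2.1 (good _ m₂.1).2.2.1 (good _ m₃.1).2.2.1 n₁ n₂ n₃
      exact he' ((good _ m₁.1).2.2.2.2 ⟨(good _ m₂.1).1 he, hc⟩))
  rw [N2.ncard_orbit, hN] at key
  omega

theorem CN.n22_sup (h : CN S M V z m) {X Y : Subgroup G} (hX : X ≤ 𝑼) (hY : Y ≤ 𝑼) (zX : z ∈ X)
    (zY : z ∈ Y) : Nat.card ↥(X ⊔ Y) * 2 ≤ Nat.card X * Nat.card Y := by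
  have hn : X ≤ 𝐍[Y] := le_normalizer_iff_cj.2 fun x hx => cj_le_iff_forall.2 fun y hy => by
    rcases h.n2_comm (hX hx) (hY hy) with e | e
    · rwa [e, mul_inv_cancel_right]
    · rw [e, ← mul_assoc, mul_inv_cancel_right]
      exact mul_mem zY hy
  rw [← card_sup_mul_card_inf hn, ← h.toOne.card_Z]
  exact Nat.mul_le_mul_left _ (card_le_of_le (zpowers_le_of_mem (⟨zX, zY⟩ : z ∈ X ⊓ Y)))

theorem CN.n22_ne_three (h : CN S M V z m) (h2 : (𝑫).relIndex 𝑨 = 2) (h2' : V.relIndex 𝑫 = 2) :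
    M.relIndex 𝑪 ≠ 3 := by
  intro h3
  rw [← h.toTwo.norm_V, ← N2.ncard_orbit] at h3
  obtain ⟨X, Y, W, -, -, -, e⟩ := Set.ncard_eq_three.1 h3
  have good : ∀ Y ∈ {Y : Subgroup G | ∃ c ∈ 𝑪, cj(c, V) = Y}, Y ≤ 𝑼 ∧ Nat.card Y = 4 ∧ z ∈ Y := by
    rintro _ ⟨c, hc, rfl⟩
    refine ⟨cj_le_ncl _ hc, (card_cj _ _).trans h.four, ?_⟩
    have := conj_mem_cj c h.toOne.z_mem_V
    rwa [mem_centralizer_singleton_iff.1 hc, mul_inv_cancel_right] at this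
  obtain ⟨x1, x2, x3⟩ := good X (by rw [e]; simp)
  obtain ⟨y1, y2, y3⟩ := good Y (by rw [e]; simp)
  obtain ⟨w1, w2, w3⟩ := good W (by rw [e]; simp)
  have a := h.n22_sup x1 y1 x3 y3
  have b := h.n22_sup (sup_le x1 y1) w1 (mem_sup_left x3) w3
  have c : 𝑼 ≤ X ⊔ Y ⊔ W := ncl_le_iff.2 fun g hg => by
    have : cj(g, V) ∈ ({X, Y, W} : Set (Subgroup G)) := e ▸ ⟨g, hg, rfl⟩
    rcases this with e' | e' | e' <;> rw [e']
    exacts [le_sup_left.trans le_sup_left, le_sup_right.trans le_sup_left, le_sup_right]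
  have d := card_le_of_le c
  rw [(h.n22_card h2 h2').2] at d
  rw [x2, y2] at a
  rw [w2] at b
  omega

theorem CN.n22_five (h : CN S M V z m) (h2 : (𝑫).relIndex 𝑨 = 2) (h2' : V.relIndex 𝑫 = 2)
    {x : G} (hx : x ∈ 𝑪) {k : ℕ} (hk : x ^ 5 ^ k = 1) : x ∈ M := by
  have cU := (h.n22_card h2 h2').2
  have hn := h.n2_mod.normU hx
  have hxz := mem_centralizer_singleton_iff.1 hx
  have a := N2.ncard_modEq_conj (Z := {u | u ∈ 𝑼 ∧ u * u = z}) Nat.prime_five hk fun u hu =>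
    ⟨Amb.conj_mem_of_mem_normalizer hn hu.1, by
      calc x * u * x⁻¹ * (x * u * x⁻¹) = x * (u * u) * x⁻¹ := by group
        _ = z := by rw [hu.2, hxz]; group⟩
  rw [(h.n22_count h2 h2').2] at a
  obtain ⟨u, ⟨hu, hu'⟩, hux⟩ : {y | y ∈ {u | u ∈ 𝑼 ∧ u * u = z} ∧ x * y = y * x}.Nonempty := by
    rw [Set.nonempty_iff_ne_empty]
    intro e
    rw [e, Set.ncard_empty] at a
    exact absurd a (by decide)
  have b := N2.ncard_modEq_conj (Z := ((𝑼 : Subgroup G) : Set G)) Nat.prime_five hk fun u hu =>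
    Amb.conj_mem_of_mem_normalizer hn hu
  have e : {y | y ∈ ((𝑼 : Subgroup G) : Set G) ∧ x * y = y * x} = (𝑼 ⊓ 𝐂₁[x] : Subgroup G) := by
    ext y
    simp [mem_centralizer_singleton_iff, eq_comm]
  rw [e] at b
  change Nat.card ↥(𝑼) ≡ Nat.card ↥(𝑼 ⊓ 𝐂₁[x]) [MOD 5] at b
  have c : Nat.card ↥(𝑼 ⊓ 𝐂₁[x]) ∣ 2 ^ 5 := by
    have := card_dvd_of_le (inf_le_left : 𝑼 ⊓ 𝐂₁[x] ≤ 𝑼)
    rwa [cU] at this
  have d : 2 < Nat.card ↥(𝑼 ⊓ 𝐂₁[x]) := by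
    rw [← h.toOne.card_Z]
    refine lt_of_le_of_ne (card_le_of_le (zpowers_le_of_mem
      ⟨h.n2_z_mem, mem_centralizer_singleton_iff.2 hxz.symm⟩)) fun e => ?_
    have e2 := eq_of_le_of_card_le (zpowers_le_of_mem (⟨h.n2_z_mem,
      mem_centralizer_singleton_iff.2 hxz.symm⟩ : z ∈ 𝑼 ⊓ 𝐂₁[x])) e.ge
    have : u ∈ zpowers z := e2 ▸ ⟨hu, mem_centralizer_singleton_iff.2 hux.symm⟩
    rcases eq_or_eq_of_sq h.z_sq this with rfl | rfl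
    · exact h.z_ne (by simpa using hu'.symm)
    · exact h.z_ne (hu'.symm.trans h.z_sq)
  obtain ⟨i, hi, he⟩ := (Nat.dvd_prime_pow Nat.prime_two).1 c
  rw [cU, he] at b
  rw [he] at d
  have hi5 : i = 5 := by
    interval_cases i <;> first | rfl | (exfalso; revert b d; decide)
  have f := eq_of_le_of_card_le (inf_le_left : 𝑼 ⊓ 𝐂₁[x] ≤ 𝑼) (by rw [he, hi5, cU]; norm_num)
  exact h.toTwo.C_le (mem_centralizer_iff.2 fun v hv =>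
    mem_centralizer_singleton_iff.1 (f.ge (le_ncl _ _ hv)).2)

theorem CN.not_two_two (h : CN S M V z m) (h2 : (𝑫).relIndex 𝑨 = 2) (h2' : V.relIndex 𝑫 = 2) :
    False := by
  have a := h.n22_le_six h2 h2'
  have b := h.n22_ne_three h2 h2'
  have c : M.relIndex 𝑪 ≠ 1 := fun e => h.toOne.basic.2.2.1 (relIndex_eq_one.1 e)
  have d : M.relIndex 𝑪 ≠ 5 := fun e => by
    have : Fact (Nat.Prime 5) := ⟨Nat.prime_five⟩
    obtain ⟨P, hP⟩ := exists_isSyl 5 𝑪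
    refine hP.not_dvd_relIndex (e ▸ relIndex_dvd_of_le_left _ fun x hx => ?_)
    obtain ⟨k, hk⟩ := isPGroup_iff.1 hP.pgrp x hx
    exact h.n22_five h2 h2' (hP.le hx) hk
  obtain ⟨k, hk⟩ := h.toOne.basic.2.2.2.2.2.2.2.2.1
  omega

end Cfsg.Agent.NG
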