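import Mathlib
import Cfsg.Agent.NG.CaseN0
import Cfsg.Agent.NG.ModSec

set_option autoImplicit false
set_option linter.unusedSectionVars false

namespace Cfsg.Agent.NG

open Subgroup Cfsg.Agent.PLocal Cfsg.Agent.PLocal.Amb Cfsg.Agent.PLocal.CP Cfsg.Agent.PLocal.JC
open scoped commutatorElement

variable {G : Type*} [Group G] [Finite G]

variable {S M V : Subgroup G} {z m : G}

set_option quotPrecheck false

section N4

variable {y : G}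

local notation "𝑼" => ncl V 𝐂₁[z]
local notation "𝑨" => ncl V 𝐂₁[y] ⊓ 𝐂[V]
local notation "𝑰" => (ncl V 𝐂₁[z] ⊓ 𝐂[V]) ⊔ (ncl V 𝐂₁[y] ⊓ 𝐂[V])
local notation "𝑳" => ncl V 𝐂₁[z] ⊔ ncl V 𝐂₁[y]
local notation "𝑫" => ncl V 𝐂₁[z] ⊓ ncl V 𝐂₁[y]
local notation "𝑲" => secCent (ncl V 𝐂₁[z]) (zpowers z)

/-- `a` inverts `x` on `U / Z`, and `A` is generated by `a` and the centralizer of `x` -/
structure NP.DP (h : NP M V z) (y a x : G) : Prop where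
  a_mem : a ∈ ncl V 𝐂₁[y] ⊓ 𝐂[V]
  x_mem : x ∈ 𝐂₁[z]
  odd : Odd (orderOf x)
  x_ne : h.mod.ρ x ≠ 1
  inv : h.mod.ρ a * h.mod.ρ x = h.mod.ρ x⁻¹ * h.mod.ρ a
  gen : ∀ X : Subgroup G, 𝑲 ≤ X → a ∈ X → (∀ b ∈ ncl V 𝐂₁[y] ⊓ 𝐂[V],
    h.mod.ρ b * h.mod.ρ x = h.mod.ρ x * h.mod.ρ b → b ∈ X) → ncl V 𝐂₁[y] ⊓ 𝐂[V] ≤ X
  ex : ∃ b ∈ ncl V 𝐂₁[y] ⊓ 𝐂[V], h.mod.ρ b ≠ 1 ∧ h.mod.ρ b * h.mod.ρ x = h.mod.ρ x * h.mod.ρ b

namespace NP

variable (h : NP M V z) (h' : NP M V y) (hne : z ≠ y)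

local notation "ρ" => Mod.ρ (NP.mod h)
local notation "π" => Mod.π (NP.mod h)

include h

theorem hyp : Hyp G := let ⟨_, h⟩ := h.ex; h.hyp

theorem nC {g : G} (hg : g ∈ 𝐂₁[z]) : g ∈ NN 𝑼 (zpowers z) := h.mod.L_le hg

theorem nA {g : G} (hg : g ∈ 𝑨) : g ∈ NN 𝑼 (zpowers z) := h.nC (h.CV_le_C hg.2)

theorem inv_iff {a x : G} (ha : a ∈ 𝐂₁[z]) (hx : x ∈ 𝐂₁[z]) :
    a * x * a⁻¹ * x ∈ 𝑲 ↔ ρ a * ρ x = ρ x⁻¹ * ρ a := by
  rw [← h.mod.ρ_mul (h.nC ha) (h.nC hx), ← h.mod.ρ_mul (h.nC (inv_mem hx)) (h.nC ha),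
    h.mod.ρ_eq_ρ (h.nC (mul_mem ha hx)) (h.nC (mul_mem (inv_mem hx) ha))]
  simp [mul_assoc]

theorem mem_of_π {X : Subgroup G} (hX : zpowers z ≤ X) {u u' : G} (hu : u ∈ 𝑼) (hu' : u' ∈ 𝑼)
    (h1 : u' ∈ X) (e : π u = π u') : u ∈ X := by
  simpa using X.mul_mem (hX ((h.mod.π_eq_π hu hu').1 e)) h1

theorem K_norm {X : Subgroup G} (h1 : zpowers z ≤ X) (h2 : X ≤ 𝑼) : 𝑲 ≤ 𝐍[X] := by
  refine n0_le_norm ?_
  rw [commutator_comm]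
  exact (commutator_mono le_rfl h2).trans ((le_secCent_iff.1 le_rfl).2.trans h1)

theorem fix_all {A : Subgroup G} {w : h.mod.W}
    (hg : ∀ X : Subgroup G, (∀ g ∈ NN 𝑼 (zpowers z), ρ g w = w → g ∈ X) → A ≤ X) :
    ∀ a ∈ A, ρ a w = w := fun a ha =>
  Lin.mem_fix.1 ((hg (h.mod.fs (ℤ ∙ w)) (fun _ hg e =>
    ⟨hg, (Submodule.span_singleton_le_iff_mem _ _).2 (Lin.mem_fix.2 e)⟩) ha).2
    (Submodule.mem_span_singleton_self w))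

include h'

theorem yU : y ∈ 𝑼 := h.V_le h'.zV

theorem wU {x : G} (hx : x ∈ 𝐂₁[z]) : x * y * x⁻¹ ∈ 𝑼 :=
  Amb.conj_mem_of_mem_normalizer (h.normU hx) (h.yU h')

theorem Zy_le : zpowers y ≤ 𝑲 := (h'.Z_le.trans h.V_le).trans h.mod.U_le_C

theorem ρ_AA {a b : G} (ha : a ∈ 𝑨) (hb : b ∈ 𝑨) : ρ a * ρ b = ρ b * ρ a :=
  (h.mod.ρ_comm (h.nA ha) (h.nA hb)).2 (h.Zy_le h' (h'.comm (commutator_mem_commutator ha.1 hb.1)))

theorem ρ_sq {a : G} (ha : a ∈ 𝑨) (w : h.mod.W) : ρ a (ρ a w) = w := by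
  rw [← Module.End.mul_apply, ← h.mod.ρ_mul (h.nA ha) (h.nA ha),
    h.mod.ρ_of_mem (h.Zy_le h' (h'.mod.sq a ha.1)), Module.End.one_apply]

theorem ρ_y {a : G} (ha : a ∈ 𝐂[V]) : ρ a (π y) = π y := by
  rw [h.mod.ρ_π (h.nC (h.CV_le_C ha)) (h.yU h'), ← ha y h'.zV, mul_inv_cancel_right]

theorem ρ_w {b x : G} (hb : b ∈ 𝑨) (hx : x ∈ 𝐂₁[z]) (e : ρ b * ρ x = ρ x * ρ b) :
    ρ b (π (x * y * x⁻¹)) = π (x * y * x⁻¹) := by
  rw [← h.mod.ρ_π (h.nC hx) (h.yU h'), ← Module.End.mul_apply, e, Module.End.mul_apply,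
    h.ρ_y h' hb.2]

include hne

theorem mem_CV_of_fix {a u : G} (ha : a ∈ 𝑨) (h1 : ρ a ≠ 1) (hu : u ∈ 𝑼) (e : ρ a (π u) = π u) :
    u ∈ 𝐂[V] := by
  by_contra hu'
  exact h.comm_not_mem h' hne ha.1 (fun e => h1 (h.mod.ρ_of_mem (h.mod.U_le_C e.1))) hu hu'
    (h.V_le_D h' (h.Z_le ((h.mod.ρ_π_eq (h.nA ha) hu).1 e)))

theorem mem_V_of_fix {d : G} (hd : d ∈ 𝑫) (e : ∀ a ∈ 𝑨, ρ a (π d) = π d) : d ∈ V := by
  rw [← h.D_inf_CA h' hne]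
  refine ⟨hd, fun a ha => commutatorElement_eq_one_iff_mul_comm.1 (h.eq_one h' hne
    ((h.mod.ρ_π_eq (h.nA ha) hd.1).1 (e a ha)) (h'.comm (commutator_mem_commutator ha.1 hd.2)))⟩

theorem mem_M_of {c : G} (hc : c ∈ 𝐂₁[z]) (h2 : c * y * c⁻¹ ∈ V) : c ∈ M := by
  have h3 : c * z * c⁻¹ = z := by rw [mem_centralizer_singleton_iff.1 hc, mul_inv_cancel_right]
  refine h.normV.le (mem_normalizer_of_cj_le (cj_le_iff_forall.2 fun v hv => ?_))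
  rcases (h.mem_V h' hne).1 hv with rfl | rfl | rfl | rfl
  · simp
  · rwa [h3]
  · exact h2
  · have := V.mul_mem h.zV h2
    rw [← h3] at this
    simpa [mul_assoc] using this

theorem same {a p u e : G} (ha : a ∈ 𝑨) (hp : p ∈ 𝑨) (hu : u ∈ 𝑼) (hu' : u ∉ 𝐂[V])
    (he : e ∈ 𝑼 ⊓ 𝐂[V]) (e1 : ρ a (π u) = π u + π e) (e2 : e * ⁅p, u⁆⁻¹ ∈ 𝑫) : ρ p = ρ a := by
  rw [h.mod.ρ_eq_ρ (h.nA hp) (h.nA ha)]
  by_contra h1
  have hpa := mul_mem hp (inv_mem ha)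
  refine h.comm_not_mem h' hne hpa.1 (fun e => h1 (h.mod.U_le_C e.1)) hu hu' ?_
  have e3 : ρ a⁻¹ (π u) = π u + π e := by
    rw [← e1]
    conv_lhs => rw [← h.ρ_sq h' ha (π u)]
    exact h.mod.ρ_inv_ρ (h.nA ha) _
  have c1 : ⁅p, u⁆ ∈ 𝑼 := n0_comm_right hu (h.CV_normU hp.2)
  have c2 : p * e * p⁻¹ ∈ 𝑼 := Amb.conj_mem_of_mem_normalizer (h.CV_normU hp.2) he.1
  refine h.mem_of_π (h.Z_le.trans (h.V_le_D h')) (n0_comm_right hu (h.CV_normU hpa.2))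
    (mul_mem c1 c2) ?_ ?_
  · have c3 : ⁅e, p⁆ ∈ 𝑫 := h.comm_EA h' (commutator_mem_commutator he hp)
    have c4 : ⁅p, u⁆ * (p * e * p⁻¹) = (e * ⁅p, u⁆⁻¹)⁻¹ * (e * ⁅e, p⁆⁻¹ * e⁻¹) * (e * e) := by
      simp only [commutatorElement_def]; group
    rw [c4]
    exact mul_mem (mul_mem (inv_mem e2) (Amb.conj_mem_of_mem_normalizer
      (h.normD h' hne (h.U_le_M he.1)) (inv_mem c3))) (h.V_le_D h' (h.Z_le (h.mod.sq e he.1)))
  · rw [← h.mod.ρ_π_sub (h.nA hpa) hu, h.mod.π_mul c1 c2, ← h.mod.ρ_π_sub (h.nA hp) hu,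
      ← h.mod.ρ_π (h.nA hp) he.1, h.mod.ρ_mul (h.nA hp) (h.nA (inv_mem ha)), Module.End.mul_apply,
      e3, map_add]
    abel

theorem exists_t {g a : G} (hg : g ∈ M) (hI : 𝑰 ≤ ⁅𝑰, zpowers g⁆ ⊔ 𝑫) (ha : a ∈ 𝑨) :
    ∃ t ∈ ⁅𝑰, zpowers g⁆, ∃ d ∈ 𝑫, t ∈ 𝐂[V] ∧ t = a * d := by
  have h1 : ⁅𝑰, zpowers g⁆ ≤ 𝐂[V] :=
    (n0_comm_le_left ((zpowers_le.2 hg).trans (h.normI h' hne))).trans I_le_CV
  obtain ⟨t, ht, d, hd, e⟩ := (mem_sup_of_le_normalizer_right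
    (h1.trans (h.CV_le.trans (h.normD h' hne)))).1 (hI (mem_sup_right ha))
  exact ⟨t, ht, d⁻¹, inv_mem hd, h1 ht, by rw [e, mul_inv_cancel_right]⟩

variable {h} {a x : G} (d : h.DP y a x)
include d

omit h' hne in
theorem DP.a_ne : ρ a ≠ 1 := fun e => d.x_ne (by
  have h1 := d.inv
  rw [e, one_mul, mul_one, h.mod.ρ_eq_ρ (h.nC d.x_mem) (h.nC (inv_mem d.x_mem)), inv_inv,
    ← pow_two] at h1
  exact h.mod.ρ_of_mem (mem_of_pow_mem_of_coprime h1 (coprime_two_iff.2 d.odd)))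

theorem DP.w_mem : x * y * x⁻¹ ∈ 𝑼 ⊓ 𝐂[V] := by
  obtain ⟨b, hb, h1, h2⟩ := d.ex
  exact ⟨h.wU h' d.x_mem, h.mem_CV_of_fix h' hne hb h1 (h.wU h' d.x_mem) (h.ρ_w h' hb d.x_mem h2)⟩

omit hne in
theorem DP.ρ_a' : ρ a (π (x * y * x⁻¹)) = ρ x⁻¹ (π y) := by
  rw [← h.mod.ρ_π (h.nC d.x_mem) (h.yU h'), ← Module.End.mul_apply, d.inv, Module.End.mul_apply,
    h.ρ_y h' d.a_mem.2]

theorem DP.ρ_a : ρ a (π (x * y * x⁻¹)) = π (x * y * x⁻¹) + π y := by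
  have hw := d.w_mem h' hne
  have h1 : ⁅a, x * y * x⁻¹⁆ ∈ 𝑫 := by
    rw [← commutatorElement_inv]
    exact inv_mem (h.comm_EA h' (commutator_mem_commutator hw d.a_mem))
  have e1 := h.mod.ρ_π_sub (h.nA d.a_mem) hw.1
  have h2 := h.mem_V_of_fix h' hne h1 (h.fix_all fun X hX => d.gen X
    (fun g hg => hX g (h.mod.C_le hg) (by rw [h.mod.ρ_of_mem hg]; rfl))
    (hX a (h.nA d.a_mem) (by
      rw [← e1, map_sub, h.ρ_sq h' d.a_mem, ← neg_sub]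
      exact neg_eq_of_add_eq_zero_left (h.mod.two _)))
    fun b hb e => hX b (h.nA hb) (by
      rw [← e1, map_sub, ← Module.End.mul_apply, h.ρ_AA h' hb d.a_mem, Module.End.mul_apply,
        h.ρ_w h' hb d.x_mem e]))
  have h3 : ⁅a, x * y * x⁻¹⁆ ∉ zpowers z := fun e => d.x_ne (by
    have e2 := (h.mod.ρ_π_eq (h.nA d.a_mem) hw.1).2 e
    rw [d.ρ_a' h'] at e2
    have e3 := congrArg (ρ x) e2
    rw [h.mod.ρ_ρ_inv (h.nC d.x_mem), h.mod.ρ_π (h.nC d.x_mem) hw.1] at e3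
    have e4 := h.mem_of_π h.Z_le (Amb.conj_mem_of_mem_normalizer (h.normU d.x_mem) hw.1)
      (h.yU h') h'.zV e3.symm
    have e5 : x ^ 2 ∈ M := h.mem_M_of h' hne (pow_mem d.x_mem 2) (by
      simpa [pow_two, mul_assoc] using e4)
    exact h.mod.ρ_of_mem (h.not_mem_M h' hne d.a_mem d.x_mem d.odd
      (mem_inf.2 ⟨mul_mem (mul_mem (mul_mem (h.CV_le_C d.a_mem.2) d.x_mem)
        (inv_mem (h.CV_le_C d.a_mem.2))) d.x_mem, (h.inv_iff (h.CV_le_C d.a_mem.2) d.x_mem).2 d.inv⟩)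
      (mem_of_pow_mem_of_coprime e5 (coprime_two_iff.2 d.odd))).2)
  rw [← sub_eq_iff_eq_add', e1]
  rcases (h.mem_V h' hne).1 h2 with e | e | e | e
  · exact absurd (e ▸ one_mem _) h3
  · exact absurd (e ▸ mem_zpowers z) h3
  · rw [e]
  · rw [e, h.mod.π_mul (h.V_le h.zV) (h.yU h'), (h.mod.π_eq_zero (h.V_le h.zV)).2 (mem_zpowers z),
      zero_add]

theorem DP.ρ_x : ρ x (π (x * y * x⁻¹)) = π (x * y * x⁻¹) + π y := by
  have e := congrArg (ρ x) ((d.ρ_a' h').symm.trans (d.ρ_a h' hne))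
  rw [h.mod.ρ_ρ_inv (h.nC d.x_mem), map_add, h.mod.ρ_π (h.nC d.x_mem) (h.yU h')] at e
  rw [e, add_comm (π (x * y * x⁻¹)), add_assoc, h.mod.two, add_zero]

theorem DP.norm_of {g : G} (hg : g ∈ 𝐂₁[z]) (h1 : g * y * g⁻¹ ∈ V ⊔ zpowers (x * y * x⁻¹))
    (h2 : ρ g (π (x * y * x⁻¹)) = π (x * y * x⁻¹) + π y ∨
      ρ g (π (x * y * x⁻¹)) = π (x * y * x⁻¹)) : g ∈ 𝐍[V ⊔ zpowers (x * y * x⁻¹)] := by
  have hw := d.w_mem h' hne
  have h3 : g * z * g⁻¹ = z := by rw [mem_centralizer_singleton_iff.1 hg, mul_inv_cancel_right]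
  refine mem_normalizer_of_cj_le ?_
  rw [cj_sup, cj_zpowers']
  refine sup_le (cj_le_iff_forall.2 fun v hv => ?_) (zpowers_le.2 ?_)
  · rcases (h.mem_V h' hne).1 hv with rfl | rfl | rfl | rfl
    · simp
    · rw [h3]; exact mem_sup_left hv
    · exact h1
    · have := mul_mem (mem_sup_left h.zV) h1
      rw [← h3] at this
      simpa [mul_assoc] using this
  · rw [h.mod.ρ_π (h.nC hg) hw.1] at h2
    have h4 := Amb.conj_mem_of_mem_normalizer (h.normU hg) hw.1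
    rcases h2 with h2 | h2
    · rw [← h.mod.π_mul hw.1 (h.yU h')] at h2
      exact h.mem_of_π (h.Z_le.trans le_sup_left) h4 (mul_mem hw.1 (h.yU h'))
        (mul_mem (mem_sup_right (mem_zpowers _)) (mem_sup_left h'.zV)) h2
    · exact h.mem_of_π (h.Z_le.trans le_sup_left) h4 hw.1 (mem_sup_right (mem_zpowers _)) h2

theorem DP.x_norm : x ∈ 𝐍[V ⊔ zpowers (x * y * x⁻¹)] :=
  d.norm_of h' hne d.x_mem (mem_sup_right (mem_zpowers _)) (Or.inl (d.ρ_x h' hne))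

theorem DP.K_norm : 𝑲 ≤ 𝐍[V ⊔ zpowers (x * y * x⁻¹)] :=
  h.K_norm (h.Z_le.trans le_sup_left) (sup_le h.V_le (zpowers_le.2 (d.w_mem h' hne).1))

theorem DP.I_norm : 𝑰 ≤ 𝐍[V ⊔ zpowers (x * y * x⁻¹)] := by
  have h1 : ∀ b ∈ 𝑨, b * y * b⁻¹ ∈ V ⊔ zpowers (x * y * x⁻¹) := fun b hb => by
    rw [← hb.2 y h'.zV, mul_inv_cancel_right]
    exact mem_sup_left h'.zV
  refine sup_le (inf_le_left.trans (h.mod.U_le_C.trans (d.K_norm h' hne)))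
    (d.gen _ (d.K_norm h' hne) (d.norm_of h' hne (h.CV_le_C d.a_mem.2) (h1 a d.a_mem)
      (Or.inl (d.ρ_a h' hne))) fun b hb e => ?_)
  exact d.norm_of h' hne (h.CV_le_C hb.2) (h1 b hb) (Or.inr (h.ρ_w h' hb d.x_mem e))

theorem DP.exists_t2 : ∃ t ∈ ⁅𝑼, zpowers x⁆, t ∉ 𝐂[V] := by
  by_contra hc
  push Not at hc
  have key : ∀ u ∈ 𝑼, u ∉ 𝐂[V] → x⁻¹ * u * x ∈ 𝑼 ∧ x⁻¹ * u * x ∉ 𝐂[V] := fun u hu hu' =>
    ⟨Amb.inv_conj_mem_of_mem_normalizer (h.normU d.x_mem) hu, fun e => hu' (by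
      have := mul_mem (hc _ (commutator_mem_commutator hu (inv_mem (mem_zpowers x)))) e
      simpa [commutatorElement_def, mul_assoc] using this)⟩
  obtain ⟨u, hu, hu', -⟩ := h.exists_inv
  obtain ⟨a1, a2⟩ := key u hu hu'
  obtain ⟨b1, b2⟩ := key _ a1 a2
  have e0 := h.act h' hne (h.U_le_C hu) (h.U_le_M hu) hu'
  have e1 := h.act h' hne (h.U_le_C a1) (h.U_le_M a1) a2
  have e2 := h.act h' hne (h.U_le_C b1) (h.U_le_M b1) b2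
  have hw := d.w_mem h' hne
  have e3 := d.ρ_x h' hne
  rw [h.mod.ρ_π (h.nC d.x_mem) hw.1, ← h.mod.π_mul hw.1 (h.yU h'), h.mod.π_eq_π
    (Amb.conj_mem_of_mem_normalizer (h.normU d.x_mem) hw.1) (mul_mem hw.1 (h.yU h'))] at e3
  have hz : x * z * x⁻¹ = z := by
    rw [mem_centralizer_singleton_iff.1 d.x_mem, mul_inv_cancel_right]
  have f1 : u * (x * y * x⁻¹) * u⁻¹ = z * (x * y * x⁻¹) := by
    calc _ = x * (x⁻¹ * u * x * y * (x⁻¹ * u * x)⁻¹) * x⁻¹ := by group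
      _ = (x * z * x⁻¹) * (x * y * x⁻¹) := by rw [e1]; group
      _ = _ := by rw [hz]
  have f2 : u * (x * (x * y * x⁻¹) * x⁻¹) * u⁻¹ = z * (x * (x * y * x⁻¹) * x⁻¹) := by
    calc _ = x * (x * (x⁻¹ * (x⁻¹ * u * x) * x * y * (x⁻¹ * (x⁻¹ * u * x) * x)⁻¹) * x⁻¹) * x⁻¹ := by
          group
      _ = (x * (x * z * x⁻¹) * x⁻¹) * (x * (x * y * x⁻¹) * x⁻¹) := by rw [e2]; group
      _ = _ := by rw [hz, hz]
  have f3 : ∀ c ∈ zpowers z, u * c * u⁻¹ = c := fun c hc => by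
    rw [← (Amb.centralizer_zpowers z).ge (h.U_le_C hu) c hc, mul_inv_cancel_right]
  have f4 := f3 _ e3
  have f5 := mem_centralizer_singleton_iff.1 (h.U_le_C hw.1)
  generalize x * (x * y * x⁻¹) * x⁻¹ = r at f2 f4
  generalize x * y * x⁻¹ = w at f1 f4 f5
  have f6 : u * (r * (w * y)⁻¹) * u⁻¹ = (u * r * u⁻¹) * ((u * w * u⁻¹) * (u * y * u⁻¹))⁻¹ := by
    group
  have f7 : z * w * (z * y) = w * y := by
    rw [← f5, mul_assoc, ← mul_assoc z, h.sq, one_mul]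
  rw [f6, f1, f2, e0, f7, mul_assoc] at f4
  exact h.ne (by simpa using f4)

theorem DP.w_sq : x * y * x⁻¹ * (x * y * x⁻¹) = 1 := by
  calc _ = x * (y * y) * x⁻¹ := by group
    _ = 1 := by rw [h'.sq]; group

theorem DP.E_ea : IsElementaryAbelian 2 (V ⊔ zpowers (x * y * x⁻¹)) :=
  isEA_sup h.ea (isEA_zpowers (by rw [pow_two, d.w_sq h' hne]))
    (le_centralizer_iff.1 (zpowers_le.2 (d.w_mem h' hne).2))

theorem DP.w_not_mem : x * y * x⁻¹ ∉ 𝑫 := by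
  intro hw
  obtain ⟨g, hg, g3, hg', gi, gI, -⟩ := h.exists_three h' hne
  obtain ⟨t₂, ht₂, ht₂'⟩ := d.exists_t2 h' hne
  obtain ⟨t₁, ht₁, c, hc, ht₁', e⟩ := h.exists_t h' hne (h.L_le h' hg) gI d.a_mem
  have hED : V ⊔ zpowers (x * y * x⁻¹) ≤ 𝑫 := sup_le (h.V_le_D h') (zpowers_le.2 hw)
  have ht₂U : t₂ ∈ 𝑼 := n0_comm_le_left ((zpowers_le.2 d.x_mem).trans h.normU) ht₂
  have hY : 𝐂₁[z] ≤ 𝐍[𝐂₁[z] ⊓ 𝑲] :=
    Amb.le_normalizer_inf le_normalizer (le_normalizer_secCent h.mod.normU h.mod.normU₀)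
  have hL : 𝑳 ≤ 𝐍[V ⊔ zpowers (x * y * x⁻¹)] :=
    n0_le_norm ((commutator_mono hED le_rfl).trans ((h.comm_DL h').trans le_sup_left))
  refine hg' (centralizer_anti le_sup_left (perfK (N := 𝐍[V ⊔ zpowers (x * y * x⁻¹)])
    (C := 𝐂[V ⊔ zpowers (x * y * x⁻¹)]) (T₁ := 𝑰) (T₂ := 𝐂₁[z] ⊓ 𝑲) (x := x) (t₁ := t₁) (t₂ := t₂)
    (h.hyp.solv _ (elemAb_isPGroup (d.E_ea h' hne)) fun e => h.ne (mem_bot.1 (e ▸ mem_sup_left h.zV)))
    (Amb.normalizer_le_normalizer_centralizer _) (d.I_norm h' hne) (inf_le_right.trans (d.K_norm h' hne))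
    ((pRes_eq_bot (h.I_two h')).le.trans bot_le) (pRes_le_iff.2 fun r hr ho => ?_) (hL hg)
    (d.x_norm h' hne) (by rw [g3]; decide) d.odd (h.normI h' hne (h.L_le h' hg)) (hY d.x_mem) ht₁
    (commutator_mono (le_inf h.U_le_C h.mod.U_le_C) le_rfl ht₂) (hY (h.CV_le_C ht₁'))
    (h.normI h' hne (h.U_le_M ht₂U)) (mem_inf.2 ⟨?_, ?_⟩) (gi t₂ ht₂U ht₂')))
  · refine centralizer_anti (hED.trans inf_le_left)
      (mem_centralizer_of_commutator_mem (two_zpowers h.sq) ho ?_ hr.2.2)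
    rw [Amb.centralizer_zpowers]
    exact hr.1
  · exact mul_mem (mul_mem (mul_mem (h.CV_le_C ht₁') d.x_mem) (inv_mem (h.CV_le_C ht₁'))) d.x_mem
  · rw [h.inv_iff (h.CV_le_C ht₁') d.x_mem, e, h.mod.ρ_mul (h.nA d.a_mem) (h.mod.U_le hc.1),
      h.mod.ρ_of_mem (h.mod.U_le_C hc.1), mul_one]
    exact d.inv

omit h' hne in
theorem DP.congr {a' x' : G} (ha : a' ∈ 𝑨) (hx : x' ∈ 𝐂₁[z]) (ho : Odd (orderOf x'))
    (e1 : ρ a' = ρ a) (e2 : ρ x' = ρ x) : h.DP y a' x' := by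
  have e3 : ρ x'⁻¹ = ρ x⁻¹ := by
    rw [← mul_one (ρ x'⁻¹), ← h.mod.ρ_mul_inv (h.nC d.x_mem), ← e2, ← mul_assoc,
      h.mod.ρ_inv_mul (h.nC hx), one_mul]
  refine ⟨ha, hx, ho, e2 ▸ d.x_ne, by rw [e1, e2, e3, d.inv], fun X h1 h2 h3 => d.gen X h1 ?_ ?_,
    by rw [e2]; exact d.ex⟩
  · have := X.mul_mem (h1 ((h.mod.ρ_eq_ρ (h.nA d.a_mem) (h.nA ha)).1 e1.symm)) h2
    simpa using this
  · rwa [e2] at h3

/-- the final configuration -/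
theorem DP.final {s u : G} (hs : s ∈ 𝑳) (s2 : s * s = 1) (sz : s * z * s⁻¹ = y)
    (a2 : a * a = 1) (ax : a * x * a⁻¹ = x⁻¹) (hu : u ∈ 𝑼) (hu' : u ∉ 𝐂[V])
    (e1 : ρ (s * (x * y * x⁻¹) * s⁻¹) * ρ x = ρ x * ρ (s * (x * y * x⁻¹) * s⁻¹))
    (e2 : ρ (s * (x * y * x⁻¹) * s⁻¹) (π u) = π u + π (x * y * x⁻¹))
    (gen : ∀ X : Subgroup G, 𝑲 ≤ X → a ∈ X → s * (x * y * x⁻¹) * s⁻¹ ∈ X → 𝑨 ≤ X) : False := by
  have hw := d.w_mem h' hne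
  have w2 := d.w_sq h' hne
  have hE := d.E_ea h' hne
  have xE := d.x_norm h' hne
  have IE := d.I_norm h' hne
  have KE := d.K_norm h' hne
  have hsM := h.L_le h' hs
  have hsU : cj(s, 𝑼) = ncl V 𝐂₁[y] := by rw [h.cj_U hsM, sz]
  have hp : s * (x * y * x⁻¹) * s⁻¹ ∈ 𝑨 :=
    ⟨hsU ▸ conj_mem_cj s hw.1, Amb.conj_mem_of_mem_normalizer (h.normCV hsM) hw.2⟩
  have e3 := (h.mod.ρ_π_eq (h.nA hp) hw.1).1 (h.ρ_w h' hp d.x_mem e1)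
  generalize x * y * x⁻¹ = w at *
  have si : s⁻¹ = s := inv_eq_of_mul_eq_one_right s2
  have ss : ∀ r : G, s * (s * r * s⁻¹) * s⁻¹ = r := fun r => by
    calc _ = (s * s) * r * (s * s)⁻¹ := by group
      _ = r := by rw [s2]; group
  set p := s * w * s⁻¹ with hpdef
  have p2 : p * p = 1 := by
    calc _ = s * (w * w) * s⁻¹ := by rw [hpdef]; group
      _ = 1 := by rw [w2]; group
  have e4 : ⁅p, w⁆ = 1 := h.eq_one h' hne e3 (by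
    have h1 := conj_mem_cj s (inv_mem e3)
    rw [cj_zpowers', sz] at h1
    have h2 : s * ⁅p, w⁆⁻¹ * s⁻¹ = ⁅s * w * s⁻¹, s * p * s⁻¹⁆ := by
      simp only [commutatorElement_def]; group
    rwa [h2, hpdef, ss] at h1)
  set E := V ⊔ zpowers w with hEdef
  have pE : p ∈ 𝐂[E] := by
    rw [hEdef, Amb.centralizer_sup, Amb.centralizer_zpowers]
    exact ⟨hp.2, mem_centralizer_singleton_iff.2 (commutatorElement_eq_one_iff_mul_comm.1 e4)⟩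
  have sE : cj(s, E) = V ⊔ zpowers p := by
    rw [hEdef, cj_sup, cj_zpowers', cj_of_mem_normalizer (h.normV.ge hsM)]
  set F := E ⊔ zpowers p with hFdef
  have hF : IsElementaryAbelian 2 F :=
    isEA_sup hE (isEA_zpowers (by rw [pow_two, p2])) (le_centralizer_iff.1 (zpowers_le.2 pE))
  have VF : V ≤ F := le_sup_left.trans le_sup_left
  have F_eq : F = E ⊔ cj(s, E) := by
    rw [sE]
    exact le_antisymm (sup_le_sup_left le_sup_right _) (sup_le le_sup_left (sup_le VF le_sup_right))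
  have normF : ∀ g ∈ 𝐍[E], g * p * g⁻¹ ∈ F → g ∈ 𝐍[F] := fun g hg h1 =>
    mem_normalizer_of_cj_le (by
      rw [hFdef, cj_sup, cj_zpowers', cj_of_mem_normalizer hg]
      exact sup_le le_sup_left (zpowers_le.2 h1))
  have sF : s ∈ 𝐍[F] := by
    rw [← cj_eq_iff, F_eq, cj_sup, ← cj_mul, s2, cj_one, sup_comm]
  have IF : 𝑰 ≤ 𝐍[F] := by
    rw [F_eq]
    refine Amb.le_normalizer_sup IE ?_
    rw [normalizer_cj, ← cj_of_mem_normalizer (h.normI h' hne hsM)]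
    exact cj_mono s IE
  have uF : u ∈ 𝐍[F] := normF u (KE (h.mod.U_le_C hu)) (by
    have h1 : ⁅p, u⁆ ∈ F := h.mem_of_π (h.Z_le.trans VF) (n0_comm_right hu (h.CV_normU hp.2)) hw.1
      (mem_sup_left (mem_sup_right (mem_zpowers w)))
      (by rw [← h.mod.ρ_π_sub (h.nA hp) hu, e2, add_sub_cancel_left])
    have := F.mul_mem (F.inv_mem h1) (mem_sup_right (mem_zpowers p))
    simpa [commutatorElement_def, mul_assoc] using this)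
  have LF : 𝑳 ≤ 𝐍[F] := by
    rw [← h.L_eq h' hne hu hu' (w := s * u * s⁻¹) (hsU ▸ conj_mem_cj s hu) fun e => hu' (by
      simpa [mul_assoc] using Amb.inv_conj_mem_of_mem_normalizer (h.normCV hsM) e)]
    exact sup_le (zpowers_le.2 uF) (sup_le (zpowers_le.2
      (mul_mem uF (mul_mem (mul_mem sF uF) (inv_mem sF)))) IF)
  have xF : x ∈ 𝐍[F] := by
    have q1 : x * p * x⁻¹ ∈ 𝐂[V] := centralizer_anti le_sup_left
      (Amb.conj_mem_of_mem_normalizer (Amb.normalizer_le_normalizer_centralizer E xE) pE)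
    have q2 : ρ (x * p * x⁻¹) = ρ p := by
      rw [h.mod.ρ_mul (mul_mem (h.nC d.x_mem) (h.nA hp)) (h.nC (inv_mem d.x_mem)),
        h.mod.ρ_mul (h.nC d.x_mem) (h.nA hp), ← e1, mul_assoc, h.mod.ρ_mul_inv (h.nC d.x_mem),
        mul_one]
    have q3 : x * p * x⁻¹ * (x * p * x⁻¹) = 1 := by
      calc _ = x * (p * p) * x⁻¹ := by group
        _ = 1 := by rw [p2]; group
    have q4 : x * ⁅x * p * x⁻¹, a⁆ * x⁻¹ * ⁅a, p⁆ * p = x ^ 2 * p * (x ^ 2)⁻¹ := by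
      calc _ = x * x * p * x⁻¹ * (a * x * a⁻¹) * (a * p⁻¹ * a⁻¹) * (a * x * a⁻¹)⁻¹ * x⁻¹ *
            (a * p * a⁻¹) := by simp only [commutatorElement_def]; group
        _ = _ := by rw [ax, pow_two]; group
    generalize x * p * x⁻¹ = r at q1 q2 q3 q4
    have q5 : ⁅r, a⁆ ∈ 𝑫 := by
      rw [← h.A_inf_Y h' hne]
      have q6 := n0_comm_right d.a_mem (h'.CV_normE q1)
      refine ⟨q6, h.CV_le_C q6.2, (h.mod.ρ_comm (h.nC (h.CV_le_C q1)) (h.nA d.a_mem)).1 ?_⟩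
      rw [q2, h.ρ_AA h' hp d.a_mem]
    have q6 : ⁅r, a⁆⁻¹ = ⁅r, a⁆ :=
      inv_eq_of_mul_eq_one_right (sq_eq_one_of_isEA (h.D_ea h' hne) _ q5)
    have q7 : ⁅r, a⁆ ∈ V := h.mem_V_of_fix h' hne q5 (h.fix_all fun X hX => gen X
      (fun g hg => hX g (h.mod.C_le hg) (by rw [h.mod.ρ_of_mem hg]; rfl))
      (hX a (h.nA d.a_mem) (by
        rw [h.mod.ρ_π (h.nA d.a_mem) q5.1]
        congr 1
        calc a * ⁅r, a⁆ * a⁻¹ = a * r * (a * a) * a⁻¹ * r⁻¹ * (a * a)⁻¹ := by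
              rw [commutatorElement_def]; group
          _ = ⁅r, a⁆⁻¹ := by rw [a2, commutatorElement_def]; group
          _ = _ := q6))
      (hX p (h.nA hp) (by
        rw [← q2, h.mod.ρ_π (h.nC (h.CV_le_C q1)) q5.1]
        congr 1
        calc r * ⁅r, a⁆ * r⁻¹ = (r * r) * a * (r * r)⁻¹ * r * a⁻¹ * r⁻¹ := by
              rw [commutatorElement_def]; group
          _ = ⁅r, a⁆⁻¹ := by rw [q3, commutatorElement_def]; group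
          _ = _ := q6)))
    refine mem_of_pow_mem_of_coprime (n := 2) (normF _ (pow_mem xE 2) ?_) (coprime_two_iff.2 d.odd)
    rw [← q4]
    exact mul_mem (mul_mem (mem_sup_left (Amb.conj_mem_of_mem_normalizer xE (mem_sup_left q7)))
      (VF (h'.Z_le (h'.comm (commutator_mem_commutator d.a_mem.1 hp.1)))))
      (mem_sup_right (mem_zpowers p))
  obtain ⟨g, hg, g3, hg', gi, gI, -⟩ := h.exists_three h' hne
  obtain ⟨t₂, ht₂, ht₂'⟩ := d.exists_t2 h' hne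
  obtain ⟨t₁, ht₁, c, hc, ht₁', e⟩ := h.exists_t h' hne (h.L_le h' hg) gI d.a_mem
  have ht₂U : t₂ ∈ 𝑼 := n0_comm_le_left ((zpowers_le.2 d.x_mem).trans h.normU) ht₂
  have := perfK (N := 𝐍[F]) (C := ⊥) (T₁ := 𝑰) (T₂ := 𝑼) (x := x) (t₁ := t₁) (t₂ := t₂)
    (h.hyp.solv _ (elemAb_isPGroup hF) fun e => h.ne (mem_bot.1 (e ▸ VF h.zV)))
    (fun g _ => cj_eq_iff.1 (cj_bot g)) IF (le_sup_left.trans LF)
    (pRes_eq_bot (h.I_two h')).le (pRes_eq_bot h.U_two).le (LF hg) xF (by rw [g3]; decide) d.odd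
    (h.normI h' hne (h.L_le h' hg)) (h.normU d.x_mem) ht₁ ht₂ (h.CV_normU ht₁')
    (h.normI h' hne (h.U_le_M ht₂U)) (by
      have h1 : a * c * x * (a * c)⁻¹ * x = a * ⁅c, x⁆ * a⁻¹ * (a * x * a⁻¹ * x) := by
        rw [commutatorElement_def]; group
      rw [e, h1, ax, inv_mul_cancel, mul_one]
      exact Amb.conj_mem_of_mem_normalizer (h.CV_normU d.a_mem.2)
        (n0_comm_left hc.1 (h.normU d.x_mem))) (gi t₂ ht₂U ht₂')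
  exact hg' (mem_bot.1 this ▸ one_mem _)

theorem DP.two {a' x' : G} (d' : h.DP y a' x') (c1 : ρ a * ρ x' = ρ x' * ρ a)
    (c2 : ρ a' * ρ x = ρ x * ρ a') (c3 : ρ x * ρ x' = ρ x' * ρ x)
    (gen : (∃ b ∈ 𝑨, ρ b ≠ 1 ∧ ρ b * ρ x = ρ x * ρ b ∧ ρ b * ρ x' = ρ x' * ρ b) ∨
      ∀ X : Subgroup G, 𝑲 ≤ X → a ∈ X → a' ∈ X → 𝑨 ≤ X) : False := by
  have hw := d.w_mem h' hne
  have hw' := d'.w_mem h' hne
  have hu : x' * (x * y * x⁻¹) * x'⁻¹ ∈ 𝑼 := Amb.conj_mem_of_mem_normalizer (h.normU d'.x_mem) hw.1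
  have e0 := (h.mod.ρ_π (h.nC d'.x_mem) hw.1).symm
  generalize x' * (x * y * x⁻¹) * x'⁻¹ = u at hu e0
  have e1 : ρ a (π u) = π u + π (x' * y * x'⁻¹) := by
    rw [e0, ← Module.End.mul_apply, c1, Module.End.mul_apply, d.ρ_a h' hne, map_add,
      h.mod.ρ_π (h.nC d'.x_mem) (h.yU h')]
  have e2 : ρ a' (π u) = π u + π (x * y * x⁻¹) := by
    have : π u = ρ x (π (x' * y * x'⁻¹)) := by
      rw [e0, ← h.mod.ρ_π (h.nC d.x_mem) (h.yU h'), ← h.mod.ρ_π (h.nC d'.x_mem) (h.yU h'),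
        ← Module.End.mul_apply, ← c3, Module.End.mul_apply]
    rw [this, ← Module.End.mul_apply, c2, Module.End.mul_apply, d'.ρ_a h' hne, map_add,
      h.mod.ρ_π (h.nC d.x_mem) (h.yU h')]
  have hu' : u ∉ 𝐂[V] := fun e => d'.w_not_mem h' hne (by
    have h1 : ⁅a, u⁆ ∈ 𝑫 := by
      rw [← commutatorElement_inv]
      exact inv_mem (h.comm_EA h' (commutator_mem_commutator ⟨hu, e⟩ d.a_mem))
    exact h.mem_of_π (h.Z_le.trans (h.V_le_D h')) hw'.1 h1.1 h1 (by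
      rw [← h.mod.ρ_π_sub (h.nA d.a_mem) hu, e1, add_sub_cancel_left]))
  rcases gen with ⟨b, hb, b1, b2, b3⟩ | gen
  · exact hu' (h.mem_CV_of_fix h' hne hb b1 hu (by
      rw [e0, ← Module.End.mul_apply, b3, Module.End.mul_apply, h.ρ_w h' hb d.x_mem b2]))
  obtain ⟨s, hs, s2, sz, -, sw⟩ := h.exists_swap h' hne
  have hsM := h.L_le h' hs
  have hA : ∀ e ∈ 𝑼 ⊓ 𝐂[V], s * e * s⁻¹ ∈ 𝑨 := fun e he =>
    ⟨by rw [← sz, ← h.cj_U hsM]; exact conj_mem_cj s he.1,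
      Amb.conj_mem_of_mem_normalizer (h.normCV hsM) he.2⟩
  have hq := hA _ hw'
  have f1 := h.same h' hne d.a_mem hq hu hu' hw' e1 (sw u hu hu' _ hw')
  have q2 : s * (x' * y * x'⁻¹) * s⁻¹ * (s * (x' * y * x'⁻¹) * s⁻¹) = 1 := by
    calc _ = s * (x' * y * x'⁻¹ * (x' * y * x'⁻¹)) * s⁻¹ := by group
      _ = 1 := by rw [d'.w_sq h' hne]; group
  generalize s * (x' * y * x'⁻¹) * s⁻¹ = q at hq f1 q2
  have hqC := h.CV_le_C hq.2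
  obtain ⟨r, r1, r2, r3, r4⟩ := exists_odd_inverted (Y := 𝑲) q2 (h.mod.N_norm_C (h.nA hq))
    (h.mod.N_norm_C (h.nC d.x_mem)) ⟨_, d.odd, by rw [pow_orderOf_eq_one]; exact one_mem _⟩
    ((h.inv_iff hqC d.x_mem).2 (by rw [f1]; exact d.inv))
  have hr : r ∈ 𝐂₁[z] := zpowers_le.2
    (mul_mem hqC (mul_mem (mul_mem d.x_mem hqC) (inv_mem d.x_mem))) r4
  have f2 : ρ r = ρ x := (h.mod.ρ_eq_ρ (h.nC hr) (h.nC d.x_mem)).2 r3
  have dr := d.congr hq hr r1 f1 f2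
  have hwr := dr.w_mem h' hne
  have f3 : π (x * y * x⁻¹) = π (r * y * r⁻¹) := by
    rw [← h.mod.ρ_π (h.nC d.x_mem) (h.yU h'), ← h.mod.ρ_π (h.nC hr) (h.yU h'), f2]
  rw [f3] at e2
  have f4 := h.same h' hne d'.a_mem (hA _ hwr) hu hu' hwr e2 (sw u hu hu' _ hwr)
  refine dr.final h' hne hs s2 sz q2 r2 hu hu' (by rw [f4, f2, c2]) (by rw [f4, e2])
    fun X h1 h2 h3 => gen X h1 ?_ ?_
  · simpa using X.mul_mem (h1 ((h.mod.ρ_eq_ρ (h.nA d.a_mem) (h.nA hq)).1 f1.symm)) h2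
  · have := X.mul_mem (h1 ((h.mod.ρ_eq_ρ (h.nA d'.a_mem) (h.nA (hA _ hwr))).1 f4.symm)) h3
    rwa [inv_mul_cancel_right] at this

omit d in
theorem not_four_le (h4 : 4 ≤ (𝑫).relIndex 𝑨) : False := by
  obtain ⟨F, F1, F2, F3, F4, F5, -⟩ := exists_fit h.mod.solv h.mod.norm_ker h.mod.red
  have hAC : 𝑨 ≤ 𝐂₁[z] := inf_le_right.trans h.CV_le_C
  have hEA : EAMod 𝑨 𝑲 := ⟨(commutator_mono inf_le_left inf_le_left).trans
    (h'.comm.trans (h.Zy_le h')), fun a ha => h.Zy_le h' (h'.mod.sq a ha.1)⟩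
  obtain ⟨k, hk⟩ := hEA.relIndex_pow (hAC.trans h.mod.norm_ker)
  have hk2 : 2 ≤ k := by
    rw [← h.A_inf_Y h' hne, ← inf_assoc, inf_eq_left.2 hAC, inf_relIndex_left, hk] at h4
    by_contra h1
    interval_cases k <;> omega
  obtain ⟨a, x, h1, h2, h3⟩ := dihedral_mod h.mod.solv h.mod.norm_ker F1 F2
    ((le_inf le_normalizer h.mod.norm_ker).trans F3) F4 F5 hAC hEA hk
  have ca : ∀ i j, i ≠ j → h.mod.ρ (a i) * h.mod.ρ (x j) = h.mod.ρ (x j) * h.mod.ρ (a i) :=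
    fun i j hij => (h.mod.ρ_comm (h.nA (h1 i).1) (h.nC (F2 (h1 j).2.1))).2 (h2 i j hij).1
  have ne1 : ∀ i, h.mod.ρ (a i) ≠ 1 := fun i e => (h1 i).2.2.1 (by
    have e1 := (h.inv_iff (hAC (h1 i).1) (F2 (h1 i).2.1)).1 (h1 i).2.2.2.2.2
    rw [e, one_mul, mul_one, h.mod.ρ_eq_ρ (h.nC (F2 (h1 i).2.1)) (h.nC (inv_mem (F2 (h1 i).2.1))),
      inv_inv, ← pow_two] at e1
    exact mem_of_pow_mem_of_coprime e1 (coprime_two_iff.2 (h1 i).2.2.2.1))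
  have dp : ∀ i j, i ≠ j → h.DP y (a i) (x i) := fun i j hij =>
    ⟨(h1 i).1, F2 (h1 i).2.1, (h1 i).2.2.2.1,
      mt (h.mod.ρ_eq_one (h.nC (F2 (h1 i).2.1))).1 (h1 i).2.2.1,
      (h.inv_iff (hAC (h1 i).1) (F2 (h1 i).2.1)).1 (h1 i).2.2.2.2.2,
      fun X g1 g2 g3 => h3.trans (sup_le g1 (iSup_le fun l => zpowers_le.2 (by
        by_cases e : l = i
        · rw [e]; exact g2
        · exact g3 _ (h1 l).1 (ca l i e)))),
      ⟨a j, (h1 j).1, ne1 j, ca j i hij.symm⟩⟩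
  let i : Fin k := ⟨0, by omega⟩
  let j : Fin k := ⟨1, by omega⟩
  have hij : i ≠ j := by simp [i, j]
  refine (dp i j hij).two h' hne (dp j i hij.symm) (ca i j hij) (ca j i hij.symm)
    ((h.mod.ρ_comm (h.nC (F2 (h1 i).2.1)) (h.nC (F2 (h1 j).2.1))).2 (h2 i j hij).2) ?_
  by_cases hl : ∃ l, l ≠ i ∧ l ≠ j
  · obtain ⟨l, l1, l2⟩ := hl
    exact Or.inl ⟨a l, (h1 l).1, ne1 l, ca l i l1, ca l j l2⟩
  · push Not at hl
    refine Or.inr fun X g1 g2 g3 => h3.trans (sup_le g1 (iSup_le fun l => zpowers_le.2 ?_))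
    by_cases e : l = i
    · rw [e]; exact g2
    · rw [hl l e]; exact g3

end NP

end N4

/-- `C = C(z)` -/
local notation "𝑪" => 𝐂₁[z]
/-- `U = ⟨V^C⟩` -/
local notation "𝑼" => ncl V 𝐂₁[z]
local notation "𝑼'" => cj(m, ncl V 𝐂₁[z])
local notation "𝑫" => ncl V 𝐂₁[z] ⊓ cj(m, ncl V 𝐂₁[z])
local notation "𝑨" => cj(m, ncl V 𝐂₁[z]) ⊓ 𝐂[V]
local notation "𝑰" => (ncl V 𝐂₁[z] ⊓ 𝐂[V]) ⊔ (cj(m, ncl V 𝐂₁[z]) ⊓ 𝐂[V])
local notation "𝑳" => ncl V 𝐂₁[z] ⊔ cj(m, ncl V 𝐂₁[z])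
local notation "𝒀" => 𝐂₁[z] ⊓ secCent (ncl V 𝐂₁[z]) (zpowers z)

theorem CN.not_four_le (h : CN S M V z m) (h4 : 4 ≤ (𝑫).relIndex 𝑨) : False := by
  rw [h.U'_eq] at h4
  exact NP.not_four_le (h := h.np) h.np' h.m_ne.symm h4

end Cfsg.Agent.NG
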