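import Mathlib
import Cfsg.Agent.NG.Defs

set_option autoImplicit false

namespace Cfsg.Agent.NG

open Subgroup Cfsg.Agent.PLocal Cfsg.Agent.PLocal.Amb Cfsg.Agent.PLocal.CP Cfsg.Agent.PLocal.JC
open scoped commutatorElement

variable {G : Type*} [Group G] [Finite G]

/-- the conjugates of `X` (lines for `X = V`) -/
def Cn (X l : Subgroup G) : Prop := ∃ g : G, l = cj(g, X)

/-- the subgroup generated by the lines through `p` -/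
def Up (V : Subgroup G) (p : G) : Subgroup G := sSup {l | Cn V l ∧ p ∈ l}

/-- the elements of `C(p)` that normalize all lines through `p` -/
def Qp (V : Subgroup G) (p : G) : Subgroup G := 𝐂₁[p] ⊓ ⨅ l ∈ {l | Cn V l ∧ p ∈ l}, 𝐍[l]

/-- The local data of the generalized octagon of the Tits group: points are the conjugates of `z`,
lines are the conjugates of `V`, incidence is membership. -/
structure Oct (V D : Subgroup G) (z : G) : Prop where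
  four : Nat.card V = 4
  z_mem : z ∈ V
  z_ne : z ≠ 1
  trans : ∀ v ∈ V, v ≠ 1 → ∃ n ∈ 𝐍[V], n * z * n⁻¹ = v
  line : ∀ l, Cn V l → z ∈ l → ∃ h ∈ 𝐂₁[z], l = cj(h, V)
  five : {l | Cn V l ∧ z ∈ l}.ncard = 5
  cardN : Nat.card 𝐍[V] = 6144
  cardU : Nat.card (Up V z) = 32
  U_comm : Up V z ≤ 𝐂[Up V z]
  U_sq : ∀ u ∈ Up V z, u * u = 1
  V_le : V ≤ D
  D_le : D ≤ Up V z
  cardD : Nat.card D = 8
  normD : 𝐍[D] = 𝐍[V]
  U_cover : ∀ u ∈ Up V z, ∃ h ∈ 𝐂₁[z], u ∈ cj(h, D)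
  c_trans : ∀ c ∈ D, c ∉ V → ∀ c' ∈ D, c' ∉ V → ∃ n ∈ 𝐍[V], n * c * n⁻¹ = c'
  c_not : ∀ c ∈ D, c ∉ V → ¬ IsConj z c
  c_cent : ∀ c ∈ D, c ∉ V → 𝐂₁[c] ≤ 𝐍[V]
  invol : ∀ t ∈ 𝐂₁[z], t * t = 1 → ∃ l, Cn V l ∧ z ∈ l ∧ ∃ p ∈ l, p ≠ 1 ∧ t ∈ Up V p
  U_idx : ∀ v ∈ V, v ∉ zpowers z → (Qp V v).relIndex (Up V z) = 2
  far : ∀ v ∈ V, v ∉ zpowers z → ∀ l, Cn V l → z ∈ l → l ≠ V → l ⊓ Qp V v = zpowers z
  fix_one : ∀ t ∈ 𝐂₁[z] ⊓ 𝐍[V], t * t = 1 → t ∉ Qp V z →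
    ∀ l, Cn V l → z ∈ l → t ∈ 𝐍[l] → l = V
  Q_comm : ⁅Qp V z, Qp V z⁆ ≤ Up V z

/-- `p 0, …, p n` is a path of points without backtracking, followed by the line `l` -/
structure NB (V : Subgroup G) (n : ℕ) (p : ℕ → G) (l : Subgroup G) : Prop where
  ne_one : ∀ i ≤ n, p i ≠ 1
  col : ∀ i < n, p i ≠ p (i + 1) ∧ Cn V (zpowers (p i) ⊔ zpowers (p (i + 1)))
  nb : ∀ i, i + 2 ≤ n → p (i + 2) ∉ zpowers (p i) ⊔ zpowers (p (i + 1))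
  ln : Cn V l
  mem : p n ∈ l
  last : ∀ i, i + 1 = n → p i ∉ l

end Cfsg.Agent.NG
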