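import Mathlib
import Cfsg.Agent.NG.OctDefs

/-! Local facts about the octagon at an arbitrary flag. -/

set_option autoImplicit false

namespace Cfsg.Agent.NG.OctA

open Subgroup Cfsg.Agent.PLocal Cfsg.Agent.PLocal.Amb Cfsg.Agent.PLocal.CP Cfsg.Agent.PLocal.JC
open scoped commutatorElement

variable {G : Type*} [Group G]

variable {V D : Subgroup G} {z : G}

theorem cj_zp (g x : G) : cj(g, zpowers x) = zpowers (g * x * g⁻¹) := MonoidHom.map_zpowers _ _

theorem cn_cj {X l : Subgroup G} (h : Cn X l) (g : G) : Cn X cj(g, l) := by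
  obtain ⟨x, rfl⟩ := h
  exact ⟨g * x, (cj_mul g x X).symm⟩

theorem cn_refl (X : Subgroup G) : Cn X X := ⟨1, (cj_one X).symm⟩

theorem cn_cj_iff {X l : Subgroup G} (g : G) : Cn X cj(g, l) ↔ Cn X l :=
  ⟨fun h => by simpa only [cj_inv_cj] using cn_cj h g⁻¹, fun h => cn_cj h g⟩

theorem cn_left {X : Subgroup G} (g : G) (l : Subgroup G) : Cn cj(g, X) l ↔ Cn X l := by
  constructor
  · rintro ⟨x, rfl⟩
    exact ⟨x * g, (cj_mul x g X).symm⟩
  · rintro ⟨x, rfl⟩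
    exact ⟨x * g⁻¹, by rw [← cj_mul, inv_mul_cancel_right]⟩

theorem up_left (g : G) (p : G) : Up cj(g, V) p = Up V p := by
  simp only [Up, cn_left]

theorem qp_left (g : G) (p : G) : Qp cj(g, V) p = Qp V p := by
  simp only [Qp, cn_left]

theorem le_up {l : Subgroup G} {p : G} (hl : Cn V l) (hp : p ∈ l) : l ≤ Up V p := le_sSup ⟨hl, hp⟩

theorem mem_qp {p x : G} :
    x ∈ Qp V p ↔ x * p = p * x ∧ ∀ l, Cn V l → p ∈ l → x ∈ 𝐍[l] := by
  simp only [Qp, mem_inf, mem_centralizer_singleton_iff, mem_iInf, Set.mem_ofPred_eq, and_imp]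

theorem up_cj_le (g p : G) : cj(g, Up V p) ≤ Up V (g * p * g⁻¹) := by
  rw [cj_le_iff]
  refine sSup_le fun l hl => ?_
  rw [← cj_le_iff]
  exact le_up (cn_cj hl.1 g) (conj_mem_cj g hl.2)

theorem up_cj (V : Subgroup G) (g p : G) : Up V (g * p * g⁻¹) = cj(g, Up V p) := by
  refine le_antisymm ?_ (up_cj_le g p)
  rw [le_cj_iff]
  have := up_cj_le (V := V) g⁻¹ (g * p * g⁻¹)
  rwa [show g⁻¹ * (g * p * g⁻¹) * g⁻¹⁻¹ = p by group] at this

theorem qp_cj_le (g p : G) : cj(g, Qp V p) ≤ Qp V (g * p * g⁻¹) := by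
  rw [cj_le_iff_forall]
  intro x hx
  rw [mem_qp] at hx ⊢
  refine ⟨?_, fun l hl hp => ?_⟩
  · calc g * x * g⁻¹ * (g * p * g⁻¹) = g * (x * p) * g⁻¹ := by group
      _ = g * (p * x) * g⁻¹ := by rw [hx.1]
      _ = _ := by group
  · have h1 := hx.2 cj(g⁻¹, l) (cn_cj hl _) (by rw [mem_cj]; simpa using hp)
    rw [normalizer_cj, mem_cj] at h1
    simpa using h1

theorem qp_cj (V : Subgroup G) (g p : G) : Qp V (g * p * g⁻¹) = cj(g, Qp V p) := by
  refine le_antisymm ?_ (qp_cj_le g p)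
  rw [le_cj_iff]
  have := qp_cj_le (V := V) g⁻¹ (g * p * g⁻¹)
  rwa [show g⁻¹ * (g * p * g⁻¹) * g⁻¹⁻¹ = p by group] at this

theorem conj_ne_one {g x : G} : g * x * g⁻¹ ≠ 1 ↔ x ≠ 1 := by
  rw [Ne, Ne, conj_eq_one_iff]

theorem conj_inj' {g x y : G} : g * x * g⁻¹ = g * y * g⁻¹ ↔ x = y := by
  rw [mul_left_inj, mul_right_inj]

theorem nb_cj {n : ℕ} {p : ℕ → G} {l : Subgroup G} (h : NB V n p l) (g : G) :
    NB V n (fun i => g * p i * g⁻¹) cj(g, l) where
  ne_one i hi := conj_ne_one.2 (h.ne_one i hi)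
  col i hi := ⟨fun e => (h.col i hi).1 (conj_inj'.1 e), by
    rw [← cj_zp, ← cj_zp, ← cj_sup]; exact cn_cj (h.col i hi).2 g⟩
  nb i hi := by
    rw [← cj_zp, ← cj_zp, ← cj_sup, conj_mem_cj_iff]; exact h.nb i hi
  ln := cn_cj h.ln g
  mem := conj_mem_cj g h.mem
  last i hi := by rw [conj_mem_cj_iff]; exact h.last i hi

theorem relIndex_cj (g : G) (A B : Subgroup G) : (cj(g, A)).relIndex cj(g, B) = A.relIndex B :=
  relIndex_map_map_of_injective A B (MulAut.conj g).injective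

theorem lines_cj (g p : G) : {l | Cn V l ∧ g * p * g⁻¹ ∈ l} =
    (fun l : Subgroup G => cj(g, l)) '' {l | Cn V l ∧ p ∈ l} := by
  ext l
  constructor
  · rintro ⟨h1, h2⟩
    exact ⟨cj(g⁻¹, l), ⟨cn_cj h1 _, by rw [mem_cj]; simpa using h2⟩, cj_cj_inv g l⟩
  · rintro ⟨l, ⟨h1, h2⟩, rfl⟩
    exact ⟨cn_cj h1 g, conj_mem_cj g h2⟩

theorem exists_conj (g x : G) : ∃ y, x = g * y * g⁻¹ := ⟨g⁻¹ * x * g, by group⟩

theorem exists_cj (g : G) (X : Subgroup G) : ∃ Y, X = cj(g, Y) := ⟨_, (cj_cj_inv g X).symm⟩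

theorem oct_cj (h : Oct V D z) (g : G) : Oct cj(g, V) cj(g, D) (g * z * g⁻¹) where
  four := by rw [card_cj, h.four]
  z_mem := conj_mem_cj g h.z_mem
  z_ne := conj_ne_one.2 h.z_ne
  trans v hv h1 := by
    obtain ⟨v, rfl⟩ := exists_conj g v
    obtain ⟨n, hn, e⟩ := h.trans v (conj_mem_cj_iff.1 hv) (conj_ne_one.1 h1)
    refine ⟨g * n * g⁻¹, by rw [normalizer_cj]; exact conj_mem_cj g hn, ?_⟩
    rw [← e]; group
  line l hl hz := by
    obtain ⟨l, rfl⟩ := exists_cj g l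
    rw [cn_left, cn_cj_iff] at hl
    obtain ⟨k, hk, rfl⟩ := h.line l hl (conj_mem_cj_iff.1 hz)
    refine ⟨g * k * g⁻¹, by rw [centralizer_singleton_conj]; exact conj_mem_cj g hk, ?_⟩
    rw [← cj_mul, ← cj_mul, inv_mul_cancel_right]
  five := by
    simp only [cn_left]
    rw [lines_cj, Set.ncard_image_of_injective _ fun _ _ e => cj_inj.1 e, h.five]
  cardN := by rw [normalizer_cj, card_cj, h.cardN]
  cardU := by rw [up_left, up_cj, card_cj, h.cardU]
  U_comm := by rw [up_left, up_cj, centralizer_cj]; exact cj_mono g h.U_comm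
  U_sq u hu := by
    obtain ⟨u, rfl⟩ := exists_conj g u
    rw [up_left, up_cj, conj_mem_cj_iff] at hu
    rw [conj_mul, h.U_sq u hu]; group
  V_le := cj_mono g h.V_le
  D_le := by rw [up_left, up_cj]; exact cj_mono g h.D_le
  cardD := by rw [card_cj, h.cardD]
  normD := by rw [normalizer_cj, normalizer_cj, h.normD]
  U_cover u hu := by
    obtain ⟨u, rfl⟩ := exists_conj g u
    rw [up_left, up_cj, conj_mem_cj_iff] at hu
    obtain ⟨k, hk, e⟩ := h.U_cover u hu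
    refine ⟨g * k * g⁻¹, by rw [centralizer_singleton_conj]; exact conj_mem_cj g hk, ?_⟩
    rw [← cj_mul, inv_mul_cancel_right, cj_mul]
    exact conj_mem_cj g e
  c_trans c hc hc' d hd hd' := by
    obtain ⟨c, rfl⟩ := exists_conj g c
    obtain ⟨d, rfl⟩ := exists_conj g d
    rw [conj_mem_cj_iff] at hc hc' hd hd'
    obtain ⟨n, hn, e⟩ := h.c_trans c hc hc' d hd hd'
    refine ⟨g * n * g⁻¹, by rw [normalizer_cj]; exact conj_mem_cj g hn, ?_⟩
    rw [← e]; group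
  c_not c hc hc' e := by
    obtain ⟨c, rfl⟩ := exists_conj g c
    rw [conj_mem_cj_iff] at hc hc'
    exact h.c_not c hc hc' (((isConj_iff.2 ⟨g, rfl⟩).trans e).trans (isConj_iff.2 ⟨g, rfl⟩).symm)
  c_cent c hc hc' := by
    obtain ⟨c, rfl⟩ := exists_conj g c
    rw [conj_mem_cj_iff] at hc hc'
    rw [centralizer_singleton_conj, normalizer_cj]
    exact cj_mono g (h.c_cent c hc hc')
  invol t ht h2 := by
    obtain ⟨t, rfl⟩ := exists_conj g t
    rw [centralizer_singleton_conj, conj_mem_cj_iff] at ht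
    rw [conj_mul, conj_eq_one_iff] at h2
    obtain ⟨l, h1, h3, p, h4, h5, h6⟩ := h.invol t ht h2
    refine ⟨cj(g, l), (cn_left _ _).2 (cn_cj h1 g), conj_mem_cj g h3, _, conj_mem_cj g h4,
      conj_ne_one.2 h5, ?_⟩
    rw [up_left, up_cj]
    exact conj_mem_cj g h6
  U_idx v hv hv' := by
    obtain ⟨v, rfl⟩ := exists_conj g v
    rw [← cj_zp, conj_mem_cj_iff] at hv'
    rw [conj_mem_cj_iff] at hv
    rw [up_left, qp_left, up_cj, qp_cj, relIndex_cj, h.U_idx v hv hv']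
  far v hv hv' l hl hz hne := by
    obtain ⟨v, rfl⟩ := exists_conj g v
    obtain ⟨l, rfl⟩ := exists_cj g l
    rw [← cj_zp, conj_mem_cj_iff] at hv'
    rw [conj_mem_cj_iff] at hv hz
    rw [cn_left, cn_cj_iff] at hl
    rw [qp_left, qp_cj, ← cj_inf, ← cj_zp, h.far v hv hv' l hl hz fun e => hne (by rw [e])]
  fix_one t ht h2 hq l hl hz hn := by
    obtain ⟨t, rfl⟩ := exists_conj g t
    obtain ⟨l, rfl⟩ := exists_cj g l
    rw [centralizer_singleton_conj, normalizer_cj, ← cj_inf, conj_mem_cj_iff] at ht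
    rw [conj_mul, conj_eq_one_iff] at h2
    rw [qp_left, qp_cj, conj_mem_cj_iff] at hq
    rw [cn_left, cn_cj_iff] at hl
    rw [conj_mem_cj_iff] at hz
    rw [normalizer_cj, conj_mem_cj_iff] at hn
    rw [h.fix_one t ht h2 hq l hl hz hn]
  Q_comm := by
    rw [qp_left, up_left, qp_cj, up_cj, commutator_cj]
    exact cj_mono g h.Q_comm

theorem flag0 (h : Oct V D z) {l : Subgroup G} (hl : Cn V l) {p : G} (hp : p ∈ l) (h1 : p ≠ 1) :
    ∃ g : G, l = cj(g, V) ∧ p = g * z * g⁻¹ := by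
  obtain ⟨g, rfl⟩ := hl
  obtain ⟨v, rfl⟩ := exists_conj g p
  obtain ⟨n, hn, rfl⟩ := h.trans v (conj_mem_cj_iff.1 hp) (conj_ne_one.1 h1)
  exact ⟨g * n, by rw [cj_mul, cj_of_mem_normalizer hn], by group⟩

theorem flag (h : Oct V D z) {l : Subgroup G} (hl : Cn V l) {p : G} (hp : p ∈ l) (h1 : p ≠ 1) :
    ∃ g : G, l = cj(g, V) ∧ p = g * z * g⁻¹ ∧ Oct l cj(g, D) p ∧ (∀ X, Cn l X ↔ Cn V X) ∧
      (∀ q, Up l q = Up V q) ∧ ∀ q, Qp l q = Qp V q := by
  obtain ⟨g, rfl, rfl⟩ := flag0 h hl hp h1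
  exact ⟨g, rfl, rfl, oct_cj h g, cn_left g, up_left g, qp_left g⟩

/-! ### local facts at an arbitrary flag -/

theorem isConj_of_mem (h : Oct V D z) {l : Subgroup G} (hl : Cn V l) {p : G} (hp : p ∈ l)
    (h1 : p ≠ 1) : IsConj z p := by
  obtain ⟨g, -, rfl⟩ := flag0 h hl hp h1
  exact isConj_iff.2 ⟨g, rfl⟩

theorem exists_line (h : Oct V D z) {p : G} (hp : IsConj z p) : p ≠ 1 ∧ ∃ l, Cn V l ∧ p ∈ l := by
  obtain ⟨g, rfl⟩ := isConj_iff.1 hp
  exact ⟨conj_ne_one.2 h.z_ne, _, ⟨g, rfl⟩, conj_mem_cj g h.z_mem⟩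

theorem pt (h : Oct V D z) {p : G} (hp : IsConj z p) : ∃ g : G, Oct cj(g, V) cj(g, D) p := by
  obtain ⟨g, rfl⟩ := isConj_iff.1 hp
  exact ⟨g, oct_cj h g⟩

theorem card_line (h : Oct V D z) {l : Subgroup G} (hl : Cn V l) : Nat.card l = 4 := by
  obtain ⟨g, rfl⟩ := hl
  rw [card_cj, h.four]

theorem u_comm (h : Oct V D z) {p : G} (hp : IsConj z p) {x y : G} (hx : x ∈ Up V p)
    (hy : y ∈ Up V p) : x * y = y * x := by
  obtain ⟨g, ho⟩ := pt h hp
  have := ho.U_comm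
  rw [up_left] at this
  exact (this hx y hy).symm

theorem u_sq (h : Oct V D z) {p : G} (hp : IsConj z p) {x : G} (hx : x ∈ Up V p) : x * x = 1 := by
  obtain ⟨g, ho⟩ := pt h hp
  exact ho.U_sq x (by rwa [up_left])

theorem self_mem_u (h : Oct V D z) {p : G} (hp : IsConj z p) : p ∈ Up V p := by
  obtain ⟨-, l, h1, h2⟩ := exists_line h hp
  exact le_up h1 h2 h2

theorem line_sq (h : Oct V D z) {l : Subgroup G} (hl : Cn V l) {x : G} (hx : x ∈ l) :
    x * x = 1 := by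
  by_cases h1 : x = 1
  · rw [h1, mul_one]
  · exact u_sq h (isConj_of_mem h hl hx h1) (le_up hl hx hx)

theorem line_comm (h : Oct V D z) {l : Subgroup G} (hl : Cn V l) {x y : G} (hx : x ∈ l)
    (hy : y ∈ l) : x * y = y * x := by
  by_cases h1 : x = 1
  · rw [h1, mul_one, one_mul]
  · exact u_comm h (isConj_of_mem h hl hx h1) (le_up hl hx hx) (le_up hl hx hy)

theorem mem_zp {p x : G} (hp : p * p = 1) : x ∈ zpowers p ↔ x = 1 ∨ x = p := by
  constructor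
  · rintro ⟨k, rfl⟩
    have h2 : p ^ (2 : ℤ) = 1 := by rw [zpow_two, hp]
    rcases Int.even_or_odd' k with ⟨j, rfl | rfl⟩
    · left; simp only [zpow_mul, h2, one_zpow]
    · right; simp only [zpow_add, zpow_mul, h2, one_zpow, one_mul, zpow_one]
  · rintro (rfl | rfl)
    · exact one_mem _
    · exact mem_zpowers _

theorem mem_line (h : Oct V D z) {l : Subgroup G} (hl : Cn V l) {p q : G} (hp : p ∈ l)
    (hq : q ∈ l) (p1 : p ≠ 1) (q1 : q ≠ 1) (hne : p ≠ q) {x : G} (hx : x ∈ l) :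
    x = 1 ∨ x = p ∨ x = q ∨ x = p * q := by
  classical
  by_contra hc
  simp only [not_or] at hc
  obtain ⟨a, b, c, d⟩ := hc
  have hpp := line_sq h hl hp
  have e1 : p * q ≠ 1 := fun e => hne (by
    calc p = p * (p * q) := by rw [e, mul_one]
      _ = q := by rw [← mul_assoc, hpp, one_mul])
  have e2 : p * q ≠ p := fun e => q1 (by simpa using e)
  have e3 : p * q ≠ q := fun e => p1 (by simpa using e)
  have hs : ({1, p, q, p * q, x} : Set G) ⊆ (l : Set G) := by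
    intro y hy
    simp only [Set.mem_insert_iff, Set.mem_singleton_iff] at hy
    rcases hy with rfl | rfl | rfl | rfl | rfl
    exacts [l.one_mem, hp, hq, l.mul_mem hp hq, hx]
  have h4 : (l : Set G).ncard = 4 := card_line h hl
  have hfin : (l : Set G).Finite := Set.finite_of_ncard_pos (by omega)
  have h5 := Set.ncard_le_ncard hs hfin
  have h6 : ({1, p, q, p * q, x} : Set G) = ((({1, p, q, p * q, x} : Finset G)) : Set G) := by simp
  rw [h6, Set.ncard_coe_finset, h4, Finset.card_insert_of_notMem, Finset.card_insert_of_notMem,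
    Finset.card_insert_of_notMem, Finset.card_insert_of_notMem, Finset.card_singleton] at h5
  · omega
  · simpa using Ne.symm d
  · simp [e3.symm, Ne.symm c]
  · simp [hne, e2.symm, Ne.symm b]
  · simp [p1.symm, q1.symm, e1.symm, Ne.symm a]

theorem line_eq (h : Oct V D z) {l : Subgroup G} (hl : Cn V l) {p q : G} (hp : p ∈ l)
    (hq : q ∈ l) (p1 : p ≠ 1) (q1 : q ≠ 1) (hne : p ≠ q) : l = zpowers p ⊔ zpowers q := by
  refine le_antisymm (fun x hx => ?_) (sup_le (zpowers_le.2 hp) (zpowers_le.2 hq))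
  rcases mem_line h hl hp hq p1 q1 hne hx with rfl | rfl | rfl | rfl
  · exact one_mem _
  · exact mem_sup_left (mem_zpowers _)
  · exact mem_sup_right (mem_zpowers _)
  · exact mul_mem_sup (mem_zpowers _) (mem_zpowers _)

theorem line_uniq (h : Oct V D z) {l l' : Subgroup G} (hl : Cn V l) (hl' : Cn V l') {p q : G}
    (hp : p ∈ l) (hq : q ∈ l) (hp' : p ∈ l') (hq' : q ∈ l') (p1 : p ≠ 1) (q1 : q ≠ 1)
    (hne : p ≠ q) : l = l' :=
  (line_eq h hl hp hq p1 q1 hne).trans (line_eq h hl' hp' hq' p1 q1 hne).symm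

theorem not_mem_zp (h : Oct V D z) {l : Subgroup G} (hl : Cn V l) {p q : G} (hp : p ∈ l)
    (q1 : q ≠ 1) (hne : p ≠ q) : q ∉ zpowers p := by
  rw [mem_zp (line_sq h hl hp)]
  rintro (e | e)
  · exact q1 e
  · exact hne e.symm

theorem five (h : Oct V D z) {p : G} (hp : IsConj z p) : {l | Cn V l ∧ p ∈ l}.ncard = 5 := by
  obtain ⟨g, ho⟩ := pt h hp
  simpa only [cn_left] using ho.five

/-- a point of another line through `p` is not in `Q_v` -/
theorem far (h : Oct V D z) {l l' : Subgroup G} (hl : Cn V l) (hl' : Cn V l') {p v a : G}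
    (hp : p ∈ l) (hp' : p ∈ l') (p1 : p ≠ 1) (hv : v ∈ l) (v1 : v ≠ 1) (hne : p ≠ v) (ha : a ∈ l')
    (hal : a ∉ l) : a ∉ Qp V v := by
  obtain ⟨g, -, -, ho, e1, -, e3⟩ := flag h hl hp p1
  intro hq
  have := ho.far v hv (not_mem_zp h hl hp v1 hne) l' ((e1 _).2 hl') hp' fun e => hal (e ▸ ha)
  rw [e3] at this
  exact hal (zpowers_le.2 hp (this ▸ (⟨ha, hq⟩ : a ∈ l' ⊓ Qp V v)))

theorem fix_one (h : Oct V D z) {l l' : Subgroup G} (hl : Cn V l) (hl' : Cn V l') {p t : G}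
    (hp : p ∈ l) (hp' : p ∈ l') (p1 : p ≠ 1) (ht : t * p = p * t) (h2 : t * t = 1)
    (hq : t ∉ Qp V p) (hn : t ∈ 𝐍[l]) (hn' : t ∈ 𝐍[l']) : l' = l := by
  obtain ⟨g, -, -, ho, e1, -, e3⟩ := flag h hl hp p1
  exact ho.fix_one t ⟨mem_centralizer_singleton_iff.2 ht, hn⟩ h2 (by rwa [e3]) l' ((e1 _).2 hl')
    hp' hn'

theorem u_idx (h : Oct V D z) {l : Subgroup G} (hl : Cn V l) {p v : G} (hp : p ∈ l) (p1 : p ≠ 1)
    (hv : v ∈ l) (v1 : v ≠ 1) (hne : p ≠ v) {x y : G} (hx : x ∈ Up V p) (hy : y ∈ Up V p)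
    (hx' : x ∉ Qp V v) (hy' : y ∉ Qp V v) : x * y ∈ Qp V v := by
  obtain ⟨g, -, -, ho, -, e2, e3⟩ := flag h hl hp p1
  have h2 := ho.U_idx v hv (not_mem_zp h hl hp v1 hne)
  rw [e2, e3] at h2
  have := (mul_mem_iff_of_index_two h2 (a := ⟨x, hx⟩) (b := ⟨y, hy⟩)).2
    (by simp only [mem_subgroupOf, hx', hy'])
  exact this

theorem q_comm (h : Oct V D z) {p : G} (hp : IsConj z p) {x y : G} (hx : x ∈ Qp V p)
    (hy : y ∈ Qp V p) : ⁅x, y⁆ ∈ Up V p := by
  obtain ⟨g, ho⟩ := pt h hp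
  have := ho.Q_comm
  rw [up_left, qp_left] at this
  exact this (commutator_mem_commutator hx hy)

theorem invol (h : Oct V D z) {p : G} (hp : IsConj z p) {t : G} (ht : t * p = p * t)
    (h2 : t * t = 1) : ∃ l, Cn V l ∧ p ∈ l ∧ ∃ q ∈ l, q ≠ 1 ∧ t ∈ Up V q := by
  obtain ⟨g, ho⟩ := pt h hp
  simpa only [cn_left, up_left] using ho.invol t (mem_centralizer_singleton_iff.2 ht) h2

theorem mem_norm_of_comm {l : Subgroup G} {x : G} (h : ∀ y ∈ l, x * y = y * x) : x ∈ 𝐍[l] :=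
  centralizer_le_normalizer' l fun y hy => (h y hy).symm

theorem u_le_q (h : Oct V D z) {p : G} (hp : IsConj z p) : Up V p ≤ Qp V p := fun _ hx =>
  mem_qp.2 ⟨u_comm h hp hx (self_mem_u h hp), fun _ hl hm =>
    mem_norm_of_comm fun _ hy => u_comm h hp hx (le_up hl hm hy)⟩

theorem comm_uq (h : Oct V D z) {p : G} (hp : IsConj z p) {u q : G} (hu : u ∈ Up V p)
    (hq : q ∈ Qp V p) : ⁅u, q⁆ ∈ zpowers p := by
  have p1 := (exists_line h hp).1
  have hpp := u_sq h hp (self_mem_u h hp)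
  have hqp := (mem_qp.1 hq).1
  let X : Subgroup G :=
    { carrier := {u | u ∈ Up V p ∧ ⁅u, q⁆ ∈ zpowers p}
      one_mem' := ⟨one_mem _, by simp⟩
      mul_mem' := by
        rintro a b ⟨ha, ha'⟩ ⟨hb, hb'⟩
        refine ⟨mul_mem ha hb, ?_⟩
        have e : ⁅a * b, q⁆ = a * ⁅b, q⁆ * a⁻¹ * ⁅a, q⁆ := by
          simp only [commutatorElement_def]; group
        have e2 : a * ⁅b, q⁆ = ⁅b, q⁆ * a :=
          u_comm h hp ha (zpowers_le.2 (self_mem_u h hp) hb')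
        rw [e, e2, mul_inv_cancel_right]
        exact mul_mem hb' ha'
      inv_mem' := by
        rintro a ⟨ha, ha'⟩
        refine ⟨inv_mem ha, ?_⟩
        rwa [inv_eq_of_mul_eq_one_left (u_sq h hp ha)] }
  have : Up V p ≤ X := by
    refine sSup_le fun l hl a ha => ⟨le_up hl.1 hl.2 ha, ?_⟩
    have hn := (mem_qp.1 hq).2 l hl.1 hl.2
    have ha' : q * a * q⁻¹ ∈ l := Amb.conj_mem_of_mem_normalizer hn ha
    have haa := line_sq h hl.1 ha
    have e : ⁅a, q⁆ = a * (q * a * q⁻¹) := by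
      rw [commutatorElement_def, inv_eq_of_mul_eq_one_left haa]; group
    rw [e, mem_zp hpp]
    by_cases a1 : a = 1
    · left; rw [a1]; group
    by_cases ap : p = a
    · left; rw [← ap, hqp, mul_inv_cancel_right, hpp]
    rcases mem_line h hl.1 hl.2 ha p1 a1 ap ha' with e1 | e1 | e1 | e1
    · exact absurd (conj_eq_one_iff.1 e1) a1
    · exfalso; apply ap
      have : q * a * q⁻¹ = q * p * q⁻¹ := by rw [e1, hqp, mul_inv_cancel_right]
      exact (conj_inj'.1 this).symm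
    · left; rw [e1, haa]
    · right; rw [e1, line_comm h hl.1 hl.2 ha, ← mul_assoc, haa, one_mul]
  exact (this hu).2

/-! ### elements of `D ∖ V` -/

/-- `c` belongs to the line `l` -/
def CT (V D : Subgroup G) (c : G) (l : Subgroup G) : Prop :=
  ∃ g : G, l = cj(g, V) ∧ c ∈ cj(g, D) ∧ c ∉ l

theorem c_unique (h : Oct V D z) {g c : G} (h1 : c ∈ D) (h2 : c ∉ V) (h3 : c ∈ cj(g, D))
    (h4 : c ∉ cj(g, V)) : cj(g, V) = V := by
  rw [mem_cj] at h3 h4
  obtain ⟨n, hn, e⟩ := h.c_trans c h1 h2 _ h3 h4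
  have : g * n ∈ 𝐂₁[c] := by
    rw [mem_centralizer_singleton_iff]
    calc g * n * c = g * (n * c * n⁻¹) * n := by group
      _ = c * (g * n) := by rw [e]; group
  exact cj_of_mem_normalizer (((𝐍[V]).mul_mem_cancel_right hn).1 (h.c_cent c h1 h2 this))

theorem CT.ln {c : G} {l : Subgroup G} (hc : CT V D c l) : Cn V l := ⟨_, hc.choose_spec.1⟩

theorem CT.not_mem {c : G} {l : Subgroup G} (hc : CT V D c l) : c ∉ l := hc.choose_spec.2.2

theorem CT.ne_one {c : G} {l : Subgroup G} (hc : CT V D c l) : c ≠ 1 :=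
  fun e => hc.not_mem (e ▸ l.one_mem)

theorem CT.cj {c : G} {l : Subgroup G} (hc : CT V D c l) (g : G) :
    CT V D (g * c * g⁻¹) cj(g, l) := by
  obtain ⟨x, rfl, h1, h2⟩ := hc
  exact ⟨g * x, (cj_mul _ _ _).symm, by rw [cj_mul]; exact conj_mem_cj g h1,
    by rwa [conj_mem_cj_iff]⟩

theorem cj_D_eq (h : Oct V D z) {g g' : G} (e : cj(g, V) = cj(g', V)) : cj(g, D) = cj(g', D) := by
  have : g'⁻¹ * g ∈ 𝐍[V] := by rw [← cj_eq_iff, cj_mul, e, cj_inv_cj]
  rw [← h.normD, ← cj_eq_iff, cj_mul] at this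
  rw [← cj_cj_inv g' cj(g, D), this]

theorem CT.uniq (h : Oct V D z) {c : G} {l l' : Subgroup G} (hc : CT V D c l)
    (hc' : CT V D c l') : l = l' := by
  obtain ⟨x, rfl, h1, h2⟩ := hc
  obtain ⟨y, rfl, h3, h4⟩ := hc'
  have := c_unique (oct_cj h x) (g := y * x⁻¹) h1 h2 (by rwa [← cj_mul, inv_mul_cancel_right])
    (by rwa [← cj_mul, inv_mul_cancel_right])
  rw [← cj_mul, inv_mul_cancel_right] at this
  exact this.symm

theorem CT.not_conj (h : Oct V D z) {c : G} {l : Subgroup G} (hc : CT V D c l) :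
    ¬ IsConj z c := by
  obtain ⟨x, rfl, h1, h2⟩ := hc
  exact fun e => (oct_cj h x).c_not c h1 h2 ((isConj_iff.2 ⟨x, rfl⟩).symm.trans e)

theorem CT.not_mem_line (h : Oct V D z) {c : G} {l l' : Subgroup G} (hc : CT V D c l)
    (hl' : Cn V l') : c ∉ l' := fun e => hc.not_conj h (isConj_of_mem h hl' e hc.ne_one)

theorem CT.cent (h : Oct V D z) {c : G} {l : Subgroup G} (hc : CT V D c l) {t : G}
    (ht : t * c = c * t) : t ∈ 𝐍[l] := by
  obtain ⟨x, rfl, h1, h2⟩ := hc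
  exact (oct_cj h x).c_cent c h1 h2 (mem_centralizer_singleton_iff.2 ht)

theorem CT.mem_u (h : Oct V D z) {c : G} {l : Subgroup G} (hc : CT V D c l) {p : G} (hp : p ∈ l)
    (p1 : p ≠ 1) : c ∈ Up V p := by
  obtain ⟨g, e, -, ho, -, e2, -⟩ := flag h hc.ln hp p1
  obtain ⟨x, e', h1, -⟩ := hc
  rw [← e2]
  exact ho.D_le (cj_D_eq h (e'.symm.trans e) ▸ h1)

theorem CT.mul (h : Oct V D z) {c : G} {l : Subgroup G} (hc : CT V D c l) {v : G} (hv : v ∈ l) :
    CT V D (c * v) l := by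
  obtain ⟨x, rfl, h1, h2⟩ := hc
  exact ⟨x, rfl, mul_mem h1 (cj_mono x h.V_le hv), by rwa [Subgroup.mul_mem_cancel_right _ hv]⟩

theorem relIndex_VD (h : Oct V D z) : V.relIndex D = 2 := by
  have h1 := relIndex_mul_relIndex ⊥ V D bot_le h.V_le
  rw [relIndex_bot_left, relIndex_bot_left, h.four, h.cardD] at h1
  omega

theorem CT.mul_mem (h : Oct V D z) {c c' : G} {l : Subgroup G} (hc : CT V D c l)
    (hc' : CT V D c' l) : c * c' ∈ l := by
  obtain ⟨x, rfl, h1, h2⟩ := hc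
  obtain ⟨y, e, h3, h4⟩ := hc'
  rw [← cj_D_eq h e] at h3
  exact (mul_mem_iff_of_index_two (relIndex_VD (oct_cj h x)) (a := ⟨c, h1⟩) (b := ⟨c', h3⟩)).2
    (by simp only [mem_subgroupOf, h2, h4])

theorem exists_ct (h : Oct V D z) {l : Subgroup G} (hl : Cn V l) : ∃ c, CT V D c l := by
  obtain ⟨g, rfl⟩ := hl
  have : ¬ D ≤ V := fun e => by
    have := relIndex_VD h
    rw [relIndex_eq_one.2 e] at this
    omega
  obtain ⟨c, h1, h2⟩ := SetLike.not_le_iff_exists.1 this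
  exact ⟨_, g, rfl, conj_mem_cj g h1, by rwa [conj_mem_cj_iff]⟩

theorem cover (h : Oct V D z) {p : G} (hp : IsConj z p) {u : G} (hu : u ∈ Up V p) :
    ∃ l, Cn V l ∧ p ∈ l ∧ (u ∈ l ∨ CT V D u l) := by
  obtain ⟨g, ho⟩ := pt h hp
  obtain ⟨k, hk, e⟩ := ho.U_cover u (by rwa [up_left])
  rw [← cj_mul] at e
  refine ⟨cj(k * g, V), ⟨_, rfl⟩, ?_, ?_⟩
  · rw [cj_mul]
    have := conj_mem_cj k ho.z_mem
    rwa [mem_centralizer_singleton_iff.1 hk, mul_inv_cancel_right] at this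
  · by_cases hc : u ∈ cj(k * g, V)
    · exact Or.inl hc
    · exact Or.inr ⟨_, rfl, e, hc⟩

/-- `U_p ∩ U_q = D` -/
theorem inf_u (h : Oct V D z) {l : Subgroup G} (hl : Cn V l) {p q : G} (hp : p ∈ l) (hq : q ∈ l)
    (p1 : p ≠ 1) (q1 : q ≠ 1) (hne : p ≠ q) {u : G} (hu : u ∈ Up V p) (hu' : u ∈ Up V q) :
    u ∈ l ∨ CT V D u l := by
  by_cases hul : u ∈ l
  · exact Or.inl hul
  right
  have cp := isConj_of_mem h hl hp p1
  have cq := isConj_of_mem h hl hq q1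
  obtain ⟨l1, a1, a2, a3 | a3⟩ := cover h cp hu
  · exact absurd (u_le_q h cq hu') (far h hl a1 hp a2 p1 hq q1 hne a3 hul)
  obtain ⟨l2, b1, b2, b3 | b3⟩ := cover h cq hu'
  · exact absurd b3 (a3.not_mem_line h b1)
  have e := a3.uniq h b3
  subst e
  rwa [line_uniq h hl a1 hp hq a2 b2 p1 q1 hne]

/-- three lines through a point are independent -/
theorem indep [Finite G] (h : Oct V D z) {l₁ l₂ l₃ : Subgroup G} (h₁ : Cn V l₁) (h₂ : Cn V l₂) (h₃ : Cn V l₃)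
    {p a b : G} (p1 : p ≠ 1) (m₁ : p ∈ l₁) (m₂ : p ∈ l₂) (m₃ : p ∈ l₃) (ha : a ∈ l₁) (hb : b ∈ l₂)
    (hab : a * b ∈ l₃) (na : a ∉ zpowers p) (nb : b ∉ zpowers p) : a * b ∈ zpowers p := by
  classical
  have cp := isConj_of_mem h h₁ m₁ p1
  by_contra nab
  have : ¬ {l | Cn V l ∧ p ∈ l} ⊆ {l₁, l₂, l₃} := fun e => by
    have h3 := Set.ncard_le_ncard e
    have h4 : ({l₁, l₂, l₃} : Set (Subgroup G)).ncard ≤ 3 := by
      have := Set.ncard_insert_le l₁ {l₂, l₃}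
      have := Set.ncard_insert_le l₂ {l₃}
      rw [Set.ncard_singleton] at this
      omega
    rw [five h cp] at h3
    omega
  obtain ⟨l, ⟨hl, hm⟩, hn⟩ := Set.not_subset.1 this
  simp only [Set.mem_insert_iff, Set.mem_singleton_iff, not_or] at hn
  have hpp := line_sq h hl hm
  have : ¬ l ≤ zpowers p := fun e => by
    have h3 := card_le_of_le e
    rw [card_line h hl, Nat.card_zpowers] at h3
    have : orderOf p ≤ 2 := orderOf_le_of_pow_eq_one two_pos (by rw [pow_two, hpp])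
    omega
  obtain ⟨v, hv, hv'⟩ := SetLike.not_le_iff_exists.1 this
  rw [mem_zp hpp, not_or] at hv'
  have key : ∀ l', Cn V l' → p ∈ l' → l ≠ l' → ∀ x ∈ l', x ∉ zpowers p → x ∉ Qp V v := by
    intro l' hl' hm' hne x hx hx'
    refine far h hl hl' hm hm' p1 hv hv'.1 (Ne.symm hv'.2) hx fun e => hne ?_
    rw [mem_zp hpp, not_or] at hx'
    exact line_uniq h hl hl' hm e hm' hx p1 hx'.1 (Ne.symm hx'.2)
  exact key l₃ h₃ m₃ hn.2.2 _ hab nab (u_idx h hl hm p1 hv hv'.1 (Ne.symm hv'.2) (le_up h₁ m₁ ha)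
    (le_up h₂ m₂ hb) (key l₁ h₁ m₁ hn.1 a ha na) (key l₂ h₂ m₂ hn.2.1 b hb nb))

end Cfsg.Agent.NG.OctA
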