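import Mathlib
import Cfsg.Agent.NG.Oct1_a

/-! Short paths in the octagon. -/

set_option autoImplicit false

namespace Cfsg.Agent.NG.OctA

open Subgroup Cfsg.Agent.PLocal Cfsg.Agent.PLocal.Amb Cfsg.Agent.PLocal.CP Cfsg.Agent.PLocal.JC
open scoped commutatorElement

variable {G : Type*} [Group G]

variable {V D : Subgroup G} {z : G}

/-- distinct collinear points -/
structure Col (V : Subgroup G) (a b : G) : Prop where
  l1 : a ≠ 1
  r1 : b ≠ 1
  ne : a ≠ b
  ln : Cn V (zpowers a ⊔ zpowers b)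

theorem ml (a b : G) : a ∈ zpowers a ⊔ zpowers b := mem_sup_left (mem_zpowers a)

theorem mr (a b : G) : b ∈ zpowers a ⊔ zpowers b := mem_sup_right (mem_zpowers b)

theorem Col.symm {a b : G} (h : Col V a b) : Col V b a :=
  ⟨h.r1, h.l1, h.ne.symm, by rw [sup_comm]; exact h.ln⟩

theorem Col.of_line (h : Oct V D z) {l : Subgroup G} (hl : Cn V l) {a b : G} (ha : a ∈ l)
    (hb : b ∈ l) (a1 : a ≠ 1) (b1 : b ≠ 1) (hne : a ≠ b) : Col V a b :=
  ⟨a1, b1, hne, line_eq h hl ha hb a1 b1 hne ▸ hl⟩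

theorem Col.eq (h : Oct V D z) {a b : G} (c : Col V a b) {l : Subgroup G} (hl : Cn V l)
    (ha : a ∈ l) (hb : b ∈ l) : l = zpowers a ⊔ zpowers b := line_eq h hl ha hb c.l1 c.r1 c.ne

theorem Col.cl (h : Oct V D z) {a b : G} (c : Col V a b) : IsConj z a :=
  isConj_of_mem h c.ln (ml a b) c.l1

theorem Col.cr (h : Oct V D z) {a b : G} (c : Col V a b) : IsConj z b := c.symm.cl h

theorem Col.mem_u {a b : G} (c : Col V a b) : a ∈ Up V b := le_up c.ln (mr a b) (ml a b)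

theorem Col.sq (h : Oct V D z) {a b : G} (c : Col V a b) : a * a = 1 := line_sq h c.ln (ml a b)

theorem Col.comm (h : Oct V D z) {a b : G} (c : Col V a b) : a * b = b * a :=
  line_comm h c.ln (ml a b) (mr a b)

theorem Col.cj {a b : G} (c : Col V a b) (g : G) : Col V (g * a * g⁻¹) (g * b * g⁻¹) :=
  ⟨conj_ne_one.2 c.l1, conj_ne_one.2 c.r1, fun e => c.ne (conj_inj'.1 e), by
    rw [← cj_zp, ← cj_zp, ← cj_sup]; exact cn_cj c.ln g⟩

/-- a path of length two without backtracking -/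
structure Tri (V : Subgroup G) (a b c : G) : Prop where
  c1 : Col V a b
  c2 : Col V b c
  nb : c ∉ zpowers a ⊔ zpowers b

theorem Tri.symm (h : Oct V D z) {a b c : G} (t : Tri V a b c) : Tri V c b a :=
  ⟨t.c2.symm, t.c1.symm, fun e => t.nb (by
    rw [← t.c1.eq h t.c2.symm.ln e (mr c b)]; exact ml c b)⟩

theorem Tri.nb' (h : Oct V D z) {a b c : G} (t : Tri V a b c) : a ∉ zpowers b ⊔ zpowers c := by
  rw [sup_comm]; exact (t.symm h).nb

theorem Tri.cj {a b c : G} (t : Tri V a b c) (g : G) :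
    Tri V (g * a * g⁻¹) (g * b * g⁻¹) (g * c * g⁻¹) :=
  ⟨t.c1.cj g, t.c2.cj g, by rw [← cj_zp, ← cj_zp, ← cj_sup, conj_mem_cj_iff]; exact t.nb⟩

theorem Tri.comm (h : Oct V D z) {a b c : G} (t : Tri V a b c) : a * c = c * a :=
  u_comm h (t.c1.cr h) t.c1.mem_u t.c2.symm.mem_u

theorem Tri.ne {a b c : G} (t : Tri V a b c) : a ≠ c := fun e => t.nb (e ▸ ml a b)

theorem Tri.not_q (h : Oct V D z) {a b c : G} (t : Tri V a b c) : a ∉ Qp V c :=
  far h t.c2.ln t.c1.ln (ml b c) (mr a b) t.c1.r1 (mr b c) t.c2.r1 t.c2.ne (ml a b) (t.nb' h)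

theorem Tri.norm (h : Oct V D z) {a b c : G} (t : Tri V a b c) :
    a ∈ 𝐍[zpowers b ⊔ zpowers c] :=
  (mem_qp.1 (u_le_q h (t.c1.cr h) t.c1.mem_u)).2 _ t.c2.ln (ml b c)

theorem Tri.fix (h : Oct V D z) {a b c : G} (t : Tri V a b c) {l : Subgroup G} (hl : Cn V l)
    (hc : c ∈ l) (hn : a ∈ 𝐍[l]) : l = zpowers b ⊔ zpowers c :=
  fix_one h t.c2.ln hl (mr b c) hc t.c2.r1 (t.comm h) (t.c1.sq h) (t.not_q h) (t.norm h) hn

theorem Tri.not_fix (h : Oct V D z) {a b c : G} (t : Tri V a b c) {l : Subgroup G} (hl : Cn V l)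
    (hc : c ∈ l) (hb : b ∉ l) : a ∉ 𝐍[l] := fun hn => hb (t.fix h hl hc hn ▸ ml b c)

theorem Tri.not_ln (h : Oct V D z) {a b c : G} (t : Tri V a b c) :
    ¬ Cn V (zpowers a ⊔ zpowers c) := fun hl =>
  t.nb' h (t.fix h hl (mr a c) (le_normalizer (ml a c)) ▸ ml a c)

theorem Tri.uniq (h : Oct V D z) {a b b' c : G} (t : Tri V a b c) (t' : Tri V a b' c) : b = b' := by
  by_contra hne
  have e1 := t.fix h t'.c2.ln (mr b' c) (t'.norm h)
  have e2 := (t.symm h).fix h (t'.symm h).c2.ln (mr b' a) ((t'.symm h).norm h)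
  have e3 : zpowers b ⊔ zpowers c = zpowers b ⊔ zpowers a :=
    line_uniq h t.c2.ln t.c1.symm.ln (ml b c) (e1 ▸ ml b' c) (ml b a) (e2 ▸ ml b' a) t.c1.r1
      t'.c1.r1 hne
  exact t.nb' h (e3 ▸ mr b a)

theorem mem_norm_line [Finite G] {g c d : G} (hc : g * c = c * g)
    (hd : g * d * g⁻¹ ∈ zpowers c ⊔ zpowers d) : g ∈ 𝐍[zpowers c ⊔ zpowers d] := by
  apply mem_normalizer_of_cj_le
  rw [cj_sup, cj_zp, cj_zp, hc, mul_inv_cancel_right]
  exact sup_le le_sup_left (zpowers_le.2 hd)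

/-- the commutator of two points at distance three -/
theorem ct_three [Finite G] (h : Oct V D z) {a b c d : G} (t : Tri V a b c) (t' : Tri V b c d) :
    CT V D ⁅a, d⁆ (zpowers b ⊔ zpowers c) := by
  have haa := t.c1.sq h
  have hdd := t'.c2.symm.sq h
  have hcc := t'.c2.sq h
  have ia : a⁻¹ = a := inv_eq_of_mul_eq_one_left haa
  have id : d⁻¹ = d := inv_eq_of_mul_eq_one_left hdd
  have hac := t.comm h
  have hbd := t'.comm h
  have e1 : ⁅a, d⁆ = (a * d * a⁻¹) * d := by rw [commutatorElement_def, id]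
  have e2 : ⁅a, d⁆ = a * (d * a * d⁻¹) := by rw [commutatorElement_def, ia, id]; group
  have m1 : a * d * a⁻¹ ∈ Up V c := by
    have := conj_mem_cj a t'.c2.symm.mem_u
    rwa [← up_cj, hac, mul_inv_cancel_right] at this
  have m2 : d * a * d⁻¹ ∈ Up V b := by
    have := conj_mem_cj d t.c1.mem_u
    rwa [← up_cj, ← hbd, mul_inv_cancel_right] at this
  have u1 : ⁅a, d⁆ ∈ Up V c := e1 ▸ mul_mem m1 t'.c2.symm.mem_u
  have u2 : ⁅a, d⁆ ∈ Up V b := e2 ▸ mul_mem t.c1.mem_u m2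
  refine (inf_u h t.c2.ln (ml b c) (mr b c) t.c2.l1 t.c2.r1 t.c2.ne u2 u1).resolve_left fun hw => ?_
  have nf : a ∉ 𝐍[zpowers c ⊔ zpowers d] := t.not_fix h t'.c2.ln (ml c d) (t'.nb' h)
  have e3 : ⁅a, d⁆ * d = a * d * a⁻¹ := by rw [e1, mul_assoc, hdd, mul_one]
  have nw : ⁅a, d⁆ ∉ zpowers c := fun e => nf (mem_norm_line hac (by
    rw [← e3]; exact mul_mem_sup e (mem_zpowers d)))
  have nd : d ∉ zpowers c := not_mem_zp h t'.c2.ln (ml c d) t'.c2.r1 t'.c2.ne
  have k := indep h t.c2.ln t'.c2.ln (cn_cj t'.c2.ln a) t.c2.r1 (mr b c) (ml c d)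
    (by have := conj_mem_cj a (ml c d); rwa [hac, mul_inv_cancel_right] at this) hw (mr c d)
    (by rw [e3]; exact conj_mem_cj a (mr c d)) nw nd
  rw [e3] at k
  exact nf (mem_norm_line hac (mem_sup_left k))

theorem comm_eq_sq {a d : G} (ha : a * a = 1) (hd : d * d = 1) : ⁅a, d⁆ = (a * d) ^ 2 := by
  rw [commutatorElement_def, inv_eq_of_mul_eq_one_left ha, inv_eq_of_mul_eq_one_left hd, pow_two]
  group

theorem three_pow [Finite G] (h : Oct V D z) {a b c d : G} (t : Tri V a b c) (t' : Tri V b c d) :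
    a * d ≠ d * a ∧ (a * d) ^ 4 = 1 := by
  have k := ct_three h t t'
  refine ⟨fun e => k.ne_one (commutatorElement_eq_one_iff_mul_comm.2 e), ?_⟩
  have := u_sq h (t.c1.cr h) (k.mem_u h (ml b c) t.c1.r1)
  rw [comm_eq_sq (t.c1.sq h) (t'.c2.symm.sq h)] at this
  rw [← this]; group

theorem uniq_on_line (h : Oct V D z) {a b b' : G} {l : Subgroup G} (hl : Cn V l) (hb : b ∈ l)
    (hb' : b' ∈ l) (ha : a ∉ l) (c : Col V a b) (c' : Col V a b') : b = b' := by
  by_contra hne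
  have c2 := Col.of_line h hl hb hb' c.r1 c'.r1 hne
  refine Tri.not_ln h ⟨c, c2, fun e => ha ?_⟩ c'.ln
  rw [c2.eq h hl hb hb', ← c2.eq h c.ln (mr a b) e]
  exact ml a b

theorem uniq_three [Finite G] (h : Oct V D z) {a b c b' c' d : G} (t : Tri V a b c)
    (t' : Tri V b c d) (s : Tri V a b' c') (s' : Tri V b' c' d) : b = b' ∧ c = c' := by
  have e := (ct_three h t t').uniq h (ct_three h s s')
  exact ⟨uniq_on_line h t.c2.ln (ml b c) (e ▸ ml b' c') (t.nb' h) t.c1 s.c1,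
    uniq_on_line h t.c2.ln (mr b c) (e ▸ mr b' c') t'.nb t'.c2.symm s'.c2.symm⟩

/-- a 2-group centralizing a point normalizes a line through it -/
theorem exists_fixed_line [Finite G] (h : Oct V D z) {p : G} (hp : IsConj z p) {P : Subgroup G}
    (hP : IsPGroup 2 P) (hc : P ≤ 𝐂₁[p]) : ∃ l, Cn V l ∧ p ∈ l ∧ P ≤ 𝐍[l] := by
  have : Fact (Nat.Prime 2) := ⟨Nat.prime_two⟩
  let X := {l : Subgroup G | Cn V l ∧ p ∈ l}
  let _ : MulAction P X :=
    { smul := fun g l => ⟨cj((g : G), l.1), cn_cj l.2.1 _, by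
        have := conj_mem_cj (g : G) l.2.2
        rwa [mem_centralizer_singleton_iff.1 (hc g.2), mul_inv_cancel_right] at this⟩
      one_smul := fun l => Subtype.ext (cj_one l.1)
      mul_smul := fun a b l => Subtype.ext (cj_mul (a : G) b l.1) }
  have h5 : Nat.card X = 5 := five h hp
  obtain ⟨l, hl⟩ := hP.nonempty_fixed_point_of_prime_not_dvd_card X (by rw [h5]; norm_num)
  exact ⟨l.1, l.2.1, l.2.2, fun g hg => cj_eq_iff.1 (congrArg Subtype.val (hl ⟨g, hg⟩))⟩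

theorem four_pow [Finite G] (h : Oct V D z) {a b c d e : G} (t : Tri V a b c) (t' : Tri V b c d)
    (t'' : Tri V c d e) : (a * e) ^ 4 ≠ 1 := by
  intro h4
  have haa := t.c1.sq h
  have hee := t''.c2.symm.sq h
  have hn : zpowers a ≤ 𝐍[zpowers (a * e)] := by
    have e1 : a * (a * e) * a⁻¹ = (a * e)⁻¹ := by
      rw [← mul_assoc, haa, one_mul, mul_inv_rev, inv_eq_of_mul_eq_one_left hee]
    rw [zpowers_le, ← cj_eq_iff, cj_zp, e1, zpowers_inv]
  have hP : IsPGroup 2 ↥(zpowers a ⊔ zpowers (a * e)) :=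
    isPGroup_sup (isPGroup_zpowers ⟨1, by rw [pow_one, pow_two, haa]⟩)
      (isPGroup_zpowers ⟨2, h4⟩) hn
  have ha : a ∈ 𝐂₁[c] := mem_centralizer_singleton_iff.2 (t.comm h)
  have he : e ∈ 𝐂₁[c] := mem_centralizer_singleton_iff.2 (t''.comm h).symm
  obtain ⟨l, hl, hc, hN⟩ := exists_fixed_line h (t.c2.cr h) hP
    (sup_le (zpowers_le.2 ha) (zpowers_le.2 (mul_mem ha he)))
  have n1 := hN (ml _ _)
  have n2 : e ∈ 𝐍[l] := ((𝐍[l]).mul_mem_cancel_left n1).1 (hN (mr _ _))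
  have e1 := t.fix h hl hc n1
  have e2 := (t''.symm h).fix h hl hc n2
  exact t'.nb (e1 ▸ e2 ▸ ml d c)

/-- a path of points without backtracking -/
structure NP (V : Subgroup G) (n : ℕ) (p : ℕ → G) : Prop where
  ne_one : ∀ i ≤ n, p i ≠ 1
  col : ∀ i < n, p i ≠ p (i + 1) ∧ Cn V (zpowers (p i) ⊔ zpowers (p (i + 1)))
  nb : ∀ i, i + 2 ≤ n → p (i + 2) ∉ zpowers (p i) ⊔ zpowers (p (i + 1))

theorem np_of_nb {n : ℕ} {p : ℕ → G} {l : Subgroup G} (h : NB V n p l) : NP V n p :=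
  ⟨h.ne_one, h.col, h.nb⟩

theorem NP.cl {n : ℕ} {p : ℕ → G} (h : NP V n p) {i : ℕ} (hi : i < n) : Col V (p i) (p (i + 1)) :=
  ⟨h.ne_one i hi.le, h.ne_one _ hi, (h.col i hi).1, (h.col i hi).2⟩

theorem NP.tri {n : ℕ} {p : ℕ → G} (h : NP V n p) {i : ℕ} (hi : i + 2 ≤ n) :
    Tri V (p i) (p (i + 1)) (p (i + 2)) := ⟨h.cl (by omega), h.cl (i := i + 1) (by omega), h.nb i hi⟩

theorem NP.mono {m n : ℕ} {p : ℕ → G} (h : NP V n p) (hm : m ≤ n) : NP V m p :=
  ⟨fun i hi => h.ne_one i (by omega), fun i hi => h.col i (by omega), fun i hi => h.nb i (by omega)⟩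

theorem NP.nb_line {n : ℕ} {p : ℕ → G} (ho : Oct V D z) (h : NP V (n + 1) p) :
    NB V n p (zpowers (p n) ⊔ zpowers (p (n + 1))) :=
  ⟨(h.mono (by omega)).ne_one, (h.mono (by omega)).col, (h.mono (by omega)).nb,
    (h.col n (by omega)).2, ml _ _, by
      rintro i rfl
      exact (h.tri le_rfl).nb' ho⟩

theorem np_update (h : Oct V D z) {n : ℕ} {p : ℕ → G} {l : Subgroup G} (hp : NB V n p l) {q : G}
    (hq : q ∈ l) (q1 : q ≠ 1) (hne : q ≠ p n) : NP V (n + 1) (Function.update p (n + 1) q) := by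
  have c := Col.of_line h hp.ln hp.mem hq (hp.ne_one n le_rfl) q1 hne.symm
  refine ⟨fun i hi => ?_, fun i hi => ?_, fun i hi => ?_⟩
  · by_cases e : i = n + 1
    · rw [e, Function.update_self]; exact q1
    · rw [Function.update_of_ne e]; exact hp.ne_one i (by omega)
  · rw [Function.update_of_ne (by omega)]
    by_cases e : i = n
    · rw [e, Function.update_self]; exact ⟨c.ne, c.ln⟩
    · rw [Function.update_of_ne (by omega)]; exact hp.col i (by omega)
  · rw [Function.update_of_ne (a := i) (by omega), Function.update_of_ne (a := i + 1) (by omega)]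
    by_cases e : i + 1 = n
    · subst e
      rw [Function.update_self]
      intro hm
      apply hp.last i rfl
      rw [c.eq h hp.ln hp.mem hq, ← c.eq h (hp.col i (by omega)).2 (mr _ _) hm]
      exact ml _ _
    · rw [Function.update_of_ne (by omega)]; exact hp.nb i (by omega)

theorem nb_update (h : Oct V D z) {n : ℕ} {p : ℕ → G} {l : Subgroup G} (hp : NB V n p l) {q : G}
    (hq : q ∈ l) (q1 : q ≠ 1) (hne : q ≠ p n) {l' : Subgroup G} (hl' : Cn V l') (hq' : q ∈ l')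
    (hl : l' ≠ l) : NB V (n + 1) (Function.update p (n + 1) q) l' := by
  have k := np_update h hp hq q1 hne
  refine ⟨k.ne_one, k.col, k.nb, hl', by rwa [Function.update_self], fun i hi hm => hl ?_⟩
  obtain rfl : i = n := by omega
  rw [Function.update_of_ne (by omega)] at hm
  exact line_uniq h hl' hp.ln hm hq' hp.mem hq (hp.ne_one i le_rfl) q1 hne.symm

open Classical in
/-- the distance of two points -/
noncomputable def lvl (V : Subgroup G) (x y : G) : ℕ :=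
  if x = y then 0 else if Cn V (zpowers x ⊔ zpowers y) then 1 else if x * y = y * x then 2
  else if (x * y) ^ 4 = 1 then 3 else 4

theorem NP.lvl_eq [Finite G] (h : Oct V D z) {n : ℕ} {p : ℕ → G} (hp : NP V n p) (hn : n ≤ 4) :
    lvl V (p 0) (p n) = n := by
  unfold lvl
  interval_cases n
  · rw [if_pos rfl]
  · rw [if_neg (hp.col 0 one_pos).1, if_pos (hp.col 0 one_pos).2]
  · have t := hp.tri (i := 0) le_rfl
    rw [if_neg t.ne, if_neg (t.not_ln h), if_pos (t.comm h)]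
  · obtain ⟨a, b⟩ := three_pow h (hp.tri (i := 0) (by omega)) (hp.tri (i := 1) le_rfl)
    rw [if_neg (fun e => a (by rw [e])), if_neg (fun e => a (line_comm h e (ml _ _) (mr _ _))),
      if_neg a, if_pos b]
  · have a := four_pow h (hp.tri (i := 0) (by omega)) (hp.tri (i := 1) (by omega))
      (hp.tri (i := 2) le_rfl)
    have b : p 0 * p 4 ≠ p 4 * p 0 := fun e => a (by
      have s0 := (hp.cl (i := 0) (by omega)).sq h
      have s4 := (hp.cl (i := 3) (by omega)).symm.sq h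
      have : (p 0 * p 4) ^ 2 = 1 := by
        rw [← comm_eq_sq s0 s4, commutatorElement_eq_one_iff_mul_comm, e]
      rw [show (4 : ℕ) = 2 * 2 from rfl, pow_mul, this, one_pow])
    rw [if_neg (fun e => b (by rw [e])), if_neg (fun e => b (line_comm h e (ml _ _) (mr _ _))),
      if_neg b, if_neg a]

theorem np_unique [Finite G] (h : Oct V D z) {m n : ℕ} (hm : m ≤ 4) (hn : n ≤ 3) {p q : ℕ → G}
    (hp : NP V m p) (hq : NP V n q) (h0 : p 0 = q 0) (h1 : p m = q n) :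
    m = n ∧ ∀ i ≤ n, p i = q i := by
  have e : m = n := by rw [← hp.lvl_eq h hm, h0, h1, hq.lvl_eq h (by omega)]
  subst e
  refine ⟨rfl, fun i hi => ?_⟩
  by_cases i0 : i = 0
  · rw [i0, h0]
  by_cases im : i = m
  · rw [im, h1]
  interval_cases m
  · omega
  · omega
  · obtain rfl : i = 1 := by omega
    exact (hp.tri (i := 0) le_rfl).uniq h (h0 ▸ h1 ▸ hq.tri (i := 0) le_rfl)
  · have := uniq_three h (hp.tri (i := 0) (by omega)) (hp.tri (i := 1) le_rfl)
      (h0 ▸ hq.tri (i := 0) (by omega)) (h1 ▸ hq.tri (i := 1) le_rfl)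
    rcases (by omega : i = 1 ∨ i = 2) with rfl | rfl
    exacts [this.1, this.2]

theorem nb_unique [Finite G] (h : Oct V D z) {m n : ℕ} (hm : m ≤ 3) (hn : n ≤ 3) {p q : ℕ → G}
    {l : Subgroup G} (hp : NB V m p l) (hq : NB V n q l) (h0 : p 0 = q 0) :
    m = n ∧ ∀ i ≤ n, p i = q i := by
  by_cases e : q n = p m
  · exact np_unique h (by omega) hn (np_of_nb hp) (np_of_nb hq) h0 e.symm
  · obtain ⟨e1, e2⟩ := np_unique h (by omega) hn (np_update h hp hq.mem (hq.ne_one n le_rfl) e)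
      (np_of_nb hq) (by rwa [Function.update_of_ne (by omega)]) (by rw [Function.update_self])
    have := e2 m (by omega)
    rw [Function.update_of_ne (by omega)] at this
    exact absurd (this ▸ hp.mem) (hq.last m e1)

/-- one step: a line meeting the last line of a path -/
theorem step (h : Oct V D z) {n : ℕ} {p : ℕ → G} {l l' : Subgroup G} (hp : NB V n p l) {q : G}
    (hq : q ∈ l) (q1 : q ≠ 1) (hl' : Cn V l') (hq' : q ∈ l') :
    (∃ m ≤ n, NB V m p l') ∨ (q ≠ p n ∧ l' ≠ l) := by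
  by_cases e : l' = l
  · exact Or.inl ⟨n, le_rfl, e ▸ hp⟩
  by_cases e' : q = p n
  · left
    subst e'
    by_cases hi : ∃ i, i + 1 = n ∧ p i ∈ l'
    · obtain ⟨i, rfl, hi⟩ := hi
      refine ⟨i, by omega, ?_⟩
      rw [((np_of_nb hp).cl (i := i) (by omega)).eq h hl' hi hq']
      exact (np_of_nb hp).nb_line h
    · exact ⟨n, le_rfl, hp.ne_one, hp.col, hp.nb, hl', hq', fun i e1 e2 => hi ⟨i, e1, e2⟩⟩
  · exact Or.inr ⟨e', e⟩

/-- the line is at distance at most `2 n + 1` from the point -/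
def Rch (V : Subgroup G) (n : ℕ) (u : G) (l : Subgroup G) : Prop :=
  ∃ m ≤ n, ∃ p : ℕ → G, p 0 = u ∧ NB V m p l

theorem Rch.zero {u : G} {l : Subgroup G} (hl : Cn V l) (hu : u ∈ l) (u1 : u ≠ 1) : Rch V 0 u l :=
  ⟨0, le_rfl, fun _ => u, rfl, fun _ _ => u1, fun _ hi => absurd hi (by omega),
    fun _ hi => absurd hi (by omega), hl, hu, fun _ hi => absurd hi (by omega)⟩

theorem Rch.succ (h : Oct V D z) {n : ℕ} {u : G} {l l' : Subgroup G} (hr : Rch V n u l) {q : G}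
    (hq : q ∈ l) (q1 : q ≠ 1) (hl' : Cn V l') (hq' : q ∈ l') : Rch V (n + 1) u l' := by
  obtain ⟨m, hm, p, h0, hp⟩ := hr
  rcases step h hp hq q1 hl' hq' with ⟨k, hk, e⟩ | ⟨e1, e2⟩
  · exact ⟨k, by omega, p, h0, e⟩
  · exact ⟨m + 1, by omega, _, by rwa [Function.update_of_ne (by omega)],
      nb_update h hp hq q1 e1 hl' hq' e2⟩

theorem exists_comm_invol [Finite G] {a b : G} (ha : a * a = 1) (hb : b * b = 1)
    (hn : ¬ IsConj a b) : ∃ t : G, t ≠ 1 ∧ t * t = 1 ∧ t * a = a * t ∧ t * b = b * t := by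
  have ia : a⁻¹ = a := inv_eq_of_mul_eq_one_left ha
  have ib : b⁻¹ = b := inv_eq_of_mul_eq_one_left hb
  have e1 : a * (a * b) * a⁻¹ = (a * b)⁻¹ := by
    rw [← mul_assoc, ha, one_mul, mul_inv_rev, ib]
  have e2 : ∀ k : ℕ, a * (a * b) ^ k * a⁻¹ = ((a * b) ^ k)⁻¹ := fun k => by
    rw [← conj_pow, e1, inv_pow]
  have hp := pow_orderOf_eq_one (a * b)
  have h0 := orderOf_pos (a * b)
  rcases Nat.even_or_odd' (orderOf (a * b)) with ⟨k, e | e⟩
  · have s : (a * b) ^ k * (a * b) ^ k = 1 := by rw [← pow_add, ← two_mul, ← e, hp]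
    have c : (a * b) ^ k * a = a * (a * b) ^ k := by
      have := e2 k
      rw [inv_eq_of_mul_eq_one_left s, mul_inv_eq_iff_eq_mul] at this
      exact this.symm
    refine ⟨(a * b) ^ k, pow_ne_one_of_lt_orderOf (by omega) (by omega), s, c, ?_⟩
    have c2 : (a * b) ^ k * (a * b) = (a * b) * (a * b) ^ k := by rw [← pow_succ, ← pow_succ']
    rw [← mul_assoc, c, mul_assoc, mul_assoc, mul_right_inj] at c2
    exact c2
  · exfalso
    refine hn (isConj_iff.2 ⟨(a * b) ^ k, ?_⟩)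
    have s : (a * b) ^ k * (a * b) ^ k * (a * b) = 1 := by
      rw [← pow_add, ← two_mul, ← pow_succ, ← e, hp]
    calc (a * b) ^ k * a * ((a * b) ^ k)⁻¹ = (a * b) ^ k * a * (a * (a * b) ^ k * a⁻¹) := by
          rw [e2]
      _ = (a * b) ^ k * (a * a) * (a * b) ^ k * (a * b) * b⁻¹ * a⁻¹ * a⁻¹ := by group
      _ = b := by rw [ha, mul_one, s, ia, ib, one_mul, mul_assoc, ha, mul_one]

/-- an involution centralizing a point -/
theorem near (h : Oct V D z) {p : G} (hp : IsConj z p) {t : G} (ht : t * p = p * t)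
    (h2 : t * t = 1) : ∃ l, Rch V 1 p l ∧ (∃ l', Cn V l' ∧ p ∈ l' ∧ ∃ q ∈ l', q ≠ 1 ∧ q ∈ l) ∧
      Cn V l ∧ (t ∈ l ∨ CT V D t l) := by
  obtain ⟨l', a1, a2, q, a3, a4, a5⟩ := invol h hp ht h2
  obtain ⟨l, b1, b2, b3⟩ := cover h (isConj_of_mem h a1 a3 a4) a5
  exact ⟨l, (Rch.zero a1 a2 (exists_line h hp).1).succ h a3 a4 b1 b2,
    ⟨l', a1, a2, q, a3, a4, b2⟩, b1, b3⟩

theorem exists_fixed_pt (h : Oct V D z) {l : Subgroup G} (hl : Cn V l) {t : G} (hn : t ∈ 𝐍[l])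
    (h2 : t * t = 1) : ∃ q ∈ l, q ≠ 1 ∧ t * q = q * t := by
  obtain ⟨g, rfl⟩ := id hl
  have hp := conj_mem_cj g h.z_mem
  have p1 : g * z * g⁻¹ ≠ 1 := conj_ne_one.2 h.z_ne
  generalize g * z * g⁻¹ = p at hp p1
  have hp' := Amb.conj_mem_of_mem_normalizer hn hp
  by_cases e : t * p * t⁻¹ = p
  · exact ⟨p, hp, p1, mul_inv_eq_iff_eq_mul.1 e⟩
  · refine ⟨p * (t * p * t⁻¹), mul_mem hp hp', fun e1 => e ?_, ?_⟩
    · rw [eq_inv_of_mul_eq_one_right e1, inv_eq_of_mul_eq_one_left (line_sq h hl hp)]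
    · have it : t⁻¹ = t := inv_eq_of_mul_eq_one_left h2
      calc t * (p * (t * p * t⁻¹)) = (t * p * t⁻¹) * (t * t) * p * t⁻¹ := by group
        _ = (t * p * t⁻¹) * p * t := by rw [h2, mul_one, it]
        _ = _ := by rw [line_comm h hl hp' hp]

theorem exists_nb [Finite G] (h : Oct V D z) {l : Subgroup G} (hl : Cn V l) {u : G}
    (hu : IsConj z u) : Rch V 3 u l := by
  obtain ⟨c, hc⟩ := exists_ct h hl
  obtain ⟨q0, m0, n0, -⟩ := exists_fixed_pt h hl (one_mem _) (mul_one 1)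
  have hcc : c * c = 1 := u_sq h (isConj_of_mem h hl m0 n0) (hc.mem_u h m0 n0)
  obtain ⟨t, t1, t2, tu, tc⟩ := exists_comm_invol (u_sq h hu (self_mem_u h hu)) hcc
    fun e => hc.not_conj h (hu.trans e)
  obtain ⟨l1, r1, -, a1, a2⟩ := near h hu tu t2
  have key : ∀ q ∈ l1, q ≠ 1 → c * q = q * c → Rch V 3 u l := by
    intro q hq q1 e
    obtain ⟨l2, -, ⟨l', b1, b2, q', b3, b4, b5⟩, b6, b7⟩ :=
      near h (isConj_of_mem h a1 hq q1) e hcc
    have e2 := (b7.resolve_left (hc.not_mem_line h b6)).uniq h hc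
    exact (r1.succ h hq q1 b1 b2).succ h b3 b4 hl (e2 ▸ b5)
  rcases a2 with a2 | a2
  · exact key t a2 t1 tc.symm
  · obtain ⟨q, hq, q1, e⟩ := exists_fixed_pt h a1 (a2.cent h tc.symm) hcc
    exact key q hq q1 e

theorem two_pts (h : Oct V D z) {l : Subgroup G} (hl : Cn V l) {p : G} (hp : p ∈ l) (p1 : p ≠ 1) :
    {q | q ∈ l ∧ q ≠ 1 ∧ q ≠ p}.ncard = 2 := by
  have h4 : (l : Set G).ncard = 4 := card_line h hl
  have hfin : (l : Set G).Finite := Set.finite_of_ncard_pos (by omega)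
  have e : {q | q ∈ l ∧ q ≠ 1 ∧ q ≠ p} = (l : Set G) \ {1, p} := by
    ext q; simp [not_or]
  rw [e, Set.ncard_sdiff' (by
    intro x hx
    rcases hx with rfl | rfl
    exacts [l.one_mem, hp]) hfin, h4, Set.ncard_pair p1.symm]

theorem four_lines [Finite G] (h : Oct V D z) {l : Subgroup G} (hl : Cn V l) {q : G} (hq : q ∈ l)
    (q1 : q ≠ 1) : {l' | Cn V l' ∧ q ∈ l' ∧ l' ≠ l}.ncard = 4 := by
  have e : {l' | Cn V l' ∧ q ∈ l' ∧ l' ≠ l} = {l' | Cn V l' ∧ q ∈ l'} \ {l} := by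
    ext l'; simp [and_assoc]
  rw [e, Set.ncard_sdiff_singleton_of_mem (by exact ⟨hl, hq⟩), five h (isConj_of_mem h hl hq q1)]

end Cfsg.Agent.NG.OctA
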