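import Mathlib
import Cfsg.Agent.NG.Oct1_b

set_option autoImplicit false
set_option linter.unusedSectionVars false

namespace Cfsg.Agent.NG

open Subgroup Cfsg.Agent.PLocal Cfsg.Agent.PLocal.Amb Cfsg.Agent.PLocal.CP Cfsg.Agent.PLocal.JC
open scoped commutatorElement

variable {G : Type*} [Group G] [Finite G]

variable {V D : Subgroup G} {z : G}

theorem Cn.cj {X l : Subgroup G} (h : Cn X l) (g : G) : Cn X cj(g, l) := OctA.cn_cj h g

theorem Up_cj (V : Subgroup G) (g p : G) : Up V (g * p * g⁻¹) = cj(g, Up V p) := OctA.up_cj V g p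

theorem Qp_cj (V : Subgroup G) (g p : G) : Qp V (g * p * g⁻¹) = cj(g, Qp V p) := OctA.qp_cj V g p

theorem NB.cj {n : ℕ} {p : ℕ → G} {l : Subgroup G} (h : NB V n p l) (g : G) :
    NB V n (fun i => g * p i * g⁻¹) cj(g, l) := OctA.nb_cj h g

/-- all local facts hold at every flag -/
theorem Oct.flag (h : Oct V D z) {l : Subgroup G} (hl : Cn V l) {p : G} (hp : p ∈ l) (h1 : p ≠ 1) :
    ∃ g : G, l = cj(g, V) ∧ p = g * z * g⁻¹ ∧ Oct l cj(g, D) p ∧ (∀ X, Cn l X ↔ Cn V X) ∧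
      (∀ q, Up l q = Up V q) ∧ ∀ q, Qp l q = Qp V q := OctA.flag h hl hp h1

theorem Oct.comm_Q (h : Oct V D z) : ⁅Up V z, Qp V z⁆ ≤ zpowers z ∧ Up V z ≤ Qp V z :=
  ⟨commutator_le.2 fun _ hu _ hq => OctA.comm_uq h (IsConj.refl z) hu hq,
    OctA.u_le_q h (IsConj.refl z)⟩

/-- an element `c ∈ D ∖ V` determines its line -/
theorem Oct.c_unique (h : Oct V D z) {g c : G} (h1 : c ∈ D) (h2 : c ∉ V) (h3 : c ∈ cj(g, D))
    (h4 : c ∉ cj(g, V)) : cj(g, V) = V := OctA.c_unique h h1 h2 h3 h4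

/-- a point does not normalize a line at distance 5 -/
theorem Oct.not_fix (h : Oct V D z) {p : ℕ → G} {l : Subgroup G} (hp : NB V 2 p l) :
    p 0 ∉ 𝐍[l] :=
  ((OctA.np_of_nb hp).tri (i := 0) le_rfl).not_fix h hp.ln hp.mem (hp.last 1 rfl)

/-- the girth is at least 16 -/
theorem Oct.nb_unique (h : Oct V D z) {m n : ℕ} (hm : m ≤ 3) (hn : n ≤ 3) {p q : ℕ → G}
    {l : Subgroup G} (hp : NB V m p l) (hq : NB V n q l) (h0 : p 0 = q 0) :
    m = n ∧ ∀ i ≤ n, p i = q i := OctA.nb_unique h hm hn hp hq h0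

/-- every line is at distance at most 7 from every point -/
theorem Oct.exists_nb (h : Oct V D z) {l : Subgroup G} (hl : Cn V l) {u : G} (hu : IsConj z u) :
    ∃ n ≤ 3, ∃ p : ℕ → G, p 0 = u ∧ NB V n p l := OctA.exists_nb h hl hu

/-- paths can be extended -/
theorem Oct.extend (h : Oct V D z) {n : ℕ} {p : ℕ → G} {l : Subgroup G} (hp : NB V n p l) :
    {q | q ∈ l ∧ q ≠ 1 ∧ q ≠ p n}.ncard = 2 ∧ ∀ q ∈ l, q ≠ 1 → q ≠ p n →
      {l' | Cn V l' ∧ q ∈ l' ∧ l' ≠ l}.ncard = 4 ∧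
      ∀ l', Cn V l' → q ∈ l' → l' ≠ l → NB V (n + 1) (Function.update p (n + 1) q) l' :=
  ⟨OctA.two_pts h hp.ln hp.mem (hp.ne_one n le_rfl), fun _ hq q1 hne =>
    ⟨OctA.four_lines h hp.ln hq q1, fun _ h1 h2 h3 => OctA.nb_update h hp hq q1 hne h1 h2 h3⟩⟩

end Cfsg.Agent.NG
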