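import Mathlib
import Cfsg.Agent.NG.Oct1

set_option autoImplicit false

namespace Cfsg.Agent.NG

open Subgroup Cfsg.Agent.PLocal Cfsg.Agent.PLocal.Amb Cfsg.Agent.PLocal.CP Cfsg.Agent.PLocal.JC
open scoped commutatorElement

variable {G : Type*} [Group G] [Finite G]

variable {V D : Subgroup G} {z : G}

namespace OctA

/-- the lines at distance exactly `2 n + 1` from `z` -/
def Ln (V : Subgroup G) (z : G) (n : ℕ) : Set (Subgroup G) := {l | ∃ p : ℕ → G, p 0 = z ∧ NB V n p l}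

theorem ln_disj (h : Oct V D z) {m n : ℕ} (hm : m ≤ 3) (hn : n ≤ 3) {l : Subgroup G}
    (a : l ∈ Ln V z m) (b : l ∈ Ln V z n) : m = n := by
  obtain ⟨p, p0, hp⟩ := a
  obtain ⟨q, q0, hq⟩ := b
  exact (nb_unique h hm hn hp hq (p0.trans q0.symm)).1

theorem ln_zero (h : Oct V D z) : (Ln V z 0).ncard = 5 := by
  rw [← h.five]
  congr 1
  ext l
  constructor
  · rintro ⟨p, p0, hp⟩
    exact ⟨hp.ln, p0 ▸ hp.mem⟩
  · rintro ⟨h1, h2⟩
    obtain ⟨m, hm, p, p0, hp⟩ := Rch.zero h1 h2 h.z_ne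
    obtain rfl : m = 0 := by omega
    exact ⟨p, p0, hp⟩

theorem meet_iff (h : Oct V D z) {n : ℕ} (hn : n + 1 ≤ 3) {p : ℕ → G} {l : Subgroup G}
    (p0 : p 0 = z) (hp : NB V n p l) (l' : Subgroup G) :
    (l' ∈ Ln V z (n + 1) ∧ ∃ q, q ≠ 1 ∧ q ∈ l ∧ q ∈ l') ↔
      ∃ q ∈ {q | q ∈ l ∧ q ≠ 1 ∧ q ≠ p n}, l' ∈ {l' | Cn V l' ∧ q ∈ l' ∧ l' ≠ l} := by
  constructor
  · rintro ⟨a, q, q1, h1, h2⟩
    have hl' : Cn V l' := a.choose_spec.2.ln
    rcases step h hp h1 q1 hl' h2 with ⟨m, hm, e⟩ | ⟨e1, e2⟩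
    · have := ln_disj h (by omega) hn ⟨p, p0, e⟩ a
      omega
    · exact ⟨q, ⟨h1, q1, e1⟩, hl', h2, e2⟩
  · rintro ⟨q, ⟨h1, q1, e1⟩, hl', h2, e2⟩
    exact ⟨⟨_, by rwa [Function.update_of_ne (by omega)], nb_update h hp h1 q1 e1 hl' h2 e2⟩,
      q, q1, h1, h2⟩

theorem ln_succ (h : Oct V D z) {n : ℕ} (hn : n + 1 ≤ 3) :
    (Ln V z (n + 1)).ncard = 8 * (Ln V z n).ncard := by
  classical
  have := Fintype.ofFinite (Subgroup G)
  have key := Finset.card_mul_eq_card_mul (fun l l' : Subgroup G => ∃ q, q ≠ 1 ∧ q ∈ l ∧ q ∈ l')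
    (s := (Ln V z n).toFinset) (t := (Ln V z (n + 1)).toFinset) (m := 8) (n := 1) ?_ ?_
  · rw [Set.ncard_eq_toFinset_card', Set.ncard_eq_toFinset_card']
    omega
  · intro l hl
    obtain ⟨p, p0, hp⟩ := Set.mem_toFinset.1 hl
    obtain ⟨a, b, hab, e⟩ := Set.ncard_eq_two.1 (two_pts h hp.ln hp.mem (hp.ne_one n le_rfl))
    have ha : a ∈ {q | q ∈ l ∧ q ≠ 1 ∧ q ≠ p n} := by rw [e]; simp
    have hb : b ∈ {q | q ∈ l ∧ q ≠ 1 ∧ q ≠ p n} := by rw [e]; simp
    rw [← Set.ncard_coe_finset]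
    have e2 : ((Finset.bipartiteAbove (fun l l' : Subgroup G => ∃ q, q ≠ 1 ∧ q ∈ l ∧ q ∈ l')
        (Ln V z (n + 1)).toFinset l : Finset (Subgroup G)) : Set (Subgroup G)) =
        {l' | Cn V l' ∧ a ∈ l' ∧ l' ≠ l} ∪ {l' | Cn V l' ∧ b ∈ l' ∧ l' ≠ l} := by
      ext l'
      rw [Finset.mem_coe, Finset.mem_bipartiteAbove, Set.mem_toFinset, meet_iff h hn p0 hp, e]
      simp
    rw [e2, Set.ncard_union_eq, four_lines h hp.ln ha.1 ha.2.1, four_lines h hp.ln hb.1 hb.2.1]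
    rw [Set.disjoint_left]
    rintro l' ⟨c1, c2, c3⟩ ⟨-, c4, -⟩
    exact c3 (line_uniq h c1 hp.ln c2 c4 ha.1 hb.1 ha.2.1 hb.2.1 hab)
  · intro l' hl'
    obtain ⟨p', p0', hp'⟩ := Set.mem_toFinset.1 hl'
    rw [Finset.card_eq_one]
    refine ⟨zpowers (p' n) ⊔ zpowers (p' (n + 1)), ?_⟩
    ext l
    rw [Finset.mem_bipartiteBelow, Set.mem_toFinset, Finset.mem_singleton]
    constructor
    · rintro ⟨⟨p, p0, hp⟩, q, q1, h1, h2⟩
      rcases step h hp h1 q1 hp'.ln h2 with ⟨m, hm, e⟩ | ⟨e1, e2⟩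
      · have := ln_disj h (by omega) hn ⟨p, p0, e⟩ ⟨p', p0', hp'⟩
        omega
      · have k := (nb_unique h hn hn (nb_update h hp h1 q1 e1 hp'.ln h2 e2) hp'
          (by rw [Function.update_of_ne (by omega), p0, p0'])).2
        have k1 := k n (by omega)
        have k2 := k (n + 1) le_rfl
        rw [Function.update_of_ne (by omega)] at k1
        rw [Function.update_self] at k2
        exact ((np_of_nb hp').cl (i := n) (by omega)).eq h hp.ln (k1 ▸ hp.mem) (k2 ▸ h1)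
    · rintro rfl
      exact ⟨⟨p', p0', (np_of_nb hp').nb_line h⟩, _, hp'.ne_one _ le_rfl, mr _ _, hp'.mem⟩

theorem ncard_lines (h : Oct V D z) : {l | Cn V l}.ncard = 2925 := by
  have e : {l | Cn V l} = ((Ln V z 0 ∪ Ln V z 1) ∪ Ln V z 2) ∪ Ln V z 3 := by
    ext l
    constructor
    · intro hl
      obtain ⟨m, hm, k⟩ := exists_nb h hl (IsConj.refl z)
      interval_cases m
      · exact Or.inl (Or.inl (Or.inl k))
      · exact Or.inl (Or.inl (Or.inr k))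
      · exact Or.inl (Or.inr k)
      · exact Or.inr k
    · rintro (((k | k) | k) | k) <;> exact k.choose_spec.2.ln
  have d : ∀ m n, m ≤ 3 → n ≤ 3 → m ≠ n → Disjoint (Ln V z m) (Ln V z n) := fun m n hm hn hne =>
    Set.disjoint_left.2 fun l a b => hne (ln_disj h hm hn a b)
  have h1 := ln_succ h (n := 0) (by omega)
  have h2 := ln_succ h (n := 1) (by omega)
  have h3 := ln_succ h (n := 2) (by omega)
  rw [ln_zero h] at h1
  rw [e, Set.ncard_union_eq, Set.ncard_union_eq, Set.ncard_union_eq, ln_zero h, h3, h2, h1]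
  · exact d 0 1 (by omega) (by omega) (by omega)
  · exact (d 0 2 (by omega) (by omega) (by omega)).union_left (d 1 2 (by omega) (by omega) (by omega))
  · exact ((d 0 3 (by omega) (by omega) (by omega)).union_left
      (d 1 3 (by omega) (by omega) (by omega))).union_left (d 2 3 (by omega) (by omega) (by omega))

omit [Finite G] in
theorem ncard_cn (V : Subgroup G) : {l | Cn V l}.ncard = (𝐍[V]).index := by
  let f : G ⧸ 𝐍[V] → Subgroup G := fun q => cj(q.out, V)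
  have hf : Function.Injective f := by
    intro a b e
    rw [← QuotientGroup.out_eq' a, ← QuotientGroup.out_eq' b, QuotientGroup.eq, ← cj_eq_iff, cj_mul]
    have e' : cj(a.out, V) = cj(b.out, V) := e
    rw [← e', cj_inv_cj]
  have e : {l | Cn V l} = Set.range f := by
    ext l
    constructor
    · rintro ⟨g, rfl⟩
      obtain ⟨k, hk⟩ := QuotientGroup.mk_out_eq_mul (𝐍[V]) g
      exact ⟨g, by simp only [f]; rw [hk, cj_mul, cj_of_mem_normalizer k.2]⟩
    · rintro ⟨q, rfl⟩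
      exact ⟨_, rfl⟩
  rw [e, Set.ncard_range_of_injective hf]
  rfl

end OctA

/-- there are `5 + 40 + 320 + 2560 = 2925` lines -/
theorem Oct.card (h : Oct V D z) : Nat.card G = 17971200 := by
  rw [← (𝐍[V]).card_mul_index, ← OctA.ncard_cn, OctA.ncard_lines h, h.cardN]

end Cfsg.Agent.NG
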