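import Mathlib
import Cfsg.Agent.NG.Oct1_b

/-! Apartments and root elements of the octagon. -/

set_option autoImplicit false
set_option linter.unusedSectionVars false

namespace Cfsg.Agent.NG.OctA

open Subgroup Cfsg.Agent.PLocal Cfsg.Agent.PLocal.Amb Cfsg.Agent.PLocal.CP Cfsg.Agent.PLocal.JC
open scoped commutatorElement

variable {G : Type*} [Group G] [Finite G]

variable {V D : Subgroup G} {z : G}

omit [Finite G] in
theorem nb_three {a b c d : G} {l : Subgroup G} (t : Tri V a b c) (t' : Tri V b c d)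
    (hl : Cn V l) (hd : d ∈ l) (hc : c ∉ l) :
    NB V 3 (fun i => if i = 0 then a else if i = 1 then b else if i = 2 then c else d) l := by
  refine ⟨fun i hi => ?_, fun i hi => ?_, fun i hi => ?_, hl, hd, fun i hi => ?_⟩
  · interval_cases i
    exacts [t.c1.l1, t.c1.r1, t.c2.r1, t'.c2.r1]
  · interval_cases i
    exacts [⟨t.c1.ne, t.c1.ln⟩, ⟨t.c2.ne, t.c2.ln⟩, ⟨t'.c2.ne, t'.c2.ln⟩]
  · rcases (by omega : i = 0 ∨ i = 1) with rfl | rfl
    exacts [t.nb, t'.nb]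
  · obtain rfl : i = 2 := by omega
    exact hc

theorem uniq_line (h : Oct V D z) {a b c d b' c' d' : G} {l : Subgroup G} (t : Tri V a b c)
    (t' : Tri V b c d) (s : Tri V a b' c') (s' : Tri V b' c' d') (hl : Cn V l) (hd : d ∈ l)
    (hc : c ∉ l) (hd' : d' ∈ l) (hc' : c' ∉ l) : b = b' ∧ c = c' ∧ d = d' := by
  have k := (nb_unique h le_rfl le_rfl (nb_three t t' hl hd hc) (nb_three s s' hl hd' hc') rfl).2
  exact ⟨k 1 (by omega), k 2 (by omega), k 3 le_rfl⟩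

theorem exists_ext (h : Oct V D z) {n : ℕ} {p : ℕ → G} {l : Subgroup G} (hp : NB V n p l) :
    ∃ (q : G) (l' : Subgroup G), NB V (n + 1) (Function.update p (n + 1) q) l' := by
  obtain ⟨q, h1, h2, h3⟩ := Set.nonempty_of_ncard_ne_zero
    (s := {q | q ∈ l ∧ q ≠ 1 ∧ q ≠ p n}) (by rw [two_pts h hp.ln hp.mem (hp.ne_one n le_rfl)]; omega)
  obtain ⟨l', h4, h5, h6⟩ := Set.nonempty_of_ncard_ne_zero
    (s := {l' | Cn V l' ∧ q ∈ l' ∧ l' ≠ l}) (by rw [four_lines h hp.ln h1 h2]; omega)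
  exact ⟨q, l', nb_update h hp h1 h2 h3 h4 h5 h6⟩

theorem exists_path (h : Oct V D z) (n : ℕ) : ∃ (p : ℕ → G) (l : Subgroup G), NB V n p l := by
  induction n with
  | zero =>
    obtain ⟨m, hm, p, -, hp⟩ := Rch.zero (cn_refl V) h.z_mem h.z_ne
    obtain rfl : m = 0 := by omega
    exact ⟨p, V, hp⟩
  | succ n ih =>
    obtain ⟨p, l, hp⟩ := ih
    obtain ⟨q, l', k⟩ := exists_ext h hp
    exact ⟨_, l', k⟩

theorem exists_apt (h : Oct V D z) :
    ∃ p : ZMod 8 → G, ∀ i, Tri V (p i) (p (i + 1)) (p (i + 2)) := by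
  obtain ⟨p, l, hp⟩ := exists_path h 4
  have np := np_of_nb hp
  obtain ⟨n, hn, q, q0, hq⟩ := exists_nb h hp.ln ((np.cl (i := 0) (by omega)).cl h)
  have l4 := np.lvl_eq h le_rfl
  have hne : p 4 ≠ q n := fun e => by
    have := (np_of_nb hq).lvl_eq h (by omega)
    rw [q0, ← e, l4] at this
    omega
  have nq := np_update h hq hp.mem (hp.ne_one 4 le_rfl) hne
  have e : n + 1 = 4 := by
    rw [← nq.lvl_eq h (by omega), Function.update_self, Function.update_of_ne (by omega), q0, l4]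
  obtain rfl : n = 3 := by omega
  have t0 : Tri V (p 0) (p 1) (p 2) := np.tri (i := 0) (by omega)
  have t1 : Tri V (p 1) (p 2) (p 3) := np.tri (i := 1) (by omega)
  have t2 : Tri V (p 2) (p 3) (p 4) := np.tri (i := 2) (by omega)
  have s0 : Tri V (p 0) (q 1) (q 2) := q0 ▸ (np_of_nb hq).tri (i := 0) (by omega)
  have s1 : Tri V (q 1) (q 2) (q 3) := (np_of_nb hq).tri (i := 1) (by omega)
  have s2 : Tri V (q 2) (q 3) (p 4) := by simpa using nq.tri (i := 2) (by omega)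
  have u1 : Tri V (p 3) (p 4) (q 3) := ⟨t2.c2, s2.c2.symm, fun e => hp.last 3 rfl (by
    rw [s2.c2.eq h hp.ln hq.mem hp.mem, ← s2.c2.eq h t2.c2.ln e (mr _ _)]
    exact ml _ _)⟩
  have u2 : Tri V (q 1) (p 0) (p 1) := ⟨s0.c1.symm, t0.c1, fun e => by
    have k := uniq_line h (t2.symm h) (t1.symm h) (s2.symm h) (s1.symm h) s0.c1.symm.ln e
      (by rw [t0.c1.eq h s0.c1.symm.ln (mr _ _) e]; exact t0.nb) (ml _ _)
      (by rw [sup_comm]; exact s0.nb)
    exact u1.nb (k.1 ▸ ml _ _)⟩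
  refine ⟨![p 0, p 1, p 2, p 3, p 4, q 3, q 2, q 1], fun i => ?_⟩
  fin_cases i
  exacts [t0, t1, t2, u1, s2.symm h, s1.symm h, s0.symm h, u2]

/-- the root element of the line `⟨b, c⟩` with respect to the path `a, b, c, d` -/
structure RC (V D : Subgroup G) (a b c d x : G) : Prop where
  ct : CT V D x (zpowers b ⊔ zpowers c)
  qa : x ∈ Qp V a
  qd : x ∈ Qp V d

omit [Finite G] in
theorem RC.symm {a b c d x : G} (r : RC V D a b c d x) : RC V D d c b a x :=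
  ⟨by rw [sup_comm]; exact r.ct, r.qd, r.qa⟩

omit [Finite G] in
theorem RC.cj {a b c d x : G} (r : RC V D a b c d x) (g : G) :
    RC V D (g * a * g⁻¹) (g * b * g⁻¹) (g * c * g⁻¹) (g * d * g⁻¹) (g * x * g⁻¹) :=
  ⟨by rw [← cj_zp, ← cj_zp, ← cj_sup]; exact r.ct.cj g, by rw [qp_cj]; exact conj_mem_cj g r.qa,
    by rw [qp_cj]; exact conj_mem_cj g r.qd⟩

omit [Finite G] in
theorem Col.mem_q (h : Oct V D z) {a b : G} (c : Col V a b) : a ∈ Qp V b :=
  u_le_q h (c.cr h) c.mem_u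

omit [Finite G] in
theorem half_rc (h : Oct V D z) {b c d x : G} (t : Tri V b c d)
    (hx : CT V D x (zpowers b ⊔ zpowers c)) : x ∈ Qp V d ∨ x * b ∈ Qp V d := by
  by_cases e : x ∈ Qp V d
  · exact Or.inl e
  · exact Or.inr (u_idx h t.c2.ln (ml c d) t.c2.l1 (mr c d) t.c2.r1 t.c2.ne
      (hx.mem_u h (mr b c) t.c2.l1) t.c1.mem_u e (t.not_q h))

omit [Finite G] in
theorem exists_rc (h : Oct V D z) {a b c d : G} (t : Tri V a b c) (t' : Tri V b c d) :
    ∃ x, RC V D a b c d x := by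
  obtain ⟨x, hx⟩ := exists_ct h t.c2.ln
  obtain ⟨y, hy, hy'⟩ : ∃ y, CT V D y (zpowers b ⊔ zpowers c) ∧ y ∈ Qp V d := by
    rcases half_rc h t' hx with e | e
    exacts [⟨x, hx, e⟩, ⟨_, hx.mul h (ml b c), e⟩]
  rcases half_rc h (t.symm h) (by rw [sup_comm]; exact hy) with e | e
  · exact ⟨y, hy, e, hy'⟩
  · exact ⟨_, hy.mul h (mr b c), e, mul_mem hy' (t'.c2.mem_q h)⟩

omit [Finite G] in
theorem RC.sq (h : Oct V D z) {a b c d x : G} (r : RC V D a b c d x) (t : Col V b c) : x * x = 1 :=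
  u_sq h (t.cl h) (r.ct.mem_u h (ml b c) t.l1)

omit [Finite G] in
theorem RC.uniq (h : Oct V D z) {a b c d x y : G} (t : Tri V a b c) (t' : Tri V b c d)
    (r : RC V D a b c d x) (r' : RC V D a b c d y) : x = y := by
  have qa := mul_mem r.qa r'.qa
  have qd := mul_mem r.qd r'.qd
  rcases mem_line h t.c2.ln (ml b c) (mr b c) t.c2.l1 t.c2.r1 t.c2.ne (r.ct.mul_mem h r'.ct) with
    e | e | e | e
  · rw [eq_inv_of_mul_eq_one_right e, inv_eq_of_mul_eq_one_left (r.sq h t.c2)]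
  · exact absurd (e ▸ qd) (t'.not_q h)
  · exact absurd (e ▸ qa) ((t.symm h).not_q h)
  · rw [e, Subgroup.mul_mem_cancel_right _ (t'.c2.mem_q h)] at qd
    exact absurd qd (t'.not_q h)

omit [Finite G] in
/-- the root element moves the next point -/
theorem RC.act (h : Oct V D z) {a b c d e x : G} (t' : Tri V b c d) (t'' : Tri V c d e)
    (r : RC V D a b c d x) : x * e * x⁻¹ = d * e := by
  have hn := (mem_qp.1 r.qd).2 _ t''.c2.ln (ml d e)
  have hm := Amb.conj_mem_of_mem_normalizer hn (mr d e)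
  rcases mem_line h t''.c2.ln (ml d e) (mr d e) t''.c2.l1 t''.c2.r1 t''.c2.ne hm with k | k | k | k
  · exact absurd (conj_eq_one_iff.1 k) t''.c2.r1
  · have : x * e * x⁻¹ = x * d * x⁻¹ := by rw [k, (mem_qp.1 r.qd).1, mul_inv_cancel_right]
    exact absurd (conj_inj'.1 this).symm t''.c2.ne
  · exact absurd (r.ct.cent h (mul_inv_eq_iff_eq_mul.1 k).symm)
      ((t''.symm h).not_fix h r.ct.ln (mr b c) t'.nb)
  · exact k

omit [Finite G] in
theorem swap_aux {x y d e : G} (hd : d * d = 1) (hc : d * e = e * d) (he : e * e = 1)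
    (x1 : x * d = d * x) (x2 : x * e * x⁻¹ = d * e) (y1 : y * e = e * y)
    (y2 : y * d * y⁻¹ = e * d) :
    (x * y * x) * d * (x * y * x)⁻¹ = e ∧ (x * y * x) * e * (x * y * x)⁻¹ = d := by
  have x1' : x * d * x⁻¹ = d := by rw [x1, mul_inv_cancel_right]
  have y1' : y * e * y⁻¹ = e := by rw [y1, mul_inv_cancel_right]
  constructor
  · calc (x * y * x) * d * (x * y * x)⁻¹ = x * (y * (x * d * x⁻¹) * y⁻¹) * x⁻¹ := by group
      _ = x * (e * d) * x⁻¹ := by rw [x1', y2]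
      _ = (x * e * x⁻¹) * (x * d * x⁻¹) := by group
      _ = e := by rw [x1', x2, hc, mul_assoc, hd, mul_one]
  · calc (x * y * x) * e * (x * y * x)⁻¹ = x * (y * (x * e * x⁻¹) * y⁻¹) * x⁻¹ := by group
      _ = x * ((y * d * y⁻¹) * (y * e * y⁻¹)) * x⁻¹ := by rw [x2]; group
      _ = d := by rw [y2, y1', ← hc, mul_assoc d, he, mul_one, x1']

section apt

variable {p c : ZMod 8 → G}

theorem zm_tri (T : ∀ i, Tri V (p i) (p (i + 1)) (p (i + 2))) (i j k : ZMod 8) (hj : j = i + 1)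
    (hk : k = i + 2) : Tri V (p i) (p j) (p k) := hj ▸ hk ▸ T i

theorem zm_rc (R : ∀ i, RC V D (p (i - 1)) (p i) (p (i + 1)) (p (i + 2)) (c i)) (a i j k : ZMod 8)
    (ha : a = i - 1) (hj : j = i + 1) (hk : k = i + 2) :
    RC V D (p a) (p i) (p j) (p k) (c i) := ha ▸ hj ▸ hk ▸ R i

theorem refl_p0 (h : Oct V D z) (T : ∀ i, Tri V (p i) (p (i + 1)) (p (i + 2)))
    (R : ∀ i, RC V D (p (i - 1)) (p i) (p (i + 1)) (p (i + 2)) (c i)) (j : ZMod 8) :
    (c 0 * c 4 * c 0) * p j * (c 0 * c 4 * c 0)⁻¹ = p (5 - j) := by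
  have t0 := zm_tri T 0 1 2 rfl rfl
  have t1 := zm_tri T 1 2 3 rfl rfl
  have t2 := zm_tri T 2 3 4 rfl rfl
  have t3 := zm_tri T 3 4 5 rfl rfl
  have t4 := zm_tri T 4 5 6 rfl rfl
  have t5 := zm_tri T 5 6 7 rfl rfl
  have t6 := zm_tri T 6 7 0 rfl rfl
  have t7 := zm_tri T 7 0 1 rfl rfl
  have r0 := zm_rc R 7 0 1 2 rfl rfl rfl
  have r4 := zm_rc R 3 4 5 6 rfl rfl rfl
  obtain ⟨a1, a2⟩ := swap_aux (t2.c1.sq h) (t2.c1.comm h) (t2.c2.sq h) (mem_qp.1 r0.qd).1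
    (r0.act h t0 t1) (mem_qp.1 r4.qa).1 (r4.symm.act h (t3.symm h) (t2.symm h))
  obtain ⟨b1, b2⟩ := swap_aux (t7.c1.sq h) (t6.c1.comm h).symm (t6.c1.sq h) (mem_qp.1 r0.qa).1
    (r0.symm.act h (t7.symm h) (t6.symm h)) (mem_qp.1 r4.qd).1 (r4.act h t4 t5)
  set n := c 0 * c 4 * c 0 with hn
  have s1 := (t0.symm h).cj n
  have s2 := (t7.symm h).cj n
  rw [a1] at s1
  rw [b1] at s2
  obtain ⟨c1, c2⟩ := uniq_three h s1 s2 t3 t4
  have nn : n * n = 1 := by
    have e0 := r0.sq h t0.c1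
    have e4 := r4.sq h t4.c1
    calc n * n = c 0 * c 4 * (c 0 * c 0) * c 4 * c 0 := by rw [hn]; group
      _ = 1 := by rw [e0, mul_one, mul_assoc (c 0), e4, mul_one, e0]
  have inv : ∀ x y : G, n * x * n⁻¹ = y → n * y * n⁻¹ = x := fun x y e => by
    calc n * y * n⁻¹ = (n * n) * x * (n * n)⁻¹ := by rw [← e]; group
      _ = x := by rw [nn]; group
  fin_cases j
  exacts [c2, c1, a1, a2, inv _ _ c1, inv _ _ c2, b2, b1]

theorem refl_c0 (h : Oct V D z) (T : ∀ i, Tri V (p i) (p (i + 1)) (p (i + 2)))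
    (R : ∀ i, RC V D (p (i - 1)) (p i) (p (i + 1)) (p (i + 2)) (c i)) (j : ZMod 8) :
    (c 0 * c 4 * c 0) * c j * (c 0 * c 4 * c 0)⁻¹ = c (4 - j) := by
  have k := ((R j).cj (c 0 * c 4 * c 0)).symm
  simp only [refl_p0 h T R] at k
  exact RC.uniq h (zm_tri T _ _ _ (by ring) (by ring)) (zm_tri T _ _ _ (by ring) (by ring)) k
    (by
      have := zm_rc R (5 - (j + 2)) (4 - j) (5 - j) (5 - (j - 1)) (by ring) (by ring) (by ring)
      rwa [show 5 - (j + 1) = 4 - j by ring])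

theorem refl_c (h : Oct V D z) (T : ∀ i, Tri V (p i) (p (i + 1)) (p (i + 2)))
    (R : ∀ i, RC V D (p (i - 1)) (p i) (p (i + 1)) (p (i + 2)) (c i)) (i j : ZMod 8) :
    (c i * c (i + 4) * c i) * c j * (c i * c (i + 4) * c i)⁻¹ = c (2 * i + 4 - j) := by
  have := refl_c0 h (p := fun j => p (i + j)) (c := fun j => c (i + j))
    (fun j => zm_tri T _ _ _ (by ring) (by ring))
    (fun j => zm_rc R _ _ _ _ (by ring) (by ring) (by ring)) (j - i)
  simp only [add_zero, add_sub_cancel] at this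
  rw [this]
  congr 1
  ring

omit [Finite G] in
theorem comm_one (h : Oct V D z) (T : ∀ i, Tri V (p i) (p (i + 1)) (p (i + 2)))
    (R : ∀ i, RC V D (p (i - 1)) (p i) (p (i + 1)) (p (i + 2)) (c i)) (i j : ZMod 8)
    (hj : j = i + 1) : c i * c j = c j * c i := by
  subst hj
  exact u_comm h ((T i).c1.cr h) ((R i).ct.mem_u h (mr _ _) (T i).c1.r1)
    ((R (i + 1)).ct.mem_u h (ml _ _) (T i).c1.r1)

theorem comm_two (h : Oct V D z) (T : ∀ i, Tri V (p i) (p (i + 1)) (p (i + 2)))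
    (R : ∀ i, RC V D (p (i - 1)) (p i) (p (i + 1)) (p (i + 2)) (c i)) (i j : ZMod 8)
    (hj : j = i + 2) : c i * c j = c j * c i := by
  subst hj
  have r := zm_rc R (i + 1) (i + 2) (i + 3) (i + 4) (by ring) (by ring) (by ring)
  have t := T i
  have a := comm_uq h (t.c2.cl h) ((R i).ct.mem_u h (mr _ _) t.c1.r1) r.qa
  have b := inv_mem (comm_uq h (t.c2.cr h) (r.ct.mem_u h (ml _ _) t.c2.r1) (R i).qd)
  rw [commutatorElement_inv] at b
  rw [mem_zp (t.c2.sq h)] at a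
  rw [← commutatorElement_eq_one_iff_mul_comm]
  refine a.resolve_right fun e => ?_
  rw [e] at b
  exact not_mem_zp h t.c2.ln (mr _ _) t.c2.l1 t.c2.ne.symm b

omit [Finite G] in
/-- `D_l ∩ D_l' = ⟨p⟩` -/
theorem inf_three (h : Oct V D z) {a b d u : G} (t : Tri V a b d) (h1 : u ∈ Up V a)
    (h2 : u ∈ Up V b) (h3 : u ∈ Up V d) : u = 1 ∨ u = b := by
  have hne : zpowers a ⊔ zpowers b ≠ zpowers b ⊔ zpowers d := fun e => t.nb (e ▸ mr b d)
  rcases inf_u h t.c1.ln (ml _ _) (mr _ _) t.c1.l1 t.c1.r1 t.c1.ne h1 h2 with k | k <;>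
  rcases inf_u h t.c2.ln (ml _ _) (mr _ _) t.c2.l1 t.c2.r1 t.c2.ne h2 h3 with k' | k'
  · by_contra e
    rw [not_or] at e
    exact hne (line_uniq h t.c1.ln t.c2.ln k (mr _ _) k' (ml _ _) e.1 t.c1.r1 e.2)
  · exact absurd k (k'.not_mem_line h t.c1.ln)
  · exact absurd k' (k.not_mem_line h t.c2.ln)
  · exact absurd (k.uniq h k') hne

/-- the link between consecutive commutators -/
theorem link (h : Oct V D z) (T : ∀ i, Tri V (p i) (p (i + 1)) (p (i + 2)))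
    (R : ∀ i, RC V D (p (i - 1)) (p i) (p (i + 1)) (p (i + 2)) (c i)) (i : ZMod 8) :
    ⁅c i, c (i + 3)⁆ ∈ Up V (p (i + 2)) ∧
      ⁅c i, c (i + 3)⁆ * c (i + 1) = ⁅c (i + 1), c (i + 4)⁆ * c (i + 3) := by
  have sq : ∀ j, c j * c j = 1 := fun j => (R j).sq h (T j).c1
  have iv : ∀ j, (c j)⁻¹ = c j := fun j => inv_eq_of_mul_eq_one_left (sq j)
  have mu : ∀ j, ⁅c j, c (j + 3)⁆ ∈ Up V (p (j + 2)) := fun j => q_comm h ((T j).c2.cr h) (R j).qd
    (zm_rc R (j + 2) (j + 3) (j + 4) (j + 5) (by ring) (by ring) (by ring)).qa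
  refine ⟨mu i, ?_⟩
  have k := refl_c h T R i (i + 3)
  rw [show 2 * i + 4 - (i + 3) = i + 1 by ring] at k
  have c1 := comm_one h T R i (i + 1) rfl
  have c2 := comm_two h T R (i + 1) (i + 3) (by ring)
  have w := u_sq h ((T (i + 1)).c2.cr h) (mu (i + 1))
  rw [show i + 1 + 3 = i + 4 by ring] at w
  have w' : ⁅c (i + 1), c (i + 4)⁆ = ⁅c (i + 4), c (i + 1)⁆ := by
    rw [← inv_eq_of_mul_eq_one_left w, commutatorElement_inv]
  have k2 : c i * c (i + 3) * (c i)⁻¹ = c (i + 4) * c (i + 1) * (c (i + 4))⁻¹ := by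
    calc c i * c (i + 3) * (c i)⁻¹ = (c (i + 4))⁻¹ * ((c i)⁻¹ * ((c i * c (i + 4) * c i) *
          c (i + 3) * (c i * c (i + 4) * c i)⁻¹) * c i) * c (i + 4) := by group
      _ = _ := by rw [k, mul_assoc (c i)⁻¹, ← c1, inv_mul_cancel_left, iv]
  rw [w', commutatorElement_def, commutatorElement_def, k2, iv (i + 3), iv (i + 1),
    mul_assoc _ (c (i + 3)), ← c2, ← mul_assoc]

theorem comm_three (h : Oct V D z) (T : ∀ i, Tri V (p i) (p (i + 1)) (p (i + 2)))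
    (R : ∀ i, RC V D (p (i - 1)) (p i) (p (i + 1)) (p (i + 2)) (c i)) (i : ZMod 8) :
    ⁅c i, c (i + 3)⁆ = c (i + 1) * c (i + 2) := by
  have sq : ∀ j, c j * c j = 1 := fun j => (R j).sq h (T j).c1
  have ul : ∀ j, c j ∈ Up V (p j) := fun j => (R j).ct.mem_u h (ml _ _) (T j).c1.l1
  have ur : ∀ j k, k = j + 1 → c j ∈ Up V (p k) := fun j k e =>
    e ▸ (R j).ct.mem_u h (mr _ _) (T j).c1.r1
  have e1 : ∀ j, ⁅c j, c (j + 3)⁆ * c (j + 1) ∈ Up V (p (j + 3)) := fun j => by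
    rw [(link h T R j).2]
    have := (link h T R (j + 1)).1
    rw [show j + 1 + 3 = j + 4 by ring, show j + 1 + 2 = j + 3 by ring] at this
    exact mul_mem this (ul _)
  have e2 : ∀ j, ⁅c j, c (j + 3)⁆ * c (j + 2) ∈ Up V (p (j + 1)) := fun j => by
    obtain ⟨a, b⟩ := link h T R (j - 1)
    rw [show j - 1 + 3 = j + 2 by ring, show j - 1 + 2 = j + 1 by ring] at a
    rw [show j - 1 + 3 = j + 2 by ring, show j - 1 + 1 = j by ring,
      show j - 1 + 4 = j + 3 by ring] at b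
    rw [← b]
    exact mul_mem a (ur _ _ rfl)
  have e3 : ∀ j, ⁅c j, c (j + 3)⁆ * c (j + 1) * c (j + 2) = 1 ∨
      ⁅c j, c (j + 3)⁆ * c (j + 1) * c (j + 2) = p (j + 2) := fun j => by
    refine inf_three h (zm_tri T (j + 1) (j + 2) (j + 3) (by ring) (by ring)) ?_ ?_ ?_
    · rw [mul_assoc, comm_one h T R (j + 1) (j + 2) (by ring), ← mul_assoc]
      exact mul_mem (e2 j) (ul _)
    · exact mul_mem (mul_mem (link h T R j).1 (ur _ _ (by ring))) (ul _)
    · exact mul_mem (e1 j) (ur _ _ (by ring))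
  have e4 : ⁅c i, c (i + 3)⁆ * c (i + 1) * c (i + 2) =
      ⁅c (i + 1), c (i + 1 + 3)⁆ * c (i + 1 + 1) * c (i + 1 + 2) := by
    rw [(link h T R i).2, show i + 1 + 3 = i + 4 by ring, show i + 1 + 1 = i + 2 by ring,
      show i + 1 + 2 = i + 3 by ring, mul_assoc, mul_assoc,
      comm_one h T R (i + 2) (i + 3) (by ring)]
  have e5 : ⁅c i, c (i + 3)⁆ * c (i + 1) * c (i + 2) = 1 := by
    refine (e3 i).resolve_right fun a => ?_
    have t := zm_tri T (i + 1) (i + 2) (i + 1 + 2) (by ring) rfl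
    rcases e3 (i + 1) with b | b
    · exact t.c2.l1 (by rw [← a, e4, b])
    · exact t.c2.ne (by rw [← a, e4, b])
  rw [mul_assoc] at e5
  rw [eq_inv_of_mul_eq_one_left e5, mul_inv_rev, inv_eq_of_mul_eq_one_left (sq _),
    inv_eq_of_mul_eq_one_left (sq _), comm_one h T R (i + 1) (i + 2) (by ring)]

theorem c_ne (h : Oct V D z) (T : ∀ i, Tri V (p i) (p (i + 1)) (p (i + 2)))
    (R : ∀ i, RC V D (p (i - 1)) (p i) (p (i + 1)) (p (i + 2)) (c i)) (i : ZMod 8) :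
    c i ≠ c (i + 4) := by
  intro e
  have a := (R i).act h (T i) (zm_tri T (i + 1) (i + 2) (i + 3) (by ring) (by ring))
  have b := (mem_qp.1 (zm_rc R (i + 3) (i + 4) (i + 5) (i + 6) (by ring) (by ring) (by ring)).qa).1
  rw [e, b, mul_inv_cancel_right] at a
  exact (T i).c2.r1 (by simpa using a)

end apt

end Cfsg.Agent.NG.OctA
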