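import Mathlib
import Cfsg.Agent.NG.Defs
import Cfsg.Agent.Grp.Card

set_option autoImplicit false
set_option linter.unusedSectionVars false

namespace Cfsg.Agent.NG

open Subgroup Cfsg.Agent.PLocal Cfsg.Agent.PLocal.Amb Cfsg.Agent.PLocal.CP Cfsg.Agent.PLocal.JC
open scoped commutatorElement

variable {G : Type*} [Group G] [Finite G]

theorem roots_eq_of_solvable [Group.IsSolvable G] {c : ZMod 8 → G} (sq : ∀ i, c i * c i = 1)
    (r1 : ∀ i, Commute (c i) (c (i + 1))) (r2 : ∀ i, Commute (c i) (c (i + 2)))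
    (r3 : ∀ i, ⁅c i, c (i + 3)⁆ = c (i + 1) * c (i + 2))
    (r4 : ∀ i j, (c i * c (i + 4) * c i) * c j * (c i * c (i + 4) * c i)⁻¹ = c (2 * i + 4 - j))
    (i : ZMod 8) : c i = c (i + 4) := by
  have inv : ∀ i, (c i)⁻¹ = c i := fun i => inv_eq_of_mul_eq_one_left (sq i)
  set P := normalClosure (Set.range fun i => c i * c (i + 4)) with hP
  have hx : ∀ i, c i * c (i + 4) ∈ P := fun i => subset_normalClosure ⟨i, rfl⟩
  have h1 : ∀ i, c (i + 1) * c (i + 2) ∈ P := by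
    intro i
    have e1 : c (i + 4) * c (i + 3) = c (i + 3) * c (i + 4) := by
      have := (r1 (i + 3)).eq
      rw [add_assoc] at this
      exact this.symm
    have h2 := P.mul_mem (hx i) ((inferInstance : P.Normal).conj_mem _ (P.inv_mem (hx i)) (c (i + 3)))
    rw [← r3]
    convert h2 using 1
    calc ⁅c i, c (i + 3)⁆ = c i * (c (i + 3) * c (i + 4)) * (c (i + 4))⁻¹ * (c i)⁻¹ *
          (c (i + 3))⁻¹ := by rw [commutatorElement_def]; group
      _ = _ := by rw [← e1]; group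
  have h2 : ∀ i, c i * c (i + 2) ∈ P := by
    intro i
    have h3 := P.mul_mem (h1 (i - 1)) (h1 i)
    rw [sub_add_cancel, show i - 1 + 2 = i + 1 by ring, mul_assoc, ← mul_assoc (c (i + 1)), sq,
      one_mul] at h3
    exact h3
  have h3 : P ≤ ⁅P, P⁆ := by
    refine normalClosure_le_normal ?_
    rintro _ ⟨i, rfl⟩
    have h4 := commutator_mem_commutator (h2 i) (hx i)
    have e1 : c (i + 2) * c (i + 4) = c (i + 4) * c (i + 2) := by
      have := (r2 (i + 2)).eq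
      rwa [add_assoc] at this
    have e2 := r4 i i
    rw [show 2 * i + 4 - i = i + 4 by ring] at e2
    simp only [mul_inv_rev, inv] at e2
    have e3 : ⁅c i * c (i + 2), c i * c (i + 4)⁆ = c i * c (i + 4) := by
      rw [commutatorElement_def]
      simp only [mul_inv_rev, inv]
      calc _ = c i * (c (i + 2) * c i) * (c (i + 4) * c (i + 2)) * c i * c (i + 4) * c i := by
            simp only [mul_assoc]
        _ = (c i * c i) * (c (i + 2) * c (i + 2)) * c (i + 4) * c i * c (i + 4) * c i := by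
            rw [← (r2 i).eq, ← e1]; simp only [mul_assoc]
        _ = (c i * c i) * c (i + 4) * (c i * c i) * c i * c (i + 4) * (c i * c i) * c i := by
            simp only [sq, one_mul, mul_one]
        _ = c i * (c i * c (i + 4) * c i * c i * (c i * (c (i + 4) * c i))) * (c i * c i) := by
            simp only [mul_assoc]
        _ = _ := by rw [e2, sq, mul_one]
    rw [e3] at h4
    exact h4
  have h4 : P = ⊥ := by
    by_contra h4
    exact (Group.IsSolvable.commutator_lt_of_ne_bot h4).not_ge h3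
  have h5 := hx i
  rw [h4, mem_bot, mul_eq_one_iff_eq_inv, inv] at h5
  exact h5

/-- the subgroup `Sp₄(2)` generated by the long root elements: not solvable -/
theorem roots_not_solvable {c : ZMod 8 → G} (sq : ∀ i, c i * c i = 1) (ne : ∀ i, c i ≠ c (i + 4))
    (r1 : ∀ i, Commute (c i) (c (i + 1))) (r2 : ∀ i, Commute (c i) (c (i + 2)))
    (r3 : ∀ i, ⁅c i, c (i + 3)⁆ = c (i + 1) * c (i + 2))
    (r4 : ∀ i j, (c i * c (i + 4) * c i) * c j * (c i * c (i + 4) * c i)⁻¹ = c (2 * i + 4 - j)) :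
    ¬ Group.IsSolvable (closure (Set.range c)) := fun _ =>
  ne 0 (congrArg Subtype.val (roots_eq_of_solvable (G := closure (Set.range c))
    (c := fun i => ⟨c i, subset_closure ⟨i, rfl⟩⟩) (fun i => Subtype.ext (sq i))
    (fun i => Subtype.ext (r1 i)) (fun i => Subtype.ext (r2 i)) (fun i => Subtype.ext (r3 i))
    (fun i j => Subtype.ext (r4 i j)) 0))

theorem card_sup_zpowers_le {A : Subgroup G} {t : G} {n : ℕ} (ht : t * t = 1) (hn : t ∈ 𝐍[A])
    (hA : Nat.card A ≤ n) : Nat.card ↥(zpowers t ⊔ A) ≤ 2 * n := by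
  refine (Nat.le_of_dvd (Nat.mul_pos Nat.card_pos Nat.card_pos)
    (Grp.card_sup_dvd_of_le_normalizer (zpowers_le.2 hn))).trans (Nat.mul_le_mul ?_ hA)
  rw [Nat.card_zpowers]
  exact orderOf_le_of_pow_eq_one two_pos (by rw [pow_two, ht])

theorem bruhat_step {c : ZMod 8 → G} (sq : ∀ i, c i * c i = 1) {U U' N : Subgroup G} {i : ZMod 8}
    (hU : U = zpowers (c i) ⊔ U') (h1 : c i ∈ 𝐍[U']) (h2 : c i * c (i + 4) * c i ∈ 𝐍[U'])
    (h3 : c i * c (i + 4) * c i ∈ N) (hpos : ∀ k, c k ∈ U ∨ c (k + 4) ∈ U)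
    (hN : ∀ w ∈ N, ∀ j, ∃ k, w⁻¹ * c j * w = c k ∧ w⁻¹ * c (j + 4) * w = c (k + 4)) {x : G}
    (hx : ∃ u ∈ U, ∃ w ∈ N, ∃ u' ∈ U, x = u * w * u') :
    ∃ u ∈ U, ∃ w ∈ N, ∃ u' ∈ U, c i * c (i + 4) * c i * x = u * w * u' := by
  obtain ⟨u, hu, w, hw, u', hu', rfl⟩ := hx
  have hU' : U' ≤ U := hU ▸ le_sup_right
  have hc : c i ∈ U := hU ▸ mem_sup_left (mem_zpowers _)
  rw [hU, sup_comm] at hu
  obtain ⟨a, ha, b, ⟨m, rfl⟩, rfl⟩ := (mem_sup_of_le_normalizer_left (zpowers_le.2 h1)).1 hu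
  have ha' := hU' (Amb.conj_mem_of_mem_normalizer h2 ha)
  have e2 : c i ^ (2 : ℤ) = 1 := by rw [zpow_two, sq]
  obtain ⟨k, hk, hk'⟩ := hN w hw i
  obtain ⟨m, rfl | rfl⟩ := Int.even_or_odd' m
  · exact ⟨_, ha', _, mul_mem h3 hw, u', hu', by simp only [zpow_mul, e2, one_zpow]; group⟩
  · simp only [zpow_add, zpow_mul, e2, one_zpow, zpow_one, one_mul]
    rcases hpos k with h4 | h4
    · exact ⟨_, ha', _, mul_mem h3 hw, _, mul_mem h4 hu', by rw [← hk]; group⟩
    · refine ⟨_, mul_mem ha' hc, w, hw, _, mul_mem h4 hu', ?_⟩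
      rw [← hk']
      calc _ = c i * c (i + 4) * c i * a * (c i * c (i + 4) * c i)⁻¹ * c i * c (i + 4) *
            (c i * c i) * w * u' := by group
        _ = _ := by rw [sq]; group

/-- the subgroup generated by the long root elements is small modulo its centre -/
theorem roots_small {c : ZMod 8 → G} (sq : ∀ i, c i * c i = 1)
    (r1 : ∀ i, Commute (c i) (c (i + 1))) (r2 : ∀ i, Commute (c i) (c (i + 2)))
    (r3 : ∀ i, ⁅c i, c (i + 3)⁆ = c (i + 1) * c (i + 2))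
    (r4 : ∀ i j, (c i * c (i + 4) * c i) * c j * (c i * c (i + 4) * c i)⁻¹ = c (2 * i + 4 - j))
    (hZ : center G = ⊥) (ht : closure (Set.range c) = ⊤) : Nat.card G ≤ 2048 := by
  have inv : ∀ i, (c i)⁻¹ = c i := fun i => inv_eq_of_mul_eq_one_left (sq i)
  obtain ⟨n, hn⟩ : ∃ n : ZMod 8 → G, ∀ i, n i = c i * c (i + 4) * c i := ⟨_, fun _ => rfl⟩
  have ninv : ∀ i, (n i)⁻¹ = n i := fun i => by simp only [hn, mul_inv_rev, inv, mul_assoc]
  have nsq : ∀ i, n i * n i = 1 := fun i => by nth_rewrite 1 [← ninv]; exact inv_mul_cancel _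
  have r5 : ∀ i j, n i * c j * (n i)⁻¹ = c (2 * i + 4 - j) := fun i j => hn i ▸ r4 i j
  have cz : ∀ {g : G} {i j : ZMod 8}, g * c i * g⁻¹ = c j → cj(g, zpowers (c i)) = zpowers (c j) :=
    fun {g i j} h => by rw [MonoidHom.map_zpowers]; exact congrArg zpowers h
  have cm : ∀ {i j : ZMod 8}, Commute (c i) (c j) → cj(c i, zpowers (c j)) = zpowers (c j) :=
    fun h => cz (by rw [h.eq, mul_inv_cancel_right])
  set N := closure ({n 0, n 3} : Set G) with hNdef
  have hN : ∀ w ∈ N, ∀ j, ∃ k, w⁻¹ * c j * w = c k ∧ w⁻¹ * c (j + 4) * w = c (k + 4) := by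
    have key : ∀ (i : ZMod 8) (w : G),
        (∀ j, ∃ k, w⁻¹ * c j * w = c k ∧ w⁻¹ * c (j + 4) * w = c (k + 4)) →
        ∀ j, ∃ k, (n i * w)⁻¹ * c j * (n i * w) = c k ∧
          (n i * w)⁻¹ * c (j + 4) * (n i * w) = c (k + 4) := by
      intro i w hw j
      obtain ⟨k, h1, h2⟩ := hw (2 * i + 4 - j)
      have e : 2 * i + 4 - j + 4 = 2 * i + 4 - (j + 4) := by
        rw [show 2 * i + 4 - j + 4 = 2 * i + 4 - (j + 4) + 8 by ring]
        exact add_zero _
      rw [e] at h2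
      rw [← r5, ninv] at h1 h2
      exact ⟨k, by rw [← h1, mul_inv_rev, ninv]; group, by rw [← h2, mul_inv_rev, ninv]; group⟩
    intro w hw
    induction hw using closure_induction_left with
    | one => exact fun j => ⟨j, by simp, by simp⟩
    | mul_left x hx y _ ih => rcases hx with rfl | rfl <;> exact key _ y ih
    | inv_mul_cancel x hx y _ ih => rcases hx with rfl | rfl <;> rw [ninv] <;> exact key _ y ih
  have hNc : Nat.card N ≤ 8 := by
    have e1 : ∀ j, n 0 * n 3 * c j * (n 0 * n 3)⁻¹ = c (j + 2) := fun j => by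
      rw [show j + 2 = 2 * 0 + 4 - (2 * 3 + 4 - j) by
        rw [show 2 * 0 + 4 - (2 * 3 + 4 - j) = j + 2 - 8 by ring]; exact (sub_zero _).symm,
        ← r5, ← r5]
      group
    have e2 : (n 0 * n 3) ^ 4 = 1 := by
      rw [← mem_bot, ← hZ, ← centralizer_univ, ← coe_top, ← ht, centralizer_closure]
      rintro _ ⟨j, rfl⟩
      have := e1 (j + 2 + 2 + 2)
      rw [show j + 2 + 2 + 2 + 2 = j + 8 by ring, show j + 8 = j from add_zero j, ← e1, ← e1,
        ← e1] at this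
      nth_rewrite 1 [← this]
      generalize n 0 * n 3 = r
      rw [show r ^ 4 = r * r * r * r by simp only [pow_succ, pow_zero, one_mul]]
      group
    have h1 : n 0 ∈ 𝐍[zpowers (n 0 * n 3)] := Inv.mem_normalizer_zpowers_of_conj_eq_inv
      (Inv.conj_mul_eq_inv_left (nsq 0) (nsq 3))
    refine (card_le_of_le (K := zpowers (n 0) ⊔ zpowers (n 0 * n 3)) ((closure_le _).2 ?_)).trans
      (card_sup_zpowers_le (n := 4) (nsq 0) h1
        (by rw [Nat.card_zpowers]; exact orderOf_le_of_pow_eq_one (by norm_num) e2))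
    rintro _ (rfl | rfl)
    · exact mem_sup_left (mem_zpowers _)
    · have := mul_mem_sup (mem_zpowers (n 0)) (mem_zpowers (n 0 * n 3))
      rwa [← mul_assoc, nsq, one_mul] at this
  set A := zpowers (c 1) ⊔ zpowers (c 2) with hA
  have h1A : c 1 ∈ A := mem_sup_left (mem_zpowers _)
  have h2A : c 2 ∈ A := mem_sup_right (mem_zpowers _)
  have h0A : cj(c 0, A) = A := by rw [hA, cj_sup, cm (j := 1) (r1 0), cm (j := 2) (r2 0)]
  have h3A : cj(c 3, A) = A := by
    rw [hA, cj_sup, cm (i := 3) (r2 1).symm, cm (i := 3) (r1 2).symm]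
  have h03 : c 0 * c 3 * (c 0)⁻¹ * (c 3)⁻¹ ∈ A := by
    rw [show c 0 * c 3 * (c 0)⁻¹ * (c 3)⁻¹ = c 1 * c 2 from r3 0]; exact mul_mem h1A h2A
  have n0 : c 0 ∈ 𝐍[zpowers (c 3) ⊔ A] := by
    refine mem_normalizer_of_cj_le ?_
    rw [cj_sup, h0A, MonoidHom.map_zpowers]
    refine sup_le (zpowers_le.2 ?_) le_sup_right
    have := mul_mem (mem_sup_right h03 : _ ∈ zpowers (c 3) ⊔ A) (mem_sup_left (mem_zpowers (c 3)))
    rwa [inv_mul_cancel_right] at this
  have n3 : c 3 ∈ 𝐍[zpowers (c 0) ⊔ A] := by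
    refine mem_normalizer_of_cj_le ?_
    rw [cj_sup, h3A, MonoidHom.map_zpowers]
    refine sup_le (zpowers_le.2 ?_) le_sup_right
    have := mul_mem (mem_sup_right (inv_mem h03) : _ ∈ zpowers (c 0) ⊔ A)
      (mem_sup_left (mem_zpowers (c 0)))
    convert this using 1
    change c 3 * c 0 * (c 3)⁻¹ = _
    group
  have m0 : n 0 ∈ 𝐍[zpowers (c 3) ⊔ A] := by
    rw [← cj_eq_iff, hA, cj_sup, cj_sup, cz (r5 0 3), cz (r5 0 1), cz (r5 0 2)]
    change zpowers (c 1) ⊔ (zpowers (c 3) ⊔ zpowers (c 2)) = _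
    rw [sup_left_comm]
  have m3 : n 3 ∈ 𝐍[zpowers (c 0) ⊔ A] := by
    rw [← cj_eq_iff, hA, cj_sup, cj_sup, cz (r5 3 0), cz (r5 3 1), cz (r5 3 2)]
    change zpowers (c 2) ⊔ (zpowers (c 1) ⊔ zpowers (c 0)) = _
    rw [sup_left_comm, sup_comm (zpowers (c 2)), sup_left_comm]
  set U := zpowers (c 0) ⊔ (zpowers (c 3) ⊔ A) with hU
  have hUc : Nat.card U ≤ 16 :=
    card_sup_zpowers_le (n := 8) (sq 0) n0 (card_sup_zpowers_le (n := 4) (sq 3) (cj_eq_iff.1 h3A)
      (card_sup_zpowers_le (n := 2) (sq 1) (cj_eq_iff.1 (cm (r1 1))) (by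
        rw [Nat.card_zpowers]; exact orderOf_le_of_pow_eq_one two_pos (by rw [pow_two, sq]))))
  have h0U : c 0 ∈ U := mem_sup_left (mem_zpowers _)
  have h3U : c 3 ∈ U := mem_sup_right (mem_sup_left (mem_zpowers _))
  have h1U : c 1 ∈ U := mem_sup_right (mem_sup_right h1A)
  have h2U : c 2 ∈ U := mem_sup_right (mem_sup_right h2A)
  have hpos : ∀ k, c k ∈ U ∨ c (k + 4) ∈ U := by
    intro k
    fin_cases k
    exacts [Or.inl h0U, Or.inl h1U, Or.inl h2U, Or.inl h3U, Or.inr h0U, Or.inr h1U, Or.inr h2U,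
      Or.inr h3U]
  let X : G → Prop := fun x => ∃ u ∈ U, ∃ w ∈ N, ∃ u' ∈ U, x = u * w * u'
  have sU : ∀ {g x : G}, g ∈ U → X x → X (g * x) := by
    rintro g _ hg ⟨u, hu, w, hw, u', hu', rfl⟩
    exact ⟨_, mul_mem hg hu, w, hw, u', hu', by group⟩
  have s0 : ∀ {x : G}, X x → X (n 0 * x) := fun hx => hn 0 ▸
    bruhat_step sq hU n0 (hn 0 ▸ m0) (hn 0 ▸ subset_closure (Or.inl rfl)) hpos hN hx
  have s3 : ∀ {x : G}, X x → X (n 3 * x) := fun hx => hn 3 ▸
    bruhat_step sq (hU.trans (sup_left_comm _ _ _)) n3 (hn 3 ▸ m3)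
      (hn 3 ▸ subset_closure (Or.inr rfl)) hpos hN hx
  have e4 : ∀ i x, c (i + 4) * x = c i * (n i * (c i * x)) := fun i x => by
    rw [hn]
    calc _ = (c i * c i) * c (i + 4) * (c i * c i) * x := by simp only [sq, one_mul, mul_one]
      _ = _ := by simp only [mul_assoc]
  have e5 : ∀ i j x, c (2 * i + 4 - j) * x = n i * (c j * (n i * x)) := fun i j x => by
    rw [← r5, ninv]; simp only [mul_assoc]
  have s4 : ∀ {x : G}, X x → X (c 4 * x) := fun {x} hx =>
    (show c 4 * x = _ from e4 0 x) ▸ sU h0U (s0 (sU h0U hx))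
  have s7 : ∀ {x : G}, X x → X (c 7 * x) := fun {x} hx =>
    (show c 7 * x = _ from e4 3 x) ▸ sU h3U (s3 (sU h3U hx))
  have sc : ∀ (j : ZMod 8) {x : G}, X x → X (c j * x) := by
    intro j x hx
    fin_cases j
    exacts [sU h0U hx, sU h1U hx, sU h2U hx, sU h3U hx, s4 hx,
      (show c 5 * x = _ from e5 0 7 x) ▸ s0 (s7 (s0 hx)),
      (show c 6 * x = _ from e5 3 4 x) ▸ s3 (s4 (s3 hx)), s7 hx]
  have hall : ∀ x : G, X x := by
    intro x
    have hx : x ∈ closure (Set.range c) := ht ▸ mem_top x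
    induction hx using closure_induction_left with
    | one => exact ⟨1, one_mem _, 1, one_mem _, 1, one_mem _, by simp⟩
    | mul_left _ hx y _ ih => obtain ⟨j, rfl⟩ := hx; exact sc j ih
    | inv_mul_cancel _ hx y _ ih => obtain ⟨j, rfl⟩ := hx; rw [inv]; exact sc j ih
  have hs : Function.Surjective fun p : U × N × U => (p.1 : G) * p.2.1 * p.2.2 := fun x => by
    obtain ⟨u, hu, w, hw, u', hu', rfl⟩ := hall x
    exact ⟨(⟨u, hu⟩, ⟨w, hw⟩, ⟨u', hu'⟩), rfl⟩
  refine (Nat.card_le_card_of_surjective _ hs).trans ?_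
  rw [Nat.card_prod, Nat.card_prod]
  exact Nat.mul_le_mul hUc (Nat.mul_le_mul hNc hUc)

end Cfsg.Agent.NG
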