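import Mathlib
import Cfsg.Agent.NG.Oct2
import Cfsg.Agent.NG.Oct3_a
import Cfsg.Agent.NG.OctK

set_option autoImplicit false

namespace Cfsg.Agent.NG

open Subgroup Cfsg.Agent.PLocal Cfsg.Agent.PLocal.Amb Cfsg.Agent.PLocal.CP Cfsg.Agent.PLocal.JC
open scoped commutatorElement

variable {G : Type*} [Group G] [Finite G]

variable {V D : Subgroup G} {z : G}

/-- an apartment -/
theorem Oct.exists_apartment (h : Oct V D z) : ∃ p : ZMod 8 → G, (∀ i, p i ≠ 1) ∧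
    (∀ i, p i ≠ p (i + 1) ∧ Cn V (zpowers (p i) ⊔ zpowers (p (i + 1)))) ∧
    ∀ i, p (i + 2) ∉ zpowers (p i) ⊔ zpowers (p (i + 1)) := by
  obtain ⟨p, T⟩ := OctA.exists_apt h
  exact ⟨p, fun i => (T i).c1.l1, fun i => ⟨(T i).c1.ne, (T i).c1.ln⟩, fun i => (T i).nb⟩

/-- the long root elements of an apartment -/
theorem Oct.exists_roots (h : Oct V D z) : ∃ c : ZMod 8 → G, (∀ i, c i * c i = 1) ∧
    (∀ i, c i ≠ c (i + 4)) ∧ (∀ i, Commute (c i) (c (i + 1))) ∧ (∀ i, Commute (c i) (c (i + 2))) ∧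
    (∀ i, ⁅c i, c (i + 3)⁆ = c (i + 1) * c (i + 2)) ∧
    ∀ i j, (c i * c (i + 4) * c i) * c j * (c i * c (i + 4) * c i)⁻¹ = c (2 * i + 4 - j) := by
  obtain ⟨p, T⟩ := OctA.exists_apt h
  choose c R using fun i : ZMod 8 => OctA.exists_rc h
    (OctA.zm_tri T (i - 1) i (i + 1) (by ring) (by ring)) (T i)
  exact ⟨c, fun i => (R i).sq h (T i).c1, OctA.c_ne h T R, fun i => OctA.comm_one h T R i _ rfl,
    fun i => OctA.comm_two h T R i _ rfl, OctA.comm_three h T R, OctA.refl_c h T R⟩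

theorem Oct.exists_not_solvable (h : Oct V D z) (hZ : center G = ⊥) :
    ∃ K : Subgroup G, K ≠ ⊤ ∧ ¬ Group.IsSolvable K := by
  obtain ⟨c, sq, ne, r1, r2, r3, r4⟩ := h.exists_roots
  refine ⟨_, fun ht => ?_, roots_not_solvable sq ne r1 r2 r3 r4⟩
  have := roots_small sq r1 r2 r3 r4 hZ ht
  rw [h.card] at this
  omega

end Cfsg.Agent.NG
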