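import Mathlib
import Cfsg.Agent.NG.T3

set_option autoImplicit false

namespace Cfsg.Agent.NG

open Subgroup Cfsg.Agent.PLocal Cfsg.Agent.PLocal.Amb Cfsg.Agent.PLocal.CP Cfsg.Agent.PLocal.JC
open scoped commutatorElement

variable {G : Type*} [Group G] [Finite G]

variable {B X X₁ X₂ L T : Subgroup G}

theorem IsB.le_secCent (h : IsB B X) {D E : Subgroup G} (hD : X ≤ 𝐍[D]) (hE : X ≤ 𝐍[E])
    (hB : ∀ b ∈ B, ∀ d ∈ D, ⁅b, d⁆ ∈ E) : ⁅D, X⁆ ≤ E := by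
  have h1 : B ≤ secCent D E := fun b hb => ⟨hE (h.syl.le hb), hB b hb⟩
  exact (le_secCent_iff'.1 ((h.le_ncl le_rfl fun e => h.notJ ((thompsonSubgroupOf_le B).trans e)).trans
    (sup_le (ncl_le h1 (le_normalizer_secCent hD hE)) (h.syl.pCoreOf_le.trans h1)))).2

theorem IsB.le_of_mem (h : IsB B X) {U : Subgroup G} (hU : X ≤ 𝐍[U]) {v : G} (hv : v ∈ VB X ⊓ U)
    (h1 : v ≠ 1) : VB X ≤ U := fun w hw => by
  by_cases h2 : w = 1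
  · exact h2 ▸ one_mem U
  obtain ⟨g, hg, rfl⟩ := h.V_facts.2.2.2.2.2.2 v hv.1 h1 w hw h2
  exact Amb.conj_mem_of_mem_normalizer (hU (pRes_le 2 X hg)) hv.2

omit [Finite G] in
theorem comm_mem_left {B : Subgroup G} {b d : G} (hb : b ∈ B) (hd : d ∈ 𝐍[B]) : ⁅b, d⁆ ∈ B := by
  rw [commutatorElement_def, mul_assoc, mul_assoc, ← mul_assoc d]
  exact mul_mem hb (Amb.conj_mem_of_mem_normalizer hd (inv_mem hb))

omit [Finite G] in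
theorem comm_mem_right {D : Subgroup G} {b d : G} (hb : b ∈ 𝐍[D]) (hd : d ∈ D) : ⁅b, d⁆ ∈ D :=
  mul_mem (Amb.conj_mem_of_mem_normalizer hb hd) (inv_mem hd)

theorem IsB.comm_Q (h : IsB B X) (hX : X ≤ L) (hT : IsSyl 2 T L) (hB : 𝐁[T] = B) :
    ⁅𝐐[L], X⁆ ≤ 𝐐[L] ⊓ X := by
  have hn := hX.trans (Amb.le_normalizer_pCoreOf 2 L)
  exact h.le_secCent hn (Amb.le_normalizer_inf hn le_normalizer) fun b hb d hd =>
    ⟨comm_mem_right (hn (h.syl.le hb)) hd, h.syl.le (comm_mem_left hb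
      (hB ▸ normalizer_le_normalizer_bau T (le_normalizer (hT.pCoreOf_le hd))))⟩

theorem IsB.le_omega (h : IsB B X) (hc : IsCharP 2 L) (hX : X ≤ L) (hT : IsSyl 2 T L) (hB : 𝐁[T] = B) :
    VB X ≤ ΩZ[2, 𝐐[L]] := by
  have h1 : 𝐐[L] ≤ 𝐍[X] := le_normalizer_iff_commutator_le_right.2 ((h.comm_Q hX hT hB).trans inf_le_right)
  have hV := isEA_of_sq (VB_sq X)
  obtain ⟨v, hv, h2⟩ := exists_ne_one (inf_centralizer_ne_bot (Amb.isPGroup_pCoreOf 2 L) (isEA_isPGroup hV)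
    (h1.trans (normalizer_le_VB X)) (ne_bot_of_card h.card (by norm_num)))
  have h3 := h.le_of_mem (Amb.le_normalizer_centralizer (hX.trans (Amb.le_normalizer_pCoreOf 2 L))) hv h2
  exact le_omegaZ hV ((le_inf ((VB_le X).trans ((omegaZ_le _).trans ((Amb.pCoreOf_le 2 X).trans hX)))
    h3).trans hc) h3

theorem IsB.isPRed (h : IsB B X) (hc : IsCharP 2 L) (hX : X ≤ L) (hT : IsSyl 2 T L) (hB : 𝐁[T] = B) :
    IsPRed 2 (ncl (VB X) L) L := by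
  have hY : ncl (VB X) L ≤ ΩZ[2, 𝐐[L]] := ncl_le (h.le_omega hc hX hT hB)
    (le_normalizer.trans (normalizer_le_normalizer_omegaQ L))
  have hYe := isEA_mono (omegaZ_isEA _) hY
  have hYQ := hY.trans (omegaZ_le _)
  have hn := le_normalizer_ncl (VB X) L
  refine ⟨hYQ.trans (Amb.pCoreOf_le 2 L), hn, hYe, fun D hD hDn hDC => le_centralizer_ncl ?_ hDn⟩
  have hVY := CP.le_ncl (VB X) L
  generalize ncl (VB X) L = Y at *
  obtain ⟨x, -, h1, h2⟩ := h.dh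
  obtain ⟨v1, v2, v3, -⟩ := h.V_facts
  have hxO : x ∈ 𝐎[2, X] := pRes_mono h1.ge h2.mem_pRes
  have hx := pRes_le 2 X hxO
  have hXD := hX.trans hDn
  have hR := hT.inf_of_le hD hDn
  have hCV : 𝐂[Y] ≤ 𝐂[VB X] := centralizer_anti hVY
  have hQV : 𝐐[X] ≤ 𝐂[VB X] := le_centralizer_iff.1 (v1.trans (omegaZ_le_centralizer _))
  have hVn := Amb.le_normalizer_centralizer v2
  have h3 : D ⊓ B ≤ 𝐂[VB X] := fun b hb => hQV (h2.mem_of_normal (D := (D ⊓ X) ⊔ 𝐂[VB X]) (n := 0)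
    (hQV.trans le_sup_right) (Amb.le_normalizer_sup (Amb.le_normalizer_inf hXD le_normalizer) hVn hx)
    (fun e => h.notMem h1 h2 (pRes_sup_le_of_le (inf_le_right.trans hVn)
      ((pRes_mono inf_le_left).trans (hDC.trans hCV)) (Amb.mem_pRes e (Nat.coprime_two_right.2 h2.odd))))
    hb.2 (by rw [pow_zero, one_mul]; exact mem_sup_left ⟨hb.1, h.syl.le hb.2⟩))
  have h4 : ⁅D, X⁆ ≤ D ⊓ 𝐂[VB X] := h.le_secCent hXD (Amb.le_normalizer_inf hXD hVn) fun b hb d hd => by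
    have hbD := hXD (h.syl.le hb)
    refine mem_inf.2 ⟨comm_mem_right hbD hd, ?_⟩
    obtain ⟨c, hc, r, hr, rfl⟩ := (mem_sup_of_le_normalizer_left (hR.le.trans (le_normalizer_pRes 2 D))).1
      (hR.pRes_sup.ge hd)
    rw [show ⁅b, c * r⁆ = ⁅b, c⁆ * c * ⁅b, r⁆ * c⁻¹ by simp only [commutatorElement_def]; group]
    exact mul_mem (mul_mem (hCV (hDC (mul_mem (comm_mem_right (normalizer_le_normalizer_pRes 2 D hbD) hc) hc)))
      (h3 ⟨comm_mem_right hbD hr.2, comm_mem_left hb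
        (hB ▸ normalizer_le_normalizer_bau T (le_normalizer hr.1))⟩)) (inv_mem (hCV (hDC hc)))
  have hU : X ≤ 𝐍[Y ⊓ 𝐂[⁅D, X⁆] ⊓ 𝐂[𝐐[X]]] := Amb.le_normalizer_inf (Amb.le_normalizer_inf (hX.trans hn)
    (Amb.le_normalizer_centralizer (Solv.le_normalizer_commutator_right D X)))
    (Amb.le_normalizer_centralizer (Amb.le_normalizer_pCoreOf 2 X))
  have hU' : D ≤ 𝐍[Y ⊓ 𝐂[⁅D, X⁆] ⊓ 𝐂[𝐐[X]]] := fun d hd => mem_normalizer_of_conj_mem fun y hy =>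
    ⟨Amb.conj_mem_of_mem_normalizer (Amb.le_normalizer_inf (hD.trans hn) (Amb.le_normalizer_centralizer
      (Solv.le_normalizer_commutator_left D X)) hd) hy.1, fun q hq => by
      have h5 := hy.1.2 _ (commutator_mem_commutator (inv_mem hd) (Amb.pCoreOf_le 2 X hq))
      calc _ = d * (⁅d⁻¹, q⁆ * (q * y)) * d⁻¹ := by simp only [commutatorElement_def]; group
        _ = d * (y * ⁅d⁻¹, q⁆ * q) * d⁻¹ := by rw [hy.2 q hq, ← mul_assoc ⁅d⁻¹, q⁆, h5]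
        _ = _ := by simp only [commutatorElement_def]; group⟩
  have hVU : VB X ≤ Y ⊓ 𝐂[⁅D, X⁆] ⊓ 𝐂[𝐐[X]] := le_inf (le_inf hVY
    (le_centralizer_iff.1 (h4.trans inf_le_right))) (le_centralizer_iff.1 hQV)
  have hUY : Y ⊓ 𝐂[⁅D, X⁆] ⊓ 𝐂[𝐐[X]] ≤ Y := inf_le_left.trans inf_le_left
  have hUD : ⁅D, X⁆ ≤ 𝐂[Y ⊓ 𝐂[⁅D, X⁆] ⊓ 𝐂[𝐐[X]]] := le_centralizer_iff.1 (inf_le_left.trans inf_le_right)
  have hUQ : Y ⊓ 𝐂[⁅D, X⁆] ⊓ 𝐂[𝐐[X]] ≤ 𝐂[𝐐[X]] := inf_le_right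
  generalize Y ⊓ 𝐂[⁅D, X⁆] ⊓ 𝐂[𝐐[X]] = U at *
  have hU2 := isEA_isPGroup (isEA_mono hYe hUY)
  have h5 : ⁅U, 𝐎[2, X]⁆ ≤ VB X := by
    have h5 := Solv.commutator_le_of_le_normalizer ((pRes_le 2 X).trans hU)
    rw [← commutator_pRes_pRes hU2 hU]
    exact commutator_mono (le_omegaZ (isEA_mono hYe (h5.trans hUY)) ((commutator_mono (hUY.trans hYQ)
      (pRes_le 2 X)).trans ((h.comm_Q hX hT hB).trans ((inf_comm _ _).le.trans (Amb.inf_pCoreOf_le hX))))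
      (h5.trans hUQ)) le_rfl
  obtain ⟨u, hu, huR, h6⟩ : ∃ u ∈ U, u ∈ 𝐂[T ⊓ D] ∧ ¬ Commute x u := by
    by_contra! e
    exact h.notMem h1 h2 (centralizer_anti hVU (pxq_gen hR.pgrp hU2 (hR.le.trans hU')
      (Nat.coprime_two_right.2 h2.odd) (fun a ha => hUD (commutator_mem_commutator ha.2 hx)) (hU hx) e))
  have h7 : u ∈ 𝐂[D] := by
    rw [← hR.pRes_sup, Amb.centralizer_sup]
    exact ⟨le_centralizer_iff.1 hDC (hUY hu), huR⟩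
  have hCn := Amb.le_normalizer_centralizer hXD
  exact le_centralizer_iff.1 (h.le_of_mem hCn ⟨h5 (commutator_mem_commutator hu hxO),
    comm_mem_left h7 (hCn hx)⟩ fun e => h6 (commutatorElement_eq_one_iff_mul_comm.1 e).symm)

/-- the pair lemma, part 1 -/
theorem IsB.blk (h : IsB B X) (hs : Group.IsSolvable L) (hc : IsCharP 2 L) (hX : X ≤ L)
    (hT : IsSyl 2 T L) (hB : 𝐁[T] = B) : VB X ≤ ΩZ[2, 𝐐[L]] ∧ IsPRed 2 (ncl (VB X) L) L ∧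
      ∃ K, Blk L (ncl (VB X) L) ⊥ K ∧ bW (ncl (VB X) L) ⊥ K = VB X := by
  have hVQ := h.le_omega hc hX hT hB
  have hBT : B ≤ T := hB ▸ bau_le T
  have hP := h.isPRed hc hX hT hB
  refine ⟨hVQ, hP, ?_⟩
  have hM := mod_of_isPRed hs hP
  have hVY := CP.le_ncl (VB X) L
  generalize ncl (VB X) L = Y at hP hM hVY ⊢
  obtain ⟨-, v2, -, -, v5, -, v7⟩ := h.V_facts
  obtain ⟨A, hA, hAQ⟩ := h.exists_maxEA
  obtain ⟨t, htA, K, ht, htV⟩ : ∃ t ∈ A, ∃ K, Tv L Y ⊥ K t ∧ t ∉ 𝐂[VB X] := by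
    by_contra! e
    exact hAQ (v5 ▸ le_inf hA.1 (hM.maxEA_le hP.ea (hP.le_syl hT) hT.le
      (maxEA_eq_of_le (hB ▸ J_le_bau T) hBT ▸ hA) (centralizer_anti hVY) e))
  obtain ⟨v, hv, h1⟩ : ∃ v ∈ VB X, v * t ≠ t * v := by
    by_contra! e; exact htV e
  obtain ⟨-, h2, -, h3, -⟩ := hM.tv_facts ht
  have h4 : ⁅v, t⁆ ∈ bW Y ⊥ (zpowers t) :=
    mem_sup_left (commutator_mem_commutator (hVY hv) (mem_zpowers t))
  have h5 : ⁅v, t⁆ ∈ VB X := by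
    rw [commutatorElement_def, mul_assoc, mul_assoc, ← mul_assoc t]
    exact mul_mem hv (Amb.conj_mem_of_mem_normalizer (v2 (h.syl.le (hA.1 htA))) (inv_mem hv))
  have h6 : ⁅v, t⁆ ≠ 1 := mt commutatorElement_eq_one_iff_mul_comm.1 h1
  have hc' : ∀ u ∈ fx Y ⊥ (zpowers t), u * t = t * u := fun u hu =>
    (le_cent_fx Y _ (mem_zpowers t) u hu)
  obtain ⟨g, hg, e⟩ := v7 _ h5 h6 v hv (by rintro rfl; simp at h1)
  obtain ⟨h7, h8, -⟩ := hM.blk_cj ht.blk (hX (pRes_le 2 X hg))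
  have h9 : v ∈ bW Y ⊥ cj(g, K) := h8 ▸ e ▸ conj_mem_cj g (h2 h4)
  rw [← by_contra fun e => h1 (hc' v (ht.fix ((hM.blk_ne ht.blk h7 e).1 h9)))] at h9
  refine ⟨K, ht.blk, (eq_of_le_of_card_le ?_ (by rw [ht.blk.card_bot, h.card])).symm⟩
  rw [← four_sup h.card (zpowers_le.2 h5) (zpowers_le.2 hv) (card_zpowers_two (VB_sq X _ h5) h6)
    fun e => h1 (hc' v (zpowers_le.2 (h3.ge h4).2 (e (mem_zpowers v))))]
  exact sup_le (zpowers_le.2 (h2 h4)) (zpowers_le.2 h9)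

theorem IsB.mem_normalizer (h : IsB B X) (hs : Group.IsSolvable L) (hc : IsCharP 2 L) (hX : X ≤ L)
    (hT : IsSyl 2 T L) (hB : 𝐁[T] = B) {g v : G} (hg : g ∈ L) (hv : v ∈ VB X) (h1 : v ≠ 1)
    (h2 : g * v * g⁻¹ ∈ VB X) : g ∈ 𝐍[VB X] := by
  obtain ⟨-, hP, K, hK, e⟩ := h.blk hs hc hX hT hB
  rw [← e] at hv h2 ⊢
  exact ((mod_of_isPRed hs hP).mem_normalizer_blk hK hg hv h1 h2).2

/-- the pair lemma, part 2 -/
theorem IsB.pair (h₁ : IsB B X₁) (h₂ : IsB B X₂) (hs : Group.IsSolvable L) (hc : IsCharP 2 L)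
    (hX₁ : X₁ ≤ L) (hX₂ : X₂ ≤ L) (hT : IsSyl 2 T L) (hB : 𝐁[T] = B) :
    X₂ ≤ 𝐍[VB X₁] ∧ VB X₂ ≤ 𝐂[VB X₁] := by
  obtain ⟨h1, hP, K, hK, e⟩ := h₁.blk hs hc hX₁ hT hB
  obtain ⟨A, hA, hAQ⟩ := h₂.exists_maxEA
  refine ⟨(h₂.le_ncl hA.1 hAQ).trans (sup_le (ncl_le_iff.2 fun g hg => ?_)
    (h₂.syl.pCoreOf_le.trans (h₁.syl.le.trans h₁.V_facts.2.1))), (h₂.blk hs hc hX₂ hT hB).1.trans
      ((omegaZ_le_centralizer _).trans (centralizer_anti (h1.trans (omegaZ_le _))))⟩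
  exact e ▸ (mod_of_isPRed hs hP).maxEA_norm hP.ea (hP.le_syl hT) hT.le
    (maxEA_eq_of_le (hB ▸ J_le_bau T) (hB ▸ bau_le T) ▸ hA) hK (hX₂ hg)

end Cfsg.Agent.NG
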