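import Mathlib
import Cfsg.Agent.NG.Pair
import Cfsg.Agent.PLocal.AmalgamS4

set_option autoImplicit false

namespace Cfsg.Agent.NG

open Subgroup Cfsg.Agent.PLocal Cfsg.Agent.PLocal.Amb Cfsg.Agent.PLocal.JC
open Cfsg.Agent.PLocal.CP (IsCharP ncl secCent)
open scoped Cfsg.Agent.PLocal.CP commutatorElement

variable {G : Type*} [Group G] [Finite G]

namespace S4

omit [Finite G] in
theorem VB_le_omega₄ (X : Subgroup G) : VB X ≤ ΩZ[2, 𝐐[X]] :=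
  le_normalizer_iff_commutator_le_left.1
    ((pRes_le 2 X).trans (le_normalizer.trans (normalizer_le_normalizer_omegaQ X)))

omit [Finite G] in
theorem VB_le_Q₄ (X : Subgroup G) : VB X ≤ 𝐐[X] := (VB_le_omega₄ X).trans (CP.omegaZ_le _)

omit [Finite G] in
theorem VB_isEA₄ (X : Subgroup G) : IsElementaryAbelian 2 (VB X) :=
  isEA_mono (CP.omegaZ_isEA _) (VB_le_omega₄ X)

omit [Finite G] in
theorem VB_sq₄ (X : Subgroup G) : ∀ v ∈ VB X, v * v = 1 := sq_eq_one_of_isEA (VB_isEA₄ X)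

omit [Finite G] in
theorem VB_le_centralizer₄ (X : Subgroup G) : VB X ≤ 𝐂[𝐐[X]] :=
  (VB_le_omega₄ X).trans (CP.omegaZ_le_centralizer _)

omit [Finite G] in
theorem exists_notMem_notMem₄ {V A B : Subgroup G} (hA : ¬ V ≤ A) (hB : ¬ V ≤ B) :
    ∃ v ∈ V, v ∉ A ∧ v ∉ B := by
  obtain ⟨a, ha, ha'⟩ := SetLike.not_le_iff_exists.1 hA
  obtain ⟨b, hb, hb'⟩ := SetLike.not_le_iff_exists.1 hB
  by_cases h1 : a ∈ B
  · by_cases h2 : b ∈ A
    · exact ⟨a * b, mul_mem ha hb, fun h => ha' ((mul_mem_cancel_right h2).1 h),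
        fun h => hb' ((mul_mem_cancel_left h1).1 h)⟩
    · exact ⟨b, hb, h2, hb'⟩
  · exact ⟨a, ha, ha', h1⟩

end S4

open S4

section IsB

variable {B X : Subgroup G}

omit [Finite G] in
theorem IsB.le₄ (h : IsB B X) : B ≤ X := h.syl.le

omit [Finite G] in
theorem IsB.two₄ (h : IsB B X) : IsPGroup 2 B := h.syl.pgrp

omit [Finite G] in
theorem IsB.Q_le₄ (h : IsB B X) : 𝐐[X] ≤ B := h.syl.pCoreOf_le

omit [Finite G] in
theorem IsB.V_le₄ (h : IsB B X) : VB X ≤ B := (VB_le_Q₄ X).trans h.Q_le₄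

omit [Finite G] in
theorem IsB.V_ne_bot₄ (h : IsB B X) : VB X ≠ ⊥ := ne_bot_of_card h.card (by norm_num)

theorem IsB.normV₄ (h : IsB B X) : X ≤ 𝐍[VB X] := h.V_facts.2.1

theorem IsB.inf_le_omega₄ (h : IsB B X) : VB X ⊓ 𝐂[B] ≤ ΩZ[2, B] :=
  le_sup_right.trans h.omega.2.1.ge

theorem IsB.comm_le₄ (h : IsB B X) : ⁅VB X, B⁆ ≤ VB X ⊓ 𝐂[B] := by
  have h2 : (VB X ⊓ 𝐂[B]).relIndex (VB X) = 2 :=
    Sym4Rec.relIndex_eq_of_card inf_le_left h.omega.2.2.1 h.card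
  have hn : B ≤ 𝐍[VB X ⊓ 𝐂[B]] :=
    le_normalizer_inf (h.le₄.trans h.normV₄) (le_normalizer_centralizer le_normalizer)
  refine commutator_le.2 fun v hv b hb => ?_
  have e : ⁅v, b⁆ = v * (b * v⁻¹ * b⁻¹) := by group
  rw [e]
  by_cases h1 : v ∈ VB X ⊓ 𝐂[B]
  · exact mul_mem h1 (conj_mem_of_mem_normalizer (hn hb) (inv_mem h1))
  · refine Amal.mul_mem_of_relIndex_two h2 hv
      (conj_mem_of_mem_normalizer (h.normV₄ (h.le₄ hb)) (inv_mem hv)) h1 fun h3 => h1 ?_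
    have := inv_conj_mem_of_mem_normalizer (hn hb) h3
    rw [show b⁻¹ * (b * v⁻¹ * b⁻¹) * b = v⁻¹ by group] at this
    exact inv_mem_iff.1 this

theorem IsB.comm_le_omega₄ (h : IsB B X) : ⁅VB X, B⁆ ≤ ΩZ[2, B] := h.comm_le₄.trans h.inf_le_omega₄

theorem IsB.not_le_centralizer₄ (h : IsB B X) : ¬ X ≤ 𝐂[ΩZ[2, B]] := fun h' => by
  have := h.omega.2.2.2
  rw [relIndex_eq_one.2 (le_inf le_rfl (le_centralizer_iff.1 h'))] at this
  omega

theorem IsB.omega_le₄ (h : IsB B X) : ΩZ[2, B] ≤ ΩZ[2, 𝐐[X]] := h.char.omegaZ_le h.syl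

theorem IsB.idx_three₄ (h : IsB B X)
    (hy : ∀ y ∈ X, Odd (orderOf y) → y ∈ 𝐂[ΩZ[2, 𝐐[X]]] → y = 1) : B.relIndex X = 3 := by
  obtain ⟨x, hx, ⟨k, hk⟩, hX, hi⟩ := h.cyc
  have hxN : zpowers x ≤ 𝐍[VB X] := zpowers_le.2 (h.normV₄ hx)
  have h6 := four_le_six (VB_sq₄ X) h.card hxN
  have hd : (𝐂[VB X]).relIndex (zpowers x) ∣ 3 ^ k := by
    refine (relIndex_dvd_card _ _).trans ?_
    rw [Nat.card_zpowers]
    exact orderOf_dvd_of_pow_eq_one hk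
  obtain ⟨j, -, hj⟩ := (Nat.dvd_prime_pow Nat.prime_three).1 hd
  have h3 : x ^ 3 ∈ 𝐂[VB X] := by
    have := pow_relIndex_mem' (le_normalizer_centralizer hxN) (mem_zpowers x)
    rw [hj] at h6 this
    rcases j with _ | _ | j
    · exact pow_mem (by simpa using this) 3
    · simpa using this
    · exfalso
      have : 0 < 3 ^ j := by positivity
      rw [pow_succ, pow_succ] at h6
      omega
  have hxo : Odd (orderOf x) :=
    Odd.of_dvd_nat (Odd.pow (by decide : Odd 3)) (orderOf_dvd_of_pow_eq_one hk)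
  have hx3 : x ^ 3 = 1 := by
    refine hy _ (pow_mem hx 3) (Odd.of_dvd_nat hxo (orderOf_pow_dvd 3)) ?_
    rw [h.omega.1, Amb.centralizer_sup]
    exact ⟨le_centralizer_iff.1 inf_le_right (pow_mem hx 3), h3⟩
  have hxQ : x ∉ 𝐐[X] := fun hq => by
    have e : X = B := hX.trans (sup_of_le_right (zpowers_le.2 (h.Q_le₄ hq)))
    have := h.idx
    rw [e, pCoreOf_eq_self h.two₄, relIndex_self] at this
    omega
  have hN : (𝐐[X]).relIndex (zpowers x ⊔ 𝐐[X]) = 3 :=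
    relIndex_zpowers_sup (le_normalizer_pCoreOf 2 X hx) hxQ (hx3 ▸ one_mem _)
  have hBN : B ≤ 𝐍[zpowers x ⊔ 𝐐[X]] := fun b hb => by
    by_cases hq : b ∈ 𝐐[X]
    · exact le_normalizer (mem_sup_right hq)
    refine mem_normalizer_of_cj_le ?_
    rw [cj_sup, cj_of_mem_normalizer (le_normalizer_pCoreOf 2 X (h.le₄ hb))]
    refine sup_le (cj_le_iff_forall.2 ?_) le_sup_right
    rintro _ ⟨n, rfl⟩
    rw [← conj_zpow]
    refine zpow_mem ?_ n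
    have := mul_mem (mem_sup_right (hi b hb hq) : _ ∈ zpowers x ⊔ 𝐐[X])
      (inv_mem (mem_sup_left (mem_zpowers x)))
    rwa [mul_inv_cancel_right] at this
  have hXN : X = (zpowers x ⊔ 𝐐[X]) ⊔ B := by
    rw [sup_assoc, sup_of_le_right h.Q_le₄]; exact hX
  have hNX : zpowers x ⊔ 𝐐[X] ≤ X := sup_le (zpowers_le.2 hx) (pCoreOf_le 2 X)
  have hQN : 𝐐[zpowers x ⊔ 𝐐[X]] = 𝐐[X] := by
    rw [pCoreOf_eq_inf_of_normal hNX (hXN.le.trans (sup_le le_normalizer hBN)),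
      inf_of_le_right le_sup_right]
  have := (isSyl_sup_of_idx (by rw [hQN]; exact hN) h.two₄ (by rw [hQN]; exact h.Q_le₄) hBN).2.1
  rwa [← hXN] at this

theorem IsB.dPar₄ (h : IsB B X) (h3 : B.relIndex X = 3) : Amal.DPar X B :=
  ⟨inferInstance, h.le₄, h.two₄, h3 ▸ Nat.prime_three, by omega, h.idx, h.char, h.not_le_centralizer₄⟩

/-- the Baumann property of a 2-overgroup -/
theorem IsB.inf_centralizer_le₄ (h : IsB B X) {T : Subgroup G} (hBT : B ≤ T) (hT : 𝐁[T] = B) :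
    T ⊓ 𝐂[ΩZ[2, B]] ≤ B := by
  have hJ : 𝐉[B] = 𝐉[T] := thompsonSubgroupOf_eq_of_le ((J_le_bau T).trans hT.le) hBT
  have h1 : ΩZ[2, 𝐉[B]] ≤ ΩZ[2, B] :=
    CP.le_omegaZ (CP.omegaZ_isEA _) ((CP.omegaZ_le _).trans (thompsonSubgroupOf_le B))
      (le_centralizer_iff.1 (h.bau.ge.trans inf_le_right))
  conv_rhs => rw [← hT, ← hJ]
  exact inf_le_inf_left _ (centralizer_anti h1)

/-- the case `|Z| = 4` -/
theorem IsB.res_centralizer₄ (hG : Hyp G) (h : IsB B X) (l : Lim B X)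
    (hC : ΩZ[2, B] ⊓ 𝐂[X] ≠ ⊥) : X ≤ 𝐍[𝐎[2, 𝐂[ΩZ[2, B]]]] := by
  have hC2 : IsPGroup 2 ↥(ΩZ[2, B] ⊓ 𝐂[X]) := (CP.isPGroup_omegaZ B).to_le inf_le_left
  have hXL : X ≤ 𝐍[ΩZ[2, B] ⊓ 𝐂[X]] :=
    (le_centralizer_iff.1 inf_le_right).trans (centralizer_le_normalizer' _)
  obtain ⟨T, hT, hBT⟩ := exists_isSyl_ge h.two₄ (h.le₄.trans hXL)
  have hB := l _ hC2 hC hXL T hT.pgrp hBT hT.le
  obtain ⟨v, hv, hv1⟩ := exists_ne_one (ne_bot_of_card h.omega.2.2.1 (by norm_num))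
  have hKN : 𝐂[ΩZ[2, B]] ≤ 𝐍[VB X] := fun g hg => by
    refine h.mem_normalizer (hG.solv _ hC2 hC) (hG.char _ hC2 hC) hXL hT hB
      (centralizer_le_normalizer' _ (centralizer_anti inf_le_left hg)) hv.1 hv1 ?_
    rw [← hg v (h.inf_le_omega₄ hv), mul_inv_cancel_right]
    exact hv.1
  have h1 : 𝐎[2, 𝐂[ΩZ[2, B]]] ≤ 𝐂[ΩZ[2, 𝐐[X]]] := by
    rw [h.omega.1, Amb.centralizer_sup]
    refine le_inf ((pRes_le 2 _).trans (centralizer_anti (le_sup_left.trans h.omega.2.1.ge)))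
      (pRes_le_iff.2 fun g hg ho => ?_)
    have h2 : (VB X ⊓ 𝐂[B]).relIndex (VB X) = 2 :=
      Sym4Rec.relIndex_eq_of_card inf_le_left h.omega.2.2.1 h.card
    exact Sym4Rec.mem_centralizer_of_relIndex_le_two (VB_sq₄ X) inf_le_left h2.le (by omega)
      (coprime_two_iff.1 ho) (hKN hg) (centralizer_anti h.inf_le_omega₄ hg)
  rw [← pRes_eq_of_le h1 (centralizer_anti h.omega_le₄)]
  exact (le_normalizer_centralizer (le_normalizer.trans (normalizer_le_normalizer_omegaQ X))).trans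
    (normalizer_le_normalizer_pRes 2 _)

section two

variable (h : IsB B X) (h2 : Nat.card ΩZ[2, B] = 2)
include h h2

theorem IsB.inf_eq_omega₄ : VB X ⊓ 𝐂[B] = ΩZ[2, B] :=
  eq_of_le_of_card_le h.inf_le_omega₄ (h2.trans h.omega.2.2.1.symm).le

theorem IsB.omega_le_V₄ : ΩZ[2, B] ≤ VB X := (h.inf_eq_omega₄ h2).ge.trans inf_le_left

theorem IsB.omegaQ_eq₄ : ΩZ[2, 𝐐[X]] = VB X := by
  have h1 : ΩZ[2, B] ⊓ 𝐂[X] = ⊥ :=
    (eq_bot_or_eq_of_le_of_card_prime h2 inf_le_left).resolve_right fun e =>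
      h.not_le_centralizer₄ (le_centralizer_iff.1 (e.ge.trans inf_le_right))
  have h3 : ΩZ[2, 𝐐[X]] ⊓ 𝐂[X] = ⊥ :=
    le_bot_iff.1 (h1 ▸ le_inf (le_sup_left.trans h.omega.2.1.ge) inf_le_right)
  rw [h.omega.1, h3, bot_sup_eq]

/-- critical distance 1 -/
theorem IsB.three_of_crit₄ {X' : Subgroup G} (h' : IsB B X') (hc : ¬ VB X' ≤ 𝐐[X]) :
    B.relIndex X = 3 := by
  refine h.idx_three₄ fun y hy ho hc' => ?_
  have h1 : ⁅𝐐[X], VB X'⁆ ≤ VB X := by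
    rw [commutator_comm]
    exact (commutator_mono le_rfl h.Q_le₄).trans (h'.comm_le_omega₄.trans (h.omega_le_V₄ h2))
  have h3 := CP.commutator_ncl_le (le_normalizer_pCoreOf 2 X) h.normV₄
    (h'.V_le₄.trans (h.le₄.trans h.normV₄)) h1
  have h4 : y ∈ ncl (VB X') X :=
    pRes_sup_le (isPGroup_pCoreOf 2 X) ((pCoreOf_le 2 X).trans (CP.le_normalizer_ncl _ _))
      (mem_pRes (h.le_ncl h'.V_le₄ hc hy) (coprime_two_iff.2 ho))
  refine eq_one_of_char h.char hy ho (centralizer_anti (VB_le_omega₄ X) hc')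
    (isEA_isPGroup (VB_isEA₄ X)) fun q hq => h3 ?_
  rw [commutator_comm]
  exact commutator_mem_commutator h4 hq

/-- critical pairs -/
theorem IsB.crit₄ {B' X' : Subgroup G} (h' : IsB B' X') (h2' : Nat.card ΩZ[2, B'] = 2)
    (h1 : VB X ≤ B') (h1' : VB X' ≤ B) (hc : ¬ VB X ≤ 𝐐[X']) :
    ΩZ[2, B] = ΩZ[2, B'] ∧ ¬ VB X' ≤ 𝐐[X] := by
  have hne : ⁅VB X, VB X'⁆ ≠ ⊥ := fun e => hc (h'.V_facts.2.2.2.2.1.le.trans' (le_inf h1
    (commutator_eq_bot_iff_le_centralizer.1 e)))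
  have e1 := (eq_bot_or_eq_of_le_of_card_prime h2
    ((commutator_mono le_rfl h1').trans h.comm_le_omega₄)).resolve_left hne
  have e2 := (eq_bot_or_eq_of_le_of_card_prime h2' (B := ⁅VB X, VB X'⁆) (by
    rw [commutator_comm]
    exact (commutator_mono le_rfl h1).trans h'.comm_le_omega₄)).resolve_left hne
  exact ⟨e1.symm.trans e2, fun e => hne (commutator_eq_bot_iff_le_centralizer.2
    ((VB_le_centralizer₄ X).trans (centralizer_anti e)))⟩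

end two

end IsB

namespace S4

/-- an edge in the case `|Z| = 2` -/
structure Fr (T α β : Subgroup G) : Prop where
  a : IsB T α
  b : IsB T β
  free : ∀ R : Subgroup G, IsPGroup 2 R → α ≤ 𝐍[R] → β ≤ 𝐍[R] → R = ⊥
  two : Nat.card ΩZ[2, T] = 2
  bad : ¬ (T.relIndex α = 3 ∧ T.relIndex β = 3)

omit [Finite G] in
theorem Fr.symm {T α β : Subgroup G} (h : Fr T α β) : Fr T β α :=
  ⟨h.b, h.a, fun R hR h1 h2 => h.free R hR h2 h1, h.two, fun e => h.bad e.symm⟩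

theorem Fr.cj {T α β : Subgroup G} (h : Fr T α β) (g : G) : Fr cj(g, T) cj(g, α) cj(g, β) := by
  refine ⟨h.a.cj g, h.b.cj g, fun R hR h1 h2 => ?_, by rw [CP.omegaZ_cj, card_cj, h.two],
    by rw [Amal.relIndex_cj, Amal.relIndex_cj]; exact h.bad⟩
  refine cj_eq_bot.1 (h.free cj(g⁻¹, R) (isPGroup_cj _ hR) ?_ ?_)
  · rw [normalizer_cj]; exact cj_le_iff.1 h1
  · rw [normalizer_cj]; exact cj_le_iff.1 h2

/-- walks of given length -/
def Walk : ℕ → Subgroup G → Subgroup G → Prop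
  | 0, α, β => α = β
  | n + 1, α, β => ∃ γ T, Walk n α γ ∧ Fr T γ β

omit [Finite G] in
theorem Walk.cons {T α β : Subgroup G} (h : Fr T α β) :
    ∀ {n : ℕ} {γ : Subgroup G}, Walk n β γ → Walk (n + 1) α γ
  | 0, _, hw => ⟨α, T, rfl, hw ▸ h⟩
  | _ + 1, _, ⟨δ, T', hw, hf⟩ => ⟨δ, T', Walk.cons h hw, hf⟩

omit [Finite G] in
theorem Walk.uncons {α : Subgroup G} :
    ∀ {n : ℕ} {γ : Subgroup G}, Walk (n + 1) α γ → ∃ β T, Fr T α β ∧ Walk n β γ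
  | 0, γ, ⟨_, T, hw, hf⟩ => ⟨γ, T, hw ▸ hf, rfl⟩
  | _ + 1, _, ⟨δ, T', hw, hf⟩ =>
    let ⟨β, T, h1, h2⟩ := Walk.uncons hw
    ⟨β, T, h1, δ, T', h2, hf⟩

omit [Finite G] in
theorem Walk.symm {α : Subgroup G} : ∀ {n : ℕ} {γ : Subgroup G}, Walk n α γ → Walk n γ α
  | 0, _, hw => Eq.symm hw
  | _ + 1, _, ⟨_, _, hw, hf⟩ => Walk.cons hf.symm (Walk.symm hw)

theorem Walk.cj {α : Subgroup G} (g : G) :
    ∀ {n : ℕ} {γ : Subgroup G}, Walk n α γ → Walk n cj(g, α) cj(g, γ)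
  | 0, _, hw => congrArg _ hw
  | _ + 1, _, ⟨_, _, hw, hf⟩ => ⟨_, _, Walk.cj g hw, hf.cj g⟩

theorem step {n : ℕ} (ih : ∀ α β : Subgroup G, Walk (n + 1) α β → VB α ≤ 𝐐[β])
    {α α' : Subgroup G} (hw : Walk (n + 2) α α') : VB α ≤ 𝐐[α'] := by
  by_contra hc
  obtain ⟨γ, T', hγ, f'⟩ := hw
  obtain ⟨α₁, T, f, h1⟩ := hγ.uncons
  have hγ' := hγ
  obtain ⟨δ, T'', hδ, f''⟩ := hγ'
  have i1 : VB α ≤ T' := (ih _ _ hγ).trans f'.a.Q_le₄
  have i2 : VB α' ≤ T := (ih _ _ (Walk.symm (n := n + 1) ⟨γ, T', h1, f'⟩)).trans f.b.Q_le₄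
  obtain ⟨e1, hc'⟩ := f.a.crit₄ f.two f'.b f'.two i1 i2 hc
  have n4 : ∀ {Z : Subgroup G}, Nat.card Z = 2 → ¬ VB α ≤ Z := fun hZ hle => by
    have := card_le_card_of_le hle
    rw [f.a.card, hZ] at this
    omega
  obtain ⟨v, hv, hv1, hv2⟩ := exists_notMem_notMem₄ (n4 f.two) (n4 f''.two)
  obtain ⟨z, hz, hz1⟩ := exists_ne_one (ne_bot_of_card f.two (by norm_num))
  obtain ⟨g, hg, hgz⟩ := f.a.V_facts.2.2.2.2.2.2 z (f.a.omega_le_V₄ f.two hz) hz1 v hv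
    (fun e => hv1 (e ▸ one_mem _))
  have hg' : g ∈ α := pRes_le 2 α hg
  have fμ := f.cj g
  rw [cj_of_mem hg'] at fμ
  have hvμ : v ∈ ΩZ[2, cj(g, T)] := by rw [CP.omegaZ_cj, ← hgz]; exact conj_mem_cj g hz
  by_cases hμ : VB cj(g, α₁) ≤ 𝐐[γ]
  · have j1 : α ≤ cj(g, T) ⊔ VB α' := by
      refine (f.a.le_sup hg' fun hn => hv1 ?_).trans (sup_le ?_ le_sup_left)
      · rw [f.a.inf_eq_omega₄ f.two] at hn
        exact hgz ▸ conj_mem_of_mem_normalizer hn hz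
      · have := (Amal.eq_or_eq_of_relIndex_prime (by rw [f.a.idx]; exact Nat.prime_two) le_sup_left
          (sup_le f.a.Q_le₄ i2)).resolve_left fun e => hc' (le_sup_right.trans e.le)
        exact this.ge.trans (sup_le_sup_right fμ.a.Q_le₄ _)
    have j2 : α ≤ 𝐍[VB cj(g, α₁) ⊔ VB α] := by
      refine j1.trans (sup_le (le_normalizer_sup (fμ.b.le₄.trans fμ.b.normV₄)
        (fμ.a.le₄.trans fμ.a.normV₄)) (le_normalizer_iff_commutator_le_left.2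
          (CommMod.commutator_sup_le (le_sup_left.trans le_normalizer)
            (le_sup_right.trans le_normalizer) ?_ ?_)))
      · rw [commutator_comm]
        exact (commutator_mono le_rfl (hμ.trans f'.a.Q_le₄)).trans (f'.b.comm_le_omega₄.trans
          (e1.ge.trans ((f.a.omega_le_V₄ f.two).trans le_sup_right)))
      · exact (le_normalizer_iff_commutator_le_left.1 (i2.trans (f.a.le₄.trans f.a.normV₄))).trans
          le_sup_right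
    have j3 : ⁅VB cj(g, α₁) ⊔ VB α, 𝐐[α]⁆ ≤ ΩZ[2, cj(g, T)] :=
      CommMod.commutator_sup_le
        (fμ.b.V_le₄.trans (le_normalizer.trans (CP.normalizer_le_normalizer_omegaZ _)))
        (fμ.a.V_le₄.trans (le_normalizer.trans (CP.normalizer_le_normalizer_omegaZ _)))
        ((commutator_mono le_rfl fμ.a.Q_le₄).trans fμ.b.comm_le_omega₄)
        ((commutator_mono le_rfl fμ.a.Q_le₄).trans fμ.a.comm_le_omega₄)
    have j4 := (eq_bot_or_eq_of_le_of_card_prime fμ.two j3).resolve_right fun e =>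
      fμ.a.not_le_centralizer₄ fun x hx => Sym4Rec.mem_centralizer_of_card_le_two fμ.two.le
        (e ▸ le_normalizer_commutator j2 (le_normalizer_pCoreOf 2 α) hx)
    have j5 : VB cj(g, α₁) ≤ 𝐂[𝐐[α]] := le_sup_left.trans (commutator_eq_bot_iff_le_centralizer.1 j4)
    have j6 : VB cj(g, α₁) = VB α := by
      refine eq_of_le_of_card_le ?_ (f.a.card.trans fμ.b.card.symm).le
      rw [← f.a.omegaQ_eq₄ f.two]
      exact CP.le_omegaZ (VB_isEA₄ _) (f.a.char.trans' (le_inf (fμ.b.V_le₄.trans fμ.a.le₄) j5)) j5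
    exact f.a.V_ne_bot₄ (fμ.free _ (isEA_isPGroup (VB_isEA₄ α)) f.a.normV₄ (j6 ▸ fμ.b.normV₄))
  · have := (fμ.b.crit₄ fμ.two f''.b f''.two ((ih _ _ (Walk.cons fμ.symm hδ)).trans f''.a.Q_le₄)
      ((ih _ _ hγ.symm).trans fμ.a.Q_le₄) hμ).1
    exact hv2 (this ▸ hvμ)

theorem walk_le : ∀ (n : ℕ) (α β : Subgroup G), Walk n α β → VB α ≤ 𝐐[β]
  | 0, α, _, h => h ▸ VB_le_Q₄ α
  | 1, α, β, ⟨_, T, h, f⟩ => by
    obtain rfl : α = _ := h
    by_contra hc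
    exact f.bad ⟨f.a.three_of_crit₄ f.two f.b (f.a.crit₄ f.two f.b f.two f.a.V_le₄ f.b.V_le₄ hc).2,
      f.b.three_of_crit₄ f.two f.a hc⟩
  | n + 2, _, _, h => step (walk_le (n + 1)) h

theorem Fr.false {T α β : Subgroup G} (f : Fr T α β) : False := by
  have key : ∀ g : G, (∃ n, Walk n α cj(g, α)) →
      g ∈ 𝐍[⨆ γ : {γ : Subgroup G // ∃ n, Walk n α γ}, VB γ.1] := fun g ⟨m, hm⟩ => by
    refine mem_normalizer_of_cj_le ?_
    rw [cj_iSup]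
    refine iSup_le fun ⟨γ, n, hn⟩ => ?_
    have tr : ∀ {n : ℕ} {γ : Subgroup G}, Walk n cj(g, α) γ → Walk (m + n) α γ := by
      intro n
      induction n with
      | zero => intro γ h; exact h ▸ hm
      | succ n ih => rintro γ ⟨δ, T', h1, h2⟩; exact ⟨δ, T', ih h1, h2⟩
    rw [← VB_cj]
    exact le_iSup (fun γ : {γ : Subgroup G // ∃ n, Walk n α γ} => VB γ.1) ⟨_, _, tr (hn.cj g)⟩
  have h1 := f.free _ ((isPGroup_pCoreOf 2 α).to_le
    (iSup_le fun γ : {γ : Subgroup G // ∃ n, Walk n α γ} =>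
      γ.2.elim fun n hn => walk_le n _ _ hn.symm))
    (fun g hg => key g ⟨0, (cj_of_mem hg).symm⟩) (fun g hg => key g ⟨2, β, cj(g, T),
      ⟨α, T, rfl, f⟩, by have := f.symm.cj g; rwa [cj_of_mem hg] at this⟩)
  exact f.a.V_ne_bot₄ (le_bot_iff.1 (h1 ▸
    le_iSup (fun γ : {γ : Subgroup G // ∃ n, Walk n α γ} => VB γ.1) ⟨α, 0, rfl⟩))

end S4

variable {B X₁ X₂ : Subgroup G}

theorem idx_of_free₄ (h : Hyp G) (h₁ : IsB B X₁) (h₂ : IsB B X₂) (l₁ : Lim B X₁) (l₂ : Lim B X₂)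
    (hf : ∀ R : Subgroup G, IsPGroup 2 R → X₁ ≤ 𝐍[R] → X₂ ≤ 𝐍[R] → R = ⊥) :
    B.relIndex X₁ = 3 ∧ B.relIndex X₂ = 3 := by
  by_cases h2 : Nat.card ΩZ[2, B] = 2
  · by_contra hc
    exact S4.Fr.false ⟨h₁, h₂, hf, h2, hc⟩
  have hC : ∀ {X : Subgroup G}, IsB B X → ΩZ[2, B] ⊓ 𝐂[X] ≠ ⊥ := fun k e => by
    have := k.omega.2.2.2
    rw [e, relIndex_bot_left] at this
    exact h2 this
  have hZ : ΩZ[2, B] ≠ ⊥ := fun e => hC h₁ (by rw [e, bot_inf_eq])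
  have h0 : 𝐎[2, 𝐂[ΩZ[2, B]]] = ⊥ := by
    by_contra hne
    exact Q_ne_bot_of_normal (h.charC (CP.isPGroup_omegaZ B) hZ) (pRes_le 2 _)
      (le_normalizer_pRes 2 _) hne (hf _ (isPGroup_pCoreOf 2 _)
      ((h₁.res_centralizer₄ h l₁ (hC h₁)).trans (normalizer_le_normalizer_pCoreOf 2 _))
      ((h₂.res_centralizer₄ h l₂ (hC h₂)).trans (normalizer_le_normalizer_pCoreOf 2 _)))
  have key : ∀ {X : Subgroup G}, IsB B X → B.relIndex X = 3 := fun k =>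
    k.idx_three₄ fun y _ ho hc => mem_bot.1 (h0 ▸ mem_pRes (centralizer_anti k.omega_le₄ hc)
      (coprime_two_iff.2 ho))
  exact ⟨key h₁, key h₂⟩

/-- a core-free pair is an `S₄`-pair -/
theorem s4_of_free (h : Hyp G) (h₁ : IsB B X₁) (h₂ : IsB B X₂) (l₁ : Lim B X₁) (l₂ : Lim B X₂)
    (hf : ∀ R : Subgroup G, IsPGroup 2 R → X₁ ≤ 𝐍[R] → X₂ ≤ 𝐍[R] → R = ⊥) :
    Amal.S4Pair X₁ X₂ B := by
  obtain ⟨e₁, e₂⟩ := idx_of_free₄ h h₁ h₂ l₁ l₂ hf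
  exact Amal.s4Pair (h₁.dPar₄ e₁) (h₂.dPar₄ e₂) (e₁.trans e₂.symm)
    fun N hN => hf N (h₁.two₄.to_le hN)

end Cfsg.Agent.NG
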