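import Mathlib
import Cfsg.Agent.NG.S4
import Cfsg.Agent.Transfer.ThompsonExtremal

set_option autoImplicit false

namespace Cfsg.Agent.NG

open Subgroup Cfsg.Agent.PLocal Cfsg.Agent.PLocal.Amb Cfsg.Agent.PLocal.JC
open Cfsg.Agent.PLocal.CP (IsCharP ncl secCent)
open scoped Cfsg.Agent.PLocal.CP commutatorElement

variable {G : Type*} [Group G] [Finite G]

namespace Small

open S4

/-- an `S₄`-pair -/
structure SP (B X₁ X₂ : Subgroup G) : Prop where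
  hyp : Hyp G
  b₁ : IsB B X₁
  b₂ : IsB B X₂
  l₁ : Lim B X₁
  l₂ : Lim B X₂
  s4 : Amal.S4Pair X₁ X₂ B

namespace SP

variable {B X₁ X₂ : Subgroup G} (h : SP B X₁ X₂)
include h

omit [Finite G] in
theorem symm : SP B X₂ X₁ := ⟨h.hyp, h.b₂, h.b₁, h.l₂, h.l₁, h.s4.symm⟩

omit [Finite G] in
theorem sup_eq : 𝐐[X₁] ⊔ 𝐐[X₂] = B :=
  (Amal.eq_or_eq_of_relIndex_prime (by rw [h.b₁.idx]; exact Nat.prime_two) le_sup_left
    (sup_le h.b₁.Q_le₄ h.b₂.Q_le₄)).resolve_left fun e => h.s4.not_le₂ (le_sup_right.trans e.le)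

theorem relIndex_Q : (𝐐[X₂]).relIndex 𝐐[X₁] = 2 := by
  have h1 := Amal.relIndex_le_two h.b₂.idx h.b₁.Q_le₄
  have h2 : (𝐐[X₂]).relIndex 𝐐[X₁] ≠ 0 := FiniteIndex.index_ne_zero
  have h3 : (𝐐[X₂]).relIndex 𝐐[X₁] ≠ 1 := fun e => h.s4.not_le₁ (relIndex_eq_one.1 e)
  omega

omit [Finite G] in
theorem card_Q : Nat.card 𝐐[X₁] * 2 = Nat.card B := by
  have := card_mul_relIndex_of_le h.b₁.Q_le₄
  rwa [h.b₁.idx] at this

theorem card_inf : Nat.card ↥(𝐐[X₁] ⊓ 𝐐[X₂]) * 4 = Nat.card B := by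
  have h1 := card_inf_mul_relIndex 𝐐[X₂] 𝐐[X₁]
  rw [h.relIndex_Q, inf_comm] at h1
  have := h.card_Q
  omega

theorem not_commute {a b : G} (ha : a ∈ 𝐐[X₁]) (ha' : a ∉ 𝐐[X₂]) (hb : b ∈ 𝐐[X₂])
    (hb' : b ∉ 𝐐[X₁]) : a * b ≠ b * a := fun e => by
  refine hb' (h.b₁.char ⟨h.b₁.le₄ (h.b₂.Q_le₄ hb), ?_⟩)
  have h1 := sup_zpowers_eq (C := 𝐐[X₁] ⊓ 𝐐[X₂])
    (by rw [inf_relIndex_left, h.relIndex_Q]; exact Nat.prime_two) inf_le_left ha fun h' => ha' h'.2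
  rw [← h1, Amb.centralizer_sup, Amb.centralizer_zpowers]
  exact ⟨mem_centralizer_singleton_iff.2 e.symm,
    centralizer_anti inf_le_right (isEA_le_centralizer h.s4.ea₂ hb)⟩

theorem mem_or_mem {x : G} (hx : x ∈ B) (h2 : x * x = 1) : x ∈ 𝐐[X₁] ∨ x ∈ 𝐐[X₂] := by
  by_contra hc
  push Not at hc
  rw [← h.sup_eq] at hx
  obtain ⟨a, ha, b, hb, rfl⟩ := (mem_sup_of_le_normalizer_right
    (h.b₁.Q_le₄.trans (h.b₂.le₄.trans (le_normalizer_pCoreOf 2 _)))).1 hx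
  refine h.not_commute ha (fun h' => hc.2 (mul_mem h' hb)) hb (fun h' => hc.1 (mul_mem ha h')) ?_
  have e1 := sq_eq_one_of_isEA h.s4.ea₁ a ha
  have e2 := sq_eq_one_of_isEA h.s4.ea₂ b hb
  calc a * b = (a * b)⁻¹ := (inv_eq_of_mul_eq_one_right h2).symm
    _ = b * a := by
      rw [mul_inv_rev, inv_eq_of_mul_eq_one_right e1, inv_eq_of_mul_eq_one_right e2]

theorem ea_le {E : Subgroup G} (hE : IsElementaryAbelian 2 E) (hET : E ≤ B) :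
    E ≤ 𝐐[X₁] ∨ E ≤ 𝐐[X₂] := by
  by_contra hc
  push Not at hc
  obtain ⟨b, hb, hb'⟩ := SetLike.not_le_iff_exists.1 hc.1
  obtain ⟨a, ha, ha'⟩ := SetLike.not_le_iff_exists.1 hc.2
  exact h.not_commute ((h.mem_or_mem (hET ha) (sq_eq_one_of_isEA hE a ha)).resolve_right ha') ha'
    ((h.mem_or_mem (hET hb) (sq_eq_one_of_isEA hE b hb)).resolve_left hb') hb' (isEA_comm hE ha hb)

theorem cj_Q {g : G} (hg : g ∈ 𝐍[B]) : cj(g, 𝐐[X₁]) = 𝐐[X₁] ∨ cj(g, 𝐐[X₁]) = 𝐐[X₂] := by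
  have := h.card_Q
  have := h.symm.card_Q
  exact (h.ea_le (isEA_map h.s4.ea₁ _) (cj_le_of_mem_normalizer h.b₁.Q_le₄ hg)).imp
    (fun e => eq_of_le_of_card_le e (card_cj g _).ge)
    fun e => eq_of_le_of_card_le e (by rw [card_cj]; omega)

omit [Finite G] in
theorem inf_le_centralizer : 𝐐[X₁] ⊓ 𝐐[X₂] ≤ 𝐂[B] := by
  conv_rhs => rw [← h.sup_eq, Amb.centralizer_sup]
  exact inf_le_inf (isEA_le_centralizer h.s4.ea₁) (isEA_le_centralizer h.s4.ea₂)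

theorem omega_eq : ΩZ[2, B] = 𝐐[X₁] ⊓ 𝐐[X₂] :=
  le_antisymm (le_inf (h.b₁.omega_le₄.trans (CP.omegaZ_le _)) (h.b₂.omega_le₄.trans (CP.omegaZ_le _)))
    (CP.le_omegaZ (isEA_mono h.s4.ea₁ inf_le_left) (inf_le_left.trans h.b₁.Q_le₄) h.inf_le_centralizer)

theorem V_not_le : ¬ VB X₁ ≤ 𝐐[X₂] := fun e => by
  have h1 := h.b₁.omega.2.2.1
  rw [inf_of_le_left ((le_inf (VB_le_Q₄ _) e).trans h.inf_le_centralizer), h.b₁.card] at h1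
  omega

theorem comm_Q : ⁅𝐐[X₁], B⁆ ≤ VB X₁ ⊓ 𝐂[B] := by
  have hn : B ≤ 𝐍[VB X₁ ⊓ 𝐂[B]] :=
    le_normalizer_inf (h.b₁.le₄.trans h.b₁.normV₄) (le_normalizer_centralizer le_normalizer)
  have h1 : 𝐐[X₁] ≤ ΩZ[2, 𝐐[X₁]] := CP.le_omegaZ h.s4.ea₁ le_rfl (isEA_le_centralizer h.s4.ea₁)
  refine (commutator_mono (h1.trans h.b₁.omega.1.le) le_rfl).trans (CommMod.commutator_sup_le
    (inf_le_left.trans ((CP.omegaZ_le _).trans (h.b₁.Q_le₄.trans hn))) (h.b₁.V_le₄.trans hn) ?_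
    h.b₁.comm_le₄)
  rw [commutator_eq_bot_iff_le_centralizer.2 (inf_le_right.trans (centralizer_anti h.b₁.le₄))]
  exact bot_le

theorem comm_ne : ⁅𝐐[X₁], 𝐐[X₂]⁆ ≠ ⊥ := fun e => h.s4.not_le₁
  (h.b₂.char.trans' (le_inf (h.b₁.Q_le₄.trans h.b₂.le₄) (commutator_eq_bot_iff_le_centralizer.1 e)))

theorem R_eq : VB X₁ ⊓ 𝐂[B] = VB X₂ ⊓ 𝐂[B] := by
  have e1 := (eq_bot_or_eq_of_le_of_card_prime h.b₁.omega.2.2.1
    ((commutator_mono le_rfl h.b₂.Q_le₄).trans h.comm_Q)).resolve_left h.comm_ne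
  have e2 := (eq_bot_or_eq_of_le_of_card_prime h.b₂.omega.2.2.1
    ((commutator_mono le_rfl h.b₁.Q_le₄).trans h.symm.comm_Q)).resolve_left h.symm.comm_ne
  rw [← e1, ← e2, commutator_comm]

theorem comm_eq : ⁅B, B⁆ = VB X₁ ⊓ 𝐂[B] := by
  have hn : B ≤ 𝐍[VB X₁ ⊓ 𝐂[B]] :=
    le_normalizer_inf (h.b₁.le₄.trans h.b₁.normV₄) (le_normalizer_centralizer le_normalizer)
  refine (eq_bot_or_eq_of_le_of_card_prime h.b₁.omega.2.2.1 ?_).resolve_left fun e =>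
    h.comm_ne (le_bot_iff.1 (e ▸ commutator_mono h.b₁.Q_le₄ h.b₂.Q_le₄))
  refine (commutator_mono h.sup_eq.ge le_rfl).trans (CommMod.commutator_sup_le
    (h.b₁.Q_le₄.trans hn) (h.b₂.Q_le₄.trans hn) h.comm_Q ?_)
  rw [h.R_eq]
  exact h.symm.comm_Q

theorem norm_R : 𝐍[B] ≤ 𝐍[VB X₁ ⊓ 𝐂[B]] := by
  rw [← h.comm_eq]
  exact le_normalizer_commutator le_rfl le_rfl

theorem cent_R : 𝐍[B] ≤ 𝐂[VB X₁ ⊓ 𝐂[B]] := fun _ hg =>
  Sym4Rec.mem_centralizer_of_card_le_two h.b₁.omega.2.2.1.le (h.norm_R hg)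

theorem not_eight (h8 : Nat.card B = 8) : False := by
  obtain ⟨S, hS, hBS⟩ := exists_isSyl_ge h.b₁.two₄ (le_top : B ≤ ⊤)
  obtain ⟨E, hES, hE, h8E⟩ := h.hyp.exists_eight hS
  have hBT : B ≤ S ⊓ 𝐍[VB X₁] := le_inf hBS (h.b₁.le₄.trans h.b₁.normV₄)
  have hT := h.l₁ _ (isEA_isPGroup (VB_isEA₄ X₁)) h.b₁.V_ne_bot₄ h.b₁.normV₄ _
    (hS.pgrp.to_le inf_le_left) hBT inf_le_right
  have c1 := h.card_inf
  have c2 := h.card_Q
  have h1 : S ⊓ 𝐍[VB X₁] ≤ B := by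
    refine (h.b₁.inf_centralizer_le₄ hBT hT).trans' (le_inf le_rfl fun g hg => ?_)
    refine Sym4Rec.mem_centralizer_of_card_le_two (by rw [h.omega_eq]; omega)
      (CP.normalizer_le_normalizer_omegaZ B ?_)
    have := normalizer_le_normalizer_bau _ (le_normalizer hg)
    rwa [hT] at this
  have h2 : VB X₁ = 𝐐[X₁] := eq_of_le_of_card_le (VB_le_Q₄ _) (by rw [h.b₁.card]; omega)
  have := card_le_four_of_selfcent hS.pgrp (h.b₁.V_le₄.trans hBS) h.b₁.card (VB_sq₄ _) (by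
    conv_rhs => rw [h2, ← h.b₁.V_facts.2.2.2.2.1]
    exact le_inf ((inf_le_inf_left _ (centralizer_le_normalizer' _)).trans h1) inf_le_right) hES hE
  omega

section sixteen

variable (h16 : Nat.card B = 16) {c : G} (hc : c ∈ ΩZ[2, B] ⊓ 𝐂[X₁]) (hc1 : c ≠ 1)
include h16 hc hc1

omit h16 in
theorem c_notMem : c ∉ VB X₁ := fun e => hc1 (mem_bot.1 (h.b₁.V_facts.2.2.2.1 ▸
  mem_inf.2 ⟨e, centralizer_anti (pRes_le 2 _) hc.2⟩))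

theorem mul_mem_R {z : G} (hz : z ∈ ΩZ[2, B]) (hz' : z ∉ VB X₁ ⊓ 𝐂[B]) :
    c * z ∈ VB X₁ ⊓ 𝐂[B] := by
  have c1 := h.card_inf
  exact Amal.mul_mem_of_relIndex_two (Sym4Rec.relIndex_eq_of_card h.b₁.inf_le_omega₄
    h.b₁.omega.2.2.1 (by rw [h.omega_eq]; omega)) hc.1 hz (fun e => h.c_notMem hc hc1 e.1) hz'

theorem mem_centralizer {g : G} (hg : g ∈ 𝐍[B]) (hg' : c * g = g * c) : g ∈ 𝐂[ΩZ[2, B]] := by
  intro z hz
  by_cases h1 : z ∈ VB X₁ ⊓ 𝐂[B]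
  · exact h.cent_R hg z h1
  · have := h.cent_R hg _ (h.mul_mem_R h16 hc hc1 hz h1)
    rw [← mul_assoc, ← hg', mul_assoc, mul_assoc] at this
    exact mul_left_cancel this

theorem comm_mem {g : G} (h1 : g ∈ 𝐍[𝐐[X₁]]) (h2 : g ∈ 𝐍[VB X₁]) : g * c * g⁻¹ * c⁻¹ ∈ VB X₁ := by
  have c1 := h.card_Q
  have hcQ : c ∈ 𝐐[X₁] := (h.omega_eq.le hc.1).1
  refine Amal.mul_mem_of_relIndex_two (Sym4Rec.relIndex_eq_of_card (VB_le_Q₄ X₁) h.b₁.card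
    (by omega)) (conj_mem_of_mem_normalizer h1 hcQ) (inv_mem hcQ) (fun e => ?_)
    fun e => h.c_notMem hc hc1 (inv_mem_iff.1 e)
  have := inv_conj_mem_of_mem_normalizer h2 e
  rw [show g⁻¹ * (g * c * g⁻¹) * g = c by group] at this
  exact h.c_notMem hc hc1 this

theorem le_of_norm_Q {T : Subgroup G} (hT : IsPGroup 2 T) (h1 : B ≤ T) (h2 : T ≤ 𝐍[𝐐[X₁]]) :
    T ≤ B := by
  have hQ1 : 𝐐[X₁] ≠ ⊥ := fun e => h.s4.not_le₁ (e ▸ bot_le)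
  obtain ⟨T', hT', hle⟩ := exists_isSyl_ge hT h2
  refine hle.trans fun t ht => ?_
  have hB := h.l₁ _ (isPGroup_pCoreOf 2 X₁) hQ1 (le_normalizer_pCoreOf 2 X₁) T' hT'.pgrp
    (h1.trans hle) hT'.le
  have hN : T' ≤ 𝐍[B] := fun g hg => by
    have := normalizer_le_normalizer_bau _ (le_normalizer hg)
    rwa [hB] at this
  obtain ⟨r, hr, hr1⟩ := exists_ne_one (ne_bot_of_card h.b₁.omega.2.2.1 (by norm_num))
  have hV : T' ≤ 𝐍[VB X₁] := fun g hg => by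
    refine h.b₁.mem_normalizer (h.hyp.solv _ (isPGroup_pCoreOf 2 X₁) hQ1)
      (h.hyp.char _ (isPGroup_pCoreOf 2 X₁) hQ1) (le_normalizer_pCoreOf 2 X₁) hT' hB (hT'.le hg)
      hr.1 hr1 ?_
    rw [← h.cent_R (hN hg) r hr, mul_inv_cancel_right]
    exact hr.1
  by_contra htB
  obtain ⟨t, ht, htB, htC⟩ : ∃ t ∈ T', t ∉ B ∧ t ∈ 𝐂[VB X₁] := by
    by_cases h3 : t ∈ 𝐂[VB X₁]
    · exact ⟨t, ht, htB, h3⟩
    obtain ⟨b, hb, hb'⟩ := SetLike.not_le_iff_exists.1 h.s4.not_le₂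
    have hbB := h.b₂.Q_le₄ hb
    have h4 := four_two_group (VB_sq₄ X₁) h.b₁.card hV hT'.pgrp
    have h5 : (𝐂[VB X₁]).relIndex T' ≠ 0 := FiniteIndex.index_ne_zero
    have h6 : (𝐂[VB X₁]).relIndex T' ≠ 1 := fun e => h3 (relIndex_eq_one.1 e ht)
    exact ⟨t * b, mul_mem ht (hle (h1 hbB)), fun e => htB ((mul_mem_cancel_right hbB).1 e),
      Amal.mul_mem_of_relIndex_two (by omega) ht (hle (h1 hbB)) h3
        fun e => hb' (h.b₁.V_facts.2.2.2.2.1.le ⟨hbB, e⟩)⟩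
  have hw := h.comm_mem h16 hc hc1 (hT'.le ht) (hV ht)
  have hw1 : t * c * t⁻¹ * c⁻¹ ≠ 1 := fun e => htB (h.b₁.inf_centralizer_le₄ (h1.trans hle) hB
    ⟨ht, h.mem_centralizer h16 hc hc1 (hN ht) (by
      calc c * t = (t * c * t⁻¹ * c⁻¹)⁻¹ * (t * c) := by group
        _ = t * c := by rw [e]; group)⟩)
  obtain ⟨v, hv, hv'⟩ := SetLike.not_le_iff_exists.1 h.V_not_le
  obtain ⟨x, hx, hxv⟩ := h.b₁.V_facts.2.2.2.2.2.2 _ hw hw1 v hv fun e => hv' (e ▸ one_mem _)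
  have hx' := pRes_le 2 _ hx
  have hsyl := (hT'.mono (le_inf hT'.le hV) inf_le_left).inf
    (inf_le_right.trans (normalizer_le_normalizer_centralizer (VB X₁)))
  obtain ⟨ρ, hρ, hu⟩ := hsyl.exists_cj_le (R := cj(x, zpowers t))
    (isPGroup_cj x (hT'.pgrp.to_le (zpowers_le.2 ht))) (by
      refine cj_le_of_mem_normalizer (zpowers_le.2 ⟨⟨hT'.le ht, hV ht⟩, htC⟩) ?_
      exact le_normalizer_inf (le_normalizer_inf
        (le_normalizer_normalizer (le_normalizer_pCoreOf 2 X₁))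
        (le_normalizer_normalizer h.b₁.normV₄)) (le_normalizer_centralizer h.b₁.normV₄) hx')
  have hu' := hu (conj_mem_cj ρ (conj_mem_cj x (mem_zpowers t)))
  have huC : x * t * x⁻¹ ∈ 𝐂[VB X₁] :=
    conj_mem_of_mem_normalizer (le_normalizer_centralizer h.b₁.normV₄ hx') htC
  have hw' := h.comm_mem h16 hc hc1 (inv_mem hρ.1.1) (inv_mem hρ.1.2)
  have e1 : x * t * x⁻¹ * c * (x * t * x⁻¹)⁻¹ * c⁻¹ = v := by
    have e : c = x * c * x⁻¹ := by rw [hc.2 x hx', mul_inv_cancel_right]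
    rw [← hxv]
    conv_lhs => rw [e]
    group
  set u := x * t * x⁻¹
  set w := ρ⁻¹ * c * ρ⁻¹⁻¹ * c⁻¹ with hwd
  have e2 : ρ * u * ρ⁻¹ * c * (ρ * u * ρ⁻¹)⁻¹ * c⁻¹ = v := by
    calc ρ * u * ρ⁻¹ * c * (ρ * u * ρ⁻¹)⁻¹ * c⁻¹
        = ρ * ((u * w) * c * u⁻¹ * c⁻¹ * w⁻¹) * ρ⁻¹ := by rw [hwd]; group
      _ = ρ * (w * (u * c * u⁻¹ * c⁻¹) * w⁻¹) * ρ⁻¹ := by rw [← huC w hw']; group
      _ = ρ * v * ρ⁻¹ := by rw [e1, isEA_comm (VB_isEA₄ X₁) hw' hv, mul_inv_cancel_right]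
      _ = v := by rw [← hρ.2 v hv, mul_inv_cancel_right]
  refine hv' (h.omega_eq.le ?_).2
  rw [← e2]
  exact mul_mem (conj_mem_of_mem_normalizer (CP.normalizer_le_normalizer_omegaZ B (hN hu'.1)) hc.1)
    (inv_mem hc.1)

theorem mem_of_comm {S : Subgroup G} (hS : IsPGroup 2 S) (hBS : B ≤ S) {s : G} (hs : s ∈ S)
    (e : c * s = s * c) : s ∈ B := by
  have hc2 := sq_eq_one_of_isEA (CP.omegaZ_isEA B) c hc.1
  have h1 : X₁ ≤ 𝐂₁[c] := fun g hg => mem_centralizer_singleton_iff.2 (hc.2 g hg)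
  have hBT : B ≤ S ⊓ 𝐂₁[c] := le_inf hBS (h.b₁.le₄.trans h1)
  have hT := h.l₁ (zpowers c) (isEA_isPGroup (isEA_zpowers (by rw [pow_two, hc2])))
    (by simpa using hc1) (centralizer_eq_normalizer hc2 hc1 ▸ h1) _
    (hS.to_le inf_le_left) hBT (inf_le_right.trans (centralizer_eq_normalizer hc2 hc1).le)
  have hs' : s ∈ S ⊓ 𝐂₁[c] := ⟨hs, mem_centralizer_singleton_iff.2 e.symm⟩
  refine h.b₁.inf_centralizer_le₄ hBT hT ⟨hs', h.mem_centralizer h16 hc hc1 ?_ e⟩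
  have := normalizer_le_normalizer_bau _ (le_normalizer hs')
  rwa [hT] at this

omit h16 in
theorem D_facts {W : Subgroup G} (h4 : Nat.card W = 4) (h1 : B ≤ 𝐍[W])
    (h2 : W ⊓ 𝐐[X₁] ≤ VB X₁ ⊓ 𝐂[B]) (h3 : VB X₁ ⊓ 𝐂[B] ≤ W) :
    Nat.card ↥(VB X₁ ⊔ W) = 8 ∧ c ∉ VB X₁ ⊔ W := by
  constructor
  · have e := card_sup_mul_card_inf (h.b₁.V_le₄.trans h1)
    have e' : VB X₁ ⊓ W = VB X₁ ⊓ 𝐂[B] := le_antisymm
      (h2.trans' (le_inf inf_le_right (inf_le_left.trans (VB_le_Q₄ _)))) (le_inf inf_le_left h3)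
    rw [e', h.b₁.omega.2.2.1, h.b₁.card, h4] at e
    omega
  · intro e
    have := (sup_inf_of_le_normalizer (VB_le_Q₄ X₁) (h.b₁.V_le₄.trans h1)).le
      ⟨e, (h.omega_eq.le hc.1).1⟩
    exact h.c_notMem hc hc1 (sup_le le_rfl (h2.trans inf_le_left) this)

end sixteen

theorem V_inf_Q : VB X₁ ⊓ 𝐐[X₂] ≤ VB X₁ ⊓ 𝐂[B] :=
  le_inf inf_le_left ((inf_le_inf_right _ (VB_le_Q₄ _)).trans h.inf_le_centralizer)

theorem exists_c (h16 : Nat.card B = 16) : ∃ c ∈ ΩZ[2, B] ⊓ 𝐂[X₁], c ≠ 1 := by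
  refine exists_ne_one fun e => ?_
  have h1 := h.b₁.omega.2.2.2
  have := h.card_inf
  rw [e, relIndex_bot_left, h.omega_eq] at h1
  omega

theorem not_sixteen (h16 : Nat.card B = 16) : False := by
  obtain ⟨c, hc, hc1⟩ := h.exists_c h16
  obtain ⟨c', hc', hc1'⟩ := h.symm.exists_c h16
  obtain ⟨S, hS, hBS⟩ := exists_isSyl_ge h.b₁.two₄ (le_top : B ≤ ⊤)
  have c1 := h.card_Q
  have c2 := h.symm.card_Q
  have c3 := h.card_inf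
  have hcB : c ∈ B := CP.omegaZ_le B hc.1
  have n1 : S ⊓ 𝐍[𝐐[X₁]] ≤ B := h.le_of_norm_Q h16 hc hc1 (hS.pgrp.to_le inf_le_left)
    (le_inf hBS (h.b₁.le₄.trans (le_normalizer_pCoreOf 2 _))) inf_le_right
  have n2 : S ⊓ 𝐍[𝐐[X₂]] ≤ B := h.symm.le_of_norm_Q h16 hc' hc1' (hS.pgrp.to_le inf_le_left)
    (le_inf hBS (h.b₂.le₄.trans (le_normalizer_pCoreOf 2 _))) inf_le_right
  have s1 : ∀ s ∈ S ⊓ 𝐍[B], s ∉ B → cj(s, 𝐐[X₁]) = 𝐐[X₂] := fun s hs hs' =>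
    (h.cj_Q hs.2).resolve_left fun e => hs' (n1 ⟨hs.1, cj_eq_iff.1 e⟩)
  have s2 : ∀ s ∈ S ⊓ 𝐍[B], s ∉ B → cj(s, 𝐐[X₂]) = 𝐐[X₁] := fun s hs hs' =>
    (h.symm.cj_Q hs.2).resolve_left fun e => hs' (n2 ⟨hs.1, cj_eq_iff.1 e⟩)
  have hmul : ∀ s ∈ S ⊓ 𝐍[B], s ∉ B → ∀ s' ∈ S ⊓ 𝐍[B], s' ∉ B → s * s' ∈ B :=
    fun s hs hs1 s' hs' hs1' => n1 ⟨mul_mem hs.1 hs'.1, cj_eq_iff.1 (by
      rw [cj_mul, s1 s' hs' hs1', s2 s hs hs1])⟩
  have hea : ∀ E : Subgroup G, IsElementaryAbelian 2 E → E ≤ S ⊓ 𝐍[B] → Nat.card E = 8 → E ≤ B := by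
    intro E hE hEN h8
    by_contra hn
    obtain ⟨e, he, he'⟩ := SetLike.not_le_iff_exists.1 hn
    have h1 : Nat.card E ≤ 2 * Nat.card ↥(E ⊓ B) := card_le_two_mul (t := e) fun a ha => by
      by_cases h' : a ∈ B
      · exact Or.inl ⟨ha, h'⟩
      · exact Or.inr ⟨mul_mem ha he, hmul a (hEN ha) h' e (hEN he) he'⟩
    have e0 : cj(e, E ⊓ B) = E ⊓ B := by rw [cj_inf, cj_of_mem he, cj_of_mem_normalizer (hEN he).2]
    have h2 : E ⊓ B ≤ 𝐐[X₁] ⊓ 𝐐[X₂] := by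
      rcases h.ea_le (isEA_mono hE inf_le_left) (inf_le_right : E ⊓ B ≤ B) with e1 | e1
      · exact le_inf e1 (e0.ge.trans ((cj_mono e e1).trans (s1 e (hEN he) he').le))
      · exact le_inf (e0.ge.trans ((cj_mono e e1).trans (s2 e (hEN he) he').le)) e1
    have h3 : c ∈ E := ((eq_of_le_of_card_le h2 (by omega)).ge (h.omega_eq.le hc.1)).1
    exact he' (h.mem_of_comm h16 hc hc1 hS.pgrp hBS (hEN he).1 (isEA_comm hE h3 he))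
  have hcj : ∀ g : G, cj(g, B) ≤ S ⊓ 𝐍[B] → g ∈ 𝐍[B] := fun g hg => by
    refine mem_normalizer_of_cj_le ?_
    conv_lhs => rw [← h.sup_eq, cj_sup]
    exact sup_le (hea _ (isEA_map h.s4.ea₁ _) ((cj_mono g h.b₁.Q_le₄).trans hg)
      (by rw [card_cj]; omega)) (hea _ (isEA_map h.s4.ea₂ _) ((cj_mono g h.b₂.Q_le₄).trans hg)
      (by rw [card_cj]; omega))
  have hSN : S ≤ 𝐍[B] := by
    have h1 : S ⊓ 𝐍[B] = S :=
      eq_of_inf_normalizer_le hS.pgrp inf_le_left (le_inf inf_le_left fun u hu =>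
        hcj u (cj_le_of_mem_normalizer (le_inf hBS le_normalizer) hu.2))
    exact h1.ge.trans inf_le_right
  have tr : ∀ U : Subgroup G, U ≤ S → U.relIndex S = 2 → VB X₁ ≤ U → c ∈ U := by
    intro U hU h2 hV
    obtain ⟨g, hg, hg'⟩ := Transfer.exists_conj_mem_extremal (by rw [← pRes_top, h.hyp.res_top])
      (by
        have := hS.not_dvd_relIndex
        rw [relIndex_top_right] at this
        exact Nat.not_even_iff_odd.1 fun e => this (even_iff_two_dvd.1 e)) hU h2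
      (by rw [pow_two]; exact sq_eq_one_of_isEA (CP.omegaZ_isEA B) c hc.1) h.b₁.two₄
      (CP.omegaZ_le_centralizer B hc.1)
    have hn := hcj g (le_inf hg' (hg'.trans hSN))
    have := h.mul_mem_R h16 hc hc1 (conj_mem_of_mem_normalizer
      (CP.normalizer_le_normalizer_omegaZ B hn) hc.1) fun e => by
        have := inv_conj_mem_of_mem_normalizer (h.norm_R hn) e
        rw [show g⁻¹ * (g * c * g⁻¹) * g = c by group] at this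
        exact h.c_notMem hc hc1 this.1
    exact (mul_mem_cancel_right hg).1 (hV this.1)
  by_cases hne : B = S
  · obtain ⟨d1, d2⟩ := h.D_facts hc hc1 h.b₂.card (h.b₂.le₄.trans h.b₂.normV₄)
      (h.symm.V_inf_Q.trans h.R_eq.ge) (h.R_eq.le.trans inf_le_left)
    have hD : VB X₁ ⊔ VB X₂ ≤ B := sup_le h.b₁.V_le₄ h.b₂.V_le₄
    exact d2 (tr _ (hD.trans hBS) (hne ▸ Sym4Rec.relIndex_eq_of_card hD d1 h16) le_sup_left)
  obtain ⟨s, hs, hs'⟩ := SetLike.exists_of_lt (lt_of_le_of_ne hBS hne)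
  have hs0 : s ∈ S ⊓ 𝐍[B] := ⟨hs, hSN hs⟩
  have hS32 : Nat.card S ≤ 32 := by
    have : Nat.card S ≤ 2 * Nat.card B := card_le_two_mul (t := s) fun a ha => by
      by_cases h' : a ∈ B
      · exact Or.inl h'
      · exact Or.inr (hmul a ⟨ha, hSN ha⟩ h' s hs0 hs')
    omega
  have hR := cj_of_mem_normalizer (h.norm_R hs0.2)
  obtain ⟨d1, d2⟩ := h.D_facts hc hc1 (W := cj(s, VB X₁)) (by rw [card_cj, h.b₁.card]) (by
      rw [normalizer_cj]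
      exact (cj_of_mem_normalizer hs0.2).ge.trans (cj_mono s (h.b₁.le₄.trans h.b₁.normV₄)))
    (by rw [← s2 s hs0 hs', ← cj_inf, ← hR]; exact cj_mono s h.V_inf_Q)
    (hR.ge.trans (cj_mono s inf_le_left))
  have hD : VB X₁ ⊔ cj(s, VB X₁) ≤ B :=
    sup_le h.b₁.V_le₄ (cj_le_of_mem_normalizer h.b₁.V_le₄ hs0.2)
  have hss := hmul s hs0 hs' s hs0 hs'
  have hN : s ∈ 𝐍[VB X₁ ⊔ cj(s, VB X₁)] := by
    rw [← cj_eq_iff, cj_sup, ← cj_mul, cj_of_mem_normalizer (h.b₁.normV₄ (h.b₁.le₄ hss)), sup_comm]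
  have hfix : ∀ w ∈ 𝐐[X₁] ⊓ 𝐐[X₂], s * w * s⁻¹ = w → w ∈ VB X₁ := fun w hw e => by
    by_contra hn
    have := h.cent_R hs0.2 _ (h.mul_mem_R h16 hc hc1 (h.omega_eq.ge hw) fun e => hn e.1)
    refine hs' (h.mem_of_comm h16 hc hc1 hS.pgrp hBS hs ?_)
    calc c * s = c * (s * w * s⁻¹) * s * w⁻¹ := by group
      _ = s * (c * w) * w⁻¹ := by rw [e, this]
      _ = s * c := by group
  have e0 : s * (s * s) * s⁻¹ = s * s := by group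
  have hsq : s * s ∈ VB X₁ ⊔ cj(s, VB X₁) := by
    by_cases q1 : s * s ∈ 𝐐[X₁]
    · exact mem_sup_left (hfix _ ⟨q1, e0 ▸ (s1 s hs0 hs').le (conj_mem_cj s q1)⟩ e0)
    by_cases q2 : s * s ∈ 𝐐[X₂]
    · exact mem_sup_left (hfix _ ⟨e0 ▸ (s2 s hs0 hs').le (conj_mem_cj s q2), q2⟩ e0)
    obtain ⟨a, ha, ha'⟩ := SetLike.not_le_iff_exists.1 h.V_not_le
    have haQ := VB_le_Q₄ _ ha
    have haB := h.b₁.V_le₄ ha
    have hb : s * a * s⁻¹ ∈ 𝐐[X₂] := (s1 s hs0 hs').le (conj_mem_cj s haQ)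
    have hb' : s * a * s⁻¹ ∉ 𝐐[X₁] := fun e => ha' (conj_mem_cj_iff.1 ((s2 s hs0 hs').ge e))
    have hbD : s * a * s⁻¹ ∈ cj(s, VB X₁) := conj_mem_cj s ha
    set b := s * a * s⁻¹ with hbd
    have hbB := h.b₂.Q_le₄ hb
    have hw : b⁻¹ * (a⁻¹ * (s * s)) ∈ 𝐐[X₁] ⊓ 𝐐[X₂] :=
      ⟨Amal.mul_mem_of_relIndex_two h.b₁.idx (inv_mem hbB) (mul_mem (inv_mem haB) hss)
        (fun e => hb' (inv_mem_iff.1 e)) fun e => q1 ((mul_mem_cancel_left (inv_mem haQ)).1 e),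
      (𝐐[X₂]).mul_mem (inv_mem hb) (Amal.mul_mem_of_relIndex_two h.b₂.idx (inv_mem haB) hss
        (fun e => ha' (inv_mem_iff.1 e)) q2)⟩
    set w := b⁻¹ * (a⁻¹ * (s * s)) with hwd
    have hk : ⁅a, b⁆ ∈ VB X₁ ⊓ 𝐂[B] := h.comm_eq ▸ commutator_mem_commutator haB hbB
    have e1 : s * s = a * b * w := by rw [hwd]; group
    have e2 : s * w * s⁻¹ = w := by
      have k1 := VB_sq₄ _ _ hk.1
      have k2 := hk.2 _ (inv_mem (mul_mem haB hbB))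
      have k3 := h.inf_le_centralizer hw _ (inv_mem haB)
      have k4 : (s * s) * a⁻¹ * (s * s)⁻¹ = ⁅a, b⁆ * a⁻¹ := by
        rw [e1]
        calc a * b * w * a⁻¹ * (a * b * w)⁻¹ = a * b * (w * a⁻¹) * (a * b * w)⁻¹ := by group
          _ = ⁅a, b⁆ * a⁻¹ := by rw [← k3, commutatorElement_def]; group
      calc s * w * s⁻¹ = (s * s) * a⁻¹ * (s * s)⁻¹ * b⁻¹ * (s * s) := by rw [hwd, hbd]; group
        _ = ⁅a, b⁆ * (a * b)⁻¹ * ⁅a, b⁆ * (s * s) := by rw [k4, commutatorElement_def]; group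
        _ = w := by rw [← k2, mul_assoc _ _ ⁅a, b⁆, k1, hwd]; group
    rw [e1]
    exact mul_mem (mul_mem (mem_sup_left ha) (mem_sup_right hbD)) (mem_sup_left (hfix w hw e2))
  have hU : zpowers s ⊔ (VB X₁ ⊔ cj(s, VB X₁)) ≤ S := sup_le (zpowers_le.2 hs) (hD.trans hBS)
  have hcU : c ∉ zpowers s ⊔ (VB X₁ ⊔ cj(s, VB X₁)) := fun e => by
    obtain ⟨_, ⟨n, rfl⟩, d, hd, e⟩ := (mem_sup_of_le_normalizer_right (zpowers_le.2 hN)).1 e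
    rcases Int.even_or_odd' n with ⟨k, rfl | rfl⟩
    · refine d2 (e ▸ mul_mem ?_ hd)
      simp only [zpow_mul, zpow_two]
      exact zpow_mem hsq k
    · refine hs' ?_
      have e' : s = ((s * s) ^ k)⁻¹ * c * d⁻¹ := by
        rw [e]; simp only [zpow_add, zpow_mul, zpow_two, zpow_one]; group
      rw [e']
      exact mul_mem (mul_mem (inv_mem (zpow_mem hss k)) hcB) (inv_mem (hD hd))
  refine hcU (tr _ hU ?_ (le_sup_left.trans le_sup_right))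
  have hDU : VB X₁ ⊔ cj(s, VB X₁) ≤ zpowers s ⊔ (VB X₁ ⊔ cj(s, VB X₁)) := le_sup_right
  have hsU : s ∈ zpowers s ⊔ (VB X₁ ⊔ cj(s, VB X₁)) := mem_sup_left (mem_zpowers s)
  generalize zpowers s ⊔ (VB X₁ ⊔ cj(s, VB X₁)) = U at hDU hsU hU hcU
  have h1 := card_mul_relIndex_of_le hDU
  have h2 := card_mul_relIndex_of_le hU
  have h3 : (VB X₁ ⊔ cj(s, VB X₁)).relIndex U ≠ 0 := FiniteIndex.index_ne_zero
  have h4 : (VB X₁ ⊔ cj(s, VB X₁)).relIndex U ≠ 1 := fun e =>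
    hs' (hD (relIndex_eq_one.1 e hsU))
  have h5 : U.relIndex S ≠ 0 := FiniteIndex.index_ne_zero
  have h6 : U.relIndex S ≠ 1 := fun e => hcU (relIndex_eq_one.1 e (hBS hcB))
  rw [d1] at h1
  have h7 : 16 ≤ Nat.card U := by omega
  by_contra hn
  have : Nat.card U * 3 ≤ Nat.card U * U.relIndex S := Nat.mul_le_mul_left _ (by omega)
  omega

end SP

end Small

variable {B X₁ X₂ : Subgroup G}

theorem not_free (h : Hyp G) (h₁ : IsB B X₁) (h₂ : IsB B X₂) (l₁ : Lim B X₁) (l₂ : Lim B X₂)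
    (hf : ∀ R : Subgroup G, IsPGroup 2 R → X₁ ≤ 𝐍[R] → X₂ ≤ 𝐍[R] → R = ⊥) : False := by
  have k : Small.SP B X₁ X₂ := ⟨h, h₁, h₂, l₁, l₂, s4_of_free h h₁ h₂ l₁ l₂ hf⟩
  exact k.s4.card.elim k.not_eight k.not_sixteen

theorem pair_comm (h : Hyp G) (h₁ : IsB B X₁) (h₂ : IsB B X₂) (l₁ : Lim B X₁) (l₂ : Lim B X₂) :
    X₂ ≤ 𝐍[VB X₁] ∧ VB X₂ ≤ 𝐂[VB X₁] := by
  by_contra hc
  refine not_free h h₁ h₂ l₁ l₂ fun R hR n₁ n₂ => ?_
  by_contra hR1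
  obtain ⟨T, hT, hBT⟩ := exists_isSyl_ge h₁.two₄ (h₁.le₄.trans n₁)
  exact hc (h₁.pair h₂ (h.solv R hR hR1) (h.char R hR hR1) n₁ n₂ hT
    (l₁ R hR hR1 n₁ T hT.pgrp hBT hT.le))

end Cfsg.Agent.NG
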