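import Mathlib
import Cfsg.Agent.NG.Small

/-! Part I: a Sylow 2-subgroup lies in two maximal 2-local subgroups (guide `70_ng_3`). -/

set_option autoImplicit false

namespace Cfsg.Agent.NG

open Subgroup Cfsg.Agent.PLocal Cfsg.Agent.PLocal.Amb Cfsg.Agent.PLocal.CP Cfsg.Agent.PLocal.JC
open scoped commutatorElement

variable {G : Type*} [Group G] [Finite G]

namespace PI

/-- `T` is a straddling 2-subgroup that is maximal for `(m(T), |J(T)|, |B(T)|, |T|)` -/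
structure Mx (M T : Subgroup G) : Prop where
  mem : T ∈ straddlingTwoSubgroups M
  max : ∀ T' ∈ straddlingTwoSubgroups M, 𝐁[T] ≤ T' → 𝐁[T'] = 𝐁[T] ∧ Nat.card T' ≤ Nat.card T

theorem exists_mx {M : Subgroup G} (h : (straddlingTwoSubgroups M).Nonempty) : ∃ T, Mx M T := by
  obtain ⟨T, hT, h1⟩ := Set.exists_max_image (straddlingTwoSubgroups M)
    (fun T => toLex (maxElemAbelianOrder T, toLex (Nat.card 𝐉[T],
      toLex (Nat.card ↥𝐁[T], Nat.card T)))) (Set.toFinite _) h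
  refine ⟨T, hT, fun T' hT' hle => ?_⟩
  have h2 := h1 T' hT'
  simp only [Prod.Lex.toLex_le_toLex] at h2
  obtain ⟨A, hA⟩ := maxEA_nonempty 2 T
  obtain ⟨B, hB⟩ := maxEA_nonempty 2 T'
  rw [maxElemAbelianOrder_eq hA, maxElemAbelianOrder_eq hB] at h2
  have hJ : 𝐉[T] ≤ T' := (J_le_bau T).trans hle
  have c1 := hB.2.2 A ((le_thompsonSubgroupOf hA).trans hJ) hA.2.1
  have c2 : Nat.card B ≤ Nat.card A := by omega
  have j1 := J_le_J_of_card hJ hA hB c2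
  have c3 := card_le_of_le j1
  have j2 : 𝐉[T] = 𝐉[T'] := eq_of_le_of_card_le j1 (by omega)
  have b1 : 𝐁[T] ≤ 𝐁[T'] := by
    rw [← j2]
    exact le_inf hle inf_le_right
  have c4 := card_le_of_le b1
  have c5 : Nat.card 𝐉[T] = Nat.card 𝐉[T'] := by rw [j2]
  have b2 : 𝐁[T] = 𝐁[T'] := eq_of_le_of_card_le b1 (by omega)
  have c6 : Nat.card ↥𝐁[T] = Nat.card ↥𝐁[T'] := by rw [b2]
  exact ⟨b2.symm, by omega⟩

omit [Finite G] in
theorem isEA_VB (X : Subgroup G) (h : VB X ≤ ΩZ[2, 𝐐[X]]) : IsElementaryAbelian 2 (VB X) :=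
  isEA_mono (omegaZ_isEA _) h

/-- the join of the natural modules of a family of members of `𝓑(B)` -/
theorem family (h : Hyp G) {B : Subgroup G} (P : Subgroup G → Prop)
    (hP : ∀ X, P X → IsB B X ∧ Lim B X) :
    IsPGroup 2 ↥(⨆ X : {X // P X}, VB X.1) ∧ (∀ X, P X → X ≤ 𝐍[⨆ X : {X // P X}, VB X.1]) ∧
      (∀ X, P X → (⨆ X : {X // P X}, VB X.1) ≠ ⊥) ∧
      ∀ g : G, (∀ X, P X → P cj(g, X)) → g ∈ 𝐍[⨆ X : {X // P X}, VB X.1] := by
  refine ⟨isEA_isPGroup (isEA_iSup (fun X => isEA_VB _ (hP _ X.2).1.V_facts.1) fun X Y => ?_),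
    fun X hX => ?_, fun X hX e => ?_, fun g hg => ?_⟩
  · exact (pair_comm h (hP _ Y.2).1 (hP _ X.2).1 (hP _ Y.2).2 (hP _ X.2).2).2
  · rw [le_normalizer_iff_cj]
    intro g hg
    rw [cj_iSup]
    refine iSup_le fun Y => ?_
    rw [cj_of_mem_normalizer
      ((pair_comm h (hP _ Y.2).1 (hP _ hX).1 (hP _ Y.2).2 (hP _ hX).2).1 hg)]
    exact le_iSup (fun X : {X // P X} => VB X.1) Y
  · have h1 : VB X ≤ ⊥ := e ▸ le_iSup (fun X : {X // P X} => VB X.1) ⟨X, hX⟩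
    exact ne_bot_of_card (hP X hX).1.card (by norm_num) (le_bot_iff.1 h1)
  · refine mem_normalizer_of_cj_le ?_
    rw [cj_iSup]
    refine iSup_le fun Y => ?_
    rw [← VB_cj]
    exact le_iSup (fun X : {X // P X} => VB X.1) ⟨_, hg _ Y.2⟩

end PI

open PI

theorem partI (h : Hyp G) {S M : Subgroup G} (hS : IsSyl 2 S ⊤) (hM : IsTwoLocal M) (hSM : S ≤ M)
    (hu : ∀ L : Subgroup G, IsTwoLocal L → S ≤ L → L ≤ M) : False := by
  by_cases hne : (straddlingTwoSubgroups M).Nonempty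
  swap
  · exact h.nse M (isStronglyEmbedded_of_empty h.core hM hne)
  obtain ⟨T, hT⟩ := exists_mx hne
  obtain ⟨hT2, hT1, hTM, H, hH, hTH, hHM⟩ := hT.mem
  obtain ⟨g, hg, hle⟩ := (hS.mono hSM le_top).exists_le_cj hT2 hTM
  have t : Top cj(g, S) M := by
    have := (⟨hM, hSM, hu⟩ : Top S M).cj g
    rwa [cj_of_mem hg] at this
  have hS' : IsSyl 2 cj(g, S) ⊤ := hS.cj_of_mem (mem_top g)
  have hlt : T < cj(g, S) ⊓ 𝐍[T] := by
    refine lt_inf_normalizer hS'.pgrp (lt_of_le_of_ne hle ?_)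
    rintro rfl
    exact hHM (t.top H hH hTH)
  -- normalizers of 2-subgroups normalized by `N_S(T)`
  have key : ∀ C : Subgroup G, IsPGroup 2 C → C ≠ ⊥ → cj(g, S) ⊓ 𝐍[T] ≤ 𝐍[C] → 𝐍[C] ≤ M := by
    intro C hC hC1 hn
    by_contra hc
    have h2 := (hT.max (cj(g, S) ⊓ 𝐍[T]) ⟨hS'.pgrp.to_le inf_le_left,
      fun e => hT1 (le_bot_iff.1 (e ▸ hlt.le)), inf_le_left.trans t.le, _,
      isTwoLocal_normalizer hC hC1, hn, hc⟩ ((bau_le T).trans hlt.le)).2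
    exact hlt.ne (eq_of_le_of_card_le hlt.le h2)
  have hB2 : IsPGroup 2 ↥𝐁[T] := hT2.to_le (bau_le T)
  have hB1 : 𝐁[T] ≠ ⊥ := bau_ne_bot hT2 hT1
  have nB : 𝐍[𝐁[T]] ≤ M := key _ hB2 hB1 (inf_le_right.trans (normalizer_le_normalizer_bau T))
  have nZ : 𝐍[ΩZ[2, T]] ≤ M := key _ (isPGroup_omegaZ T) (omegaZ_ne_bot hT2 hT1)
    (inf_le_right.trans (normalizer_le_normalizer_omegaZ T))
  have str : ∀ L T₀ : Subgroup G, IsTwoLocal L → ¬ L ≤ M → IsPGroup 2 T₀ → T₀ ≤ L → 𝐁[T] ≤ T₀ →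
      𝐁[T₀] = 𝐁[T] ∧ Nat.card T₀ ≤ Nat.card T := by
    intro L T₀ hL hLM hT₀ h0 hB
    have h1 : 𝐁[T] ≤ T₀ ⊓ M := le_inf hB ((bau_le T).trans hTM)
    have h2 : T₀ ⊓ M ∈ straddlingTwoSubgroups M := ⟨hT₀.to_le inf_le_left,
      fun e => hB1 (le_bot_iff.1 (e ▸ h1)), inf_le_right, L, hL, inf_le_left.trans h0, hLM⟩
    have h3 := hT.max _ h2 h1
    have h4 : T₀ ⊓ M = T₀ := eq_of_inf_normalizer_le hT₀ inf_le_left (inf_le_inf_left _
      ((normalizer_le_normalizer_bau _).trans (h3.1 ▸ nB)))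
    rwa [h4] at h3
  have hsyl : IsSyl 2 T H := by
    obtain ⟨T₀, h0, h1⟩ := exists_isSyl_ge hT2 hTH
    exact h0.of_card_ge hT2 hTH (str H T₀ hH hHM h0.pgrp h0.le ((bau_le T).trans h1)).2
  have hex : ∃ X, IsB 𝐁[T] X ∧ ¬ X ≤ M := by
    by_contra hc
    push Not at hc
    refine hHM (t3 (h.solv_twoLocal hH) (h.char_twoLocal hH) hsyl ?_ (inf_le_right.trans nB)
      fun X hX _ => hc X hX)
    exact inf_le_right.trans ((centralizer_anti (le_ncl _ _)).trans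
      ((centralizer_le_normalizer' _).trans nZ))
  obtain ⟨X, hX⟩ := hex
  obtain ⟨f1, f2, f3, f4⟩ := family h (B := 𝐁[T]) (fun X => IsB 𝐁[T] X ∧ ¬ X ≤ M)
    fun X hX => ⟨hX.1, fun R hR hR1 hXR T₀ hT₀ hB h0 =>
      (str _ T₀ (isTwoLocal_normalizer hR hR1) (fun e => hX.2 (hXR.trans e)) hT₀ h0 hB).1⟩
  refine hX.2 ((f2 X hX).trans (key _ f1 (f3 X hX) fun x hx => f4 x fun Y hY => ⟨?_, fun e => ?_⟩))
  · have := hY.1.cj x
    rwa [cj_of_mem_normalizer (normalizer_le_normalizer_bau T hx.2)] at this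
  · refine hY.2 ((cj_le_cj_iff (g := x)).1 ?_)
    rwa [cj_of_mem (t.le hx.1)]

theorem exists_two (h : Hyp G) : ∃ S M V : Subgroup G, Two S M V := by
  obtain ⟨S, hS⟩ := exists_isSyl 2 (⊤ : Subgroup G)
  have hS1 : S ≠ ⊥ := by
    obtain ⟨E, hE, -, h8⟩ := h.exists_eight hS
    rintro rfl
    rw [le_bot_iff.1 hE, card_bot] at h8
    omega
  have hB2 : IsPGroup 2 ↥𝐁[S] := hS.pgrp.to_le (bau_le S)
  have hB1 : 𝐁[S] ≠ ⊥ := bau_ne_bot hS.pgrp hS1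
  obtain ⟨M, hM, nB, hX⟩ : ∃ M, IsMaximalTwoLocal M ∧ 𝐍[𝐁[S]] ≤ M ∧ ∀ X, IsB 𝐁[S] X → X ≤ M := by
    by_cases hex : ∃ X, IsB 𝐁[S] X
    · obtain ⟨X, hX⟩ := hex
      obtain ⟨f1, f2, f3, f4⟩ := family h (B := 𝐁[S]) (fun X => IsB 𝐁[S] X)
        fun X hX => ⟨hX, fun R _ _ _ T₀ hT₀ hB _ => bau_eq_of_syl hS hT₀ hB⟩
      obtain ⟨M, hM, hle⟩ := exists_max_twoLocal (isTwoLocal_normalizer f1 (f3 X hX))
      refine ⟨M, hM, fun x hx => hle (f4 x fun Y hY => ?_), fun Y hY => (f2 Y hY).trans hle⟩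
      have := hY.cj x
      rwa [cj_of_mem_normalizer hx] at this
    · obtain ⟨M, hM, hle⟩ := exists_max_twoLocal (isTwoLocal_normalizer hB2 hB1)
      exact ⟨M, hM, hle, fun X hX => (hex ⟨X, hX⟩).elim⟩
  have hSM : S ≤ M := (le_normalizer.trans (normalizer_le_normalizer_bau S)).trans nB
  have pu : ∀ L T : Subgroup G, Group.IsSolvable L → IsCharP 2 L → IsSyl 2 T L → 𝐁[S] ≤ T →
      L ≤ (L ⊓ 𝐂[ncl ΩZ[2, T] L]) ⊔ (L ⊓ M) := by
    intro L T hs hc hT hB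
    have e := bau_eq_of_syl hS hT.pgrp hB
    refine t3 hs hc hT le_sup_left ?_ fun X hXB hXL => ?_
    · rw [e]
      exact (inf_le_inf_left _ nB).trans le_sup_right
    · rw [e] at hXB
      exact (le_inf hXL (hX X hXB)).trans le_sup_right
  refine ⟨S, M, _, h, hS, hSM, hM, rfl, nB, pu, fun hc => partI h hS hM.1 hSM fun L hL hSL => ?_⟩
  refine (pu L S (h.solv_twoLocal hL) (h.char_twoLocal hL) (hS.mono hSL le_top) (bau_le S)).trans
    (sup_le ?_ inf_le_right)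
  exact inf_le_right.trans ((centralizer_anti (le_ncl _ _)).trans hc)

end Cfsg.Agent.NG
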