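import Mathlib
import Cfsg.Agent.NG.Defs
import Cfsg.Agent.PLocal.SecMod

/-!
Coordinates for the faithful module of order 16 of the Frobenius group of order 20.
-/

set_option autoImplicit false

namespace Cfsg.Agent.NG

open Subgroup Cfsg.Agent.PLocal Cfsg.Agent.PLocal.Amb Cfsg.Agent.PLocal.CP
open scoped commutatorElement

/-- the model: `e₀, …, e₃` is the standard basis and `e₄ = e₀ + e₁ + e₂ + e₃` -/
abbrev W4 := ZMod 2 × ZMod 2 × ZMod 2 × ZMod 2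

/-- `eᵢ ↦ eᵢ₊₁` -/
def X4 (t : W4) : W4 := (t.2.2.2, t.1 + t.2.2.2, t.2.1 + t.2.2.2, t.2.2.1 + t.2.2.2)

/-- `eᵢ ↦ e₂ᵢ` -/
def S4 (t : W4) : W4 := (t.1 + t.2.2.1, t.2.2.1 + t.2.2.2, t.2.1 + t.2.2.1, t.2.2.1)

def e0 : W4 := (1, 0, 0, 0)
def e1 : W4 := (0, 1, 0, 0)
def e2 : W4 := (0, 0, 1, 0)
def e3 : W4 := (0, 0, 0, 1)

/-- the invariant form: `B4 eᵢ eⱼ = 1` iff `i ≠ j` -/
def B4 (t u : W4) : ZMod 2 :=
  (t.1 + t.2.1 + t.2.2.1 + t.2.2.2) * (u.1 + u.2.1 + u.2.2.1 + u.2.2.2) +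
    (t.1 * u.1 + t.2.1 * u.2.1 + t.2.2.1 * u.2.2.1 + t.2.2.2 * u.2.2.2)

/-- the action of `x ^ i * s ^ j` -/
def act4 (i : Fin 5) (j : Fin 4) (t : W4) : W4 := X4^[i.1] (S4^[j.1] t)

theorem zmod_two_cases : ∀ c : ZMod 2, c = 0 ∨ c = 1 := by decide

theorem W4.add_self : ∀ t : W4, t + t = 0 := by decide

theorem W4.neg_eq : ∀ t : W4, -t = t := by decide

theorem W4.span : ∀ t : W4, t ≠ 0 → ∀ u : W4, ∃ c : W4,
    u = c.1 • t + c.2.1 • X4 t + c.2.2.1 • X4 (X4 t) + c.2.2.2 • X4 (X4 (X4 t)) := by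
  decide +kernel

theorem W4.fpf : ∀ t : W4, X4 t = t → t = 0 := by decide

theorem W4.expand {f : W4 → ZMod 2} (h : ∀ t u, f (t + u) = f t + f u) (t : W4) :
    f t = t.1 * f e0 + t.2.1 * f e1 + t.2.2.1 * f e2 + t.2.2.2 * f e3 := by
  have h0 : f 0 = 0 := by simpa using h 0 0
  have hs : ∀ (c : ZMod 2) (u : W4), f (c • u) = c * f u := by
    intro c u
    rcases zmod_two_cases c with rfl | rfl
    · simpa using h0
    · simp
  have e : ∀ t : W4, t = t.1 • e0 + t.2.1 • e1 + t.2.2.1 • e2 + t.2.2.2 • e3 := by decide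
  conv_lhs => rw [e t]
  rw [h, h, h, hs, hs, hs, hs]

/-- the invariant form is unique -/
theorem W4.form {f : W4 → W4 → ZMod 2} (h1 : ∀ t t' u, f (t + t') u = f t u + f t' u)
    (h2 : ∀ t u u', f t (u + u') = f t u + f t u') (hX : ∀ t u, f (X4 t) (X4 u) = f t u)
    (hS : ∀ t u, f (S4 t) (S4 u) = f t u) (hne : ∃ u, f e0 u ≠ 0) (t u : W4) : f t u = B4 t u := by
  have x0 : X4 e0 = e1 := by decide
  have x1 : X4 e1 = e2 := by decide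
  have x2 : X4 e2 = e3 := by decide
  have x3 : X4 e3 = e0 + e1 + e2 + e3 := by decide
  have x4 : X4 (e0 + e1 + e2 + e3) = e0 := by decide
  have s0 : S4 e0 = e0 := by decide
  have s1 : S4 e1 = e2 := by decide
  have s2 : S4 e2 = e0 + e1 + e2 + e3 := by decide
  have s3 : S4 e3 = e1 := by decide
  have a2 : f e0 e2 = f e0 e1 := by rw [← hS e0 e1, s0, s1]
  have a3 : f e0 e3 = f e0 e1 := by rw [← hS e0 e3, s0, s3]
  have a4 : f e0 (e0 + e1 + e2 + e3) = f e0 e1 := by rw [← a2, ← hS e0 e2, s0, s2]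
  have a0 : f e0 e0 = 0 := by
    rw [h2, h2, h2, a2, a3] at a4
    generalize f e0 e0 = a at a4
    generalize f e0 e1 = b at a4
    revert a b; decide
  have a1 : f e0 e1 = 1 := by
    obtain ⟨u, hu⟩ := hne
    rw [W4.expand (h2 e0) u, a0, a2, a3] at hu
    rcases zmod_two_cases (f e0 e1) with e | e
    · simp [e] at hu
    · exact e
  rw [a1] at a2 a3 a4
  have b0 : f e1 e0 = 1 := by rw [← a4, ← hX e0, x0, x4]
  have b1 : f e1 e1 = 0 := by rw [← a0, ← hX e0, x0]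
  have b2 : f e1 e2 = 1 := by rw [← a1, ← hX e0, x0, x1]
  have b3 : f e1 e3 = 1 := by rw [← a2, ← hX e0, x0, x2]
  have b4 : f e1 (e0 + e1 + e2 + e3) = 1 := by rw [← a3, ← hX e0, x0, x3]
  have c0 : f e2 e0 = 1 := by rw [← b4, ← hX e1, x1, x4]
  have c1 : f e2 e1 = 1 := by rw [← b0, ← hX e1, x1, x0]
  have c2 : f e2 e2 = 0 := by rw [← b1, ← hX e1, x1]
  have c3 : f e2 e3 = 1 := by rw [← b2, ← hX e1, x1, x2]
  have c4 : f e2 (e0 + e1 + e2 + e3) = 1 := by rw [← b3, ← hX e1, x1, x3]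
  have d0 : f e3 e0 = 1 := by rw [← c4, ← hX e2, x2, x4]
  have d1 : f e3 e1 = 1 := by rw [← c0, ← hX e2, x2, x0]
  have d2 : f e3 e2 = 1 := by rw [← c1, ← hX e2, x2, x1]
  have d3 : f e3 e3 = 0 := by rw [← c2, ← hX e2, x2]
  rw [W4.expand (f := fun t => f t u) (fun t t' => h1 t t' u) t, W4.expand (h2 e0) u,
    W4.expand (h2 e1) u, W4.expand (h2 e2) u, W4.expand (h2 e3) u, a0, a1, a2, a3, b0, b1, b2, b3,
    c0, c1, c2, c3, d0, d1, d2, d3]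
  revert t u
  decide

theorem exists_W4_hom {A : Type*} [AddCommGroup A] [Finite A] (h2 : ∀ a : A, a + a = 0)
    (h16 : Nat.card A = 16) (ξ : A →+ A) {w : A} (hw : w ≠ 0)
    (hN : ξ (ξ (ξ (ξ w))) = w + ξ w + ξ (ξ w) + ξ (ξ (ξ w))) :
    ∃ φ : W4 →+ A, Function.Bijective φ ∧ φ e0 = w ∧ φ e1 = ξ w ∧ φ e2 = ξ (ξ w) ∧
      φ e3 = ξ (ξ (ξ w)) ∧ ∀ t, φ (X4 t) = ξ (φ t) := by
  let _ : Module (ZMod 2) A := AddCommGroup.zmodModule (n := 2) fun a => by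
    rw [two_nsmul]; exact h2 a
  let φ : W4 →+ A :=
    { toFun := fun t => t.1 • w + t.2.1 • ξ w + t.2.2.1 • ξ (ξ w) + t.2.2.2 • ξ (ξ (ξ w))
      map_zero' := by simp
      map_add' := fun t u => by
        simp only [Prod.fst_add, Prod.snd_add, add_smul]; abel }
  have hφ : ∀ t, φ t = t.1 • w + t.2.1 • ξ w + t.2.2.1 • ξ (ξ w) + t.2.2.2 • ξ (ξ (ξ w)) :=
    fun _ => rfl
  have hX : ∀ t, φ (X4 t) = ξ (φ t) := by
    intro t
    rw [hφ, hφ]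
    simp only [X4, map_add, ZMod.map_smul, hN, add_smul, smul_add]
    abel
  have h0 : φ e0 = w := by simp [hφ, e0]
  have hi : Function.Injective φ := by
    rw [injective_iff_map_eq_zero]
    intro t ht
    by_contra hne
    obtain ⟨c, hc⟩ := W4.span t hne e0
    apply hw
    rw [← h0, hc]
    simp only [map_add, ZMod.map_smul, hX, ht, map_zero, smul_zero, add_zero]
  refine ⟨φ, (Nat.bijective_iff_injective_and_card φ).2 ⟨hi, by rw [h16]; simp⟩, h0,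
    by simp [hφ, e1], by simp [hφ, e2], by simp [hφ, e3], hX⟩

theorem exists_W4_equiv {A : Type*} [AddCommGroup A] [Finite A] (h2 : ∀ a : A, a + a = 0)
    (h16 : Nat.card A = 16) (ξ σ : A →+ A) (h5 : ∀ a, ξ (ξ (ξ (ξ (ξ a)))) = a) (hne : ∃ a, ξ a ≠ a)
    (hc : ∀ a, σ (ξ a) = ξ (ξ (σ a))) {v : A} (hv : v ≠ 0) (hσ : σ v = v) :
    ∃ e : A ≃+ W4, e v = e0 ∧ (∀ a, e (ξ a) = X4 (e a)) ∧ ∀ a, e (σ a) = S4 (e a) := by
  have hneg : ∀ a : A, -a = a := fun a => neg_eq_of_add_eq_zero_right (h2 a)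
  have fpf : ∀ b, ξ b = b → b = 0 := by
    obtain ⟨a, ha⟩ := hne
    obtain ⟨φ, hb, -, -, -, -, hX⟩ := exists_W4_hom h2 h16 ξ (w := a + ξ a)
      (fun h => ha ((neg_eq_of_add_eq_zero_right h).symm.trans (hneg a))) (by
        simp only [map_add, h5]
        rw [← sub_eq_zero]
        have e1 := h2 (ξ a)
        have e2 := h2 (ξ (ξ a))
        have e3 := h2 (ξ (ξ (ξ a)))
        calc _ = -(ξ a + ξ a) - (ξ (ξ a) + ξ (ξ a)) - (ξ (ξ (ξ a)) + ξ (ξ (ξ a))) := by abel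
          _ = 0 := by rw [e1, e2, e3]; simp)
    intro b hb'
    obtain ⟨t, rfl⟩ := hb.2 b
    rw [← hX] at hb'
    rw [W4.fpf t (hb.1 hb'), map_zero]
  have hN : ξ (ξ (ξ (ξ v))) = v + ξ v + ξ (ξ v) + ξ (ξ (ξ v)) := by
    have := fpf (v + ξ v + ξ (ξ v) + ξ (ξ (ξ v)) + ξ (ξ (ξ (ξ v)))) (by
      simp only [map_add, h5]; abel)
    rw [← hneg (ξ (ξ (ξ (ξ v))))]
    exact neg_eq_of_add_eq_zero_left this
  obtain ⟨φ, hb, h0, h1, h2', h3, hX⟩ := exists_W4_hom h2 h16 ξ hv hN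
  have hS : ∀ t, φ (S4 t) = σ (φ t) := by
    let _ : Module (ZMod 2) A := AddCommGroup.zmodModule (n := 2) fun a => by
      rw [two_nsmul]; exact h2 a
    have e : ∀ t : W4, t = t.1 • e0 + t.2.1 • e1 + t.2.2.1 • e2 + t.2.2.2 • e3 := by decide
    have e' : ∀ t : W4, S4 t = t.1 • e0 + t.2.1 • e2 + t.2.2.1 • (e0 + e1 + e2 + e3) +
      t.2.2.2 • e1 := by decide
    intro t
    rw [e' t]
    conv_rhs => rw [e t]
    simp only [map_add, ZMod.map_smul, h0, h1, h2', h3, hc, hσ, h5]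
    rw [hN]
  let e := AddEquiv.ofBijective φ hb
  refine ⟨e.symm, e.symm_apply_eq.2 h0.symm, fun a => e.symm_apply_eq.2 ?_,
    fun a => e.symm_apply_eq.2 ?_⟩
  · change _ = φ _
    rw [hX]; congr 1; exact (e.apply_symm_apply a).symm
  · change _ = φ _
    rw [hS]; congr 1; exact (e.apply_symm_apply a).symm

variable {G : Type*} [Group G]

/-- `ψ` identifies `W / W₀` with `W4` -/
structure Co (W W₀ : Subgroup G) (ψ : G → W4) : Prop where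
  le : W₀ ≤ W
  mul : ∀ a ∈ W, ∀ b ∈ W, ψ (a * b) = ψ a + ψ b
  ker : ∀ a ∈ W, ψ a = 0 ↔ a ∈ W₀
  surj : ∀ t, ∃ a ∈ W, ψ a = t

/-- `g` normalizes `W` and acts as `T` -/
structure Acts (W : Subgroup G) (ψ : G → W4) (g : G) (T : W4 → W4) : Prop where
  norm : g ∈ 𝐍[W]
  eq : ∀ a ∈ W, ψ (g * a * g⁻¹) = T (ψ a)

variable {W W₀ : Subgroup G} {ψ : G → W4} {g g' : G} {T T' : W4 → W4}

theorem Co.one (h : Co W W₀ ψ) : ψ 1 = 0 := (h.ker 1 W.one_mem).2 W₀.one_mem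

theorem Co.inv (h : Co W W₀ ψ) {a : G} (ha : a ∈ W) : ψ a⁻¹ = ψ a := by
  have := h.mul a ha a⁻¹ (inv_mem ha)
  rw [mul_inv_cancel, h.one] at this
  rw [← W4.neg_eq (ψ a)]
  exact eq_neg_of_add_eq_zero_right this.symm

theorem Co.div (h : Co W W₀ ψ) {a b : G} (ha : a ∈ W) (hb : b ∈ W) : ψ (a * b⁻¹) = ψ a + ψ b := by
  rw [h.mul a ha _ (inv_mem hb), h.inv hb]

theorem Co.div_mem (h : Co W W₀ ψ) {a b : G} (ha : a ∈ W) (hb : b ∈ W) :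
    a * b⁻¹ ∈ W₀ ↔ ψ a = ψ b := by
  rw [← h.ker _ (mul_mem ha (inv_mem hb)), h.div ha hb, add_eq_zero_iff_eq_neg, W4.neg_eq]

theorem Co.mem_of_eq (h : Co W W₀ ψ) {X : Subgroup G} (hX : W₀ ≤ X) {a b : G} (ha : a ∈ W)
    (hb : b ∈ W) (hbX : b ∈ X) (e : ψ a = ψ b) : a ∈ X := by
  simpa using X.mul_mem (hX ((h.div_mem ha hb).2 e)) hbX

theorem Acts.mem (h : Acts W ψ g T) {a : G} (ha : a ∈ W) : g * a * g⁻¹ ∈ W :=
  Amb.conj_mem_of_mem_normalizer h.norm ha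

theorem Acts.mul (h : Acts W ψ g T) (h' : Acts W ψ g' T') : Acts W ψ (g * g') (T ∘ T') :=
  ⟨mul_mem h.norm h'.norm, fun a ha => by
    rw [show g * g' * a * (g * g')⁻¹ = g * (g' * a * g'⁻¹) * g⁻¹ by group, h.eq _ (h'.mem ha),
      h'.eq a ha]; rfl⟩

theorem Acts.pow (h : Acts W ψ g T) (n : ℕ) : Acts W ψ (g ^ n) T^[n] := by
  induction n with
  | zero => exact ⟨by simp, fun a _ => by simp⟩
  | succ n ih => rw [pow_succ, Function.iterate_succ]; exact ih.mul h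

theorem Acts.congr (h : Acts W ψ g T) (e : ∀ t, T t = T' t) : Acts W ψ g T' :=
  ⟨h.norm, fun a ha => (h.eq a ha).trans (e _)⟩

theorem Acts.comm_mem (h : Acts W ψ g T) {a : G} (ha : a ∈ W) : ⁅a, g⁆ ∈ W := by
  rw [commutatorElement_def, mul_assoc, mul_assoc, ← mul_assoc g]
  exact mul_mem ha (h.mem (inv_mem ha))

theorem Co.comm (h : Co W W₀ ψ) (hg : Acts W ψ g T) {a : G} (ha : a ∈ W) :
    ψ ⁅a, g⁆ = ψ a + T (ψ a) := by
  rw [commutatorElement_def, mul_assoc, mul_assoc, ← mul_assoc g, h.mul a ha _ (hg.mem (inv_mem ha)),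
    hg.eq _ (inv_mem ha), h.inv ha]

theorem Co.comm_mem_iff (h : Co W W₀ ψ) (hg : Acts W ψ g T) {a : G} (ha : a ∈ W) :
    ⁅a, g⁆ ∈ W₀ ↔ T (ψ a) = ψ a := by
  rw [← h.ker _ (hg.comm_mem ha), h.comm hg ha, add_eq_zero_iff_eq_neg, W4.neg_eq, eq_comm]

theorem Co.unique (h : Co W W₀ ψ) (hg : Acts W ψ g T) (hg' : Acts W ψ g T') (t : W4) :
    T t = T' t := by
  obtain ⟨a, ha, rfl⟩ := h.surj t
  rw [← hg.eq a ha, hg'.eq a ha]

theorem Co.relIndex (h : Co W W₀ ψ) {X : Subgroup G} (hX : X ≤ W) (s : Finset W4)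
    (hs : ∀ t, t ∈ s ↔ ∃ a ∈ X, ψ a = t) : W₀.relIndex X = s.card := by
  let f : X →* Multiplicative W4 := MonoidHom.mk' (fun a => Multiplicative.ofAdd (ψ a))
    fun a b => congrArg Multiplicative.ofAdd (h.mul a (hX a.2) b (hX b.2))
  have hk : W₀.subgroupOf X = f.ker := by
    ext a
    rw [mem_subgroupOf, MonoidHom.mem_ker, ← h.ker a (hX a.2)]
    rfl
  rw [Subgroup.relIndex, hk, index_ker, ← Nat.card_eq_finsetCard]
  refine Nat.card_congr (Equiv.subtypeEquiv Multiplicative.toAdd fun t => ?_)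
  rw [hs]
  constructor
  · rintro ⟨a, rfl⟩; exact ⟨a, a.2, rfl⟩
  · rintro ⟨a, ha, e⟩; exact ⟨⟨a, ha⟩, congrArg Multiplicative.ofAdd e⟩

/-- the index of `W₀` in the preimage of a set -/
theorem Co.relIndex' (h : Co W W₀ ψ) {X : Subgroup G} (hX : X ≤ W) (P : W4 → Prop)
    [DecidablePred P] (hP : ∀ a ∈ W, a ∈ X ↔ P (ψ a)) :
    W₀.relIndex X = (Finset.univ.filter P).card := by
  refine h.relIndex hX _ fun t => ?_
  rw [Finset.mem_filter]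
  constructor
  · rintro ⟨-, ht⟩
    obtain ⟨a, ha, rfl⟩ := h.surj t
    exact ⟨a, (hP a ha).2 ht, rfl⟩
  · rintro ⟨a, ha, rfl⟩
    exact ⟨Finset.mem_univ _, (hP a (hX ha)).1 ha⟩

theorem Co.irr (h : Co W W₀ ψ) (hg : Acts W ψ g X4) {X : Subgroup G} (h0 : W₀ ≤ X) (h1 : X ≤ W)
    (hn : g ∈ 𝐍[X]) : X = W₀ ∨ X = W := by
  by_cases hle : X ≤ W₀
  · exact Or.inl (le_antisymm hle h0)
  obtain ⟨a, ha, ha'⟩ := SetLike.not_le_iff_exists.1 hle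
  refine Or.inr (le_antisymm h1 fun u hu => ?_)
  obtain ⟨c, hc⟩ := W4.span (ψ a) (fun e => ha' ((h.ker a (h1 ha)).1 e)) (ψ u)
  let P : W4 → Prop := fun t => ∃ b ∈ X, ψ b = t
  have hadd : ∀ t t', P t → P t' → P (t + t') := by
    rintro _ _ ⟨b, hb, rfl⟩ ⟨b', hb', rfl⟩
    exact ⟨b * b', mul_mem hb hb', h.mul _ (h1 hb) _ (h1 hb')⟩
  have hsm : ∀ (c : ZMod 2) t, P t → P (c • t) := by
    intro c t ht
    rcases zmod_two_cases c with rfl | rfl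
    · exact ⟨1, one_mem _, by simp [h.one]⟩
    · simpa using ht
  have hX : ∀ t, P t → P (X4 t) := by
    rintro _ ⟨b, hb, rfl⟩
    exact ⟨_, Amb.conj_mem_of_mem_normalizer hn hb, hg.eq b (h1 hb)⟩
  have ha0 : P (ψ a) := ⟨a, ha, rfl⟩
  obtain ⟨b, hb, e⟩ : P (ψ u) := hc ▸ hadd _ _ (hadd _ _ (hadd _ _ (hsm _ _ ha0)
    (hsm _ _ (hX _ ha0))) (hsm _ _ (hX _ (hX _ ha0)))) (hsm _ _ (hX _ (hX _ (hX _ ha0))))
  exact h.mem_of_eq h0 hu (h1 hb) hb e.symm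

/-- existence of coordinates -/
theorem exists_co [Finite G] {H Y : Subgroup G} (hs : SecHyp H W W₀) (hsq : ∀ a ∈ W, a * a ∈ W₀)
    (h16 : W₀.relIndex W = 16) (hYH : Y ≤ H) (hY : ∀ y ∈ Y, ∀ a ∈ W, ⁅y, a⁆ ∈ W₀) {x s v : G}
    (hx : x ∈ H) (hs' : s ∈ H) (h5 : x ^ 5 = 1) (hne : ∃ a ∈ W, ⁅x, a⁆ ∉ W₀)
    (hc : s * x * s⁻¹ * (x ^ 2)⁻¹ ∈ Y) (hv : v ∈ W) (hv' : v ∉ W₀) (hσ : ⁅s, v⁆ ∈ W₀) :
    ∃ ψ : G → W4, Co W W₀ ψ ∧ ψ v = e0 ∧ Acts W ψ x X4 ∧ Acts W ψ s S4 ∧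
      ∀ y ∈ Y, Acts W ψ y id := by
  have hcard : Nat.card (Sec hs) = 16 := by
    have h1 := Sec.card_mul hs
    have h2 := (W₀.subgroupOf W).card_mul_index
    rw [Nat.card_congr (subgroupOfEquivOfLe hs.le).toEquiv] at h2
    rw [← h2, mul_comm] at h1
    exact (Nat.eq_of_mul_eq_mul_left Nat.card_pos h1).trans h16
  have hY1 : ∀ y (hy : y ∈ Y), Sec.rep hs ⟨y, hYH hy⟩ = 1 := fun y hy =>
    (Sec.rep_eq_one_iff hs _).2 (hY y hy)
  have hm : ∀ (a b : H) (t : Sec hs), Sec.rep hs a (Sec.rep hs b t) = Sec.rep hs (a * b) t :=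
    fun a b t => by rw [map_mul]; rfl
  obtain ⟨e, h0, hX, hS⟩ := exists_W4_equiv (A := Sec hs) (fun a => by
      obtain ⟨u, hu, rfl⟩ := Sec.exists_pr_eq hs a
      rw [← Sec.pr_mul hs hu hu, Sec.pr_eq_zero hs (mul_mem hu hu)]
      exact hsq u hu) hcard (Sec.rep hs ⟨x, hx⟩).toAddMonoidHom (Sec.rep hs ⟨s, hs'⟩).toAddMonoidHom
    (fun a => by
      simp only [LinearMap.toAddMonoidHom_coe, hm]
      rw [show (⟨x, hx⟩ * (⟨x, hx⟩ * (⟨x, hx⟩ * (⟨x, hx⟩ * ⟨x, hx⟩))) : H) = 1 from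
        Subtype.ext (by simpa [pow_succ, mul_assoc] using h5), map_one]; rfl)
    (by
      obtain ⟨a, ha, ha'⟩ := hne
      exact ⟨Sec.pr hs a, fun e => ha' ((Sec.rep_pr_eq_iff hs _ ha).1 e)⟩)
    (fun a => by
      simp only [LinearMap.toAddMonoidHom_coe, hm]
      rw [show (⟨s, hs'⟩ * ⟨x, hx⟩ : H) = ⟨_, hYH hc⟩ * (⟨x, hx⟩ * (⟨x, hx⟩ * ⟨s, hs'⟩)) from
        Subtype.ext (by simp [pow_two, mul_assoc]), ← hm, hY1 _ hc]; rfl)
    (v := Sec.pr hs v) (fun e => hv' ((Sec.pr_eq_zero hs hv).1 e))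
    ((Sec.rep_pr_eq_iff hs _ hv).2 hσ)
  refine ⟨fun a => e (Sec.pr hs a), ⟨hs.le, fun a ha b hb => by
    simp only [Sec.pr_mul hs ha hb, map_add], fun a ha => by
    simp only [EmbeddingLike.map_eq_zero_iff, Sec.pr_eq_zero hs ha], fun t => ?_⟩, h0,
    ⟨hs.normU hx, fun a ha => ?_⟩, ⟨hs.normU hs', fun a ha => ?_⟩,
    fun y hy => ⟨hs.normU (hYH hy), fun a ha => ?_⟩⟩
  · obtain ⟨u, hu, e1⟩ := Sec.exists_pr_eq hs (e.symm t)
    exact ⟨u, hu, by simp [e1]⟩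
  · simp only [← hX, ← Sec.rep_pr' hs hx ha]; rfl
  · simp only [← hS, ← Sec.rep_pr' hs hs' ha]; rfl
  · simp only [← Sec.rep_pr' hs (hYH hy) ha, hY1 y hy]; rfl

end Cfsg.Agent.NG
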