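import Mathlib
import Cfsg.Agent.NG.A0
import Cfsg.Agent.NG.W4

/-!
The Tits configuration: first facts and coordinates for `U / Z`.
-/

set_option autoImplicit false
set_option linter.unusedSectionVars false

namespace Cfsg.Agent.NG

open Subgroup Cfsg.Agent.PLocal Cfsg.Agent.PLocal.Amb Cfsg.Agent.PLocal.CP Cfsg.Agent.PLocal.JC
open scoped commutatorElement

variable {G : Type*} [Group G] [Finite G]

variable {S M V H Y F : Subgroup G} {z m : G}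

set_option quotPrecheck false

/-- `U = ⟨V^H⟩` -/
local notation "𝑼" => ncl V H
local notation "𝒁" => zpowers z
local notation "𝑼'" => cj(m, ncl V H)
local notation "𝑫" => ncl V H ⊓ cj(m, ncl V H)
local notation "𝑸'" => cj(m, Y)
local notation "𝑪₁" => Y ⊓ 𝐂[ncl V H]
local notation "𝑸₁" => Y ⊓ 𝐎[2, H]

theorem mem_zpowers_two {t a : G} (ht : t * t = 1) : a ∈ zpowers t ↔ a = 1 ∨ a = t := by
  constructor
  · rintro ⟨k, rfl⟩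
    have h2 : t ^ (2 : ℤ) = 1 := by rw [zpow_two, ht]
    rcases Int.even_or_odd' k with ⟨j, rfl | rfl⟩
    · left; simp only [zpow_mul, h2, one_zpow]
    · right; simp only [zpow_add, zpow_mul, h2, one_zpow, one_mul, zpow_one]
  · rintro (rfl | rfl)
    · exact one_mem _
    · exact mem_zpowers _

theorem comm_eq_one_iff {a b : G} : ⁅a, b⁆ = 1 ↔ a * b = b * a :=
  commutatorElement_eq_one_iff_mul_comm

theorem comm_mem_symm {X : Subgroup G} {a b : G} (h : ⁅a, b⁆ ∈ X) : ⁅b, a⁆ ∈ X := by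
  rw [← commutatorElement_inv]; exact inv_mem h

theorem conj_comm (w a b : G) : ⁅w * a * w⁻¹, w * b * w⁻¹⁆ = w * ⁅a, b⁆ * w⁻¹ := by
  simp only [commutatorElement_def]; group

namespace T5

variable (h : T5 S M V z H Y F m)
include h

theorem ca : CA S M V z H Y F := h.toCA3.toCA

theorem geo : Geo S M V 𝒁 H Y F := h.ca.toGeo

theorem idx5 : (H ⊓ M).relIndex H = 5 := by
  rw [inf_relIndex_left, h.geo.basic.2.2.2.2.2.2.1, h.idxF]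

theorem idx4 : Y.relIndex (H ⊓ M) = 4 := by
  have := relIndex_mul_relIndex Y (H ⊓ M) H h.Y_le inf_le_left
  rw [h.idx5, h.idxH] at this
  omega

theorem of_two : IsPGroup 2 Y ∧ Y = 𝐐[H] ∧ H ⊓ M = S ∧ 𝐂[V] ≤ S ∧ 𝐂[V] = 𝐐[M] ∧
    S.relIndex M = 3 :=
  h.ca.of_two (pRes_le_of_pow fun g hg => ⟨2, by
    have := pow_relIndex_mem' (inf_le_left.trans h.Y_norm) hg
    rwa [h.idx4] at this⟩)

theorem Y2 : IsPGroup 2 Y := h.of_two.1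
theorem S_eq : H ⊓ M = S := h.of_two.2.2.1
theorem R_le : 𝐂[V] ≤ S := h.of_two.2.2.2.1
theorem S_le : S ≤ H := h.ca.basic.1
theorem YS : Y ≤ S := h.S_eq ▸ h.Y_le
theorem Y_le_H : Y ≤ H := h.YS.trans h.S_le
theorem H_le_C : H ≤ 𝐂₁[z] := h.ca.basic.2.1
theorem normU : H ≤ 𝐍[𝑼] := le_normalizer_ncl V H
theorem normV : 𝐍[V] = M := h.toTwo.basic.2.2.2.1
theorem normZ : H ≤ 𝐍[𝒁] := h.geo.norm_D
theorem eaU : IsElementaryAbelian 2 𝑼 := h.ca.basic.2.2.2.2.2.1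
theorem U_le_Y : 𝑼 ≤ Y := h.ca.basic.2.2.2.2.2.2.1
theorem V_le_U : V ≤ 𝑼 := le_ncl V H
theorem z_mem : z ∈ V := h.ca.one.z_mem_V
theorem Z_le_V : 𝒁 ≤ V := zpowers_le.2 h.z_mem
theorem Z_le_U : 𝒁 ≤ 𝑼 := h.Z_le_V.trans h.V_le_U
theorem U_le_CU : 𝑼 ≤ 𝐂[𝑼] := elemAb_le_centralizer h.eaU
theorem CU_le_R : 𝐂[𝑼] ≤ 𝐂[V] := centralizer_anti h.V_le_U
theorem U_le_R : 𝑼 ≤ 𝐂[V] := h.U_le_CU.trans h.CU_le_R
theorem V_le_D : V ≤ 𝑫 := (h.ca.D_facts h.m_mem h.m_ne).1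
theorem Z_le_D : 𝒁 ≤ 𝑫 := h.Z_le_V.trans h.V_le_D
theorem normD : M ≤ 𝐍[𝑫] := (h.ca.D_facts h.m_mem h.m_ne).2.1
theorem U'_le : 𝑼' ≤ 𝑸' ⊓ 𝐂[V] := (h.ca.D_facts h.m_mem h.m_ne).2.2.2.2.2.1
theorem U'_le_Q' : 𝑼' ≤ 𝑸' := h.U'_le.trans inf_le_left
theorem U'_le_R : 𝑼' ≤ 𝐂[V] := h.U'_le.trans inf_le_right
theorem U'S : 𝑼' ≤ S := h.U'_le_R.trans h.R_le
theorem U'_le_H : 𝑼' ≤ H := h.U'S.trans h.S_le
theorem normR : M ≤ 𝐍[𝐂[V]] := Amb.le_normalizer_centralizer h.normV.ge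
theorem normCU : H ≤ 𝐍[𝐂[𝑼]] := Amb.le_normalizer_centralizer h.normU
theorem normC1 : H ≤ 𝐍[𝑪₁] := Amb.le_normalizer_inf h.Y_norm h.normCU
theorem normQ1 : H ≤ 𝐍[𝑸₁] := Amb.le_normalizer_inf h.Y_norm (le_normalizer_pRes 2 H)

theorem mem_Z {a : G} : a ∈ 𝒁 ↔ a = 1 ∨ a = z := mem_zpowers_two h.z_sq

theorem z'_sq : m * z * m⁻¹ * (m * z * m⁻¹) = 1 := by
  calc _ = m * (z * z) * m⁻¹ := by group
    _ = 1 := by rw [h.z_sq]; group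

theorem mem_Z' {a : G} : a ∈ zpowers (m * z * m⁻¹) ↔ a = 1 ∨ a = m * z * m⁻¹ :=
  mem_zpowers_two h.z'_sq

theorem z'_ne : m * z * m⁻¹ ≠ 1 := by simpa using h.z_ne

theorem z'_mem : m * z * m⁻¹ ∈ V :=
  Amb.conj_mem_of_mem_normalizer (h.normV.ge h.m_mem) h.z_mem

theorem z'_not : m * z * m⁻¹ ∉ 𝒁 := fun e => (h.mem_Z.1 e).elim h.z'_ne h.m_ne

theorem eq_one {a : G} (h1 : a ∈ 𝒁) (h2 : a ∈ zpowers (m * z * m⁻¹)) : a = 1 :=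
  (h.mem_Z'.1 h2).elim id fun e => (h.z'_not (e ▸ h1)).elim

theorem comm_z {g : G} (hg : g ∈ H) : g * z = z * g :=
  mem_centralizer_singleton_iff.1 (h.H_le_C hg)

theorem mem_Y {g : G} (hg : g ∈ H) : g ∈ Y ↔ ∀ u ∈ 𝑼, ⁅g, u⁆ ∈ 𝒁 := by
  conv_lhs => rw [← h.ca.basic.2.2.2.2.1]
  exact ⟨fun e => e.2.2, fun e => ⟨hg, h.normZ hg, e⟩⟩

theorem comm_YU {y u : G} (hy : y ∈ Y) (hu : u ∈ 𝑼) : ⁅y, u⁆ ∈ 𝒁 :=
  (h.mem_Y (h.Y_le_H hy)).1 hy u hu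

theorem comm_QU' {y u : G} (hy : y ∈ 𝑸') (hu : u ∈ 𝑼') : ⁅y, u⁆ ∈ zpowers (m * z * m⁻¹) := by
  obtain ⟨y, hy', rfl⟩ := mem_cj_iff_exists.1 hy
  obtain ⟨u, hu', rfl⟩ := mem_cj_iff_exists.1 hu
  rw [conj_comm, h.mem_Z']
  rcases h.mem_Z.1 (h.comm_YU hy' hu') with e | e <;> simp [e]

theorem CU_le_Y : 𝐂[𝑼] ≤ Y := fun g hg =>
  (h.mem_Y (h.S_le (h.R_le (h.CU_le_R hg)))).2 fun u hu => by
    rw [comm_eq_one_iff.2 (hg u hu).symm]; exact one_mem _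

theorem C1_eq' : 𝑪₁ = 𝐂[𝑼] := inf_eq_right.2 h.CU_le_Y

/-- `R = C(V)` normalizes the conjugates under `m` of the normal subgroups of `H` -/
theorem R_norm {X : Subgroup G} (hX : H ≤ 𝐍[X]) : 𝐂[V] ≤ 𝐍[cj(m, X)] := by
  rw [normalizer_cj, ← cj_of_mem_normalizer (h.normR h.m_mem)]
  exact cj_mono _ ((h.R_le.trans h.S_le).trans hX)

theorem comm_UU' {u a : G} (hu : u ∈ 𝑼) (ha : a ∈ 𝑼') : ⁅u, a⁆ ∈ 𝑫 := by
  refine mem_inf.2 ⟨?_, ?_⟩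
  · rw [commutatorElement_def, mul_assoc, mul_assoc, ← mul_assoc a]
    exact mul_mem hu (Amb.conj_mem_of_mem_normalizer (h.normU (h.U'_le_H ha)) (inv_mem hu))
  · exact mul_mem (Amb.conj_mem_of_mem_normalizer (h.R_norm h.normU (h.U_le_R hu)) ha) (inv_mem ha)

theorem eaU' : IsElementaryAbelian 2 𝑼' := isEA_of_sq fun a ha => by
  obtain ⟨u, hu, rfl⟩ := mem_cj_iff_exists.1 ha
  calc _ = m * (u * u) * m⁻¹ := by group
    _ = 1 := by rw [sq_eq_one_of_isEA h.eaU u hu]; group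

/-- the symmetry -/
theorem sym : ∃ w ∈ M, w * z * w⁻¹ = m * z * m⁻¹ ∧ w * (m * z * m⁻¹) * w⁻¹ = z ∧
    (∀ X : Subgroup G, H ≤ 𝐍[X] → (∀ g, w * g * w⁻¹ ∈ cj(m, X) ↔ g ∈ X) ∧
      ∀ g, w * g * w⁻¹ ∈ X ↔ g ∈ cj(m, X)) ∧
    ∀ X : Subgroup G, M ≤ 𝐍[X] → ∀ g, w * g * w⁻¹ ∈ X ↔ g ∈ X := by
  obtain ⟨w, hw, h1, h2, h3⟩ := h.ca.swap h.m_mem h.m_ne
  refine ⟨w, hw, h1, h2, fun X hX => ?_, fun X hX g => (mem_normalizer_iff.1 (hX hw) g).symm⟩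
  obtain ⟨h4, h5⟩ := h3 X (inf_le_left.trans hX)
  refine ⟨fun g => by rw [← h4, conj_mem_cj_iff], fun g => ?_⟩
  conv_lhs => rw [← h5]
  exact conj_mem_cj_iff

theorem comm_Z {a b : G} (ha : a ∈ 𝒁) (hb : b ∈ H) : a * b = b * a := by
  rcases h.mem_Z.1 ha with rfl | rfl
  · simp
  · exact (h.comm_z hb).symm

/-- `Y / C(U)` is elementary abelian -/
theorem Y_ea : (∀ y ∈ Y, ∀ y' ∈ Y, ⁅y, y'⁆ ∈ 𝐂[𝑼]) ∧ ∀ y ∈ Y, y * y ∈ 𝐂[𝑼] := by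
  have key : ∀ y ∈ Y, ∀ y' ∈ Y, ∀ u ∈ 𝑼,
      y * y' * u * (y * y')⁻¹ = ⁅y, u⁆ * ⁅y', u⁆ * u := by
    intro y hy y' hy' u hu
    have e := h.comm_Z (h.comm_YU hy' hu) (h.Y_le_H hy)
    have e2 := h.comm_Z (h.comm_YU hy' hu) (h.Y_le_H (h.U_le_Y (h.Z_le_U (h.comm_YU hy hu))))
    calc _ = y * ⁅y', u⁆ * u * y⁻¹ := by simp only [commutatorElement_def]; group
      _ = ⁅y', u⁆ * ⁅y, u⁆ * u := by rw [← e]; simp only [commutatorElement_def]; group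
      _ = _ := by rw [e2]
  refine ⟨fun y hy y' hy' u hu => ?_, fun y hy u hu => ?_⟩
  · have hu' : (y' * y)⁻¹ * u * (y' * y) ∈ 𝑼 :=
      Amb.inv_conj_mem_of_mem_normalizer (h.normU (h.Y_le_H (mul_mem hy' hy))) hu
    have e1 := key y hy y' hy' _ hu'
    have e2 := key y' hy' y hy _ hu'
    rw [h.comm_Z (h.comm_YU hy' hu') (h.Y_le_H (h.U_le_Y (h.Z_le_U (h.comm_YU hy hu')))),
      ← e1] at e2
    calc u * ⁅y, y'⁆ = (y' * y * ((y' * y)⁻¹ * u * (y' * y)) * (y' * y)⁻¹) * ⁅y, y'⁆ := by group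
      _ = _ := by rw [e2]; simp only [commutatorElement_def]; group
  · have e1 := key y hy y hy u hu
    have e2 : ⁅y, u⁆ * ⁅y, u⁆ = 1 := sq_eq_one_of_isEA h.eaU _ (h.Z_le_U (h.comm_YU hy hu))
    rw [e2, one_mul] at e1
    calc u * (y * y) = (y * y * u * (y * y)⁻¹) * (y * y) := by rw [e1]
      _ = _ := by group

theorem card_Z : Nat.card 𝒁 = 2 := h.ca.one.card_Z

theorem idxZU : (𝒁).relIndex 𝑼 = 16 := by
  have h2 := ((𝒁).subgroupOf 𝑼).card_mul_index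
  rw [Nat.card_congr (subgroupOfEquivOfLe h.Z_le_U).toEquiv, h.card_Z, h.cardU] at h2
  change 2 * (𝒁).relIndex 𝑼 = 32 at h2
  omega

theorem mem_V {v : G} : v ∈ V ↔ v ∈ 𝒁 ∨ v * (m * z * m⁻¹)⁻¹ ∈ 𝒁 := by
  refine ⟨fun hv => ?_, fun e => e.elim (fun e => h.Z_le_V e) fun e =>
    (V.mul_mem_cancel_right (inv_mem h.z'_mem)).1 (h.Z_le_V e)⟩
  have h1 : ((𝒁).subgroupOf V).index = 2 := by
    have := ((𝒁).subgroupOf V).card_mul_index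
    rw [Nat.card_congr (subgroupOfEquivOfLe h.Z_le_V).toEquiv, h.card_Z, h.four] at this
    omega
  by_cases e : v ∈ 𝒁
  · exact Or.inl e
  · exact Or.inr ((mul_mem_iff_of_index_two h1 (a := ⟨v, hv⟩) (b := ⟨_, inv_mem h.z'_mem⟩)).2 (by
      simp only [mem_subgroupOf, inv_mem_iff]
      exact iff_of_false e h.z'_not))

/-- the Frobenius group `H / Y` -/
theorem frob : ∃ x ∈ F, ∃ s ∈ S, orderOf x = 5 ∧ x ∉ Y ∧ F = Y ⊔ zpowers x ∧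
    s * x * s⁻¹ * (x ^ 2)⁻¹ ∈ Y ∧
    ∀ g ∈ H, ∃ y ∈ Y, ∃ (i : Fin 5) (j : Fin 4), g = y * (x ^ i.1 * s ^ j.1) := by
  have : Fact (Nat.Prime 5) := ⟨by norm_num⟩
  have : Fact (Nat.Prime 2) := ⟨Nat.prime_two⟩
  obtain ⟨⟨x, hx⟩, ho⟩ := exists_prime_orderOf_dvd_card' (G := F) 5
    (h.idxF ▸ (Y.subgroupOf F).index_dvd_card)
  rw [Subgroup.orderOf_mk] at ho
  have hxY : x ∉ Y := fun e => by
    have := eq_one_of_isPGroup_of_coprime h.Y2 e (by rw [ho]; norm_num)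
    rw [this, orderOf_one] at ho
    omega
  have hF : F = Y ⊔ zpowers x := by
    rw [sup_comm, sup_zpowers_eq (h.idxF ▸ by norm_num) h.Y_le_F hx hxY]
  have hxH := h.F_le hx
  have hmem : ∀ f ∈ F, ∃ y ∈ Y, ∃ i : Fin 5, f = y * x ^ i.1 := by
    intro f hf
    rw [hF] at hf
    obtain ⟨y, hy, b, hb, rfl⟩ :=
      (mem_sup_of_le_normalizer_left (zpowers_le.2 (h.Y_norm hxH))).1 hf
    obtain ⟨n, rfl⟩ := (mem_powers_iff_mem_zpowers.2 hb)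
    exact ⟨y, hy, ⟨n % 5, Nat.mod_lt _ (by norm_num)⟩, congrArg (y * ·) (by
      have := pow_mod_orderOf x n
      rw [ho] at this
      exact this.symm)⟩
  have hn : (Y.subgroupOf H).Normal := normal_subgroupOf' h.Y_norm
  let π := QuotientGroup.mk' (Y.subgroupOf H)
  have hker : ∀ g : H, π g = 1 ↔ (g : G) ∈ Y := fun g => QuotientGroup.eq_one_iff g
  set X := π ⟨x, hxH⟩ with hX
  have hX5 : X ^ 5 = 1 := by
    rw [hX, ← map_pow, show (⟨x, hxH⟩ : H) ^ 5 = 1 from Subtype.ext (by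
      simp [← ho]), map_one]
  have hX1 : X ≠ 1 := fun e => hxY ((hker _).1 e)
  have hk : ∀ g : H, ∃ k : Fin 5, k ≠ 0 ∧ π g * X * (π g)⁻¹ = X ^ k.1 := by
    intro g
    obtain ⟨y, hy, i, e⟩ := hmem _ (Amb.conj_mem_of_mem_normalizer (h.F_norm g.2) hx)
    have e2 : π g * X * (π g)⁻¹ = X ^ i.1 := by
      rw [hX, ← map_inv, ← map_mul, ← map_mul, ← map_pow, show g * ⟨x, hxH⟩ * g⁻¹ =
        ⟨y, h.Y_le_H hy⟩ * ⟨x, hxH⟩ ^ i.1 from Subtype.ext e, map_mul, (hker _).2 hy, one_mul]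
    refine ⟨i, ?_, e2⟩
    rintro rfl
    exact hX1 (by simpa using e2)
  have hself : ∀ g : H, π g * X * (π g)⁻¹ = X → (g : G) ∈ F := by
    intro g e
    refine h.F_self g g.2 fun f hf => ?_
    obtain ⟨y, hy, i, rfl⟩ := hmem f hf
    refine (hker ⁅g, ⟨y, h.Y_le_H hy⟩ * ⟨x, hxH⟩ ^ i.1⁆).1 ?_
    rw [map_commutatorElement, map_mul, (hker ⟨y, h.Y_le_H hy⟩).2 hy, one_mul, map_pow, ← hX,
      commutatorElement_eq_one_iff_commute]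
    exact Commute.pow_right (by rw [Commute, SemiconjBy, ← mul_inv_eq_iff_eq_mul, e]) _
  have hpow : ∀ (g : H ⧸ Y.subgroupOf H) (k n : ℕ), g * X * g⁻¹ = X ^ k →
      g * X ^ n * g⁻¹ = X ^ (k * n % 5) := by
    intro g k n e
    rw [← conj_pow, e, ← pow_mul, pow_eq_pow_mod _ hX5]
  have hs : ∃ s : H, (s : G) ∈ S ∧ π s * X * (π s)⁻¹ = X ^ 2 := by
    by_contra hc
    push Not at hc
    have h4 : ∀ s : H, (s : G) ∈ S → (s : G) ∉ Y → π s * X * (π s)⁻¹ = X ^ 4 := by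
      intro s hs hs'
      obtain ⟨k, hk0, e⟩ := hk s
      fin_cases k
      · exact (hk0 rfl).elim
      · exact (hs' (h.F_inf.le ⟨hself s (by simpa using e), h.le hs⟩)).elim
      · exact (hc s hs e).elim
      · refine (hc s⁻¹ (inv_mem hs) ?_).elim
        have := hpow _ 3 2 e
        norm_num at this
        rw [map_inv]
        calc _ = (π s)⁻¹ * (π s * X ^ 2 * (π s)⁻¹) * (π s)⁻¹⁻¹ := by rw [this]
          _ = _ := by group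
      · exact e
    have h5 : Y.relIndex S ≠ 1 := by rw [← h.S_eq, h.idx4]; norm_num
    obtain ⟨a, ha, ha'⟩ := SetLike.not_le_iff_exists.1 (mt relIndex_eq_one.2 h5)
    have h6 : Y.relIndex S = 2 := index_eq_two_iff.2 ⟨⟨a, ha⟩, fun b => by
      simp only [mem_subgroupOf, coe_mul]
      by_cases hb : (b : G) ∈ Y
      · exact Or.inr ⟨hb, fun e => ha' ((Y.mul_mem_cancel_left hb).1 e)⟩
      · refine Or.inl ⟨h.F_inf.le ⟨hself (⟨b, h.S_le b.2⟩ * ⟨a, h.S_le ha⟩) ?_,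
          h.le (mul_mem b.2 ha)⟩, hb⟩
        have e1 := h4 ⟨a, h.S_le ha⟩ ha ha'
        have e2 := hpow _ 4 4 (h4 ⟨b, h.S_le b.2⟩ b.2 hb)
        norm_num at e2
        rw [map_mul]
        calc _ = π ⟨b, h.S_le b.2⟩ * (π ⟨a, h.S_le ha⟩ * X * (π ⟨a, h.S_le ha⟩)⁻¹) *
            (π ⟨b, h.S_le b.2⟩)⁻¹ := by group
          _ = X := by rw [e1, e2]⟩
    rw [← h.S_eq, h.idx4] at h6
    omega
  obtain ⟨s, hsS, hs⟩ := hs
  refine ⟨x, hx, s, hsS, ho, hxY, hF, (hker (s * ⟨x, hxH⟩ * s⁻¹ * (⟨x, hxH⟩ ^ 2)⁻¹)).1 ?_,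
    fun g hg => ?_⟩
  · simp only [map_mul, map_inv, map_pow, ← hX, hs, mul_inv_cancel]
  · obtain ⟨k, hk0, e⟩ := hk ⟨g, hg⟩
    have hj : ∃ j : Fin 4, π s ^ j.1 * X * (π s ^ j.1)⁻¹ = X ^ k.1 := by
      have e2 : π s ^ 2 * X * (π s ^ 2)⁻¹ = X ^ 4 := by
        calc _ = π s * (π s * X * (π s)⁻¹) * (π s)⁻¹ := by rw [pow_two]; group
          _ = _ := by rw [hs, hpow _ 2 2 hs]
      have e3 : π s ^ 3 * X * (π s ^ 3)⁻¹ = X ^ 3 := by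
        calc _ = π s * (π s ^ 2 * X * (π s ^ 2)⁻¹) * (π s)⁻¹ := by group
          _ = _ := by rw [e2, hpow _ 2 4 hs]
      fin_cases k
      · exact (hk0 rfl).elim
      · exact ⟨0, by simp⟩
      · exact ⟨1, by simpa using hs⟩
      · exact ⟨3, e3⟩
      · exact ⟨2, e2⟩
    obtain ⟨j, hj⟩ := hj
    have hf := hself ((s ^ j.1)⁻¹ * ⟨g, hg⟩) (by
      rw [map_mul, map_inv, map_pow]
      calc _ = (π s ^ j.1)⁻¹ * (π ⟨g, hg⟩ * X * (π ⟨g, hg⟩)⁻¹) * π s ^ j.1 := by group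
        _ = X := by rw [e, ← hj]; group)
    obtain ⟨y, hy, i, e3⟩ := hmem _
      (Amb.conj_mem_of_mem_normalizer (h.F_norm (s ^ j.1).2) hf)
    refine ⟨y, hy, i, j, ?_⟩
    rw [← mul_assoc, ← e3]
    simp

end T5

/-- `g ≡ x ^ i * s ^ j` modulo `Y` -/
def Dec (Y : Subgroup G) (x s g : G) (i : Fin 5) (j : Fin 4) : Prop :=
  ∃ y ∈ Y, g = y * (x ^ i.1 * s ^ j.1)

theorem Dec.acts {W : Subgroup G} {ψ : G → W4} {x s g : G} {i : Fin 5} {j : Fin 4}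
    (h : Dec Y x s g i j) (hx : Acts W ψ x X4) (hs : Acts W ψ s S4) (hY : ∀ y ∈ Y, Acts W ψ y id) :
    Acts W ψ g (act4 i j) := by
  obtain ⟨y, hy, rfl⟩ := h
  exact ((hY y hy).mul ((hx.pow _).mul (hs.pow _))).congr fun _ => rfl

/-- coordinates for `U / Z` -/
structure TU (S M V : Subgroup G) (z : G) (H Y F : Subgroup G) (m x s : G) (ψ : G → W4) : Prop
    extends T5 S M V z H Y F m where
  x_mem : x ∈ F
  s_mem : s ∈ S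
  ord : orderOf x = 5
  x_not : x ∉ Y
  F_eq : F = Y ⊔ zpowers x
  rel : s * x * s⁻¹ * (x ^ 2)⁻¹ ∈ Y
  dec : ∀ g ∈ H, ∃ i j, Dec Y x s g i j
  co : Co (ncl V H) (zpowers z) ψ
  ψz' : ψ (m * z * m⁻¹) = e0
  ax : Acts (ncl V H) ψ x X4
  as : Acts (ncl V H) ψ s S4
  aY : ∀ y ∈ Y, Acts (ncl V H) ψ y id

theorem T5.comm_VS (h : T5 S M V z H Y F m) {v g : G} (hv : v ∈ V) (hg : g ∈ S) : ⁅v, g⁆ ∈ 𝒁 :=
  h.ca.one.comm_le (commutator_mem_commutator hv ⟨h.H_le_C (h.S_le hg), h.le hg⟩)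

theorem T5.exists_TU (h : T5 S M V z H Y F m) : ∃ x s ψ, TU S M V z H Y F m x s ψ := by
  obtain ⟨x, hx, s, hs, ho, hxY, hF, hr, hd⟩ := h.frob
  have hm := h.ca.basic.2.2.2.1
  obtain ⟨ψ, h1, h2, h3, h4, h5⟩ := exists_co (H := H) (W := 𝑼) (W₀ := 𝒁)
    ⟨hm.le, hm.comm, hm.normU, hm.normU₀⟩ hm.sq h.idxZU h.Y_le_H (fun y hy a ha => h.comm_YU hy ha)
    (h.F_le hx) (h.S_le hs) (ho ▸ pow_orderOf_eq_one x) (by
      by_contra hc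
      push Not at hc
      exact hxY ((h.mem_Y (h.F_le hx)).2 hc)) hr (h.V_le_U h.z'_mem) h.z'_not
    (comm_mem_symm (h.comm_VS h.z'_mem hs))
  refine ⟨x, s, ψ, h, hx, hs, ho, hxY, hF, hr, fun g hg => ?_, h1, h2, h3, h4, h5⟩
  obtain ⟨y, hy, i, j, e⟩ := hd g hg
  exact ⟨i, j, y, hy, e⟩

namespace TU

variable {x s : G} {ψ : G → W4} (h : TU S M V z H Y F m x s ψ)
include h

theorem t5 : T5 S M V z H Y F m := h.toT5

theorem x_H : x ∈ H := h.F_le h.x_mem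

theorem dec_H {g : G} {i : Fin 5} {j : Fin 4} (hg : Dec Y x s g i j) : g ∈ H := by
  obtain ⟨y, hy, rfl⟩ := hg
  exact mul_mem (h.t5.Y_le_H hy) (mul_mem (pow_mem h.x_H _) (pow_mem (h.t5.S_le h.s_mem) _))

theorem acts {g : G} {i : Fin 5} {j : Fin 4} (hg : Dec Y x s g i j) : Acts 𝑼 ψ g (act4 i j) :=
  hg.acts h.ax h.as h.aY

theorem dec_pow (i : Fin 5) (j : Fin 4) : Dec Y x s (x ^ i.1 * s ^ j.1) i j :=
  ⟨1, one_mem _, (one_mul _).symm⟩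

theorem mem_Y_of_acts {g : G} (hg : g ∈ H) {T : W4 → W4} (ha : Acts 𝑼 ψ g T) :
    g ∈ Y ↔ ∀ t, T t = t := by
  refine ⟨fun e t => h.co.unique ha (h.aY g e) t, fun e => (h.t5.mem_Y hg).2 fun u hu => ?_⟩
  exact comm_mem_symm ((h.co.comm_mem_iff ha hu).2 (e _))

theorem mem_Y {g : G} {i : Fin 5} {j : Fin 4} (hg : Dec Y x s g i j) : g ∈ Y ↔ i = 0 ∧ j = 0 := by
  rw [h.mem_Y_of_acts (h.dec_H hg) (h.acts hg)]
  clear hg; revert i j; decide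

theorem mem_V {u : G} (hu : u ∈ 𝑼) : u ∈ V ↔ ψ u = 0 ∨ ψ u = e0 := by
  rw [h.t5.mem_V, h.co.ker u hu, h.co.div_mem hu (h.t5.V_le_U h.t5.z'_mem), h.ψz']

theorem mem_S {g : G} {i : Fin 5} {j : Fin 4} (hg : Dec Y x s g i j) : g ∈ S ↔ i = 0 := by
  constructor
  · intro e
    have := (h.co.comm_mem_iff (h.acts hg) (h.t5.V_le_U h.t5.z'_mem)).1
      (h.t5.comm_VS h.t5.z'_mem e)
    rw [h.ψz'] at this
    clear hg; revert i j; decide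
  · rintro rfl
    obtain ⟨y, hy, rfl⟩ := hg
    exact mul_mem (h.t5.YS hy) (by simpa using pow_mem h.s_mem _)

theorem decS {g : G} (hg : g ∈ S) : ∃ j, Dec Y x s g 0 j := by
  obtain ⟨i, j, e⟩ := h.dec g (h.t5.S_le hg)
  obtain rfl := (h.mem_S e).1 hg
  exact ⟨j, e⟩

theorem sq_mem {g : G} {j : Fin 4} (hg : Dec Y x s g 0 j) : g * g ∈ Y ↔ j = 0 ∨ j = 2 := by
  rw [h.mem_Y_of_acts (mul_mem (h.dec_H hg) (h.dec_H hg)) ((h.acts hg).mul (h.acts hg))]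
  clear hg; revert j; decide

theorem dec_a {g : G} (hg : g ∈ S) (h2 : g * g ∈ Y) (h1 : g ∉ Y) : Dec Y x s g 0 2 := by
  obtain ⟨j, e⟩ := h.decS hg
  rcases (h.sq_mem e).1 h2 with rfl | rfl
  · exact (h1 ((h.mem_Y e).2 ⟨rfl, rfl⟩)).elim
  · exact e

theorem dec_gen {g : G} (hg : g ∈ S) (h2 : g * g ∉ Y) : Dec Y x s g 0 1 ∨ Dec Y x s g 0 3 := by
  obtain ⟨j, e⟩ := h.decS hg
  rw [h.sq_mem e] at h2
  fin_cases j
  · exact (h2 (Or.inl rfl)).elim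
  · exact Or.inl e
  · exact (h2 (Or.inr rfl)).elim
  · exact Or.inr e

theorem div_mem {g g' : G} {i : Fin 5} {j : Fin 4} (hg : Dec Y x s g i j) (hg' : Dec Y x s g' i j) :
    g * g'⁻¹ ∈ Y := by
  obtain ⟨y, hy, rfl⟩ := hg
  obtain ⟨y', hy', rfl⟩ := hg'
  rw [mul_inv_rev, ← mul_assoc, mul_inv_cancel_right]
  exact mul_mem hy (inv_mem hy')

theorem dec_U' {a : G} (ha : a ∈ 𝑼') (ha' : a ∉ Y) : Dec Y x s a 0 2 :=
  h.dec_a (h.t5.U'S ha) (by rw [sq_eq_one_of_isEA h.t5.eaU' a ha]; exact one_mem _) ha'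

theorem exists_a : ∃ a ∈ 𝑼', a ∉ Y := SetLike.not_le_iff_exists.1 h.crit

theorem mem_D {u : G} (hu : u ∈ 𝑼) : u ∈ 𝑫 ↔ act4 0 2 (ψ u) = ψ u := by
  obtain ⟨a, ha, ha'⟩ := h.exists_a
  have hA := h.acts (h.dec_U' ha ha')
  constructor
  · intro e
    rw [← h.co.comm_mem_iff hA hu, comm_eq_one_iff.2 (elemAb_comm h.t5.eaU' e.2 ha)]
    exact one_mem _
  · intro e
    obtain ⟨t, ht⟩ := (by decide : ∀ t : W4, act4 0 2 t = t → ∃ t', t = t' + act4 0 2 t') _ e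
    obtain ⟨u', hu', rfl⟩ := h.co.surj t
    rw [← h.co.comm hA hu'] at ht
    exact h.co.mem_of_eq h.t5.Z_le_D hu (hA.comm_mem hu') (h.t5.comm_UU' hu' ha) ht

theorem cent_a {a u : G} (ha : a ∈ 𝑼') (ha' : a ∉ Y) (hu : u ∈ 𝑼) : u * a = a * u ↔ u ∈ 𝑫 := by
  refine ⟨fun e => ?_, fun e => elemAb_comm h.t5.eaU' e.2 ha⟩
  rw [h.mem_D hu, ← h.co.comm_mem_iff (h.acts (h.dec_U' ha ha')) hu, comm_eq_one_iff.2 e]
  exact one_mem _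

theorem cent_a' {a u : G} (ha : a ∈ 𝑼) (ha' : a ∉ 𝑸') (hu : u ∈ 𝑼') : u * a = a * u ↔ u ∈ 𝑫 := by
  obtain ⟨w, -, -, -, h1, h2⟩ := h.t5.sym
  rw [← h2 _ h.t5.normD, ← h.cent_a (((h1 _ h.t5.normU).1 a).2 ha)
    (mt ((h1 _ h.Y_norm).2 a).1 ha') (((h1 _ h.t5.normU).2 u).2 hu), ← comm_eq_one_iff,
    ← comm_eq_one_iff, conj_comm]
  simp

/-- elements of `R` with square in `Q'` -/
theorem div_mem' {g g' : G} (hg : g ∈ 𝐂[V]) (hg' : g' ∈ 𝐂[V]) (h1 : g * g ∈ 𝑸') (h2 : g' * g' ∈ 𝑸')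
    (h3 : g ∉ 𝑸') (h4 : g' ∉ 𝑸') : g * g'⁻¹ ∈ 𝑸' := by
  obtain ⟨w, -, -, -, h5, h6⟩ := h.t5.sym
  have h7 := (h5 _ h.Y_norm).2
  have key : ∀ g ∈ 𝐂[V], g * g ∈ 𝑸' → g ∉ 𝑸' → Dec Y x s (w * g * w⁻¹) 0 2 := fun g a b c =>
    h.dec_a (h.t5.R_le ((h6 _ h.t5.normR g).2 a)) (by
      rw [show w * g * w⁻¹ * (w * g * w⁻¹) = w * (g * g) * w⁻¹ by group]; exact (h7 _).2 b)
      (mt (h7 g).1 c)
  have := h.div_mem (key g hg h1 h3) (key g' hg' h2 h4)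
  rw [show w * g * w⁻¹ * (w * g' * w⁻¹)⁻¹ = w * (g * g'⁻¹) * w⁻¹ by group] at this
  exact (h7 _).1 this

theorem mem_Q' {u : G} (hu : u ∈ 𝑼) : u ∈ 𝑸' ↔ B4 e0 (ψ u) = 0 := by
  have key : ∀ u ∈ 𝑼, u ∈ 𝑸' → B4 e0 (ψ u) = 0 := by
    intro u hu e
    obtain ⟨a, ha, ha'⟩ := h.exists_a
    have hA := h.acts (h.dec_U' ha ha')
    have := (h.mem_V (hA.comm_mem hu)).1 (zpowers_le.2 h.t5.z'_mem (h.t5.comm_QU' e ha))
    rw [h.co.comm hA hu] at this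
    generalize ψ u = t at this
    revert t; decide
  refine ⟨key u hu, fun e => ?_⟩
  by_contra hc
  obtain ⟨u₁, hu₁, e1⟩ := h.co.surj e1
  have hsq : ∀ u ∈ 𝑼, u * u ∈ 𝑸' := fun u hu => by
    rw [sq_eq_one_of_isEA h.t5.eaU u hu]; exact one_mem _
  have := key _ (mul_mem hu (inv_mem hu₁)) (h.div_mem' (h.t5.U_le_R hu) (h.t5.U_le_R hu₁)
    (hsq u hu) (hsq u₁ hu₁) hc fun e2 => by
      have := key u₁ hu₁ e2
      rw [e1] at this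
      revert this; decide)
  rw [h.co.div hu hu₁, e1] at this
  generalize ψ u = t at this e
  revert t; decide

theorem exists_a' : ∃ a ∈ 𝑼, a ∉ 𝑸' := by
  obtain ⟨u, hu, e⟩ := h.co.surj e1
  exact ⟨u, hu, by rw [h.mem_Q' hu, e]; decide⟩

theorem U'_inf : 𝑼' ⊓ 𝐂[𝑼] = 𝑫 := by
  obtain ⟨a, ha, ha'⟩ := h.exists_a'
  exact le_antisymm (fun u hu => (h.cent_a' ha ha' hu.1).1 (hu.2 a ha).symm)
    (le_inf inf_le_right (inf_le_left.trans h.t5.U_le_CU))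

theorem exists_u' : ∃ u ∈ 𝑼' ⊓ Y, u ∉ 𝑫 := by
  obtain ⟨w, -, -, -, h1, h2⟩ := h.t5.sym
  obtain ⟨u, hu, e⟩ := h.co.surj (e1 + e2)
  refine ⟨w * u * w⁻¹, ⟨((h1 _ h.t5.normU).1 u).2 hu, ((h1 _ h.Y_norm).2 u).2 ?_⟩, ?_⟩
  · rw [h.mem_Q' hu, e]; decide
  · rw [h2 _ h.t5.normD, h.mem_D hu, e]; decide

/-- an element of `S` has its square in `Y` iff it centralizes `D / Z` -/
theorem sq_mem_iff {g : G} (hg : g ∈ S) : g * g ∈ Y ↔ ∀ d ∈ 𝑫, ⁅d, g⁆ ∈ 𝒁 := by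
  obtain ⟨j, e⟩ := h.decS hg
  rw [h.sq_mem e]
  constructor
  · intro e2 d hd
    rw [h.co.comm_mem_iff (h.acts e) hd.1]
    have := (h.mem_D hd.1).1 hd
    rcases e2 with rfl | rfl
    · rfl
    · exact this
  · intro h2
    obtain ⟨d, hd, h3⟩ := h.co.surj (e2 + e3)
    have := h2 d (by rw [h.mem_D hd, h3]; decide)
    rw [h.co.comm_mem_iff (h.acts e) hd, h3] at this
    clear e; revert j; decide

theorem exists_b : ∃ b ∈ 𝑸' ⊓ 𝐂[V], b * b ∉ Y := by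
  by_contra hc
  push Not at hc
  obtain ⟨d, hd, e⟩ := h.co.surj (e2 + e3)
  have hD : d ∈ 𝑫 := by rw [h.mem_D hd, e]; decide
  have hV : d ∉ V := by rw [h.mem_V hd, e]; decide
  refine hV ((h.t5.ca.D_facts h.m_mem h.m_ne).2.2.1.le ⟨hD, fun b hb => ?_⟩)
  refine comm_eq_one_iff.1 (h.t5.eq_one (comm_mem_symm ?_) (h.t5.comm_QU' hb.1 hD.2))
  exact (h.sq_mem_iff (h.t5.R_le hb.2)).1 (hc b hb) d hD

theorem cent_x {u : G} (hu : u ∈ 𝑼) (e : ⁅u, x⁆ ∈ 𝒁) : u ∈ 𝒁 := by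
  rw [h.co.comm_mem_iff h.ax hu] at e
  exact (h.co.ker u hu).1 (W4.fpf _ e)

theorem cent_Y : 𝑼 ⊓ 𝐂[Y] = 𝒁 := by
  exact le_antisymm (fun u hu => h.cent_x hu.1 ((h.t5.ca.cent_Y hu).2.2 x h.x_mem))
    (le_inf h.t5.Z_le_U fun a ha b hb => (h.t5.comm_Z ha (h.t5.Y_le_H hb)).symm)

theorem idx16 : (𝐂[𝑼]).relIndex Y = 16 := by
  rw [h.t5.ca.dual.1, ← inf_relIndex_left, h.cent_Y, h.t5.idxZU]

end TU

end Cfsg.Agent.NG
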