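import Mathlib
import Cfsg.Agent.NG.Tits1a

/-!
The Tits configuration: coordinates for `U / Z` and `Q / C(U)` and the pairing.
-/

set_option autoImplicit false
set_option linter.unusedSectionVars false

namespace Cfsg.Agent.NG

open Subgroup Cfsg.Agent.PLocal Cfsg.Agent.PLocal.Amb Cfsg.Agent.PLocal.CP Cfsg.Agent.PLocal.JC
open scoped commutatorElement

variable {G : Type*} [Group G] [Finite G]

variable {S M V H Y F : Subgroup G} {z m : G}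

set_option quotPrecheck false

/-- `U = ⟨V^H⟩` -/
local notation "𝑼" => ncl V H
local notation "𝒁" => zpowers z
local notation "𝑼'" => cj(m, ncl V H)
local notation "𝑫" => ncl V H ⊓ cj(m, ncl V H)
local notation "𝑸'" => cj(m, Y)
local notation "𝑪₁" => Y ⊓ 𝐂[ncl V H]
local notation "𝑸₁" => Y ⊓ 𝐎[2, H]

/-- coordinates for `U / Z` and `Y / C(U)` -/
structure TC (S M V : Subgroup G) (z : G) (H Y F : Subgroup G) (m x s : G) (ψ χ : G → W4) : Prop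
    extends TU S M V z H Y F m x s ψ where
  coQ : Co Y 𝐂[ncl V H] χ
  axQ : Acts Y χ x X4
  asQ : Acts Y χ s S4
  aYQ : ∀ y ∈ Y, Acts Y χ y id
  χu' : ∀ u ∈ cj(m, ncl V H) ⊓ Y, u ∉ ncl V H ⊓ cj(m, ncl V H) → χ u = e0
  pair : ∀ q ∈ Y, ∀ u ∈ ncl V H, q * u = u * q ↔ B4 (χ q) (ψ u) = 0

namespace TU

variable {x s : G} {ψ : G → W4} (h : TU S M V z H Y F m x s ψ)
include h

theorem two' {u v : G} (hu : u ∈ 𝑼' ⊓ Y) (hv : v ∈ 𝑼' ⊓ Y) (hu' : u ∉ 𝑫) (hv' : v ∉ 𝑫) :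
    u * v⁻¹ ∈ 𝑫 := by
  obtain ⟨w, -, -, -, h1, h2⟩ := h.t5.sym
  have h3 := (h1 _ h.t5.normU).2
  have h4 := (h1 _ h.Y_norm).1
  have h5 := h2 _ h.t5.normD
  have a1 := (h3 u).2 hu.1
  have a2 := (h3 v).2 hv.1
  have b1 := (h.mem_Q' a1).1 ((h4 u).2 hu.2)
  have b2 := (h.mem_Q' a2).1 ((h4 v).2 hv.2)
  rw [← h5, h.mem_D a1] at hu'
  rw [← h5, h.mem_D a2] at hv'
  rw [← h5, show w * (u * v⁻¹) * w⁻¹ = w * u * w⁻¹ * (w * v * w⁻¹)⁻¹ by group,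
    h.mem_D (mul_mem a1 (inv_mem a2)), h.co.div a1 a2]
  generalize ψ (w * u * w⁻¹) = t at *
  generalize ψ (w * v * w⁻¹) = t' at *
  clear h1 h2 h3 h4 h5 a1 a2 hu hv
  revert t t'; decide

theorem D_le_CU : 𝑫 ≤ 𝐂[𝑼] := inf_le_left.trans h.t5.U_le_CU

theorem S_fix : S ≤ secCent (𝑼' ⊓ Y) 𝐂[𝑼] := by
  rw [← h.t5.S_eq, h.t5.ca.basic.2.2.2.2.2.2.2.2.2.2.1]
  refine sup_le (fun y hy => ⟨h.t5.normCU (h.t5.Y_le_H hy), fun a ha => h.t5.Y_ea.1 y hy a ha.2⟩)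
    fun r hr => ⟨h.t5.normCU (h.t5.S_le (h.t5.R_le hr)), fun a ha => h.D_le_CU ?_⟩
  have hD : r ∈ 𝐍[𝑫] := h.t5.normD (h.le (h.t5.R_le hr))
  by_cases e : a ∈ 𝑫
  · exact mul_mem (Amb.conj_mem_of_mem_normalizer hD e) (inv_mem e)
  · exact h.two' ⟨Amb.conj_mem_of_mem_normalizer (h.t5.R_norm h.t5.normU hr) ha.1,
      Amb.conj_mem_of_mem_normalizer (h.Y_norm (h.t5.S_le (h.t5.R_le hr))) ha.2⟩ ha
      (fun e2 => e ((mem_normalizer_iff.1 hD a).2 e2)) e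

theorem x_acts : ∃ a ∈ Y, ⁅x, a⁆ ∉ 𝐂[𝑼] := by
  by_contra hc
  push Not at hc
  have h1 : ⁅⁅𝑼, Y⁆, zpowers x⁆ = ⊥ := commutator_eq_bot_iff_le_centralizer.2
    (le_trans (b := 𝒁) (commutator_le.2 fun u hu y hy => comm_mem_symm (h.t5.comm_YU hy hu))
      fun a ha b hb => (h.t5.comm_Z ha (zpowers_le.2 h.x_H hb)).symm)
  have h2 : ⁅⁅Y, zpowers x⁆, 𝑼⁆ = ⊥ := commutator_eq_bot_iff_le_centralizer.2 (by
    rw [commutator_comm]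
    exact CommMod.commutator_zpowers_le (h.t5.normCU h.x_H) hc)
  have h3 := commutator_eq_bot_iff_le_centralizer.1 (commutator_commutator_eq_bot_of_rotate h1 h2)
  refine h.x_not ((h.t5.mem_Y h.x_H).2 fun u hu => h.cent_Y.le ⟨comm_mem_symm (h.ax.comm_mem hu),
    h3 (commutator_mem_commutator (mem_zpowers x) hu)⟩)

open Classical in
theorem exists_TC : ∃ χ, TC S M V z H Y F m x s ψ χ := by
  obtain ⟨u', hu', hu''⟩ := h.exists_u'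
  have hu0 : u' ∉ 𝐂[𝑼] := fun e => hu'' (h.U'_inf.le ⟨hu'.1, e⟩)
  obtain ⟨χ, h1, h2, h3, h4, h5⟩ := exists_co (H := H) (W := Y) (W₀ := 𝐂[𝑼])
    ⟨h.t5.CU_le_Y, commutator_le.2 h.t5.Y_ea.1, h.Y_norm, h.t5.normCU⟩ h.t5.Y_ea.2 h.idx16
    h.t5.Y_le_H h.t5.Y_ea.1 h.x_H (h.t5.S_le h.s_mem) (h.ord ▸ pow_orderOf_eq_one x) h.x_acts h.rel
    hu'.2 hu0 ((h.S_fix h.s_mem).2 u' hu')
  refine ⟨χ, h, h1, h3, h4, h5, fun u hu hD => ?_, ?_⟩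
  · rw [← h2, ← h1.div_mem hu.2 hu'.2]
    exact h.D_le_CU (h.two' hu hu' hD hu'')
  let ε : G → ZMod 2 := fun a => if a = 1 then 0 else 1
  have hε : ∀ a ∈ 𝒁, ∀ b ∈ 𝒁, ε (a * b) = ε a + ε b := by
    intro a ha b hb
    have := h.z_ne
    rcases h.t5.mem_Z.1 ha with rfl | rfl <;> rcases h.t5.mem_Z.1 hb with rfl | rfl <;>
      simp [ε, this, h.z_sq]
    rfl
  have hL : ∀ q ∈ Y, ∀ q' ∈ Y, ∀ u ∈ 𝑼, ε ⁅q * q', u⁆ = ε ⁅q, u⁆ + ε ⁅q', u⁆ := by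
    intro q hq q' hq' u hu
    rw [add_comm, ← hε _ (h.t5.comm_YU hq' hu) _ (h.t5.comm_YU hq hu),
      commutatorElement_mul_left_eq_conj_mul, ← h.t5.comm_Z (h.t5.comm_YU hq' hu) (h.t5.Y_le_H hq),
      mul_inv_cancel_right]
  have hR : ∀ q ∈ Y, ∀ u ∈ 𝑼, ∀ v ∈ 𝑼, ε ⁅q, u * v⁆ = ε ⁅q, u⁆ + ε ⁅q, v⁆ := by
    intro q hq u hu v hv
    rw [← hε _ (h.t5.comm_YU hq hu) _ (h.t5.comm_YU hq hv),
      commutatorElement_mul_right_eq_mul_conj, mul_assoc, mul_assoc,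
      h.t5.comm_Z (h.t5.comm_YU hq hv) (inv_mem (h.t5.Y_le_H (h.t5.U_le_Y hu))),
      mul_inv_cancel_left]
  have hW : ∀ q ∈ Y, ∀ q' ∈ Y, ∀ u ∈ 𝑼, ∀ v ∈ 𝑼, χ q = χ q' → ψ u = ψ v →
      ε ⁅q, u⁆ = ε ⁅q', v⁆ := by
    intro q hq q' hq' u hu v hv e1 e2
    have a1 := (h1.div_mem hq hq').2 e1
    have a2 := (h.co.div_mem hu hv).2 e2
    have b1 := hL _ (h.t5.CU_le_Y a1) _ hq' u hu
    have b2 := hR _ hq' _ (h.t5.Z_le_U a2) v hv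
    rw [inv_mul_cancel_right, comm_eq_one_iff.2 (a1 u hu).symm] at b1
    rw [inv_mul_cancel_right, comm_eq_one_iff.2 (h.t5.comm_Z a2 (h.t5.Y_le_H hq')).symm] at b2
    rw [b1, b2]
    simp [ε]
  choose σ hσ hσ' using h1.surj
  choose τ hτ hτ' using h.co.surj
  have hI : ∀ g T, Acts Y χ g T → Acts 𝑼 ψ g T → ∀ t u,
      ε ⁅σ (T t), τ (T u)⁆ = ε ⁅σ t, τ u⁆ := by
    intro g T a1 a2 t u
    rw [hW _ (hσ _) _ (a1.mem (hσ t)) _ (hτ _) _ (a2.mem (hτ u))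
      (by rw [hσ', a1.eq _ (hσ t), hσ']) (by rw [hτ', a2.eq _ (hτ u), hτ']), conj_comm]
    simp [ε]
  have key := W4.form (f := fun t u => ε ⁅σ t, τ u⁆)
    (fun t t' u => by
      rw [← hL _ (hσ t) _ (hσ t') _ (hτ u)]
      exact hW _ (hσ _) _ (mul_mem (hσ t) (hσ t')) _ (hτ u) _ (hτ u)
        (by rw [h1.mul _ (hσ t) _ (hσ t'), hσ', hσ', hσ']) rfl)
    (fun t u u' => by
      rw [← hR _ (hσ t) _ (hτ u) _ (hτ u')]
      exact hW _ (hσ _) _ (hσ _) _ (hτ _) _ (mul_mem (hτ u) (hτ u')) rfl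
        (by rw [h.co.mul _ (hτ u) _ (hτ u'), hτ', hτ', hτ']))
    (hI x X4 h3 h.ax) (hI s S4 h4 h.as) (by
      by_contra hc
      push Not at hc
      refine hu0 fun u hu => (comm_eq_one_iff.1 ?_).symm
      have := hc (ψ u)
      rw [hW _ (hσ _) _ hu'.2 _ (hτ _) _ hu (by rw [hσ', h2]) (hτ' _)] at this
      simpa [ε] using this)
  intro q hq u hu
  rw [← key, hW _ (hσ _) _ hq _ (hτ _) _ hu (hσ' _) (hτ' _), ← comm_eq_one_iff]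
  simp [ε]

end TU

theorem T5.exists_TC (h : T5 S M V z H Y F m) : ∃ x s ψ χ, TC S M V z H Y F m x s ψ χ := by
  obtain ⟨x, s, ψ, h1⟩ := h.exists_TU
  obtain ⟨χ, h2⟩ := h1.exists_TC
  exact ⟨x, s, ψ, χ, h2⟩

namespace TC

variable {x s : G} {ψ χ : G → W4} (h : TC S M V z H Y F m x s ψ χ)
include h

theorem tu : TU S M V z H Y F m x s ψ := h.toTU

theorem t5 : T5 S M V z H Y F m := h.toT5

theorem actsQ {g : G} {i : Fin 5} {j : Fin 4} (hg : Dec Y x s g i j) : Acts Y χ g (act4 i j) :=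
  hg.acts h.axQ h.asQ h.aYQ

/-- centralizers in `Y` of subgroups of `U` given in coordinates -/
theorem mem_cent {X : Subgroup G} (hX : X ≤ 𝑼) {P : W4 → Prop} (hP : ∀ u ∈ 𝑼, u ∈ X ↔ P (ψ u))
    {q : G} (hq : q ∈ Y) : q ∈ 𝐂[X] ↔ ∀ t, P t → B4 (χ q) t = 0 := by
  constructor
  · intro e t ht
    obtain ⟨u, hu, rfl⟩ := h.co.surj t
    exact (h.pair q hq u hu).1 (e u ((hP u hu).2 ht)).symm
  · intro e u hu
    exact ((h.pair q hq u (hX hu)).2 (e _ ((hP u (hX hu)).1 hu))).symm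

/-- centralizers in `U` of subgroups of `Y` given in coordinates -/
theorem mem_cent' {X : Subgroup G} (hX : X ≤ Y) {P : W4 → Prop} (hP : ∀ t, P t ↔ ∃ q ∈ X, χ q = t)
    {u : G} (hu : u ∈ 𝑼) : u ∈ 𝐂[X] ↔ ∀ t, P t → B4 t (ψ u) = 0 := by
  constructor
  · intro e t ht
    obtain ⟨q, hq, rfl⟩ := (hP t).1 ht
    exact (h.pair q (hX hq) u hu).1 (e q hq)
  · intro e q hq
    exact (h.pair q (hX hq) u hu).2 (e _ ((hP _).2 ⟨q, hq, rfl⟩))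

theorem mem_R {q : G} (hq : q ∈ Y) : q ∈ 𝐂[V] ↔ B4 (χ q) e0 = 0 := by
  rw [h.mem_cent (P := fun t => t = 0 ∨ t = e0) h.t5.V_le_U (fun u hu => h.tu.mem_V hu) hq]
  generalize χ q = t
  revert t; decide

theorem mem_CD {q : G} (hq : q ∈ Y) : q ∈ 𝐂[𝑫] ↔ act4 0 2 (χ q) = χ q := by
  rw [h.mem_cent (P := fun t => act4 0 2 t = t) inf_le_left (fun u hu => h.tu.mem_D hu) hq]
  generalize χ q = t
  revert t; decide

theorem mem_U0 {u : G} (hu : u ∈ 𝑼) : u ∈ 𝑼 ⊓ 𝑸' ↔ B4 e0 (ψ u) = 0 := by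
  rw [mem_inf, and_iff_right hu, h.tu.mem_Q' hu]

theorem mem_CU0 {q : G} (hq : q ∈ Y) : q ∈ 𝐂[𝑼 ⊓ 𝑸'] ↔ χ q = 0 ∨ χ q = e0 := by
  rw [h.mem_cent (P := fun t => B4 e0 t = 0) inf_le_left (fun u hu => h.mem_U0 hu) hq]
  generalize χ q = t
  revert t; decide

theorem range_U0' (t : W4) : (t = 0 ∨ t = e0) ↔ ∃ q ∈ 𝑼' ⊓ Y, χ q = t := by
  constructor
  · rintro (rfl | rfl)
    · exact ⟨1, one_mem _, h.coQ.one⟩
    · obtain ⟨u, hu, hu'⟩ := h.tu.exists_u'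
      exact ⟨u, hu, h.χu' u hu hu'⟩
  · rintro ⟨q, hq, rfl⟩
    by_cases e : q ∈ 𝑫
    · exact Or.inl ((h.coQ.ker q hq.2).2 (h.tu.D_le_CU e))
    · exact Or.inr (h.χu' q hq e)

theorem mem_U0' {q : G} (hq : q ∈ Y) : q ∈ (𝑼' ⊓ Y) ⊔ 𝑪₁ ↔ χ q = 0 ∨ χ q = e0 := by
  rw [h.t5.C1_eq']
  constructor
  · intro e
    obtain ⟨a, ha, b, hb, rfl⟩ := (mem_sup_of_le_normalizer_right
      ((inf_le_right.trans h.t5.Y_le_H).trans h.t5.normCU)).1 e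
    rw [h.coQ.mul a ha.2 b (h.t5.CU_le_Y hb), (h.coQ.ker b (h.t5.CU_le_Y hb)).2 hb, add_zero]
    exact (h.range_U0' _).2 ⟨a, ha, rfl⟩
  · intro e
    obtain ⟨a, ha, e2⟩ := (h.range_U0' _).1 e
    exact h.coQ.mem_of_eq le_sup_right hq ha.2 (mem_sup_left ha) e2.symm

end TC

end Cfsg.Agent.NG
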