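import Mathlib
import Cfsg.Agent.NG.Tits1b
import Cfsg.Agent.Solv.Coprime

set_option autoImplicit false
set_option linter.unusedSectionVars false
set_option synthInstance.maxSize 4096

namespace Cfsg.Agent.NG

open Subgroup Cfsg.Agent.PLocal Cfsg.Agent.PLocal.Amb Cfsg.Agent.PLocal.CP Cfsg.Agent.PLocal.JC
open scoped commutatorElement

variable {G : Type*} [Group G] [Finite G]

variable {S M V H Y F : Subgroup G} {z m : G}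

set_option quotPrecheck false
/-- `U = ⟨V^H⟩` -/
local notation "𝑼" => ncl V H
local notation "𝒁" => zpowers z
local notation "𝑼'" => cj(m, ncl V H)
local notation "𝑫" => ncl V H ⊓ cj(m, ncl V H)
local notation "𝑸'" => cj(m, Y)
local notation "𝑪₁" => Y ⊓ 𝐂[ncl V H]
local notation "𝑸₁" => Y ⊓ 𝐎[2, H]

theorem card_inf_mul (A X : Subgroup G) : Nat.card ↥(A ⊓ X) * A.relIndex X = Nat.card X := by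
  rw [← (A.subgroupOf X).card_mul_index, ← inf_subgroupOf_right,
    Nat.card_congr (subgroupOfEquivOfLe (inf_le_right : A ⊓ X ≤ X)).toEquiv, inf_subgroupOf_right]
  rfl

namespace TU

variable {x s : G} {ψ : G → W4} (h : TU S M V z H Y F m x s ψ)
include h

theorem mem_fx {g u : G} (hg : g ∈ H) {T : W4 → W4} (ha : Acts 𝑼 ψ g T) (hu : u ∈ 𝑼) :
    u ∈ fx 𝑼 𝒁 (zpowers g) ↔ T (ψ u) = ψ u := by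
  rw [h.t5.ca.basic.2.2.2.1.mem_fx_zpowers hg, and_iff_right hu, h.co.comm_mem_iff ha hu]

theorem bW_eq {g : G} {T : W4 → W4} (ha : Acts 𝑼 ψ g T) {X : Subgroup G} (h0 : 𝒁 ≤ X) (h1 : X ≤ 𝑼)
    (hX : ∀ u ∈ 𝑼, u ∈ X ↔ ∃ t, ψ u = t + T t) : bW 𝑼 𝒁 (zpowers g) = X := by
  have key : ∀ u ∈ 𝑼, ⁅g, u⁆ ∈ X := fun u hu =>
    comm_mem_symm ((hX _ (ha.comm_mem hu)).2 ⟨_, h.co.comm ha hu⟩)
  refine le_antisymm (sup_le ?_ h0) fun u hu => ?_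
  · rw [commutator_comm]
    refine CommMod.commutator_zpowers_le (mem_normalizer_of_cj_le (cj_le_iff_forall.2 fun a e => ?_))
      key
    simpa [commutatorElement_def] using X.mul_mem (key a (h1 e)) e
  · obtain ⟨t, ht⟩ := (hX u (h1 hu)).1 hu
    obtain ⟨v, hv, rfl⟩ := h.co.surj t
    exact h.co.mem_of_eq le_sup_right (h1 hu) (ha.comm_mem hv)
      (mem_sup_left (commutator_mem_commutator hv (mem_zpowers g))) (ht.trans (h.co.comm ha hv).symm)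

theorem div_mem_of_acts {g g' : G} (hg : g ∈ H) (hg' : g' ∈ H) {T : W4 → W4} (ha : Acts 𝑼 ψ g T)
    (ha' : Acts 𝑼 ψ g' T) : g * g'⁻¹ ∈ Y := by
  refine (h.t5.mem_Y (mul_mem hg (inv_mem hg'))).2 fun u hu => ?_
  have h1 := Amb.inv_conj_mem_of_mem_normalizer ha'.norm hu
  have h2 := (h.co.div_mem (ha.mem h1) (ha'.mem h1)).2 ((ha.eq _ h1).trans (ha'.eq _ h1).symm)
  convert h2 using 1
  rw [commutatorElement_def]; group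

theorem exists_pow {g r : G} (hg : g ∈ S) (h2 : g * g ∉ Y) (hr : r ∈ S) :
    ∃ n : ℕ, r * (g ^ n)⁻¹ ∈ Y := by
  obtain ⟨j, e⟩ := h.decS hr
  obtain ⟨k, e', hk⟩ : ∃ k, Dec Y x s g 0 k ∧ (k = 1 ∨ k = 3) :=
    (h.dec_gen hg h2).elim (fun e => ⟨_, e, Or.inl rfl⟩) fun e => ⟨_, e, Or.inr rfl⟩
  obtain ⟨n, hn⟩ := (by decide : ∀ j k : Fin 4, k = 1 ∨ k = 3 → ∃ n : Fin 4, ∀ t,
    act4 0 j t = (act4 0 k)^[n.1] t) j k hk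
  exact ⟨n.1, h.div_mem_of_acts (h.t5.S_le hr) (pow_mem (h.t5.S_le hg) _) ((h.acts e).congr hn)
    ((h.acts e').pow _)⟩

theorem S_gen {g : G} (hg : g ∈ S) (h2 : g * g ∉ Y) : S = Y ⊔ zpowers g := by
  refine le_antisymm (fun r hr => ?_) (sup_le h.t5.YS (zpowers_le.2 hg))
  obtain ⟨n, hn⟩ := h.exists_pow hg h2 hr
  simpa using mul_mem (mem_sup_left hn : _ ∈ Y ⊔ zpowers g)
    (mem_sup_right (pow_mem (mem_zpowers g) n))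

theorem R_gen {g : G} (hg : g ∈ 𝐂[V]) (h2 : g * g ∉ 𝑸') : 𝐂[V] ≤ 𝑸' ⊔ zpowers g := by
  obtain ⟨w, -, -, -, h5, h6⟩ := h.t5.sym
  have h7 := (h5 _ h.Y_norm).2
  intro r hr
  obtain ⟨n, hn⟩ := h.exists_pow (h.t5.R_le ((h6 _ h.t5.normR g).2 hg)) (by
    rw [show w * g * w⁻¹ * (w * g * w⁻¹) = w * (g * g) * w⁻¹ by group]; exact mt (h7 _).1 h2)
    (h.t5.R_le ((h6 _ h.t5.normR r).2 hr))
  rw [conj_pow, show w * r * w⁻¹ * (w * g ^ n * w⁻¹)⁻¹ = w * (r * (g ^ n)⁻¹) * w⁻¹ by group,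
    h7] at hn
  simpa using mul_mem (mem_sup_left hn : _ ∈ 𝑸' ⊔ zpowers g)
    (mem_sup_right (pow_mem (mem_zpowers g) n))

theorem sq_mem_iff' {g : G} (hg : g ∈ 𝐂[V]) :
    g * g ∈ 𝑸' ↔ ∀ d ∈ 𝑫, ⁅d, g⁆ ∈ zpowers (m * z * m⁻¹) := by
  obtain ⟨w, -, -, h4, h5, h6⟩ := h.t5.sym
  have h7 := h6 _ h.t5.normD
  have h8 : ∀ a, w * a * w⁻¹ ∈ 𝒁 ↔ a ∈ zpowers (m * z * m⁻¹) := fun a => by
    rw [h.t5.mem_Z, h.t5.mem_Z']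
    conv_lhs => rw [← h4]
    simp
  rw [← (h5 _ h.Y_norm).2, show w * (g * g) * w⁻¹ = w * g * w⁻¹ * (w * g * w⁻¹) by group,
    h.sq_mem_iff (h.t5.R_le ((h6 _ h.t5.normR g).2 hg))]
  constructor
  · intro e d hd
    rw [← h8, ← conj_comm]
    exact e _ ((h7 d).2 hd)
  · intro e d hd
    have := (h8 _).2 (e (w⁻¹ * d * w) ((h7 _).1 (by simpa [mul_assoc] using hd)))
    rw [← conj_comm] at this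
    simpa [mul_assoc] using this

theorem exists_b' : ∃ b ∈ Y ⊓ 𝐂[V], b * b ∉ 𝑸' := by
  obtain ⟨w, -, -, -, h5, h6⟩ := h.t5.sym
  obtain ⟨b, hb, hb'⟩ := h.exists_b
  refine ⟨w * b * w⁻¹, ⟨((h5 _ h.Y_norm).2 b).2 hb.1, (h6 _ h.t5.normR b).2 hb.2⟩, ?_⟩
  rw [show w * b * w⁻¹ * (w * b * w⁻¹) = w * (b * b) * w⁻¹ by group, (h5 _ h.Y_norm).1]
  exact hb'

theorem exists_comm {g u : G} (hg : g ∈ S) (h2 : g * g ∉ Y) (hu : u ∈ 𝑼 ⊓ 𝑸') :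
    ∃ v ∈ 𝑼, u * ⁅v, g⁆⁻¹ ∈ 𝒁 := by
  obtain ⟨k, e', hk⟩ : ∃ k, Dec Y x s g 0 k ∧ (k = 1 ∨ k = 3) :=
    (h.dec_gen hg h2).elim (fun e => ⟨_, e, Or.inl rfl⟩) fun e => ⟨_, e, Or.inr rfl⟩
  obtain ⟨t, ht⟩ := (by decide : ∀ k : Fin 4, k = 1 ∨ k = 3 → ∀ t, B4 e0 t = 0 →
    ∃ t', t = t' + act4 0 k t') k hk _ ((h.mem_Q' hu.1).1 hu.2)
  obtain ⟨v, hv, rfl⟩ := h.co.surj t
  exact ⟨v, hv, (h.co.div_mem hu.1 ((h.acts e').comm_mem hv)).2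
    (ht.trans (h.co.comm (h.acts e') hv).symm)⟩

theorem exists_comm' {g u : G} (hg : g ∈ 𝐂[V]) (h2 : g * g ∉ 𝑸') (hu : u ∈ 𝑼' ⊓ Y) :
    ∃ v ∈ 𝑼', u * ⁅v, g⁆⁻¹ ∈ V := by
  obtain ⟨w, -, -, -, h5, h6⟩ := h.t5.sym
  obtain ⟨v, hv, e⟩ := h.exists_comm (h.t5.R_le ((h6 _ h.t5.normR g).2 hg)) (by
    rw [show w * g * w⁻¹ * (w * g * w⁻¹) = w * (g * g) * w⁻¹ by group]
    exact mt ((h5 _ h.Y_norm).2 _).1 h2) (u := w * u * w⁻¹)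
    ⟨((h5 _ h.t5.normU).2 u).2 hu.1, ((h5 _ h.Y_norm).1 u).2 hu.2⟩
  refine ⟨w⁻¹ * v * w, ((h5 _ h.t5.normU).2 _).1 (by simpa [mul_assoc] using hv), ?_⟩
  rw [← h6 _ h.t5.normV.ge]
  convert h.t5.Z_le_V e using 1
  simp only [commutatorElement_def]; group

theorem res_eq : 𝐎[2, H] = ⁅Y, zpowers x⁆ ⊔ zpowers x := by
  rw [sup_comm, commutator_comm, ← ncl_eq_sup_commutator]
  refine le_antisymm ?_ (ncl_le (zpowers_le.2 (mem_pRes h.x_H (by rw [h.ord]; norm_num)))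
    (h.t5.Y_le_H.trans (le_normalizer_pRes 2 H)))
  have h4 : F.relIndex H = 4 := by
    have := relIndex_mul_relIndex Y F H h.Y_le_F h.F_le
    rw [h.idxF, h.idxH] at this
    omega
  rw [← pRes_eq_of_le (K := F) (pRes_le_of_pow fun g hg => ⟨2, by
    have := pow_relIndex_mem' h.F_norm hg
    rwa [h4] at this⟩) h.F_le]
  refine (pRes_mono ?_).trans (pRes_sup_le h.t5.Y2 (le_normalizer_ncl _ Y))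
  rw [h.F_eq, sup_comm]
  exact sup_le_sup_right (le_ncl _ _) _

theorem Q1_eq : 𝑸₁ = ⁅Y, zpowers x⁆ := by
  have : Fact (Nat.Prime 2) := ⟨Nat.prime_two⟩
  have h1 : zpowers x ≤ 𝐍[Y] := zpowers_le.2 (h.Y_norm h.x_H)
  rw [h.res_eq, inf_comm, sup_inf_of_le_normalizer' (Solv.commutator_le_of_le_normalizer h1)
    (Amb.le_normalizer_commutator h1 le_normalizer)]
  refine sup_eq_left.2 fun a ha => ?_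
  rw [eq_one_of_isPGroup_of_coprime h.t5.Y2 ha.2
    (Nat.Coprime.coprime_dvd_left (orderOf_dvd_of_mem_zpowers ha.1) (by rw [h.ord]; norm_num))]
  exact one_mem _

theorem comm_Q1 {y : G} (hy : y ∈ Y) : ⁅y, x⁆ ∈ 𝑸₁ :=
  h.Q1_eq ▸ commutator_mem_commutator hy (mem_zpowers x)

theorem C1_le : 𝑪₁ ≤ 𝑼 ⊔ (𝑪₁ ⊓ 𝑸') := by
  intro k hk
  by_cases e : k ∈ 𝑸'
  · exact mem_sup_right ⟨hk, e⟩
  obtain ⟨a, ha, ha'⟩ := h.exists_a'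
  have h1 := h.div_mem' (h.t5.CU_le_R hk.2) (h.t5.U_le_R ha)
    ((h.sq_mem_iff' (h.t5.CU_le_R hk.2)).2 fun d hd => by
      rw [comm_eq_one_iff.2 (hk.2 d hd.1)]; exact one_mem _)
    (by rw [sq_eq_one_of_isEA h.t5.eaU a ha]; exact one_mem _) e ha'
  have h2 : k * a⁻¹ ∈ 𝑪₁ ⊓ 𝑸' := mem_inf.2
    ⟨mul_mem hk (inv_mem (mem_inf.2 ⟨h.t5.U_le_Y ha, h.t5.U_le_CU ha⟩)), h1⟩
  rw [← inv_mul_cancel_right k a]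
  exact mul_mem (mem_sup_right h2) (mem_sup_left ha)

end TU

namespace TC

variable {x s : G} {ψ χ : G → W4} (h : TC S M V z H Y F m x s ψ χ)
include h

theorem comm_eq_z {q u : G} (hq : q ∈ Y) (hu : u ∈ 𝑼) (e : B4 (χ q) (ψ u) ≠ 0) : ⁅q, u⁆ = z :=
  (h.t5.mem_Z.1 (h.t5.comm_YU hq hu)).resolve_left fun e2 =>
    e ((h.pair q hq u hu).1 (comm_eq_one_iff.1 e2))

theorem U_le_Q1 : 𝑼 ≤ 𝑸₁ := by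
  have hz : 𝒁 ≤ 𝑸₁ := by
    obtain ⟨q, hq, e⟩ := h.coQ.surj e0
    obtain ⟨u, hu, e'⟩ := h.co.surj e1
    rw [zpowers_le, ← h.comm_eq_z (h.axQ.comm_mem hq) (h.ax.comm_mem hu) (by
      rw [h.coQ.comm h.axQ hq, h.co.comm h.ax hu, e, e']; decide)]
    have a := h.tu.comm_Q1 hq
    have b := h.tu.comm_Q1 (h.t5.U_le_Y hu)
    exact mul_mem (mul_mem (mul_mem a b) (inv_mem a)) (inv_mem b)
  intro u hu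
  obtain ⟨t, ht⟩ := (by decide : ∀ t, ∃ t', t = t' + X4 t') (ψ u)
  obtain ⟨v, hv, rfl⟩ := h.co.surj t
  exact h.co.mem_of_eq hz hu (h.ax.comm_mem hv) (h.tu.comm_Q1 (h.t5.U_le_Y hv))
    (ht.trans (h.co.comm h.ax hv).symm)

theorem surj_Q1 (t : W4) : ∃ q ∈ 𝑸₁, χ q = t := by
  obtain ⟨t', ht⟩ := (by decide : ∀ t, ∃ t', t = t' + X4 t') t
  obtain ⟨v, hv, rfl⟩ := h.coQ.surj t'
  exact ⟨_, h.tu.comm_Q1 hv, (h.coQ.comm h.axQ hv).trans ht.symm⟩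

theorem Q1_sup : 𝑸₁ ⊔ 𝑪₁ = Y := by
  refine le_antisymm (sup_le inf_le_left inf_le_left) fun y hy => ?_
  obtain ⟨q, hq, e⟩ := h.surj_Q1 (χ y)
  exact h.coQ.mem_of_eq (h.t5.C1_eq'.ge.trans le_sup_right) hy hq.1 (mem_sup_left hq) e.symm

theorem exists_b1 : ∃ b ∈ 𝑸₁ ⊓ 𝐂[V], b * b ∉ 𝑸' := by
  obtain ⟨b, hb, hb'⟩ := h.tu.exists_b'
  obtain ⟨q, hq, e⟩ := h.surj_Q1 (χ b)
  have h1 : q ∈ 𝐂[V] := by rw [h.mem_R hq.1, e, ← h.mem_R hb.1]; exact hb.2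
  refine ⟨q, ⟨hq, h1⟩, fun e2 => hb' ((h.tu.sq_mem_iff' hb.2).2 fun d hd => ?_)⟩
  have h2 := (h.coQ.div_mem hb.1 hq.1).2 e.symm d hd.1
  have h3 := (h.tu.sq_mem_iff' h1).1 e2 d hd
  have h4 : ⁅d, b⁆ = b * q⁻¹ * ⁅d, q⁆ * (b * q⁻¹)⁻¹ := by
    calc ⁅d, b⁆ = d * (b * q⁻¹) * q * d⁻¹ * b⁻¹ := by rw [commutatorElement_def]; group
      _ = _ := by rw [h2, commutatorElement_def]; group
  rw [h4]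
  rcases h.t5.mem_Z'.1 h3 with e3 | e3
  · simp [e3]
  · rw [e3, ← mul_mem (mem_inf.1 hb).2 (inv_mem h1) _ h.t5.z'_mem, mul_inv_cancel_right]
    exact mem_zpowers _

theorem U0'_le : 𝑼' ⊓ Y ≤ 𝑸₁ := by
  obtain ⟨b, hb, hb'⟩ := h.exists_b1
  intro u hu
  obtain ⟨v, hv, e⟩ := h.tu.exists_comm' hb.2 hb' hu
  have : ⁅v, b⁆ ∈ 𝑸₁ :=
    mul_mem (Amb.conj_mem_of_mem_normalizer (h.t5.normQ1 (h.t5.U'_le_H hv)) hb.1) (inv_mem hb.1)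
  exact ((𝑸₁).mul_mem_cancel_right (inv_mem this)).1 (h.U_le_Q1 (h.t5.V_le_U e))

theorem cardD : Nat.card ↥(𝑫) = 8 := by
  have := card_inf_mul 𝒁 𝑫
  rw [inf_eq_left.2 h.t5.Z_le_D, h.t5.card_Z, h.co.relIndex' inf_le_left (fun t => act4 0 2 t = t)
    fun u hu => h.tu.mem_D hu] at this
  rw [← this]; decide

theorem idxU0' : (𝐂[𝑼]).relIndex (𝑼' ⊓ Y) = 2 := by
  rw [h.coQ.relIndex inf_le_right {0, e0} fun t => by rw [← h.range_U0']; simp]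
  decide

theorem CD_le : Y ⊓ 𝐂[𝑫] ≤ (Y ⊓ 𝑸') ⊔ 𝑪₁ := by
  intro k hk
  by_cases e : k ∈ 𝑸'
  · exact mem_sup_left ⟨hk.1, e⟩
  obtain ⟨a, ha, ha'⟩ := h.tu.exists_a'
  have hR : k ∈ 𝐂[V] := centralizer_anti h.t5.V_le_D hk.2
  have h1 := h.tu.div_mem' hR (h.t5.U_le_R ha)
    ((h.tu.sq_mem_iff' hR).2 fun d hd => by
      rw [comm_eq_one_iff.2 (hk.2 d hd)]; exact one_mem _)
    (by rw [sq_eq_one_of_isEA h.t5.eaU a ha]; exact one_mem _) e ha'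
  have h2 : k * a⁻¹ ∈ Y ⊓ 𝑸' :=
    mem_inf.2 ⟨mul_mem (mem_inf.1 hk).1 (inv_mem (h.t5.U_le_Y ha)), h1⟩
  rw [← inv_mul_cancel_right k a]
  exact mul_mem (mem_sup_left h2) (mem_sup_right ⟨h.t5.U_le_Y ha, h.t5.U_le_CU ha⟩)

theorem conj_of_eq {c c' : G} (hc : c ∈ 𝑼) (hc' : c' ∈ 𝑼) (hV : c ∉ V) (e : ψ c' = ψ c) :
    ∃ r ∈ 𝐂[V], r * c * r⁻¹ = c' := by
  rcases h.t5.mem_Z.1 ((h.co.div_mem hc' hc).2 e) with e1 | e1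
  · exact ⟨1, one_mem _, by simp [mul_inv_eq_one.1 e1]⟩
  obtain ⟨t, h1, h2⟩ := (by decide : ∀ u, ¬ (u = 0 ∨ u = e0) → ∃ t, B4 t e0 = 0 ∧ B4 t u ≠ 0) _
    (mt (h.tu.mem_V hc).2 hV)
  obtain ⟨q, hq, rfl⟩ := h.coQ.surj t
  refine ⟨q, (h.mem_R hq).2 h1, ?_⟩
  rw [mul_inv_eq_iff_eq_mul.1 e1, ← h.comm_eq_z hq hc h2, commutatorElement_def]
  group

end TC

theorem T5.basic (h : T5 S M V z H Y F m) : IsPGroup 2 Y ∧ Y = 𝐐[H] ∧ H ⊓ M = S ∧ 𝐂[V] ≤ S ∧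
    𝐂[V] = 𝐐[M] ∧ S.relIndex M = 3 ∧ Y.relIndex S = 4 ∧ S.relIndex H = 5 ∧
    (∃ b ∈ 𝑸' ⊓ 𝐂[V], S = Y ⊔ zpowers b) ∧ (∃ b ∈ 𝑸₁ ⊓ 𝐂[V], 𝐂[V] ≤ 𝑸' ⊔ zpowers b ∧ b * b ∉ 𝑸') ∧
    Nat.card ↥(𝑫) = 8 ∧ Nat.card ↥(𝑼 ⊓ 𝑸') = 16 ∧ Nat.card ↥(𝑼' ⊓ Y) = 16 ∧ 𝑼 ⊓ 𝐂[Y] = 𝒁 ∧
    (𝐂[𝑼]).relIndex Y = 16 ∧ ⁅Y, Y⁆ ≤ 𝐂[𝑼] ∧ (∀ y ∈ Y, y * y ∈ 𝐂[𝑼]) ∧ 𝐂[𝑼] ≤ Y ∧
    ⁅𝑼 ⊓ 𝑸', 𝑼' ⊓ Y⁆ = ⊥ ∧ ⁅𝑼, 𝑼'⁆ ≤ 𝑫 := by
  obtain ⟨x, s₀, ψ, χ, c⟩ := h.exists_TC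
  obtain ⟨a1, a2, a3, a4, a5, a6⟩ := h.of_two
  obtain ⟨b, hb, hb'⟩ := c.tu.exists_b
  obtain ⟨b₁, hb₁, hb₁'⟩ := c.exists_b1
  refine ⟨a1, a2, a3, a4, a5, a6, a3 ▸ h.idx4, a3 ▸ h.idx5, ⟨b, hb, c.tu.S_gen (a4 hb.2) hb'⟩,
    ⟨b₁, hb₁, c.tu.R_gen hb₁.2 hb₁', hb₁'⟩, c.cardD, ?_, ?_, c.tu.cent_Y, c.tu.idx16,
    commutator_le.2 h.Y_ea.1, h.Y_ea.2, h.CU_le_Y, eq_bot_iff.2 (commutator_le.2 fun u hu v hv =>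
      h.eq_one (comm_mem_symm (h.comm_YU hv.2 hu.1)) (h.comm_QU' hu.2 hv.1)),
    commutator_le.2 fun u hu v hv => h.comm_UU' hu hv⟩
  · have := card_inf_mul 𝒁 (𝑼 ⊓ 𝑸')
    rw [inf_eq_left.2 (h.Z_le_D.trans (inf_le_inf_left _ (cj_mono _ h.U_le_Y))), h.card_Z,
      c.co.relIndex' inf_le_left (fun t => B4 e0 t = 0) fun u hu => c.mem_U0 hu] at this
    rw [← this]; decide
  · have := card_inf_mul 𝐂[𝑼] (𝑼' ⊓ Y)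
    rw [c.idxU0', ← inf_assoc, inf_comm 𝐂[𝑼], c.tu.U'_inf,
      inf_eq_left.2 (inf_le_left.trans h.U_le_Y), c.cardD] at this
    exact this.symm

/-- the element of order 5 -/
theorem T5.exists_five (h : T5 S M V z H Y F m) : ∃ x ∈ F, orderOf x = 5 ∧ F = Y ⊔ zpowers x ∧
    𝑸₁ = ⁅Y, zpowers x⁆ ∧ 𝐎[2, H] = 𝑸₁ ⊔ zpowers x ∧ 𝑼 ⊓ 𝐂₁[x] = 𝒁 ∧ Y ⊓ 𝐂₁[x] ≤ 𝐂[𝑼] ∧
    (∀ X : Subgroup G, 𝒁 ≤ X → X ≤ 𝑼 → x ∈ 𝐍[X] → X = 𝒁 ∨ X = 𝑼) ∧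
    (∀ X : Subgroup G, 𝑪₁ ≤ X → X ≤ Y → x ∈ 𝐍[X] → X = 𝑪₁ ∨ X = Y) := by
  obtain ⟨x, s₀, ψ, χ, c⟩ := h.exists_TC
  refine ⟨x, c.x_mem, c.ord, c.F_eq, c.tu.Q1_eq, by rw [c.tu.Q1_eq, c.tu.res_eq], ?_, ?_,
    fun X => c.co.irr c.ax, fun X => by rw [h.C1_eq']; exact c.coQ.irr c.axQ⟩
  · refine le_antisymm (fun u hu => c.tu.cent_x hu.1 ?_) (le_inf h.Z_le_U fun a ha =>
      mem_centralizer_singleton_iff.2 (h.comm_Z ha c.tu.x_H))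
    rw [comm_eq_one_iff.2 (mem_centralizer_singleton_iff.1 hu.2)]; exact one_mem _
  · intro y hy
    refine (c.coQ.ker y hy.1).1 (W4.fpf _ ((c.coQ.comm_mem_iff c.axQ hy.1).1 ?_))
    rw [comm_eq_one_iff.2 (mem_centralizer_singleton_iff.1 hy.2)]; exact one_mem _

theorem T5.q1_basic (h : T5 S M V z H Y F m) : H ≤ 𝐍[𝑸₁] ∧ 𝑼 ≤ 𝑸₁ ∧ 𝑼' ⊓ Y ≤ 𝑸₁ ∧
    𝑸₁ ⊔ 𝑪₁ = Y ∧ ¬ 𝑸₁ ≤ 𝐂[V] ∧ 𝑼 ⊓ 𝐂[𝑸₁] = 𝒁 := by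
  obtain ⟨x, s₀, ψ, χ, c⟩ := h.exists_TC
  refine ⟨h.normQ1, c.U_le_Q1, c.U0'_le, c.Q1_sup, fun e => ?_, ?_⟩
  · obtain ⟨q, hq, e1⟩ := c.surj_Q1 e1
    have := (c.mem_R hq.1).1 (e hq)
    rw [e1] at this
    revert this; decide
  · refine le_antisymm (le_trans ?_ c.tu.cent_Y.le) (c.tu.cent_Y.ge.trans
      (inf_le_inf_left _ (centralizer_anti inf_le_left)))
    refine le_inf inf_le_left ?_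
    conv_rhs => rw [← c.Q1_sup, Amb.centralizer_sup]
    exact le_inf inf_le_right (inf_le_left.trans (le_centralizer_iff.1 inf_le_right))

/-- the action of the involution of `S / Q` -/
theorem T5.act (h : T5 S M V z H Y F m) {a : G} (ha : a ∈ 𝑼') (ha' : a ∉ Y) :
    fx 𝑼 𝒁 (zpowers a) = 𝑫 ∧ 𝑼 ⊓ 𝐂₁[a] = 𝑫 ∧ bW 𝑼 𝒁 (zpowers a) = 𝑫 ∧
    (∀ u ∈ 𝑼, u ∉ 𝑸' → ⁅u, a⁆ ∈ 𝑫 ∧ ⁅u, a⁆ ∉ V) ∧
    (∀ u ∈ 𝑼 ⊓ 𝑸', u ∉ 𝑫 → ⁅u, a⁆ = m * z * m⁻¹) ∧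
    (∀ f ∈ F, a * f * a⁻¹ * f ∈ Y) ∧ (∀ s ∈ S, s * s ∈ Y → s ∈ Y ∨ s * a⁻¹ ∈ Y) ∧
    (∀ q ∈ Y, ⁅q, a⁆ ∈ 𝐂[𝑼] ↔ q ∈ 𝐂[𝑫]) ∧
    (∀ q ∈ Y ⊓ 𝐂[𝑫], ∃ y ∈ Y, q * ⁅y, a⁆⁻¹ ∈ 𝐂[𝑼]) ∧
    (∀ y ∈ Y, y ∉ 𝐂[V] → ⁅y, a⁆ ∈ 𝐂[𝑫] ∧ ⁅y, a⁆ ∉ (𝑼' ⊓ Y) ⊔ 𝑪₁) := by
  obtain ⟨x, s₀, ψ, χ, c⟩ := h.exists_TC
  have hd := c.tu.dec_U' ha ha'
  have hA := c.tu.acts hd
  have hB := c.actsQ hd
  have hH := h.U'_le_H ha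
  refine ⟨?_, ?_, c.tu.bW_eq hA h.Z_le_D inf_le_left fun u hu => ?_, fun u hu hu' =>
    ⟨h.comm_UU' hu ha, ?_⟩, fun u hu hu' => ?_, fun f hf => ?_, fun r hr hr' => ?_,
    fun q hq => ?_, fun q hq => ?_, fun y hy hy' => ?_⟩
  · ext u
    exact ⟨fun e => (c.tu.mem_D e.1).2 ((c.tu.mem_fx hH hA e.1).1 e),
      fun e => (c.tu.mem_fx hH hA e.1).2 ((c.tu.mem_D e.1).1 e)⟩
  · ext u
    exact ⟨fun e => (c.tu.cent_a ha ha' e.1).1 (mem_centralizer_singleton_iff.1 e.2),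
      fun e => ⟨e.1, mem_centralizer_singleton_iff.2 ((c.tu.cent_a ha ha' e.1).2 e)⟩⟩
  · rw [c.tu.mem_D hu]
    generalize ψ u = t
    revert t; decide
  · rw [c.tu.mem_Q' hu] at hu'
    rw [c.tu.mem_V (hA.comm_mem hu), c.co.comm hA hu]
    generalize ψ u = t at hu' ⊢
    revert t; decide
  · exact (h.mem_Z'.1 (h.comm_QU' hu.2 ha)).resolve_left fun e =>
      hu' ((c.tu.cent_a ha ha' hu.1).1 (comm_eq_one_iff.1 e))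
  · rw [c.F_eq] at hf
    obtain ⟨y, hy, _, ⟨n, rfl⟩, rfl⟩ :=
      (mem_sup_of_le_normalizer_left (zpowers_le.2 (h.Y_norm c.tu.x_H))).1 hf
    have h1 : a * x * a⁻¹ * x ∈ Y := by
      rw [inv_eq_of_mul_eq_one_right (sq_eq_one_of_isEA h.eaU' a ha),
        c.tu.mem_Y_of_acts (mul_mem (mul_mem (mul_mem hH c.tu.x_H) hH) c.tu.x_H)
          (((hA.mul c.ax).mul hA).mul c.ax)]
      decide
    have hn : (Y.subgroupOf H).Normal := normal_subgroupOf' h.Y_norm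
    let π := QuotientGroup.mk' (Y.subgroupOf H)
    have hker : ∀ g : H, π g = 1 ↔ (g : G) ∈ Y := fun g => QuotientGroup.eq_one_iff g
    have h2 := (hker (⟨a, hH⟩ * ⟨x, c.tu.x_H⟩ * ⟨a, hH⟩⁻¹ * ⟨x, c.tu.x_H⟩)).2 h1
    refine (hker (⟨a, hH⟩ * (⟨y, h.Y_le_H hy⟩ * ⟨x, c.tu.x_H⟩ ^ n) * ⟨a, hH⟩⁻¹ *
      (⟨y, h.Y_le_H hy⟩ * ⟨x, c.tu.x_H⟩ ^ n))).1 ?_
    simp only [map_mul, map_inv, map_zpow, (hker ⟨y, h.Y_le_H hy⟩).2 hy, one_mul] at h2 ⊢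
    rw [← conj_zpow, eq_inv_of_mul_eq_one_left h2]
    simp
  · by_cases e : r ∈ Y
    · exact Or.inl e
    · exact Or.inr (c.tu.div_mem (c.tu.dec_a hr hr' e) hd)
  · rw [c.coQ.comm_mem_iff hB hq, c.mem_CD hq]
  · obtain ⟨t, ht⟩ := (by decide : ∀ t : W4, act4 0 2 t = t → ∃ t', t = t' + act4 0 2 t') _
      ((c.mem_CD hq.1).1 hq.2)
    obtain ⟨y, hy, rfl⟩ := c.coQ.surj t
    exact ⟨y, hy, (c.coQ.div_mem hq.1 (hB.comm_mem hy)).2 (ht.trans (c.coQ.comm hB hy).symm)⟩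
  · rw [c.mem_R hy] at hy'
    rw [c.mem_CD (hB.comm_mem hy), c.mem_U0' (hB.comm_mem hy), c.coQ.comm hB hy]
    generalize χ y = t at hy' ⊢
    revert t; decide

/-- the action of a generator of `S / Q` -/
theorem T5.gen (h : T5 S M V z H Y F m) {s : G} (hs : s ∈ S) (hs' : s * s ∉ Y) :
    fx 𝑼 𝒁 (zpowers s) = V ∧ bW 𝑼 𝒁 (zpowers s) = 𝑼 ⊓ 𝑸' ∧ S = Y ⊔ zpowers s ∧
    (∀ q ∈ Y, ⁅q, s⁆ ∈ 𝐂[𝑼] ↔ q ∈ (𝑼' ⊓ Y) ⊔ 𝑪₁) := by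
  obtain ⟨x, s₀, ψ, χ, c⟩ := h.exists_TC
  obtain ⟨k, hd, hk⟩ : ∃ k, Dec Y x s₀ s 0 k ∧ (k = 1 ∨ k = 3) :=
    (c.tu.dec_gen hs hs').elim (fun e => ⟨_, e, Or.inl rfl⟩) fun e => ⟨_, e, Or.inr rfl⟩
  have hA := c.tu.acts hd
  have hB := c.actsQ hd
  have h1 := (by decide : ∀ k : Fin 4, k = 1 ∨ k = 3 → ∀ t, act4 0 k t = t ↔ t = 0 ∨ t = e0) k hk
  refine ⟨?_, c.tu.bW_eq hA (h.Z_le_D.trans (inf_le_inf_left _ (cj_mono _ h.U_le_Y))) inf_le_left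
    fun u hu => ?_, c.tu.S_gen hs hs', fun q hq => ?_⟩
  · ext u
    exact ⟨fun e => (c.tu.mem_V e.1).2 ((h1 _).1 ((c.tu.mem_fx (h.S_le hs) hA e.1).1 e)), fun e =>
      (c.tu.mem_fx (h.S_le hs) hA (h.V_le_U e)).2 ((h1 _).2 ((c.tu.mem_V (h.V_le_U e)).1 e))⟩
  · rw [c.mem_U0 hu]
    exact (by decide : ∀ k : Fin 4, k = 1 ∨ k = 3 → ∀ t, B4 e0 t = 0 ↔
      ∃ t', t = t' + act4 0 k t') k hk _
  · rw [c.coQ.comm_mem_iff hB hq, c.mem_U0' hq, h1]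

/-- centralizers in `Q` of the `S`-invariant subgroups of `U` -/
theorem T5.cent (h : T5 S M V z H Y F m) : Y ⊓ 𝐂[𝑼 ⊓ 𝑸'] = (𝑼' ⊓ Y) ⊔ 𝑪₁ ∧
    Y ⊓ 𝐂[𝑫] = (Y ⊓ 𝑸') ⊔ 𝑪₁ ∧ (𝐂[𝑼]).relIndex (Y ⊓ 𝐂[𝑫]) = 4 ∧
    (𝐂[𝑼]).relIndex (𝑼' ⊓ Y) = 2 ∧ 𝑼' ⊓ 𝐂[𝑼] = 𝑫 ∧ 𝑼 ⊓ 𝐂[Y ⊓ 𝐂[𝑫]] = 𝑫 ∧
    𝑼 ⊓ 𝐂[𝑼' ⊓ Y] = 𝑼 ⊓ 𝑸' ∧ 𝑪₁ ≤ 𝑼 ⊔ (𝑪₁ ⊓ 𝑸') := by
  obtain ⟨x, s₀, ψ, χ, c⟩ := h.exists_TC
  have hU := (inf_le_right.trans h.Y_le_H : 𝑼' ⊓ Y ≤ H)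
  refine ⟨?_, le_antisymm c.CD_le (sup_le (le_inf inf_le_left fun q hq d hd => ?_)
    (inf_le_inf_left _ (centralizer_anti inf_le_left))), ?_, c.idxU0', c.tu.U'_inf, ?_, ?_,
    c.tu.C1_le⟩
  · ext q
    exact ⟨fun e => (c.mem_U0' e.1).2 ((c.mem_CU0 e.1).1 e.2), fun e =>
      have hq : q ∈ Y := (sup_le inf_le_right inf_le_left : _ ≤ Y) e
      ⟨hq, (c.mem_CU0 hq).2 ((c.mem_U0' hq).1 e)⟩⟩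
  · exact (comm_eq_one_iff.1 (h.eq_one (h.comm_YU hq.1 hd.1) (h.comm_QU' hq.2 hd.2))).symm
  · rw [c.coQ.relIndex' inf_le_left (fun t => act4 0 2 t = t) fun q hq => by
      rw [mem_inf, and_iff_right hq, c.mem_CD hq]]
    decide
  · ext u
    refine ⟨fun e => (c.tu.mem_D e.1).2 ?_, fun e => ⟨e.1, fun q hq => (hq.2 u e).symm⟩⟩
    have := (c.mem_cent' inf_le_left (P := fun t => act4 0 2 t = t) (fun t => ⟨fun e => by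
      obtain ⟨q, hq, rfl⟩ := c.coQ.surj t
      exact ⟨q, ⟨hq, (c.mem_CD hq).2 e⟩, rfl⟩, by
      rintro ⟨q, hq, rfl⟩
      exact (c.mem_CD hq.1).1 hq.2⟩) e.1).1 e.2
    generalize ψ u = t at this
    revert t; decide
  · ext u
    rw [mem_inf, mem_inf]
    refine and_congr_right fun hu => ?_
    rw [c.mem_cent' inf_le_right c.range_U0' hu, c.tu.mem_Q' hu]
    generalize ψ u = t
    revert t; decide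

/-- orbits of `H` on `U / Z` -/
theorem T5.orbU (h : T5 S M V z H Y F m) : (∀ u ∈ 𝑼, ∃ g ∈ H, g * u * g⁻¹ ∈ 𝑫) ∧
    (∀ g ∈ H, g ∉ S → cj(g, V) ⊓ 𝑸' = 𝒁) ∧
    (∀ c ∈ 𝑫, c ∉ V → ∀ c' ∈ 𝑫, c' ∉ V → ∃ r ∈ 𝐂[V], r * c * r⁻¹ = c') := by
  obtain ⟨x, s₀, ψ, χ, c⟩ := h.exists_TC
  refine ⟨fun u hu => ?_, fun g hg hg' => ?_, fun a ha ha' b hb hb' => ?_⟩
  · obtain ⟨i, hi⟩ := (by decide : ∀ t, ∃ i, act4 0 2 (act4 i 0 t) = act4 i 0 t) (ψ u)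
    have hA := c.tu.acts (c.tu.dec_pow i 0)
    exact ⟨_, c.tu.dec_H (c.tu.dec_pow i 0), by rw [c.tu.mem_D (hA.mem hu), hA.eq u hu, hi]⟩
  · obtain ⟨i, j, hd⟩ := c.dec g hg
    rw [c.tu.mem_S hd] at hg'
    have hA := c.tu.acts hd
    refine le_antisymm (fun u hu => ?_) (le_inf ?_
      (h.Z_le_D.trans (inf_le_right.trans h.U'_le_Q')))
    · obtain ⟨v, hv, rfl⟩ := mem_cj_iff_exists.1 hu.1
      have h1 := hA.mem (h.V_le_U hv)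
      have h2 := (c.tu.mem_Q' h1).1 hu.2
      have h3 := (c.tu.mem_V (h.V_le_U hv)).1 hv
      rw [← c.co.ker _ h1]
      rw [hA.eq v (h.V_le_U hv)] at h2 ⊢
      generalize ψ v = t at h2 h3
      clear hd hA; revert i j t; decide
    · rw [← cj_of_mem_normalizer (h.normZ hg)]
      exact cj_mono _ h.Z_le_V
  · by_cases e : ψ b = ψ a
    · exact c.conj_of_eq ha.1 hb.1 ha' e
    obtain ⟨r, hr, hr'⟩ := c.tu.exists_b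
    obtain ⟨k, hd, hk⟩ : ∃ k, Dec Y x s₀ r 0 k ∧ (k = 1 ∨ k = 3) :=
      (c.tu.dec_gen (h.R_le hr.2) hr').elim (fun e => ⟨_, e, Or.inl rfl⟩) fun e => ⟨_, e, Or.inr rfl⟩
    have hA := c.tu.acts hd
    obtain ⟨r', hr2, e2⟩ := c.conj_of_eq (hA.mem ha.1) hb.1
      (fun e2 => ha' ((mem_normalizer_iff.1 (centralizer_le_normalizer' V hr.2) a).2 e2)) (by
        rw [c.tu.mem_V ha.1] at ha'
        rw [c.tu.mem_V hb.1] at hb'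
        have h1 := (c.tu.mem_D ha.1).1 ha
        have h2 := (c.tu.mem_D hb.1).1 hb
        rw [hA.eq a ha.1]
        generalize ψ a = t at *
        generalize ψ b = t' at *
        clear hd hA; revert k t t'; decide)
    exact ⟨r' * r, mul_mem hr2 hr.2, by rw [← e2]; group⟩

/-- orbits of `H` on `Q / C₁`: five singular and ten nonsingular vectors -/
theorem T5.orbQ (h : T5 S M V z H Y F m) : (∀ q ∈ Y, ∃ g ∈ H, g * q * g⁻¹ ∈ 𝐂[𝑫]) ∧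
    (∀ q ∈ Y ⊓ 𝐂[𝑫], q ∉ (𝑼' ⊓ Y) ⊔ 𝑪₁ → ∀ q' ∈ Y ⊓ 𝐂[𝑫], q' ∉ (𝑼' ⊓ Y) ⊔ 𝑪₁ →
      ∃ s ∈ S, s * q * s⁻¹ * q'⁻¹ ∈ 𝐂[𝑼]) ∧
    (∀ u ∈ 𝑼' ⊓ Y, u ∉ 𝑫 → ∀ g ∈ H, g ∉ S → ∀ g' ∈ H,
      u * (g * u * g⁻¹) * (g' * u * g'⁻¹)⁻¹ ∉ 𝐂[𝑼] ∧ u * (g * u * g⁻¹) ∉ 𝐂[𝑼]) := by
  obtain ⟨x, s₀, ψ, χ, c⟩ := h.exists_TC
  refine ⟨fun q hq => ?_, fun q hq h1 q' hq' h2 => ?_, fun u hu hu' g hg hg' g' hg2 => ?_⟩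
  · obtain ⟨i, hi⟩ := (by decide : ∀ t, ∃ i, act4 0 2 (act4 i 0 t) = act4 i 0 t) (χ q)
    have hA := c.actsQ (c.tu.dec_pow i 0)
    exact ⟨_, c.tu.dec_H (c.tu.dec_pow i 0), by rw [c.mem_CD (hA.mem hq), hA.eq q hq, hi]⟩
  · obtain ⟨j, hj⟩ := (by decide : ∀ t t', act4 0 2 t = t → act4 0 2 t' = t' → ¬ (t = 0 ∨ t = e0) →
      ¬ (t' = 0 ∨ t' = e0) → ∃ j, act4 0 j t = t') _ _ ((c.mem_CD hq.1).1 hq.2)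
      ((c.mem_CD hq'.1).1 hq'.2) (mt (c.mem_U0' hq.1).2 h1) (mt (c.mem_U0' hq'.1).2 h2)
    have hA := c.actsQ (c.tu.dec_pow 0 j)
    exact ⟨_, (c.tu.mem_S (c.tu.dec_pow 0 j)).2 rfl, by
      rw [c.coQ.div_mem (hA.mem hq.1) hq'.1, hA.eq q hq.1, hj]⟩
  · obtain ⟨i, j, hd⟩ := c.dec g hg
    obtain ⟨i', j', hd'⟩ := c.dec g' hg2
    rw [c.tu.mem_S hd] at hg'
    have hA := c.actsQ hd
    have hA' := c.actsQ hd'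
    have h1 := mul_mem hu.2 (hA.mem hu.2)
    rw [c.coQ.div_mem h1 (hA'.mem hu.2), ← c.coQ.ker _ h1, c.coQ.mul _ hu.2 _ (hA.mem hu.2),
      hA.eq u hu.2, hA'.eq u hu.2, c.χu' u hu hu']
    clear hd hd' hA hA'; revert i j i' j'; decide

end Cfsg.Agent.NG
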