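import Mathlib
import Cfsg.Agent.NG.Tits1

set_option autoImplicit false
set_option linter.unusedSectionVars false
set_option synthInstance.maxSize 4096

namespace Cfsg.Agent.NG

open Subgroup Cfsg.Agent.PLocal Cfsg.Agent.PLocal.Amb Cfsg.Agent.PLocal.CP Cfsg.Agent.PLocal.JC
open scoped commutatorElement

variable {G : Type*} [Group G] [Finite G]

variable {S M V H Y F : Subgroup G} {z m : G}

set_option quotPrecheck false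
/-- `U = ⟨V^H⟩` -/
local notation "𝑼" => ncl V H
local notation "𝒁" => zpowers z
local notation "𝑼'" => cj(m, ncl V H)
local notation "𝑫" => ncl V H ⊓ cj(m, ncl V H)
local notation "𝑸'" => cj(m, Y)
local notation "𝑪₁" => Y ⊓ 𝐂[ncl V H]
local notation "𝑸₁" => Y ⊓ 𝐎[2, H]

theorem T5.comm_C1 (h : T5 S M V z H Y F m) : ⁅𝑪₁, 𝐎[2, H]⁆ ≤ 𝑼 := by
  obtain ⟨x, s₀, ψ, χ, c⟩ := h.exists_TC
  have hn : H ≤ 𝐍[H ⊓ secCent 𝑪₁ 𝑼] :=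
    Amb.le_normalizer_inf le_normalizer (le_normalizer_secCent h.normC1 h.normU)
  obtain ⟨a, ha, ha'⟩ := c.tu.exists_a
  have hH := h.U'_le_H ha
  have h1 : a ∈ H ⊓ secCent 𝑪₁ 𝑼 := by
    refine ⟨hH, h.normU hH, fun k hk => ?_⟩
    obtain ⟨u, hu, k', hk', rfl⟩ := (mem_sup_of_le_normalizer_left
      ((inf_le_left.trans (inf_le_left.trans h.Y_le_H)).trans h.normU)).1 (c.tu.C1_le hk)
    rw [commutatorElement_mul_right_eq_mul_conj]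
    exact mul_mem (mul_mem (mul_mem (comm_mem_symm (h.comm_UU' hu ha).1) hu) (comm_mem_symm
      (h.V_le_U (zpowers_le.2 h.z'_mem (h.comm_QU' hk'.2 ha))))) (inv_mem hu)
  have h2 : ⁅x, a⁆ ∈ H ⊓ secCent 𝑪₁ 𝑼 :=
    mul_mem (Amb.conj_mem_of_mem_normalizer (hn c.tu.x_H) h1) (inv_mem h1)
  have h3 : ⁅x, a⁆ ∈ F := by
    rw [commutatorElement_def, mul_assoc, mul_assoc, ← mul_assoc a]
    exact mul_mem c.x_mem (Amb.conj_mem_of_mem_normalizer (h.F_norm hH) (inv_mem c.x_mem))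
  have h4 : ⁅x, a⁆ ∉ Y := fun e => c.x_not (mem_of_pow_mem_of_coprime (n := 2) (by
    convert mul_mem e ((h.act ha ha').2.2.2.2.2.1 x c.x_mem) using 1
    rw [commutatorElement_def, pow_two]; group) (by rw [c.ord]; norm_num))
  have h5 : x ∈ H ⊓ secCent 𝑪₁ 𝑼 := pRes_sup_le h.Y2 (h.Y_le_H.trans hn) (mem_pRes (by
    have := c.x_mem
    rw [← sup_zpowers_eq (h.idxF ▸ by norm_num) h.Y_le_F h3 h4] at this
    exact sup_le_sup_right (zpowers_le.2 h2) _ this) (by rw [c.ord]; norm_num))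
  refine (le_secCent_iff'.1 (le_trans ?_ (inf_le_right (a := H)))).2
  rw [c.tu.res_eq, sup_comm, commutator_comm, ← ncl_eq_sup_commutator]
  exact ncl_le (zpowers_le.2 h5) (h.Y_le_H.trans hn)

/-- the elements that centralize `k` modulo `Z` -/
def centOne (Z : Subgroup G) (k : G) : Subgroup G where
  carrier := {g | g ∈ 𝐍[Z] ∧ ⁅g, k⁆ ∈ Z}
  one_mem' := ⟨one_mem _, by simp⟩
  mul_mem' := by
    rintro g g' ⟨hg, h1⟩ ⟨hh, h2⟩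
    refine ⟨mul_mem hg hh, ?_⟩
    rw [commutatorElement_mul_left_eq_conj_mul]
    exact mul_mem (Amb.conj_mem_of_mem_normalizer hg h2) h1
  inv_mem' := by
    rintro g ⟨hg, h1⟩
    refine ⟨inv_mem hg, ?_⟩
    rw [show ⁅g⁻¹, k⁆ = g⁻¹ * ⁅g, k⁆⁻¹ * g by simp only [commutatorElement_def]; group]
    exact Amb.inv_conj_mem_of_mem_normalizer hg (inv_mem h1)

local notation "𝑪₂" => Y ⊓ 𝐂[𝐎[2, H]]

namespace TC

variable {x s : G} {ψ χ : G → W4} (h : TC S M V z H Y F m x s ψ χ)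
include h

theorem x_res : x ∈ 𝐎[2, H] := mem_pRes h.tu.x_H (by rw [h.ord]; norm_num)

theorem cop {K : Subgroup G} (hK : K ≤ Y) : (Nat.card (zpowers x)).Coprime (Nat.card K) :=
  have : Fact (Nat.Prime 2) := ⟨Nat.prime_two⟩
  coprime_card_zpowers (h.t5.Y2.to_le hK) (by rw [h.ord]; norm_num)

theorem C1_dec {k : G} (hk : k ∈ 𝑪₁) : ∃ c ∈ 𝑪₁, c * x = x * c ∧ ∃ u ∈ 𝑼, k = c * u := by
  obtain ⟨c, hc, d, hd, rfl⟩ := Solv.coprime_exists_centralizer_mul_commutator (zpowers x) 𝑪₁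
    (zpowers_le.2 (h.t5.normC1 h.tu.x_H)) (h.cop inf_le_left) (Or.inl inferInstance) k hk
  exact ⟨c, hc.1, (hc.2 x (mem_zpowers x)).symm, d,
    h.t5.comm_C1 (commutator_mono le_rfl (zpowers_le.2 h.x_res) hd), rfl⟩

theorem normC2 : H ≤ 𝐍[𝑪₂] :=
  Amb.le_normalizer_inf h.Y_norm (Amb.le_normalizer_centralizer (le_normalizer_pRes 2 H))

theorem C2_le_CQ : 𝑪₂ ≤ 𝐂[𝑸₁] := inf_le_right.trans (centralizer_anti inf_le_right)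

theorem C2_le_CU : 𝑪₂ ≤ 𝐂[𝑼] := h.C2_le_CQ.trans (centralizer_anti h.U_le_Q1)

theorem Z_le_C2 : 𝒁 ≤ 𝑪₂ := le_inf (h.t5.Z_le_U.trans h.t5.U_le_Y)
  fun _ ha _ hb => (h.t5.comm_Z ha (pRes_le 2 H hb)).symm

theorem z'_not_C2 : m * z * m⁻¹ ∉ 𝑪₂ := fun e =>
  h.t5.z'_not (h.t5.q1_basic.2.2.2.2.2.le ⟨h.t5.V_le_U h.t5.z'_mem, h.C2_le_CQ e⟩)

/-- the map `q ↦ [q, k]` is injective or trivial -/
theorem theta0 {k q : G} (hk : k ∈ 𝑪₁) (hq : q ∈ 𝑸₁) (hq' : q ∉ 𝐂[𝑼]) (e : ⁅q, k⁆ ∈ 𝒁) :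
    ∃ c ∈ 𝑪₂, ∃ u ∈ 𝑼, k = c * u := by
  obtain ⟨c, hc, hx, u, hu, rfl⟩ := h.C1_dec hk
  refine ⟨c, ⟨hc.1, ?_⟩, u, hu, rfl⟩
  have hcH := h.t5.Y_le_H hc.1
  have h1 : ⁅q, c⁆ ∈ 𝒁 := by
    rw [commutatorElement_mul_right_eq_mul_conj, mul_assoc, mul_assoc, ← mul_assoc c] at e
    exact ((𝒁).mul_mem_cancel_right
      (Amb.conj_mem_of_mem_normalizer (h.t5.normZ hcH) (h.t5.comm_YU hq.1 hu))).1 e
  have h2 : x ∈ 𝐍[𝑸₁ ⊓ centOne 𝒁 c] := by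
    refine mem_normalizer_of_cj_le (cj_le_iff_forall.2 fun a ha => ?_)
    have h3 := Amb.conj_mem_of_mem_normalizer (h.t5.normQ1 h.tu.x_H) ha.1
    refine ⟨h3, h.t5.normZ (h.t5.Y_le_H h3.1), ?_⟩
    have h4 := Amb.conj_mem_of_mem_normalizer (h.t5.normZ h.tu.x_H) ha.2.2
    rwa [← conj_comm, ← hx, mul_inv_cancel_right] at h4
  have h3 : (𝑸₁ ⊓ centOne 𝒁 c) ⊔ 𝐂[𝑼] = Y :=
    (h.coQ.irr h.axQ le_sup_right (sup_le (inf_le_left.trans inf_le_left) h.t5.CU_le_Y)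
      (zpowers_le.1 (Amb.le_normalizer_sup (zpowers_le.2 h2)
        (zpowers_le.2 (h.t5.normCU h.tu.x_H))))).resolve_left fun e2 =>
      hq' (e2.le (mem_sup_left ⟨hq, h.t5.normZ (h.t5.Y_le_H hq.1), h1⟩))
  have h4 : 𝑸₁ ≤ centOne 𝒁 c := by
    intro r hr
    obtain ⟨a, ha, b, hb, rfl⟩ := (mem_sup_of_le_normalizer_right
      ((inf_le_left.trans (inf_le_left.trans h.t5.Y_le_H)).trans h.t5.normCU)).1 (h3.ge hr.1)
    have hb1 : b ∈ 𝑸₁ := ((𝑸₁).mul_mem_cancel_left (mem_inf.1 ha).1).1 hr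
    refine mul_mem (mem_inf.1 ha).2 ⟨h.t5.normZ (h.t5.Y_le_H hb1.1), ?_⟩
    have h5 : ⁅b, c⁆ ∈ 𝑼 := comm_mem_symm (h.t5.comm_C1 (commutator_mem_commutator hc hb1.2))
    obtain ⟨b₀, -, hb₀, v, hv, rfl⟩ := h.C1_dec ⟨hb1.1, hb⟩
    refine h.tu.cent_x h5 ?_
    rw [commutatorElement_mul_left_eq_conj_mul, comm_eq_one_iff.2 (hc.2 v hv), mul_one,
      mul_inv_cancel, one_mul, comm_eq_one_iff.2]
    · exact one_mem _
    · have a1 : Commute b₀ x := hb₀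
      have a2 : Commute c x := hx
      exact ((a1.mul_left a2).mul_left a1.inv_left).mul_left a2.inv_left
  have h5 : ⁅⁅zpowers x, zpowers c⁆, 𝑸₁⁆ = ⊥ := by
    rw [commutator_eq_bot_iff_le_centralizer.2 (zpowers_le.2 (by
      rw [Amb.centralizer_zpowers]; exact mem_centralizer_singleton_iff.2 hx.symm)),
      commutator_bot_left]
  have h6 : ⁅⁅zpowers c, 𝑸₁⁆, zpowers x⁆ = ⊥ := commutator_eq_bot_iff_le_centralizer.2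
    ((CommMod.commutator_zpowers_le (h.t5.normZ hcH) fun y hy => comm_mem_symm (h4 hy).2).trans
      fun a ha b hb => (h.t5.comm_Z ha (zpowers_le.2 h.tu.x_H hb)).symm)
  have h7 := commutator_eq_bot_iff_le_centralizer.1 (commutator_commutator_eq_bot_of_rotate h5 h6)
  rw [h.tu.Q1_eq, Solv.coprime_commutator_commutator _ _ (zpowers_le.2 (h.Y_norm h.tu.x_H))
    (h.cop le_rfl) (Or.inl inferInstance)] at h7
  rw [h.tu.res_eq, Amb.centralizer_sup]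
  exact ⟨le_centralizer_iff.1 h7 (mem_zpowers c), by
    rw [Amb.centralizer_zpowers]; exact mem_centralizer_singleton_iff.2 hx⟩

theorem C2'_le : cj(m, 𝑪₂) ≤ 𝑪₁ ⊓ 𝐂[𝑼'] := by
  obtain ⟨w, -, h1, -, h5, h6⟩ := h.t5.sym
  intro c hc
  have hU' : c ∈ 𝐂[𝑼'] := by
    rw [centralizer_cj]; exact cj_mono _ h.C2_le_CU hc
  have hD : c ∈ 𝐂[𝑫] := centralizer_anti inf_le_right hU'
  have hR : c ∈ 𝐂[V] := centralizer_anti h.t5.V_le_D hD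
  have hc' := ((h5 _ h.normC2).2 c).2 hc
  have hY : c ∈ Y := by
    by_contra e
    obtain ⟨u, hu, hu'⟩ := h.tu.exists_u'
    have hd := h.tu.dec_a (h.t5.R_le hR) ((h.tu.sq_mem_iff (h.t5.R_le hR)).2 fun d hd => by
      rw [comm_eq_one_iff.2 (hD d hd)]; exact one_mem _) e
    obtain ⟨v, hv, e1⟩ := h.co.surj (e1 + e2)
    have h7 : w * v * w⁻¹ ∈ 𝑸₁ := h.U0'_le ⟨((h5 _ h.t5.normU).1 v).2 hv,
      ((h5 _ h.Y_norm).2 v).2 (by rw [h.tu.mem_Q' hv, e1]; decide)⟩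
    have h8 := comm_eq_one_iff.2 (h.C2_le_CQ hc' _ h7)
    rw [conj_comm, conj_eq_one_iff] at h8
    have h9 := (h.co.comm_mem_iff (h.tu.acts hd) hv).1 (by rw [h8]; exact one_mem _)
    rw [e1] at h9
    revert h9; decide
  refine ⟨⟨hY, fun u hu => (comm_eq_one_iff.1 ?_).symm⟩, hU'⟩
  refine (h.t5.mem_Z.1 (h.t5.comm_YU hY hu)).resolve_right fun e => h.z'_not_C2 ?_
  rw [← h1, (h5 _ h.normC2).2, ← e, commutatorElement_def, mul_assoc, mul_assoc, ← mul_assoc u]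
  exact mul_mem hc
    (Amb.conj_mem_of_mem_normalizer (h.t5.R_norm h.normC2 (h.t5.U_le_R hu)) (inv_mem hc))

theorem C2_inf : 𝑪₂ ⊓ cj(m, 𝑪₂) = ⊥ := by
  obtain ⟨w, -, h1, -, h5, -⟩ := h.t5.sym
  by_contra hne
  refine h.z'_not_C2 ?_
  rw [← h1, (h5 _ h.normC2).2]
  refine (h.t5.ca.one.z_mem (h.t5.Y2.to_le (inf_le_left.trans inf_le_left)) hne ?_).2
  rw [← h.t5.S_eq, h.t5.ca.basic.2.2.2.2.2.2.2.2.2.2.1]
  have hR : 𝐂[V] ≤ 𝐍[𝑪₂ ⊓ cj(m, 𝑪₂)] := Amb.le_normalizer_inf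
    ((h.t5.R_le.trans h.t5.S_le).trans h.normC2) (h.t5.R_norm h.normC2)
  refine sup_le (h.Q1_sup.ge.trans (sup_le ?_ (inf_le_right.trans (h.t5.CU_le_R.trans hR)))) hR
  exact (le_centralizer_iff.1 (inf_le_left.trans h.C2_le_CQ)).trans (centralizer_le_normalizer' _)

theorem C2_eq : 𝑪₂ = 𝒁 := by
  refine le_antisymm (fun c₀ hc₀ => ?_) h.Z_le_C2
  obtain ⟨w, -, h1, -, h5, -⟩ := h.t5.sym
  have hz : m * z * m⁻¹ ∈ cj(m, 𝑪₂) := conj_mem_cj m (h.Z_le_C2 (mem_zpowers z))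
  have hc' := conj_mem_cj m hc₀
  suffices e : m * c₀ * m⁻¹ = 1 ∨ m * c₀ * m⁻¹ = m * z * m⁻¹ by simpa [h.t5.mem_Z] using e
  generalize m * c₀ * m⁻¹ = c' at hc'
  obtain ⟨h2, h3⟩ := h.C2'_le hc'
  obtain ⟨u', hu', hu''⟩ := h.tu.exists_u'
  obtain ⟨c, hc, u, hu, rfl⟩ := h.theta0 h2 (h.U0'_le hu')
    (fun e => hu'' (h.tu.U'_inf.le ⟨hu'.1, e⟩)) (by
      rw [comm_eq_one_iff.2 (h3 u' hu'.1)]; exact one_mem _)
  have h4 : c ∈ 𝐂[𝑼'] := fun a ha => by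
    have := (h.C2'_le (((h5 _ h.normC2).1 c).2 hc)).1.2 _ (((h5 _ h.t5.normU).2 a).2 ha)
    rw [← comm_eq_one_iff, conj_comm, conj_eq_one_iff] at this
    exact comm_eq_one_iff.1 this
  obtain ⟨a, ha, ha'⟩ := h.tu.exists_a
  have hD : u ∈ 𝑫 := (h.tu.cent_a ha ha' hu).1
    ((((𝐂[𝑼']).mul_mem_cancel_left h4).1 h3) a ha).symm
  obtain ⟨b, hb, hb'⟩ := h.exists_b1
  have h6 : ⁅b, u⁆ = 1 := by
    refine (h.t5.mem_Z.1 (h.t5.comm_YU hb.1.1 hu)).resolve_right fun e => h.z'_not_C2 ?_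
    rw [← h1, (h5 _ h.normC2).2]
    have h7 : ⁅b, c * u⁆ ∈ cj(m, 𝑪₂) :=
      mul_mem (Amb.conj_mem_of_mem_normalizer (h.t5.R_norm h.normC2 hb.2) hc') (inv_mem hc')
    rwa [commutatorElement_mul_right_eq_mul_conj, comm_eq_one_iff.2 (h.C2_le_CQ hc b hb.1), e,
      one_mul, h.t5.comm_z (h.t5.Y_le_H hc.1), mul_inv_cancel_right] at h7
  have hV : u ∈ V := by
    have a1 := (h.mem_R hb.1.1).1 hb.2
    have a2 := mt (h.mem_CD hb.1.1).2 fun e => hb' ((h.tu.sq_mem_iff' hb.2).2 fun d hd => by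
      rw [comm_eq_one_iff.2 (e d hd)]; exact one_mem _)
    have a3 := (h.pair b hb.1.1 u hu).1 (comm_eq_one_iff.1 h6)
    have a4 := (h.tu.mem_D hu).1 hD
    rw [h.tu.mem_V hu]
    generalize χ b = t at a1 a2 a3
    generalize ψ u = t' at a3 a4 ⊢
    revert t t'; decide
  rcases h.t5.mem_V.1 hV with e | e
  · exact Or.inl (mem_bot.1 (h.C2_inf.le (mem_inf.2 ⟨mul_mem hc (h.Z_le_C2 e), hc'⟩)))
  · refine Or.inr (mul_inv_eq_one.1 (mem_bot.1 (h.C2_inf.le (mem_inf.2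
      ⟨?_, mul_mem hc' (inv_mem hz)⟩))))
    rw [mul_assoc]
    exact mul_mem hc (h.Z_le_C2 e)

end TC

theorem T5.C2 (h : T5 S M V z H Y F m) : S ⊓ 𝐂[𝐎[2, H]] = 𝒁 := by
  obtain ⟨x, s₀, ψ, χ, c⟩ := h.exists_TC
  refine le_antisymm (fun g hg => c.C2_eq.le (mem_inf.2 ⟨?_, hg.2⟩))
    (c.Z_le_C2.trans (inf_le_inf_right _ h.YS))
  obtain ⟨j, hd⟩ := c.tu.decS hg.1
  have hA := c.tu.acts hd
  have h1 := c.co.unique (hA.mul c.ax) (hg.2 x c.x_res ▸ c.ax.mul hA)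
  rw [c.tu.mem_Y hd]
  clear hd hA; revert j; decide

/-- the map `θ` is injective, and `|C₁ : U| ≤ 2` -/
theorem T5.theta (h : T5 S M V z H Y F m) :
    (∀ k ∈ 𝑪₁, k ∉ 𝑼 → ∀ q ∈ 𝑸₁, q ∉ 𝐂[𝑼] → ⁅q, k⁆ ∉ 𝒁) ∧ (𝑼).relIndex 𝑪₁ ≤ 2 := by
  obtain ⟨x, s₀, ψ, χ, c⟩ := h.exists_TC
  have h1 : ∀ k ∈ 𝑪₁, k ∉ 𝑼 → ∀ q ∈ 𝑸₁, q ∉ 𝐂[𝑼] → ⁅q, k⁆ ∉ 𝒁 := by
    intro k hk hk' q hq hq' e
    obtain ⟨a, ha, u, hu, rfl⟩ := c.theta0 hk hq hq' e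
    exact hk' (mul_mem (h.Z_le_U (c.C2_eq.le ha)) hu)
  refine ⟨h1, ?_⟩
  by_cases hle : 𝑪₁ ≤ 𝑼
  · rw [relIndex_eq_one.2 hle]; norm_num
  obtain ⟨u', hu', hu''⟩ := c.tu.exists_u'
  have hq := c.U0'_le hu'
  have hq' : u' ∉ 𝐂[𝑼] := fun e => hu'' (c.tu.U'_inf.le ⟨hu'.1, e⟩)
  have h2 : ∀ k ∈ 𝑪₁, k ∉ 𝑼 → ∃ u ∈ 𝑼, ∃ k' ∈ 𝑪₁, k = u * k' ∧ ⁅u', k'⁆ = m * z * m⁻¹ := by
    intro k hk hk'
    obtain ⟨u, hu, k', hk2, rfl⟩ := (mem_sup_of_le_normalizer_left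
      ((inf_le_left.trans (inf_le_left.trans h.Y_le_H)).trans h.normU)).1 (c.tu.C1_le hk)
    refine ⟨u, hu, k', hk2.1, rfl,
      (h.mem_Z'.1 (comm_mem_symm (h.comm_QU' hk2.2 hu'.1))).resolve_left fun e => ?_⟩
    exact h1 k' hk2.1 (fun e2 => hk' (mul_mem hu e2)) u' hq hq' (by rw [e]; exact one_mem _)
  obtain ⟨a, ha, ha'⟩ := SetLike.not_le_iff_exists.1 hle
  refine le_of_eq (index_eq_two_iff.2 ⟨⟨a, ha⟩, fun b => ?_⟩)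
  simp only [mem_subgroupOf, coe_mul]
  by_cases hb : (b : G) ∈ 𝑼
  · exact Or.inr ⟨hb, fun e => ha' (((𝑼).mul_mem_cancel_left hb).1 e)⟩
  refine Or.inl ⟨?_, hb⟩
  obtain ⟨u, hu, k, hk, e1, e2⟩ := h2 b b.2 hb
  obtain ⟨v, hv, k', hk', rfl, e3⟩ := h2 a ha ha'
  have h3 : k * k' ∈ 𝑼 := by
    by_contra e
    refine h1 _ (mul_mem hk hk') e u' hq hq' ?_
    rw [commutatorElement_mul_right_eq_mul_conj, e2, e3, mul_assoc _ k,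
      ← hk.2 _ (h.V_le_U h.z'_mem), ← mul_assoc, h.z'_sq, one_mul, mul_inv_cancel]
    exact one_mem _
  rw [e1, mul_assoc, ← mul_assoc k, ← hk.2 v hv, mul_assoc]
  exact mul_mem hu (mul_mem hv h3)

end Cfsg.Agent.NG
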