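import Mathlib
import Cfsg.Agent.NG.Tits2

/-! The three points on the line `V` in the configuration `T5`, in symmetric form. -/

set_option autoImplicit false
set_option linter.unusedSectionVars false

namespace Cfsg.Agent.NG

open Subgroup Cfsg.Agent.PLocal Cfsg.Agent.PLocal.Amb Cfsg.Agent.PLocal.CP Cfsg.Agent.PLocal.JC
open scoped commutatorElement

variable {G : Type*} [Group G] [Finite G]

namespace TT

theorem cm {g x : G} {Q : Subgroup G} (hg : g ∈ 𝐍[Q]) (hx : x ∈ Q) : g * x * g⁻¹ ∈ Q :=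
  Amb.conj_mem_of_mem_normalizer hg hx

theorem cm' {g x : G} {Q : Subgroup G} (hg : g ∈ 𝐍[Q]) (hx : x ∈ Q) : g⁻¹ * x * g ∈ Q :=
  Amb.inv_conj_mem_of_mem_normalizer hg hx

theorem cm_iff {g x : G} {Q : Subgroup G} (hg : g ∈ 𝐍[Q]) : g * x * g⁻¹ ∈ Q ↔ x ∈ Q :=
  (mem_normalizer_iff.1 hg x).symm

theorem comm_mem_left {g x : G} {Q : Subgroup G} (hg : g ∈ 𝐍[Q]) (hx : x ∈ Q) : ⁅x, g⁆ ∈ Q := by
  rw [commutatorElement_def, mul_assoc, mul_assoc, ← mul_assoc g]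
  exact mul_mem hx (cm hg (inv_mem hx))

theorem comm_mem_right {g x : G} {Q : Subgroup G} (hg : g ∈ 𝐍[Q]) (hx : x ∈ Q) : ⁅g, x⁆ ∈ Q :=
  mul_mem (cm hg hx) (inv_mem hx)

theorem comm_symm {a b : G} {Q : Subgroup G} (h : ⁅a, b⁆ ∈ Q) : ⁅b, a⁆ ∈ Q := by
  rw [← commutatorElement_inv]; exact inv_mem h

theorem mem_zp {z x : G} (hz : z * z = 1) : x ∈ zpowers z ↔ x = 1 ∨ x = z := by
  refine ⟨?_, by rintro (rfl | rfl); exacts [one_mem _, mem_zpowers _]⟩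
  rintro ⟨n, rfl⟩
  have e : z ^ (2 : ℤ) = 1 := by rw [zpow_two, hz]
  rcases Int.even_or_odd' n with ⟨k, rfl | rfl⟩
  · left; simp only; rw [zpow_mul, e, one_zpow]
  · right; simp only; rw [zpow_add, zpow_mul, e, one_zpow, one_mul, zpow_one]

theorem div_mem_of_two {Q T : Subgroup G} (h : Q.relIndex T = 2) {x y : G} (hx : x ∈ T)
    (hy : y ∈ T) (hx' : x ∉ Q) (hy' : y ∉ Q) : x * y⁻¹ ∈ Q :=
  Amal.mul_mem_of_relIndex_two h hx (inv_mem hy) hx' fun e => hy' (inv_mem_iff.1 e)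

theorem relIndex_of_card {Q T : Subgroup G} (h : Q ≤ T) {n k : ℕ} (h1 : Nat.card Q = n)
    (h2 : Nat.card T = n * k) : Q.relIndex T = k := by
  have h3 := Grp.card_mul_relIndex h
  rw [h1, h2] at h3
  exact Nat.eq_of_mul_eq_mul_left (h1 ▸ Nat.card_pos) h3

end TT

open TT

section
variable {S M V H Y F : Subgroup G} {z m : G}

theorem T5.cj (h : T5 S M V z H Y F m) (g : G) : T5 cj(g, S) cj(g, M) cj(g, V) (g * z * g⁻¹)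
    cj(g, H) cj(g, Y) cj(g, F) (g * m * g⁻¹) := by
  refine ⟨⟨h.toCA.cj g, conj_mem_cj g h.m_mem, fun e => h.m_ne ?_, fun e => h.crit ?_⟩, ?_, ?_, ?_⟩
  · have : g * (m * z * m⁻¹) * g⁻¹ = g * z * g⁻¹ := by rw [← e]; group
    exact mul_left_cancel (mul_right_cancel this)
  · rwa [← cj_ncl, ← cj_mul, inv_mul_cancel_right, cj_mul, cj_le_cj_iff] at e
  · rw [← cj_ncl, card_cj, h.cardU]
  · rw [Amal.relIndex_cj, h.idxF]
  · rw [Amal.relIndex_cj, h.idxH]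

theorem T5.C1 (h : T5 S M V z H Y F m) : Y ⊓ 𝐂[ncl V H] = 𝐂[ncl V H] :=
  inf_eq_right.2 h.basic.2.2.2.2.2.2.2.2.2.2.2.2.2.2.2.2.2.1

theorem T5.exists_cj (h : T5 S M V z H Y F m) {n : G} (hn : n ∈ M) (hn' : n ∉ S) :
    ∃ y ∈ Y, ∃ s ∈ S, n = y * m * s := by
  rcases h.toCA.points h.m_mem h.m_ne hn with h1 | ⟨s, hs, y, hy, e⟩
  · exact absurd (h.basic.2.2.1 ▸ (⟨h1, hn⟩ : n ∈ H ⊓ M)) hn'
  · exact ⟨y, hy, s, h.basic.2.2.1 ▸ hs, e⟩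

theorem T5.change (h : T5 S M V z H Y F m) {n : G} (hn : n ∈ M) (hn' : n ∉ S) :
    T5 S M V z H Y F n := by
  refine ⟨⟨h.toCA, hn, fun e => hn' ?_, fun e => h.crit ?_⟩, h.cardU, h.idxF, h.idxH⟩
  · rw [← h.basic.2.2.1, h.toCA.basic.2.2.1]
    exact ⟨mem_centralizer_singleton_iff.2 (mul_inv_eq_iff_eq_mul.1 e), hn⟩
  · obtain ⟨y, hy, s, hs, rfl⟩ := h.exists_cj hn hn'
    rwa [cj_mul, cj_mul, cj_of_mem_normalizer (le_normalizer_ncl V H (h.toCA.basic.1 hs)),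
      cj_le_iff, cj_of_mem (inv_mem hy)] at e

end

/-- the data attached to a point -/
structure Pt (G : Type*) [Group G] where
  S : Subgroup G
  z : G
  H : Subgroup G
  Y : Subgroup G
  U : Subgroup G
  P : Subgroup G

/-- the conjugate of a point -/
def Pt.cj (p : Pt G) (n : G) : Pt G :=
  ⟨cj(n, p.S), n * p.z * n⁻¹, cj(n, p.H), cj(n, p.Y), cj(n, p.U), cj(n, p.P)⟩

/-- the point of a configuration -/
def mkPt (V S : Subgroup G) (z : G) (H Y : Subgroup G) : Pt G :=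
  ⟨S, z, H, Y, ncl V H, Y ⊓ 𝐎[2, H]⟩

theorem Pt.cj_cj (p : Pt G) (n n' : G) : (p.cj n).cj n' = p.cj (n' * n) := by
  simp only [Pt.cj, cj_mul, mul_inv_rev, mul_assoc]

theorem Pt.cj_one (p : Pt G) : p.cj 1 = p := by
  simp only [Pt.cj, Amb.cj_one, one_mul, inv_one, mul_one]

theorem mkPt_cj (V S : Subgroup G) (z : G) (H Y : Subgroup G) (n : G) :
    (mkPt V S z H Y).cj n = mkPt cj(n, V) cj(n, S) (n * z * n⁻¹) cj(n, H) cj(n, Y) := by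
  simp only [Pt.cj, mkPt, cj_ncl, cj_inf, pRes_cj]

/-- two distinct points on the line `V` -/
inductive Pr (M V : Subgroup G) : Subgroup G → Pt G → Pt G → Prop
  | mk {S : Subgroup G} {z : G} {H Y F : Subgroup G} {m : G} (h : T5 S M V z H Y F m) :
    Pr M V (ncl V H ⊓ cj(m, ncl V H)) (mkPt V S z H Y) ((mkPt V S z H Y).cj m)

namespace Pr

variable {M V D : Subgroup G} {p p' p'' : Pt G}

theorem of {S : Subgroup G} {z : G} {H Y F : Subgroup G} {m : G} (h : T5 S M V z H Y F m)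
    (e1 : p = mkPt V S z H Y) (e2 : p' = p.cj m) (e3 : D = p.U ⊓ p'.U) : Pr M V D p p' := by
  subst e1 e2 e3
  exact Pr.mk h

theorem one (h : Pr M V D p p') : One p.S M V p.z := by cases h with | mk h => exact h.toCA.one

theorem D_eq (h : Pr M V D p p') : D = p.U ⊓ p'.U := by cases h; rfl

theorem z_sq (h : Pr M V D p p') : p.z * p.z = 1 := h.one.z_sq

theorem z_ne' (h : Pr M V D p p') : p'.z ≠ p.z := by cases h with | mk h => exact h.m_ne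

theorem S_le_H (h : Pr M V D p p') : p.S ≤ p.H := by cases h with | mk h => exact h.toCA.basic.1

theorem H_le (h : Pr M V D p p') : p.H ≤ 𝐂₁[p.z] := by
  cases h with | mk h => exact h.toCA.basic.2.1

theorem HM (h : Pr M V D p p') : p.H ⊓ M = p.S := by cases h with | mk h => exact h.basic.2.2.1

theorem S_le_M (h : Pr M V D p p') : p.S ≤ M := h.one.le

theorem R_le (h : Pr M V D p p') : 𝐂[V] ≤ p.S := by cases h with | mk h => exact h.basic.2.2.2.1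

theorem R_idx (h : Pr M V D p p') : (𝐂[V]).relIndex p.S = 2 := h.one.basic.2.2.2.2.2.2.1

theorem MN_V (h : Pr M V D p p') : M ≤ 𝐍[V] := h.one.toTwo.basic.2.2.2.1.ge

theorem MN_R (h : Pr M V D p p') : M ≤ 𝐍[𝐂[V]] := Amb.le_normalizer_centralizer h.MN_V

theorem MN_D (h : Pr M V D p p') : M ≤ 𝐍[D] := by
  cases h with | mk h => exact (h.toCA.D_facts h.m_mem h.m_ne).2.1

theorem V_le_D (h : Pr M V D p p') : V ≤ D := by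
  cases h with | mk h => exact (h.toCA.D_facts h.m_mem h.m_ne).1

theorem S_pgrp (h : Pr M V D p p') : IsPGroup 2 p.S := h.one.syl.pgrp

theorem HN_Y (h : Pr M V D p p') : p.H ≤ 𝐍[p.Y] := by cases h with | mk h => exact h.Y_norm

theorem HN_U (h : Pr M V D p p') : p.H ≤ 𝐍[p.U] := by
  cases h with | mk h => exact le_normalizer_ncl _ _

theorem HN_P (h : Pr M V D p p') : p.H ≤ 𝐍[p.P] := by cases h with | mk h => exact h.q1_basic.1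

theorem HN_C (h : Pr M V D p p') : p.H ≤ 𝐍[𝐂[p.U]] := Amb.le_normalizer_centralizer h.HN_U

theorem Y_le_S (h : Pr M V D p p') : p.Y ≤ p.S := by
  cases h with | mk h => exact h.basic.2.2.1 ▸ h.Y_le

theorem Y_le_H (h : Pr M V D p p') : p.Y ≤ p.H := h.Y_le_S.trans h.S_le_H

theorem P_le_Y (h : Pr M V D p p') : p.P ≤ p.Y := by cases h with | mk h => exact inf_le_left

theorem U_le_P (h : Pr M V D p p') : p.U ≤ p.P := by cases h with | mk h => exact h.q1_basic.2.1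

theorem U_le_Y (h : Pr M V D p p') : p.U ≤ p.Y := h.U_le_P.trans h.P_le_Y

theorem U_ea (h : Pr M V D p p') : IsElementaryAbelian 2 p.U := by
  cases h with | mk h => exact h.toCA.basic.2.2.2.2.2.1

theorem U_sq (h : Pr M V D p p') {u : G} (hu : u ∈ p.U) : u * u = 1 :=
  sq_eq_one_of_isEA h.U_ea u hu

theorem U_inv (h : Pr M V D p p') {u : G} (hu : u ∈ p.U) : u⁻¹ = u :=
  inv_eq_of_mul_eq_one_right (h.U_sq hu)

theorem U_le_C (h : Pr M V D p p') : p.U ≤ 𝐂[p.U] := isEA_le_centralizer h.U_ea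

theorem D_le (h : Pr M V D p p') : D ≤ p.U := h.D_eq ▸ inf_le_left

theorem D_le' (h : Pr M V D p p') : D ≤ p'.U := h.D_eq ▸ inf_le_right

theorem V_le_U (h : Pr M V D p p') : V ≤ p.U := h.V_le_D.trans h.D_le

theorem C_le_CD (h : Pr M V D p p') : 𝐂[p.U] ≤ 𝐂[D] := centralizer_anti h.D_le

theorem CD_le_R (h : Pr M V D p p') : 𝐂[D] ≤ 𝐂[V] := centralizer_anti h.V_le_D

theorem C_le_R (h : Pr M V D p p') : 𝐂[p.U] ≤ 𝐂[V] := h.C_le_CD.trans h.CD_le_R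

theorem U_le_R (h : Pr M V D p p') : p.U ≤ 𝐂[V] := h.U_le_C.trans h.C_le_R

theorem z_mem (h : Pr M V D p p') : p.z ∈ V := h.one.z_mem_V

theorem Z_le (h : Pr M V D p p') : zpowers p.z ≤ V := zpowers_le.2 h.z_mem

theorem YU (h : Pr M V D p p') {y u : G} (hy : y ∈ p.Y) (hu : u ∈ p.U) : ⁅y, u⁆ ∈ zpowers p.z := by
  cases h with | mk h => exact (h.toCA.basic.2.2.2.2.1.ge hy).2.2 u hu

theorem card_U (h : Pr M V D p p') : Nat.card p.U = 32 := by cases h with | mk h => exact h.cardU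

theorem basic (h : Pr M V D p p') : p.S.relIndex M = 3 ∧ p.Y.relIndex p.S = 4 ∧
    p.S.relIndex p.H = 5 ∧ (∃ b ∈ p.P ⊓ 𝐂[V], b * b ∉ p'.Y) ∧ Nat.card D = 8 ∧
    Nat.card ↥(p.U ⊓ p'.Y) = 16 ∧ p.U ⊓ 𝐂[p.Y] = zpowers p.z ∧ (𝐂[p.U]).relIndex p.Y = 16 ∧
    ⁅p.Y, p.Y⁆ ≤ 𝐂[p.U] ∧ (∀ y ∈ p.Y, y * y ∈ 𝐂[p.U]) ∧ 𝐂[p.U] ≤ p.Y ∧
    ⁅p.U ⊓ p'.Y, p'.U ⊓ p.Y⁆ = ⊥ ∧ ⁅p.U, p'.U⁆ ≤ D := by
  cases h with | mk h =>
  obtain ⟨-, -, -, -, -, h1, h2, h3, -, ⟨b, hb, -, hb'⟩, h4, h5, -, h6⟩ := h.basic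
  exact ⟨h1, h2, h3, ⟨b, hb, hb'⟩, h4, h5, h6⟩

theorem card_D (h : Pr M V D p p') : Nat.card D = 8 := h.basic.2.2.2.2.1

theorem card_U0 (h : Pr M V D p p') : Nat.card ↥(p.U ⊓ p'.Y) = 16 := h.basic.2.2.2.2.2.1

theorem C_le_Y (h : Pr M V D p p') : 𝐂[p.U] ≤ p.Y := h.basic.2.2.2.2.2.2.2.2.2.2.1

theorem Y_comm (h : Pr M V D p p') {a b : G} (ha : a ∈ p.Y) (hb : b ∈ p.Y) : ⁅a, b⁆ ∈ 𝐂[p.U] :=
  h.basic.2.2.2.2.2.2.2.2.1 (commutator_mem_commutator ha hb)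

theorem UU (h : Pr M V D p p') {a b : G} (ha : a ∈ p.U) (hb : b ∈ p'.U) : ⁅a, b⁆ ∈ D :=
  h.basic.2.2.2.2.2.2.2.2.2.2.2.2 (commutator_mem_commutator ha hb)

theorem U0_comm (h : Pr M V D p p') : p.U ⊓ p'.Y ≤ 𝐂[p'.U ⊓ p.Y] :=
  commutator_eq_bot_iff_le_centralizer.1 h.basic.2.2.2.2.2.2.2.2.2.2.2.1

theorem five (h : Pr M V D p p') : ∃ x ∈ p.H, orderOf x = 5 ∧ p.P = ⁅p.Y, zpowers x⁆ ∧
    (∀ k ∈ 𝐂[p.U], ⁅k, x⁆ ∈ p.U) ∧
    ∀ X : Subgroup G, 𝐂[p.U] ≤ X → X ≤ p.Y → x ∈ 𝐍[X] → X = 𝐂[p.U] ∨ X = p.Y := by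
  have hC := inf_eq_right.2 h.C_le_Y
  cases h with | mk h =>
  obtain ⟨x, hx, h1, -, h2, h3, -, -, -, h4⟩ := h.exists_five
  have h5 := h.comm_C1
  refine ⟨x, h.F_le hx, h1, h2, fun k hk => h5 (commutator_mem_commutator (hC.ge hk)
    (h3 ▸ mem_sup_right (mem_zpowers x))), fun X h6 h7 h8 => ?_⟩
  exact (h4 X (hC.le.trans h6) h7 h8).imp_left fun e => e.trans hC

theorem U0_le_P (h : Pr M V D p p') : p'.U ⊓ p.Y ≤ p.P := by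
  cases h with | mk h => exact h.q1_basic.2.2.1

theorem P_sup (h : Pr M V D p p') : p.P ⊔ 𝐂[p.U] = p.Y := by
  have hC := inf_eq_right.2 h.C_le_Y
  cases h with | mk h => exact hC ▸ h.q1_basic.2.2.2.1

theorem exists_y (h : Pr M V D p p') : ∃ y ∈ p.P, y ∉ 𝐂[V] := by
  cases h with | mk h => exact SetLike.not_le_iff_exists.1 h.q1_basic.2.2.2.2.1

theorem act (h : Pr M V D p p') {a : G} (ha : a ∈ p'.U) (ha' : a ∉ p.Y) :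
    fx p.U (zpowers p.z) (zpowers a) = D ∧ p.U ⊓ 𝐂₁[a] = D ∧
    (∀ u ∈ p.U, u ∉ p'.Y → ⁅u, a⁆ ∈ D ∧ ⁅u, a⁆ ∉ V) ∧
    (∀ s ∈ p.S, s * s ∈ p.Y → s ∈ p.Y ∨ s * a⁻¹ ∈ p.Y) ∧
    (∀ q ∈ p.Y, ⁅q, a⁆ ∈ 𝐂[p.U] ↔ q ∈ 𝐂[D]) ∧
    (∀ q ∈ p.Y ⊓ 𝐂[D], ∃ y ∈ p.Y, q * ⁅y, a⁆⁻¹ ∈ 𝐂[p.U]) ∧
    (∀ y ∈ p.Y, y ∉ 𝐂[V] → ⁅y, a⁆ ∈ 𝐂[D] ∧ ⁅y, a⁆ ∉ (p'.U ⊓ p.Y) ⊔ 𝐂[p.U]) := by
  have hC := inf_eq_right.2 h.C_le_Y
  cases h with | mk h =>
  obtain ⟨h1, h2, -, h3, -, -, h4, h5, h6, h7⟩ := h.act ha ha'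
  exact ⟨h1, h2, h3, h4, h5, h6, hC ▸ h7⟩

theorem gen (h : Pr M V D p p') {s : G} (hs : s ∈ p.S) (hs' : s * s ∉ p.Y) :
    fx p.U (zpowers p.z) (zpowers s) = V ∧ p.S = p.Y ⊔ zpowers s := by
  cases h with | mk h => exact ⟨(h.gen hs hs').1, (h.gen hs hs').2.2.1⟩

theorem cent (h : Pr M V D p p') : p.Y ⊓ 𝐂[p.U ⊓ p'.Y] = (p'.U ⊓ p.Y) ⊔ 𝐂[p.U] ∧
    (𝐂[p.U]).relIndex (p.Y ⊓ 𝐂[D]) = 4 ∧ (𝐂[p.U]).relIndex (p'.U ⊓ p.Y) = 2 ∧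
    p'.U ⊓ 𝐂[p.U] = D ∧ p.U ⊓ 𝐂[p'.U ⊓ p.Y] = p.U ⊓ p'.Y ∧ 𝐂[p.U] ≤ p.U ⊔ (𝐂[p.U] ⊓ p'.Y) := by
  have hC := inf_eq_right.2 h.C_le_Y
  cases h with | mk h =>
  obtain ⟨h1, -, h2, h3, h4, -, h5, h6⟩ := h.cent
  exact ⟨hC ▸ h1, h2, h3, h4, h5, hC ▸ h6⟩

theorem orbQ (h : Pr M V D p p') : (∀ q ∈ p.Y, ∃ g ∈ p.H, g * q * g⁻¹ ∈ 𝐂[D]) ∧
    (∀ q ∈ p.Y ⊓ 𝐂[D], q ∉ (p'.U ⊓ p.Y) ⊔ 𝐂[p.U] → ∀ q' ∈ p.Y ⊓ 𝐂[D],
      q' ∉ (p'.U ⊓ p.Y) ⊔ 𝐂[p.U] → ∃ s ∈ p.S, s * q * s⁻¹ * q'⁻¹ ∈ 𝐂[p.U]) ∧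
    (∀ u ∈ p'.U ⊓ p.Y, u ∉ D → ∀ g ∈ p.H, g ∉ p.S → ∀ g' ∈ p.H,
      u * (g * u * g⁻¹) * (g' * u * g'⁻¹)⁻¹ ∉ 𝐂[p.U] ∧ u * (g * u * g⁻¹) ∉ 𝐂[p.U]) := by
  cases h with | mk h =>
  have h1 := h.orbQ
  rw [h.C1] at h1
  exact h1

theorem theta (h : Pr M V D p p') : (∀ k ∈ 𝐂[p.U], k ∉ p.U → ∀ q ∈ p.P, q ∉ 𝐂[p.U] →
    ⁅q, k⁆ ∉ zpowers p.z) ∧ p.U.relIndex 𝐂[p.U] ≤ 2 := by
  cases h with | mk h =>
  have h1 := h.theta
  rw [h.C1] at h1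
  exact h1

theorem mem_fx (h : Pr M V D p p') {u t : G} (ht : t ∈ p.H) :
    u ∈ fx p.U (zpowers p.z) (zpowers t) ↔ u ∈ p.U ∧ ⁅u, t⁆ ∈ zpowers p.z := by
  cases h with | mk h => exact h.toCA.basic.2.2.2.1.mem_fx_zpowers ht

/-! ### Symmetry -/

theorem cj_of_mem (h : Pr M V D p p') {s : G} (hs : s ∈ p.S) : p.cj s = p := by
  have h1 := h.S_le_H hs
  have h2 : s * p.z * s⁻¹ = p.z :=
    mul_inv_eq_iff_eq_mul.2 (mem_centralizer_singleton_iff.1 (h.H_le h1))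
  rw [Pt.cj, Amb.cj_of_mem hs, Amb.cj_of_mem h1, h2, cj_of_mem_normalizer (h.HN_Y h1),
    cj_of_mem_normalizer (h.HN_U h1), cj_of_mem_normalizer (h.HN_P h1)]

theorem cj (h : Pr M V D p p') {n : G} (hn : n ∈ M) : Pr M V D (p.cj n) (p'.cj n) := by
  have h1 := cj_of_mem_normalizer (h.MN_V hn)
  have h2 := cj_of_mem_normalizer (h.MN_D hn)
  cases h with | mk h =>
  have h3 := h.cj n
  rw [h1, Amb.cj_of_mem hn] at h3
  refine of h3 (by rw [mkPt_cj, h1]) (by rw [Pt.cj_cj, Pt.cj_cj, inv_mul_cancel_right]) ?_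
  rw [← h2, cj_inf]
  rfl

theorem exists_cj (h : Pr M V D p p') : ∃ m ∈ M, m ∉ p.S ∧ p' = p.cj m := by
  have h1 := h.S_le_H.trans h.H_le
  cases h with | mk h =>
  exact ⟨_, h.m_mem, fun e => h.m_ne
    (mul_inv_eq_iff_eq_mul.2 (mem_centralizer_singleton_iff.1 (h1 e))), rfl⟩

theorem other' (h : Pr M V D p p') {n : G} (hn : n ∈ M) (hn' : n ∉ p.S) :
    ∃ y ∈ p.Y, p.cj n = p'.cj y := by
  have h1 := fun s => h.cj_of_mem (s := s)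
  cases h with | mk h =>
  obtain ⟨y, hy, s, hs, rfl⟩ := h.exists_cj hn hn'
  exact ⟨y, hy, by rw [← Pt.cj_cj, h1 s hs, Pt.cj_cj]⟩

theorem of_ne (h : Pr M V D p p') {n : G} (hn : n ∈ M) (hn' : n ∉ p.S) : Pr M V D p (p.cj n) := by
  obtain ⟨y, hy, e⟩ := h.other' hn hn'
  have h1 : D = p.U ⊓ (p.cj n).U := by
    rw [e, ← cj_of_mem_normalizer (h.MN_D (h.S_le_M (h.Y_le_S hy))), h.D_eq, cj_inf,
      cj_of_mem_normalizer (h.HN_U (h.Y_le_H hy))]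
    rfl
  cases h with | mk h => exact of (h.change hn hn') rfl rfl h1

theorem symm (h : Pr M V D p p') : Pr M V D p' p := by
  obtain ⟨m, hm, hm', rfl⟩ := h.exists_cj
  have h1 := (h.cj hm).of_ne (inv_mem hm) fun e => hm' (by
    have h2 : m⁻¹ * m⁻¹ * m ∈ p.S := mem_cj.1 e
    rwa [inv_mul_cancel_right, inv_mem_iff] at h2)
  rwa [Pt.cj_cj, inv_mul_cancel, Pt.cj_one] at h1

theorem cj_right (h : Pr M V D p p') {s : G} (hs : s ∈ p.S) : Pr M V D p (p'.cj s) := by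
  have h1 := h.cj (h.S_le_M hs)
  rwa [h.cj_of_mem hs] at h1

theorem inf_le_R (h : Pr M V D p p') : p.S ⊓ p'.S ≤ 𝐂[V] := by
  rw [← four_sup h.one.four h.Z_le h.symm.Z_le h.one.card_Z fun e => ?_, Amb.centralizer_sup,
    Amb.centralizer_zpowers, Amb.centralizer_zpowers]
  · exact inf_le_inf (h.S_le_H.trans h.H_le) (h.symm.S_le_H.trans h.symm.H_le)
  · exact ((mem_zp h.z_sq).1 (e (mem_zpowers _))).elim h.symm.one.z_ne h.z_ne'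

theorem other (h : Pr M V D p p') (h' : Pr M V D p p'') {y : G} (hy : y ∈ p.S) (hy' : y ∉ 𝐂[V]) :
    p'' = p' ∨ p'' = p'.cj y := by
  obtain ⟨n, hn, hn', rfl⟩ := h'.exists_cj
  obtain ⟨x, hx, e⟩ := h.other' hn hn'
  rw [e]
  by_cases hxR : x ∈ 𝐂[V]
  · exact Or.inl (h.symm.cj_of_mem (h.symm.R_le hxR))
  · have h1 := Amal.mul_mem_of_relIndex_two h.R_idx (inv_mem hy) (h.Y_le_S hx)
      (fun e => hy' (inv_mem_iff.1 e)) hxR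
    right
    conv_rhs => rw [← h.symm.cj_of_mem (h.symm.R_le h1), Pt.cj_cj, mul_inv_cancel_left]

/-- `U₀` does not depend on the second point -/
theorem U0_eq (h : Pr M V D p p') (h' : Pr M V D p p'') : p.U ⊓ p''.Y = p.U ⊓ p'.Y := by
  obtain ⟨y, hy, hy'⟩ := h.exists_y
  have hyY := h.P_le_Y hy
  rcases h.other h' (h.Y_le_S hyY) hy' with rfl | rfl
  · rfl
  have h1 : y ∈ 𝐍[p.U ⊓ p'.Y] := by
    refine mem_normalizer_of_cj_le (cj_le_iff_forall.2 fun u hu => ?_)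
    rw [show y * u * y⁻¹ = ⁅y, u⁆ * u by simp [commutatorElement_def]]
    have h2 := h.V_le_D (h.Z_le (h.YU hyY hu.1))
    exact mul_mem ⟨h.D_le h2, h.symm.U_le_Y (h.D_le' h2)⟩ hu
  rw [← cj_of_mem_normalizer h1, cj_inf, cj_of_mem_normalizer (h.HN_U (h.Y_le_H hyY))]
  rfl

theorem M_le (h : Pr M V D p p') {X : Subgroup G} (h1 : p.S ≤ X) (h2 : p'.S ≤ X) : M ≤ X := by
  rcases Amal.eq_or_eq_of_relIndex_prime (H := p.S ⊔ p'.S) (h.basic.1 ▸ Nat.prime_three)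
    le_sup_left (sup_le h.S_le_M h.symm.S_le_M) with e | e
  · obtain ⟨y, hy, hy'⟩ := h.symm.exists_y
    have h3 := h.symm.Y_le_S (h.symm.P_le_Y hy)
    exact absurd (h.inf_le_R ⟨e ▸ mem_sup_right h3, h3⟩) hy'
  · exact e ▸ sup_le h1 h2

theorem S_le (h : Pr M V D p p') {X : Subgroup G} (h1 : 𝐂[V] ≤ X) {y : G} (hy : y ∈ p.S)
    (hy' : y ∉ 𝐂[V]) (h2 : y ∈ X) : p.S ≤ X := fun s hs => by
  by_cases h3 : s ∈ 𝐂[V]
  · exact h1 h3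
  · simpa using mul_mem (h1 (div_mem_of_two h.R_idx hs hy h3 hy')) h2

end Pr

/-- the three points on the line `V` -/
structure Trp (M V D : Subgroup G) (p p' p'' : Pt G) : Prop where
  a : Pr M V D p p'
  b : Pr M V D p p''
  c : Pr M V D p' p''

variable {M V D : Subgroup G} {p p' p'' : Pt G}

theorem Pr.trp (h : Pr M V D p p') {y : G} (hy : y ∈ p.S) (hy' : y ∉ 𝐂[V]) :
    Trp M V D p p' (p'.cj y) :=
  ⟨h, h.cj_right hy, h.symm.of_ne (h.S_le_M hy) fun e => hy' (h.inf_le_R ⟨hy, e⟩)⟩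

theorem Pr.exists_trp (h : Pr M V D p p') : ∃ p'', Trp M V D p p' p'' := by
  obtain ⟨y, hy, hy'⟩ := h.exists_y
  exact ⟨_, h.trp (h.Y_le_S (h.P_le_Y hy)) hy'⟩

theorem Trp.swap (h : Trp M V D p p' p'') : Trp M V D p' p p'' := ⟨h.a.symm, h.c, h.b⟩

theorem Trp.swap' (h : Trp M V D p p' p'') : Trp M V D p p'' p' := ⟨h.b, h.a, h.c.symm⟩

theorem Trp.cj_eq (h : Trp M V D p p' p'') {y : G} (hy : y ∈ p.S) (hy' : y ∉ 𝐂[V]) :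
    p'.cj y = p'' := by
  rcases h.a.other h.b hy hy' with e | e
  · exact absurd (congrArg Pt.z e) h.c.z_ne'
  · exact e.symm

theorem Trp.other (h : Trp M V D p p' p'') {q : Pt G} (h' : Pr M V D p q) : q = p' ∨ q = p'' := by
  obtain ⟨y, hy, hy'⟩ := h.a.exists_y
  have hyS := h.a.Y_le_S (h.a.P_le_Y hy)
  exact h.cj_eq hyS hy' ▸ h.a.other h' hyS hy'

theorem Trp.cases (h : Trp M V D p p' p'') {n : G} (hn : n ∈ M) :
    p.cj n = p ∨ p.cj n = p' ∨ p.cj n = p'' := by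
  by_cases h1 : n ∈ p.S
  · exact Or.inl (h.a.cj_of_mem h1)
  · exact Or.inr (h.other (h.a.of_ne hn h1))

end Cfsg.Agent.NG
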