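import Mathlib
import Cfsg.Agent.NG.Tits3_a

set_option autoImplicit false
set_option linter.unusedSectionVars false

namespace Cfsg.Agent.NG

open Subgroup Cfsg.Agent.PLocal Cfsg.Agent.PLocal.Amb Cfsg.Agent.PLocal.CP Cfsg.Agent.PLocal.JC
open scoped commutatorElement

variable {G : Type*} [Group G] [Finite G]

open TT

section
variable {M V D : Subgroup G} {p p' p'' : Pt G}

namespace Pr

theorem D_le_U0 (h : Pr M V D p p') : D ≤ p.U ⊓ p'.Y :=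
  le_inf h.D_le (h.D_le'.trans h.symm.U_le_Y)

theorem D_idx (h : Pr M V D p p') : D.relIndex (p.U ⊓ p'.Y) = 2 :=
  relIndex_of_card h.D_le_U0 h.card_D h.card_U0

theorem V_idx (h : Pr M V D p p') : V.relIndex D = 2 :=
  relIndex_of_card h.V_le_D h.one.four h.card_D

theorem U0_idx (h : Pr M V D p p') : p'.Y.relIndex p.U = 2 := by
  rw [← inf_relIndex_left]
  exact relIndex_of_card inf_le_left h.card_U0 h.card_U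

theorem exists_a (h : Pr M V D p p') : ∃ a ∈ p.U, a ∉ p'.Y :=
  SetLike.not_le_iff_exists.1 fun e => by
    have := h.U0_idx
    rw [relIndex_eq_one.2 e] at this
    omega

theorem exists_u (h : Pr M V D p p') : ∃ u ∈ p.U ⊓ p'.Y, u ∉ D :=
  SetLike.not_le_iff_exists.1 fun e => by
    have := h.D_idx
    rw [relIndex_eq_one.2 e] at this
    omega

theorem U'_le_S (h : Pr M V D p p') : p'.U ≤ p.S := h.symm.U_le_R.trans h.R_le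

theorem U'_le_H (h : Pr M V D p p') : p'.U ≤ p.H := h.U'_le_S.trans h.S_le_H

theorem U_le_CD (h : Pr M V D p p') : p.U ≤ 𝐂[D] := h.U_le_C.trans h.C_le_CD

theorem C_idx (h : Pr M V D p p') {k : G} (hk : k ∈ 𝐂[p.U]) (hk' : k ∉ p.U) :
    p.U.relIndex 𝐂[p.U] = 2 := by
  have h1 := h.theta.2
  have h2 : p.U.relIndex 𝐂[p.U] ≠ 0 := FiniteIndex.index_ne_zero
  have h3 : p.U.relIndex 𝐂[p.U] ≠ 1 := fun e => hk' (relIndex_eq_one.1 e hk)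
  omega

theorem C_comm (h : Pr M V D p p') {g k : G} (hg : g ∈ p.H) (hk : k ∈ 𝐂[p.U]) : ⁅g, k⁆ ∈ p.U := by
  by_cases hk' : k ∈ p.U
  · exact comm_mem_right (h.HN_U hg) hk'
  · exact div_mem_of_two (h.C_idx hk hk') (cm (h.HN_C hg) hk) hk
      (fun e => hk' ((cm_iff (h.HN_U hg)).1 e)) hk'

theorem C_sq (h : Pr M V D p p') {k : G} (hk : k ∈ 𝐂[p.U]) : k * k ∈ zpowers p.z := by
  by_cases hk' : k ∈ p.U
  · rw [h.U_sq hk']; exact one_mem _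
  rw [← h.basic.2.2.2.2.2.2.1]
  refine ⟨Amal.mul_mem_of_relIndex_two (h.C_idx hk hk') hk hk hk' hk', fun y hy => ?_⟩
  have h1 := h.C_comm (h.Y_le_H hy) hk
  have h2 : y * k = ⁅y, k⁆ * k * y := by simp [commutatorElement_def]
  have h3 := hk _ h1
  have h4 := h.U_sq h1
  generalize ⁅y, k⁆ = u at h2 h3 h4
  calc y * (k * k) = u * k * (y * k) := by rw [← mul_assoc, h2, mul_assoc _ y, h2]
    _ = u * (k * u) * k * y := by rw [h2]; group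
    _ = u * u * (k * k * y) := by rw [← h3]; group
    _ = k * k * y := by rw [h4, one_mul]

theorem mem_Y (h : Pr M V D p p') {y : G} (hy : y ∈ p.Y) :
    ∃ q ∈ p.P, ∃ k ∈ 𝐂[p.U], y = q * k :=
  (mem_sup_of_le_normalizer_right ((h.P_le_Y.trans h.Y_le_H).trans h.HN_C)).1 (h.P_sup.ge hy)

theorem mem_UC (h : Pr M V D p p') {t : G} :
    t ∈ (p'.U ⊓ p.Y) ⊔ 𝐂[p.U] ↔ ∃ u ∈ p'.U ⊓ p.Y, ∃ k ∈ 𝐂[p.U], t = u * k :=
  mem_sup_of_le_normalizer_right ((inf_le_right.trans h.Y_le_H).trans h.HN_C)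

theorem YN (h : Pr M V D p p') {X : Subgroup G} (h1 : 𝐂[p.U] ≤ X) (h2 : X ≤ p.Y) : p.Y ≤ 𝐍[X] :=
  le_normalizer_iff_cj.2 fun y hy => cj_le_iff_forall.2 fun u hu => by
    rw [show y * u * y⁻¹ = ⁅y, u⁆ * u by simp [commutatorElement_def]]
    exact mul_mem (h1 (h.Y_comm hy (h2 hu))) hu

theorem UC_le (h : Pr M V D p p') : (p'.U ⊓ p.Y) ⊔ 𝐂[p.U] ≤ p.Y := sup_le inf_le_right h.C_le_Y

theorem UC_idx (h : Pr M V D p p') : ((p'.U ⊓ p.Y) ⊔ 𝐂[p.U]).relIndex (p.Y ⊓ 𝐂[D]) = 2 := by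
  have h1 := relIndex_mul_relIndex 𝐂[p.U] ((p'.U ⊓ p.Y) ⊔ 𝐂[p.U]) (p.Y ⊓ 𝐂[D]) le_sup_right
    (le_inf h.UC_le (sup_le (inf_le_left.trans h.symm.U_le_CD) h.C_le_CD))
  rw [relIndex_sup_of_le_normalizer ((inf_le_right.trans h.Y_le_H).trans h.HN_C), h.cent.2.2.1,
    h.cent.2.1] at h1
  omega

end Pr

theorem Trp.not_mem (h : Trp M V D p p' p'') {a : G} (ha : a ∈ p.U) (ha' : a ∉ p'.Y) :
    a ∉ p''.Y := fun e => ha' ((h.a.U0_eq h.b).le ⟨ha, e⟩).2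

theorem Trp.E1 (h : Trp M V D p p' p'') {b c : G} (hb : b ∈ p'.U) (hb' : b ∉ p.Y) (hc : c ∈ p''.U)
    (hc' : c ∉ p.Y) : b * c ∈ p.P ∧ b * c ∉ (p'.U ⊓ p.Y) ⊔ 𝐂[p.U] := by
  obtain ⟨y, hy, hy'⟩ := h.a.exists_y
  have hyY := h.a.P_le_Y hy
  obtain rfl := h.cj_eq (h.a.Y_le_S hyY) hy'
  have h1 : y⁻¹ * c * y ∈ p'.U := mem_cj.1 hc
  have h2 : b * (y⁻¹ * c * y) ∈ p'.U ⊓ p.Y := ⟨mul_mem hb h1,
    Amal.mul_mem_of_relIndex_two h.a.symm.U0_idx hb h1 hb' fun e => hc' (by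
      simpa [mul_assoc] using mul_mem (mul_mem hyY e) (inv_mem hyY))⟩
  have h3 : b * c = ⁅y, b⁆⁻¹ * (y * (b * (y⁻¹ * c * y)) * y⁻¹) := by
    rw [commutatorElement_inv, commutatorElement_def]; group
  rw [h3]
  refine ⟨mul_mem (inv_mem (comm_mem_left (h.a.HN_P (h.a.U'_le_H hb)) hy))
    (cm (le_normalizer hy) (h.a.U0_le_P h2)), fun e => ?_⟩
  rw [mul_mem_cancel_right (cm (h.a.YN le_sup_right h.a.UC_le hyY) (mem_sup_left h2)),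
    inv_mem_iff] at e
  exact ((h.a.act hb hb').2.2.2.2.2.2 y hyY hy').2 e

theorem Pr.exists_e (h : Pr M V D p p') : ∃ e ∈ p.P ⊓ p'.P, e ∈ 𝐂[D] ∧
    e ∉ (p'.U ⊓ p.Y) ⊔ 𝐂[p.U] ∧ e ∉ (p.U ⊓ p'.Y) ⊔ 𝐂[p'.U] ∧ e * e ∈ D ∧ e * e ∉ V := by
  obtain ⟨p'', t⟩ := h.exists_trp
  obtain ⟨a, ha, ha'⟩ := h.exists_a
  obtain ⟨b, hb, hb'⟩ := h.symm.exists_a
  obtain ⟨c, hc, hc'⟩ := t.b.symm.exists_a
  have hc'' := t.swap'.swap.not_mem hc hc'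
  have h1 := t.E1 hb hb' hc hc'
  have h2 := t.swap.E1 ha ha' hc hc''
  have hba := (h.symm.act ha ha').2.2.1 b hb hb'
  have hca := (t.b.symm.act ha (t.not_mem ha ha')).2.2.1 c hc hc'
  have hcb := (t.c.symm.act hb (t.swap.not_mem hb hb')).2.2.1 c hc hc''
  have h3 : a * (b * c) = ⁅b, a⁆⁻¹ * b * (a * c) := by
    rw [commutatorElement_inv, commutatorElement_def]; group
  have h4 : ⁅b, a⁆⁻¹ * b ∈ p'.U := mul_mem (inv_mem (h.D_le' hba.1)) hb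
  have haC := h.U_le_CD ha
  have hbC := h.symm.U_le_CD hb
  have hcC := t.b.symm.U_le_CD hc
  have h5 : a * (b * c) * (a * (b * c)) = ⁅b, a⁆ * ⁅c, a⁆ * ⁅c, b⁆ := by
    have e1 : b * a = ⁅b, a⁆ * (a * b) := by simp [commutatorElement_def]
    have e2 : c * a = ⁅c, a⁆ * (a * c) := by simp [commutatorElement_def]
    have e3 : c * b = ⁅c, b⁆ * (b * c) := by simp [commutatorElement_def]
    have e4 := (mul_mem haC hbC) _ hca.1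
    have e5 := haC _ hba.1
    have e6 := hbC _ hcb.1
    have e7 := (h.U_le_CD (h.D_le hba.1)) _ hca.1
    generalize ⁅b, a⁆ = x at *
    generalize ⁅c, a⁆ = y at *
    generalize ⁅c, b⁆ = w at *
    calc a * (b * c) * (a * (b * c)) = a * b * (c * a) * b * c := by group
      _ = (a * b * y) * a * (c * b) * c := by rw [e2]; group
      _ = y * a * (b * a) * w * b * (c * c) := by rw [← e4, e3]; group
      _ = y * (a * x) * a * (b * w) * b := by rw [e1, t.b.symm.U_sq hc]; group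
      _ = (y * x) * (a * a) * w * (b * b) := by rw [← e5, ← e6]; group
      _ = x * y * w := by rw [e7, h.U_sq ha, h.symm.U_sq hb]; group
  refine ⟨a * (b * c), ⟨mul_mem (h.U_le_P ha) h1.1, h3 ▸ mul_mem (h.symm.U_le_P h4) h2.1⟩,
    mul_mem haC (mul_mem hbC hcC), fun e => h1.2 ?_, fun e => h2.2 ?_, ?_, fun e => hcb.2 ?_⟩
  · exact (mul_mem_cancel_left (mem_sup_right (h.U_le_C ha))).1 e
  · rw [h3] at e
    exact (mul_mem_cancel_left (mem_sup_right (h.symm.U_le_C h4))).1 e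
  · rw [h5]; exact mul_mem (mul_mem hba.1 hca.1) hcb.1
  · rw [h5] at e
    exact (mul_mem_cancel_left
      (Amal.mul_mem_of_relIndex_two h.V_idx hba.1 hca.1 hba.2 hca.2)).1 e

namespace Pr

theorem sq_mul (h : Pr M V D p p') {k t : G} (hk : k ∈ 𝐂[p.U]) (ht : t ∈ p.H) (h2 : t * t ∈ p.U) :
    k * t * (k * t) ∈ p.U := by
  rw [show k * t * (k * t) = k * ⁅t, k⁆ * k⁻¹ * (k * k) * (t * t) by
    rw [commutatorElement_def]; group]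
  exact mul_mem (mul_mem (cm (h.HN_U (h.Y_le_H (h.C_le_Y hk))) (h.C_comm ht hk))
    (h.V_le_U (h.Z_le (h.C_sq hk)))) h2

theorem Y_sq (h : Pr M V D p p') {y : G} (hy : y ∈ p.Y) : y * y ∈ p.U := by
  obtain ⟨g, hg, h1⟩ := h.orbQ.1 y hy
  have h2 := cm (h.HN_Y hg) hy
  rw [← cm_iff (h.HN_U hg), show g * (y * y) * g⁻¹ = g * y * g⁻¹ * (g * y * g⁻¹) by group]
  generalize g * y * g⁻¹ = t at h1 h2
  by_cases h3 : t ∈ (p'.U ⊓ p.Y) ⊔ 𝐂[p.U]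
  · obtain ⟨u, hu, k, hk, rfl⟩ := h.mem_UC.1 h3
    have h4 := h.U'_le_H hu.1
    rw [show u * k = u * k * u⁻¹ * u by group]
    exact h.sq_mul (cm (h.HN_C h4) hk) h4 (h.symm.U_sq hu.1 ▸ one_mem _)
  · obtain ⟨e, he, h4, h5, -, h6, -⟩ := h.exists_e
    have heY := h.P_le_Y he.1
    obtain ⟨s, hs, h7⟩ := h.orbQ.2.1 t ⟨h2, h1⟩ h3 e ⟨heY, h4⟩ h5
    have h8 := h.sq_mul h7 (h.Y_le_H heY) (h.D_le h6)
    rwa [inv_mul_cancel_right, show s * t * s⁻¹ * (s * t * s⁻¹) = s * (t * t) * s⁻¹ by group,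
      cm_iff (h.HN_U (h.S_le_H hs))] at h8

theorem Y_comm' (h : Pr M V D p p') {a b : G} (ha : a ∈ p.Y) (hb : b ∈ p.Y) : ⁅a, b⁆ ∈ p.U := by
  rw [show ⁅a, b⁆ = a * a * (a⁻¹ * b * (a⁻¹ * b)) * (b * b)⁻¹ by
    rw [commutatorElement_def]; group]
  exact mul_mem (mul_mem (h.Y_sq ha) (h.Y_sq (mul_mem (inv_mem ha) hb))) (inv_mem (h.Y_sq hb))

theorem fpf (h : Pr M V D p p') : ∃ x ∈ p.H, orderOf x = 5 ∧ (∀ k ∈ 𝐂[p.U], ⁅k, x⁆ ∈ p.U) ∧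
    ∀ y ∈ p.P, ⁅y, x⁆ ∈ p.U → y ∈ p.U := by
  obtain ⟨x, hx, h1, h2, h3, -⟩ := h.five
  have hm : Mod (zpowers x) p.Y p.U := ⟨h.U_le_Y, zpowers_le.2 (h.HN_Y hx),
    zpowers_le.2 (h.HN_U hx), commutator_le.2 fun a ha b hb => h.Y_comm' ha hb,
    fun u hu => h.Y_sq hu, Solv.isSolvable_of_isMulCommutative _, fun E hE _ h4 d hd =>
      h4 (Amb.mem_pRes hd (Nat.Coprime.of_dvd_left (h1 ▸ orderOf_dvd_of_mem_zpowers (hE hd))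
        (by norm_num)))⟩
  refine ⟨x, hx, h1, h3, fun y hy h4 => (hm.coprime le_rfl ?_).2.le
    ⟨mem_sup_left (h2 ▸ hy), (hm.mem_fx_zpowers (mem_zpowers x)).2 ⟨h.P_le_Y hy, h4⟩⟩⟩
  refine Odd.of_dvd_nat (by decide : Odd 5) ?_
  rw [← h1, ← Nat.card_zpowers]
  exact index_dvd_card _

theorem PC (h : Pr M V D p p') : p.P ⊓ 𝐂[p.U] = p.U := by
  obtain ⟨x, -, -, h1, h2⟩ := h.fpf
  exact le_antisymm (fun k hk => h2 k hk.1 (h1 k hk.2)) (le_inf h.U_le_P h.U_le_C)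

theorem card_P (h : Pr M V D p p') : Nat.card p.P = 512 := by
  have h1 := Grp.card_inf_mul_relIndex' 𝐂[p.U] p.P
  rw [inf_comm, h.PC, h.card_U,
    ← relIndex_sup_of_le_normalizer ((h.P_le_Y.trans h.Y_le_H).trans h.HN_C), h.P_sup,
    h.basic.2.2.2.2.2.2.2.1] at h1
  exact h1.symm

/-! ### `W₀` -/

theorem RN_U0 (h : Pr M V D p p') : 𝐂[V] ≤ 𝐍[p.U ⊓ p'.Y] :=
  Amb.le_normalizer_inf ((h.R_le.trans h.S_le_H).trans h.HN_U)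
    ((h.symm.R_le.trans h.symm.S_le_H).trans h.symm.HN_Y)

theorem SN_U0 (h : Pr M V D p p') : p.S ≤ 𝐍[p.U ⊓ p'.Y] := fun s hs => by
  rw [← cj_eq_iff, cj_inf, cj_of_mem_normalizer (h.HN_U (h.S_le_H hs))]
  exact h.U0_eq (h.cj_right hs)

theorem SN_W0 (h : Pr M V D p p') : p.S ≤ 𝐍[(p.U ⊓ p'.Y) ⊔ (p'.U ⊓ p.Y)] := by
  obtain ⟨y, hy, hy'⟩ := h.exists_y
  have hyY := h.P_le_Y hy
  have hyS := h.Y_le_S hyY
  refine h.S_le (Amb.le_normalizer_sup h.RN_U0 h.symm.RN_U0) hyS hy'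
    (mem_normalizer_of_cj_le ?_)
  rw [cj_sup, cj_of_mem_normalizer (h.SN_U0 hyS)]
  refine sup_le le_sup_left (cj_le_iff_forall.2 fun u hu => ?_)
  have h1 : y * u * y⁻¹ ∈ p'.Y := by
    have t := h.trp hyS hy'
    exact ((t.b.symm.U0_eq t.c.symm).ge ⟨conj_mem_cj y hu.1, cm (le_normalizer hyY) hu.2⟩).2
  rw [show y * u * y⁻¹ = ⁅y, u⁆ * u by simp [commutatorElement_def]]
  exact mul_mem_sup ⟨h.Y_comm' hyY hu.2, p'.Y.mul_mem h1 (p'.Y.inv_mem (h.symm.U_le_Y hu.1))⟩ hu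

theorem MN_W0 (h : Pr M V D p p') : M ≤ 𝐍[(p.U ⊓ p'.Y) ⊔ (p'.U ⊓ p.Y)] :=
  h.M_le h.SN_W0 (sup_comm (p'.U ⊓ p.Y) _ ▸ h.symm.SN_W0)

theorem W0_ea (h : Pr M V D p p') : IsElementaryAbelian 2 ((p.U ⊓ p'.Y) ⊔ (p'.U ⊓ p.Y)) :=
  isEA_sup (isEA_mono h.U_ea inf_le_left) (isEA_mono h.symm.U_ea inf_le_left) h.U0_comm

theorem mem_W0 (h : Pr M V D p p') {w : G} : w ∈ (p.U ⊓ p'.Y) ⊔ (p'.U ⊓ p.Y) ↔
    ∃ u ∈ p.U ⊓ p'.Y, ∃ u' ∈ p'.U ⊓ p.Y, w = u * u' :=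
  mem_sup_of_le_normalizer_right (h.U0_comm.trans (centralizer_le_normalizer' _))

theorem W0_le (h : Pr M V D p p') : (p.U ⊓ p'.Y) ⊔ (p'.U ⊓ p.Y) ≤ p.P ⊓ p'.P :=
  sup_le (le_inf (inf_le_left.trans h.U_le_P) h.symm.U0_le_P)
    (le_inf h.U0_le_P (inf_le_left.trans h.symm.U_le_P))

theorem card_W0 (h : Pr M V D p p') : Nat.card ↥((p.U ⊓ p'.Y) ⊔ (p'.U ⊓ p.Y)) = 32 := by
  have h1 := Grp.card_sup_mul_card_inf_of_le_normalizer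
    (h.U0_comm.trans (centralizer_le_normalizer' _))
  rw [show p.U ⊓ p'.Y ⊓ (p'.U ⊓ p.Y) = D from le_antisymm
    (h.D_eq ▸ inf_le_inf inf_le_left inf_le_left) (le_inf h.D_le_U0 h.symm.D_le_U0), h.card_D,
    h.card_U0, h.symm.card_U0] at h1
  omega

end Pr

theorem Trp.U0_le (h : Trp M V D p p' p'') : p''.U ⊓ p.Y ≤ (p.U ⊓ p'.Y) ⊔ (p'.U ⊓ p.Y) := by
  obtain ⟨y, hy, hy'⟩ := h.a.exists_y
  have hyY := h.a.P_le_Y hy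
  obtain rfl := h.cj_eq (h.a.Y_le_S hyY) hy'
  rw [← cj_of_mem_normalizer (h.a.SN_W0 (h.a.Y_le_S hyY))]
  refine le_trans ?_ (cj_mono y le_sup_right)
  rw [cj_inf, Amb.cj_of_mem hyY]
  rfl

theorem Trp.W0_cases (h : Trp M V D p p' p'') {w : G} (hw : w ∈ (p.U ⊓ p'.Y) ⊔ (p'.U ⊓ p.Y)) :
    w ∈ p.U ∨ w ∈ p'.U ∨ w ∈ p''.U := by
  obtain ⟨u, hu, u', hu', rfl⟩ := h.a.mem_W0.1 hw
  by_cases h1 : u' ∈ D
  · exact Or.inl (mul_mem hu.1 (h.a.D_le h1))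
  by_cases h2 : u ∈ D
  · exact Or.inr (Or.inl (mul_mem (h.a.D_le' h2) hu'.1))
  obtain ⟨c, hc, hc'⟩ := h.b.symm.exists_u
  obtain ⟨v, hv, v', hv', rfl⟩ := h.a.mem_W0.1 (h.U0_le hc)
  have h3 : v ∉ D := fun e => hc' (h.c.D_eq ▸ ⟨mul_mem (h.a.D_le' e) hv'.1, hc.1⟩)
  have h4 : v' ∉ D := fun e => hc' (h.b.D_eq ▸ ⟨mul_mem hv.1 (h.a.D_le e), hc.1⟩)
  have h5 := h.b.D_le' (div_mem_of_two h.a.D_idx hu hv h2 h3)
  have h6 := h.b.D_le' (Amal.mul_mem_of_relIndex_two h.a.symm.D_idx (inv_mem hv') hu'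
    (fun e => h4 (inv_mem_iff.1 e)) h1)
  refine Or.inr (Or.inr ?_)
  simpa [mul_assoc] using mul_mem (mul_mem h5 hc.1) h6

theorem Pr.W0_cover (h : Pr M V D p p') {w : G} (hw : w ∈ (p.U ⊓ p'.Y) ⊔ (p'.U ⊓ p.Y)) :
    ∃ n ∈ M, w ∈ cj(n, p.U) := by
  obtain ⟨p'', t⟩ := h.exists_trp
  rcases t.W0_cases hw with h1 | h1 | h1
  · exact ⟨1, one_mem _, by rwa [Amb.cj_one]⟩
  · obtain ⟨n, hn, -, rfl⟩ := h.exists_cj
    exact ⟨n, hn, h1⟩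
  · obtain ⟨n, hn, -, rfl⟩ := t.b.exists_cj
    exact ⟨n, hn, h1⟩

theorem Pr.cent_W0 (h : Pr M V D p p') : p.H ⊓ 𝐂[(p.U ⊓ p'.Y) ⊔ (p'.U ⊓ p.Y)] =
    (p.U ⊓ p'.Y) ⊔ (p'.U ⊓ p.Y) := by
  refine le_antisymm (fun g hg => ?_) (le_inf (h.W0_le.trans
    (inf_le_left.trans (h.P_le_Y.trans h.Y_le_H))) (isEA_le_centralizer h.W0_ea))
  have h1 : g ∈ 𝐂[p.U ⊓ p'.Y] := centralizer_anti le_sup_left hg.2
  have h2 : g ∈ 𝐂[p'.U ⊓ p.Y] := centralizer_anti le_sup_right hg.2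
  have hgS := h.R_le (centralizer_anti (h.V_le_D.trans h.D_le_U0) h1)
  obtain ⟨u, hu, hu'⟩ := h.exists_u
  have h3 : ⁅u, g⁆ = 1 := commutatorElement_eq_one_iff_mul_comm.2 (h1 u hu)
  have hgY : g ∈ p.Y := by
    by_cases h4 : g * g ∈ p.Y
    · obtain ⟨a, ha, ha'⟩ := h.symm.exists_a
      refine ((h.act ha ha').2.2.2.1 g hgS h4).resolve_right fun h5 => hu' ?_
      rw [← (h.act ha ha').1, h.mem_fx (h.U'_le_H ha)]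
      refine ⟨hu.1, ?_⟩
      have h6 := h.YU h5 hu.1
      have h7 : ⁅u, a⁆ = (g * a⁻¹)⁻¹ * ⁅g * a⁻¹, u⁆ * (g * a⁻¹) := by
        have h8 := h1 u hu
        calc ⁅u, a⁆ = u * a * g⁻¹ * (g * u⁻¹) * a⁻¹ := by rw [commutatorElement_def]; group
          _ = u * a * g⁻¹ * (u⁻¹ * g) * a⁻¹ := by
            rw [h1 _ (inv_mem hu)]
          _ = _ := by rw [commutatorElement_def]; group
      rw [h7]
      exact cm' ((Amb.centralizer_zpowers p.z ▸ centralizer_le_normalizer' _)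
        (h.H_le (h.Y_le_H h5))) h6
    · exact absurd (h.V_le_D ((h.gen hgS h4).1 ▸ (h.mem_fx hg.1).2 ⟨hu.1, h3 ▸ one_mem _⟩)) hu'
  obtain ⟨v, hv, k, hk, rfl⟩ := h.mem_UC.1 (h.cent.1.le ⟨hgY, h1⟩)
  have h4 : k ∈ 𝐂[p'.U ⊓ p.Y] :=
    (mul_mem_cancel_left (centralizer_anti inf_le_left (h.symm.U_le_C hv.1))).1 h2
  refine mul_mem (mem_sup_right hv) (mem_sup_left (h.cent.2.2.2.2.1.le ⟨?_, h4⟩))
  by_contra h5
  obtain ⟨w, hw, hw'⟩ := h.symm.exists_u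
  refine h.theta.1 k hk h5 w (h.U0_le_P hw) (fun e => hw' (h.cent.2.2.2.1.le ⟨hw.1, e⟩)) ?_
  rw [commutatorElement_eq_one_iff_mul_comm.2 (h4 w hw)]
  exact one_mem _

/-! ### `W` -/

theorem Trp.W_eq (h : Trp M V D p p' p'') : ncl p.U M = p.U ⊔ p'.U ⊔ p''.U := by
  refine le_antisymm (ncl_le_iff.2 fun n hn => ?_) (sup_le (sup_le (le_ncl _ _) ?_) ?_)
  · change (p.cj n).U ≤ _
    rcases h.cases hn with e | e | e <;> rw [e]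
    exacts [le_sup_of_le_left le_sup_left, le_sup_of_le_left le_sup_right, le_sup_right]
  · obtain ⟨n, hn, -, rfl⟩ := h.a.exists_cj
    exact cj_le_ncl _ hn
  · obtain ⟨n, hn, -, rfl⟩ := h.b.exists_cj
    exact cj_le_ncl _ hn

theorem Pr.UN (h : Pr M V D p p') : p.U ≤ 𝐍[p'.U] := h.symm.U'_le_H.trans h.symm.HN_U

theorem Pr.W_le (h : Pr M V D p p') : ncl p.U M ≤ 𝐂[D] :=
  ncl_le h.U_le_CD (Amb.le_normalizer_centralizer h.MN_D)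

theorem Pr.card_W (h : Pr M V D p p') : Nat.card (ncl p.U M) = 256 := by
  obtain ⟨p'', t⟩ := h.exists_trp
  have h1 := Grp.card_sup_mul_card_inf_of_le_normalizer h.UN
  rw [← h.D_eq, h.card_D, h.card_U, h.symm.card_U] at h1
  have h2 := Grp.card_sup_mul_card_inf_of_le_normalizer (sup_le t.b.UN t.c.UN)
  have h3 : (p.U ⊔ p'.U) ⊓ p''.U = p''.U ⊓ p.Y := by
    refine le_antisymm (fun c hc => ⟨hc.2, ?_⟩)
      (le_inf (t.U0_le.trans (sup_le_sup inf_le_left inf_le_left)) inf_le_left)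
    by_contra h4
    obtain ⟨a, ha, b, hb, rfl⟩ := (mem_sup_of_le_normalizer_right h.UN).1 hc.1
    have h5 := t.swap'.swap.not_mem hc.2 h4
    refine ((h.act hb fun e => h4 (mul_mem (h.U_le_Y ha) e)).2.2.1 a ha fun e =>
      h5 (mul_mem e (h.symm.U_le_Y hb))).2 ?_
    rw [commutatorElement_def, h.U_inv ha, h.symm.U_inv hb, mul_assoc (a * b),
      t.b.symm.U_sq hc.2]
    exact one_mem _
  rw [h3, t.b.symm.card_U0, t.b.symm.card_U, ← t.W_eq] at h2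
  omega

theorem Pr.center_W (h : Pr M V D p p') : ncl p.U M ⊓ 𝐂[ncl p.U M] = D := by
  refine le_antisymm (fun w hw => ?_)
    (le_inf (h.D_le.trans (le_ncl _ _)) (le_centralizer_iff.1 h.W_le))
  obtain ⟨p'', t⟩ := h.exists_trp
  rw [t.W_eq, Amb.centralizer_sup, Amb.centralizer_sup] at hw
  obtain ⟨hw, ⟨h1, h2⟩, h3⟩ := hw
  obtain ⟨x, hx, c, hc, rfl⟩ := (mem_sup_of_le_normalizer_right (sup_le t.b.UN t.c.UN)).1 hw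
  obtain ⟨a, ha, b, hb, rfl⟩ := (mem_sup_of_le_normalizer_right h.UN).1 hx
  have h4 : b * c ∈ 𝐂[p.U] := by
    rw [← mul_mem_cancel_left (h.U_le_C ha), ← mul_assoc]; exact h1
  have hbY : b ∈ p.Y := by
    by_contra h5
    exact (t.E1 hb h5 hc fun e => h5 ((mul_mem_cancel_right e).1 (h.C_le_Y h4))).2
      (mem_sup_right h4)
  have hcY : c ∈ p.Y := (mul_mem_cancel_left hbY).1 (h.C_le_Y h4)
  have hcY' : c ∈ p'.Y := ((t.b.symm.U0_eq t.c.symm).ge ⟨hc, hcY⟩).2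
  have haY : a ∈ p'.Y := (mul_mem_cancel_right (h.symm.U_le_Y hb)).1
    ((mul_mem_cancel_right hcY').1 (h.symm.C_le_Y h2))
  rcases t.W0_cases (mul_mem (mul_mem_sup ⟨ha, haY⟩ ⟨hb, hbY⟩) (t.U0_le ⟨hc, hcY⟩)) with e | e | e
  · exact h.symm.cent.2.2.2.1.le ⟨e, h2⟩
  · exact h.cent.2.2.2.1.le ⟨e, h1⟩
  · exact t.b.cent.2.2.2.1.le ⟨e, h1⟩

/-! ### `S₀` -/

namespace Pr

theorem card_PR (h : Pr M V D p p') : Nat.card ↥(p.P ⊓ 𝐂[V]) = 256 := by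
  obtain ⟨y, hy, hy'⟩ := h.exists_y
  have h1 := Grp.card_inf_mul_relIndex' 𝐂[V] p.P
  have h2 := Amal.relIndex_le_two h.R_idx (h.P_le_Y.trans h.Y_le_S)
  have h3 : (𝐂[V]).relIndex p.P ≠ 0 := FiniteIndex.index_ne_zero
  have h4 : (𝐂[V]).relIndex p.P ≠ 1 := fun e => hy' (relIndex_eq_one.1 e hy)
  rw [show (𝐂[V]).relIndex p.P = 2 by omega, h.card_P, inf_comm] at h1
  omega

theorem card_PY (h : Pr M V D p p') : Nat.card ↥(p.P ⊓ p'.Y) = 64 := by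
  obtain ⟨b, hb, hb'⟩ := h.basic.2.2.2.1
  have h1 := Grp.card_inf_mul_relIndex' p'.Y (p.P ⊓ 𝐂[V])
  have h2 : p.P ⊓ 𝐂[V] ≤ p'.S := inf_le_right.trans h.symm.R_le
  rw [← relIndex_sup_of_le_normalizer ((h2.trans h.symm.S_le_H).trans h.symm.HN_Y),
    show p.P ⊓ 𝐂[V] ⊔ p'.Y = p'.S from le_antisymm (sup_le h2 h.symm.Y_le_S)
      ((h.symm.gen (h2 hb) hb').2.le.trans (sup_le le_sup_right
        (le_sup_of_le_left (zpowers_le.2 hb)))), h.symm.basic.2.1, h.card_PR,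
    show p'.Y ⊓ (p.P ⊓ 𝐂[V]) = p.P ⊓ p'.Y from le_antisymm
      (le_inf (inf_le_right.trans inf_le_left) inf_le_left) (le_inf inf_le_right (le_inf inf_le_left
        ((inf_le_inf (h.P_le_Y.trans h.Y_le_S) h.symm.Y_le_S).trans h.inf_le_R)))] at h1
  omega

theorem PY_eq (h : Pr M V D p p') : p.P ⊓ p'.Y = p.P ⊓ p'.P := by
  have h1 : p.P ⊓ p'.P ≤ p.P ⊓ p'.Y := inf_le_inf_left _ h.symm.P_le_Y
  obtain ⟨e, he, -, h2, -⟩ := h.exists_e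
  rcases Amal.eq_or_eq_of_relIndex_prime (relIndex_of_card (k := 2) (h.W0_le.trans h1) h.card_W0
    h.card_PY ▸ Nat.prime_two) h.W0_le h1 with e1 | e1
  · refine absurd ?_ h2
    rw [sup_comm]
    exact sup_le_sup_right (inf_le_left.trans h.U_le_C) _ (e1 ▸ he)
  · exact e1.symm

theorem RN_P (h : Pr M V D p p') : 𝐂[V] ≤ 𝐍[p.P] := (h.R_le.trans h.S_le_H).trans h.HN_P

theorem card_S0 (h : Pr M V D p p') : Nat.card ↥(p.P ⊔ (p'.P ⊓ 𝐂[V])) = 2048 := by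
  have h1 := Grp.card_sup_mul_card_inf_of_le_normalizer (H := p'.P ⊓ 𝐂[V])
    (inf_le_right.trans h.RN_P)
  rw [show p'.P ⊓ 𝐂[V] ⊓ p.P = p.P ⊓ p'.Y from h.PY_eq ▸ le_antisymm
    (le_inf inf_le_right (inf_le_left.trans inf_le_left)) (le_inf (le_inf inf_le_right
      ((inf_le_inf (h.P_le_Y.trans h.Y_le_S) (h.symm.P_le_Y.trans h.symm.Y_le_S)).trans h.inf_le_R))
      inf_le_left), h.card_PY, h.symm.card_PR, h.card_P, sup_comm] at h1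
  omega

theorem S0_le (h : Pr M V D p p') : p.P ⊔ (p'.P ⊓ 𝐂[V]) ≤ p.S :=
  sup_le (h.P_le_Y.trans h.Y_le_S) (inf_le_right.trans h.R_le)

theorem S0_inf_Y (h : Pr M V D p p') : (p.P ⊔ (p'.P ⊓ 𝐂[V])) ⊓ p.Y = p.P := by
  rw [sup_inf_of_le_normalizer' h.P_le_Y (inf_le_right.trans h.RN_P), sup_eq_left]
  exact (inf_le_inf_right _ inf_le_left).trans (h.symm.PY_eq.le.trans inf_le_right)

theorem S0_inf_R (h : Pr M V D p p') :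
    (p.P ⊔ (p'.P ⊓ 𝐂[V])) ⊓ 𝐂[V] = (p'.P ⊓ 𝐂[V]) ⊔ (p.P ⊓ 𝐂[V]) := by
  rw [sup_comm, sup_inf_of_le_normalizer inf_le_right (inf_le_right.trans h.RN_P)]

theorem SN_I (h : Pr M V D p p') : p.S ≤ 𝐍[(p'.P ⊓ 𝐂[V]) ⊔ (p.P ⊓ 𝐂[V])] := by
  obtain ⟨y, hy, hy'⟩ := h.exists_y
  have hyS := h.Y_le_S (h.P_le_Y hy)
  have hyR := h.MN_R (h.S_le_M hyS)
  refine h.S_le (Amb.le_normalizer_sup (Amb.le_normalizer_inf h.symm.RN_P le_normalizer)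
    (Amb.le_normalizer_inf h.RN_P le_normalizer)) hyS hy' (mem_normalizer_of_cj_le ?_)
  rw [cj_sup]
  refine sup_le (cj_le_iff_forall.2 fun b hb => ?_) (le_sup_of_le_right
    (cj_le_iff_forall.2 fun b hb => ⟨cm (le_normalizer hy) hb.1, cm hyR hb.2⟩))
  rw [show y * b * y⁻¹ = ⁅y, b⁆ * b by simp [commutatorElement_def]]
  exact mul_mem (mem_sup_right ⟨comm_mem_left (h.RN_P hb.2) hy, comm_mem_right hyR hb.2⟩)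
    (mem_sup_left hb)

theorem MN_I (h : Pr M V D p p') : M ≤ 𝐍[(p.P ⊔ (p'.P ⊓ 𝐂[V])) ⊓ 𝐂[V]] := by
  rw [h.S0_inf_R]
  exact h.M_le h.SN_I (sup_comm (p.P ⊓ 𝐂[V]) _ ▸ h.symm.SN_I)

theorem W_le_S0 (h : Pr M V D p p') : ncl p.U M ≤ p.P ⊔ (p'.P ⊓ 𝐂[V]) :=
  (ncl_le (le_inf (h.U_le_P.trans le_sup_left) h.U_le_R) h.MN_I).trans inf_le_left

end Pr

end

variable {S M V H Y F : Subgroup G} {z m : G}

set_option quotPrecheck false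
/-- `U = ⟨V^H⟩` -/
local notation "𝑼" => ncl V H
local notation "𝒁" => zpowers z
local notation "𝑼'" => cj(m, ncl V H)
local notation "𝑫" => ncl V H ⊓ cj(m, ncl V H)
local notation "𝑸'" => cj(m, Y)
local notation "𝑪₁" => Y ⊓ 𝐂[ncl V H]
local notation "𝑸₁" => Y ⊓ 𝐎[2, H]

/-- `Q / U` is elementary abelian -/
theorem T5.QU (h : T5 S M V z H Y F m) : ⁅Y, Y⁆ ≤ 𝑼 ∧ (∀ y ∈ Y, y * y ∈ 𝑼) ∧
    𝑸₁ ⊓ 𝐂[𝑼] = 𝑼 ∧ Nat.card ↥(𝑸₁) = 512 :=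
  ⟨commutator_le.2 fun _ ha _ hb => (Pr.mk h).Y_comm' ha hb, fun _ hy => (Pr.mk h).Y_sq hy,
    (Pr.mk h).PC, (Pr.mk h).card_P⟩

/-- the element `e = a a' a''` -/
theorem T5.exists_e (h : T5 S M V z H Y F m) : ∃ e ∈ 𝑸₁ ⊓ cj(m, 𝑸₁), e ∈ 𝐂[𝑫] ∧
    e ∉ (𝑼' ⊓ Y) ⊔ 𝑪₁ ∧ e ∉ (𝑼 ⊓ 𝑸') ⊔ cj(m, 𝑪₁) ∧ e * e ∈ 𝑫 ∧ e * e ∉ V := by
  rw [h.C1, ← centralizer_cj]
  exact (Pr.mk h).exists_e

theorem T5.W0 (h : T5 S M V z H Y F m) : M ≤ 𝐍[(𝑼 ⊓ 𝑸') ⊔ (𝑼' ⊓ Y)] ∧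
    IsElementaryAbelian 2 ((𝑼 ⊓ 𝑸') ⊔ (𝑼' ⊓ Y)) ∧ Nat.card ↥((𝑼 ⊓ 𝑸') ⊔ (𝑼' ⊓ Y)) = 32 ∧
    (∀ w ∈ (𝑼 ⊓ 𝑸') ⊔ (𝑼' ⊓ Y), ∃ n ∈ M, w ∈ cj(n, 𝑼)) ∧
    H ⊓ 𝐂[(𝑼 ⊓ 𝑸') ⊔ (𝑼' ⊓ Y)] = (𝑼 ⊓ 𝑸') ⊔ (𝑼' ⊓ Y) :=
  ⟨(Pr.mk h).MN_W0, (Pr.mk h).W0_ea, (Pr.mk h).card_W0, fun _ hw => (Pr.mk h).W0_cover hw,
    (Pr.mk h).cent_W0⟩

/-- `W = U U' U''` -/
theorem T5.W (h : T5 S M V z H Y F m) : Nat.card (ncl 𝑼 M) = 256 ∧ ncl 𝑼 M ≤ 𝐂[𝑫] ∧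
    ncl 𝑼 M ⊓ 𝐂[ncl 𝑼 M] = 𝑫 ∧ ncl 𝑼 M ≤ 𝐂[V] :=
  ⟨(Pr.mk h).card_W, (Pr.mk h).W_le, (Pr.mk h).center_W, (Pr.mk h).W_le.trans (Pr.mk h).CD_le_R⟩

/-- the subgroup `S₀ = Q₁ (Q₁' ∩ R)` of order `2 ^ 11` -/
theorem T5.S0 (h : T5 S M V z H Y F m) : Nat.card ↥(𝑸₁ ⊔ (cj(m, 𝑸₁) ⊓ 𝐂[V])) = 2048 ∧
    𝑸₁ ⊔ (cj(m, 𝑸₁) ⊓ 𝐂[V]) ≤ S ∧ (𝑸₁ ⊔ (cj(m, 𝑸₁) ⊓ 𝐂[V])) ⊓ Y = 𝑸₁ ∧
    M ≤ 𝐍[(𝑸₁ ⊔ (cj(m, 𝑸₁) ⊓ 𝐂[V])) ⊓ 𝐂[V]] ∧ ncl 𝑼 M ≤ 𝑸₁ ⊔ (cj(m, 𝑸₁) ⊓ 𝐂[V]) :=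
  ⟨(Pr.mk h).card_S0, (Pr.mk h).S0_le, (Pr.mk h).S0_inf_Y, (Pr.mk h).MN_I, (Pr.mk h).W_le_S0⟩

end Cfsg.Agent.NG
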