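import Mathlib
import Cfsg.Agent.NG.Tits3

set_option autoImplicit false
set_option linter.unusedSectionVars false

namespace Cfsg.Agent.NG

open Subgroup Cfsg.Agent.PLocal Cfsg.Agent.PLocal.Amb Cfsg.Agent.PLocal.CP Cfsg.Agent.PLocal.JC
open scoped commutatorElement

variable {G : Type*} [Group G] [Finite G]

open TT

/-- the elements of `N(Z)` fixing the coset `r Z` -/
def TT.stabMod (Z : Subgroup G) (r : G) : Subgroup G where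
  carrier := {y | y ∈ 𝐍[Z] ∧ ⁅y, r⁆ ∈ Z}
  one_mem' := ⟨one_mem _, by simp⟩
  mul_mem' := by
    rintro x y ⟨h1, h2⟩ ⟨h3, h4⟩
    refine ⟨mul_mem h1 h3, ?_⟩
    rw [show ⁅x * y, r⁆ = x * ⁅y, r⁆ * x⁻¹ * ⁅x, r⁆ by simp only [commutatorElement_def]; group]
    exact mul_mem (cm h1 h4) h2
  inv_mem' := by
    rintro x ⟨h1, h2⟩
    refine ⟨inv_mem h1, ?_⟩
    rw [show ⁅x⁻¹, r⁆ = x⁻¹ * ⁅x, r⁆⁻¹ * x by simp only [commutatorElement_def]; group]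
    exact cm' h1 (inv_mem h2)

section
variable {M V D : Subgroup G} {p p' p'' : Pt G}

namespace Pr

theorem HN_Z (h : Pr M V D p p') : p.H ≤ 𝐍[zpowers p.z] :=
  h.H_le.trans (Amb.centralizer_zpowers p.z ▸ centralizer_le_normalizer' _)

theorem sqZ (h : Pr M V D p p') {k t : G} (hk : k ∈ p.U) (ht : t ∈ p.Y)
    (h2 : t * t ∈ zpowers p.z) : k * t * (k * t) ∈ zpowers p.z := by
  rw [show k * t * (k * t) = k * t * k⁻¹ * t⁻¹ * (t * t) by rw [h.U_inv hk]; group]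
  exact mul_mem (comm_symm (h.YU ht hk)) h2

theorem P_div (h : Pr M V D p p') {y y' : G} (hy : y ∈ p.Y) (hy' : y' ∈ p.Y) (h1 : y ∉ p.P)
    (h2 : y' ∉ p.P) : y * y'⁻¹ ∈ p.P := by
  obtain ⟨q, hq, k, hk, rfl⟩ := h.mem_Y hy
  obtain ⟨q', hq', k', hk', rfl⟩ := h.mem_Y hy'
  have h3 : k ∉ p.U := fun e => h1 (mul_mem hq (h.U_le_P e))
  have h4 := div_mem_of_two (h.C_idx hk h3) hk hk' h3 fun e => h2 (mul_mem hq' (h.U_le_P e))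
  rw [show q * k * (q' * k')⁻¹ = q * (k * k'⁻¹) * q'⁻¹ by group]
  exact mul_mem (mul_mem hq (h.U_le_P h4)) (inv_mem hq')

theorem not_mem_C (h : Pr M V D p p') {u : G} (hu : u ∈ p'.U) (hu' : u ∉ D) : u ∉ 𝐂[p.U] :=
  fun e => hu' (h.cent.2.2.2.1.le ⟨hu, e⟩)

theorem inv_P (h : Pr M V D p p') {t : G} (ht : t ∈ p.Y) (h2 : t * t = 1) :
    t ∈ p.P ∨ t ∈ 𝐂[p.U] := by
  have : Fact (Nat.Prime 2) := ⟨Nat.prime_two⟩
  by_contra hc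
  rw [not_or] at hc
  obtain ⟨k, hk, hkU⟩ : ∃ k ∈ 𝐂[p.U], k ∉ p.U := by
    obtain ⟨q, hq, k, hk, rfl⟩ := h.mem_Y ht
    exact ⟨k, hk, fun e => hc.1 (mul_mem hq (h.U_le_P e))⟩
  have hkP : k ∉ p.P := fun e => hkU (h.PC.le ⟨e, hk⟩)
  have hkY := h.C_le_Y hk
  obtain ⟨t, ht, htD, h2, h3, h4⟩ : ∃ t ∈ p.Y, t ∈ 𝐂[D] ∧ t * t = 1 ∧ t ∉ p.P ∧ t ∉ 𝐂[p.U] := by
    obtain ⟨g, hg, h1⟩ := h.orbQ.1 t ht
    exact ⟨_, cm (h.HN_Y hg) ht, h1, by rw [conj_mul, h2]; group,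
      fun e => hc.1 ((cm_iff (h.HN_P hg)).1 e), fun e => hc.2 ((cm_iff (h.HN_C hg)).1 e)⟩
  have h5 : t ∉ (p'.U ⊓ p.Y) ⊔ 𝐂[p.U] := fun e => by
    obtain ⟨u, hu, κ, hκ, rfl⟩ := h.mem_UC.1 e
    refine h.theta.1 κ hκ (fun e1 => h3 (mul_mem (h.U0_le_P hu) (h.U_le_P e1))) u (h.U0_le_P hu)
      (fun e1 => h4 (mul_mem e1 hκ)) ?_
    rw [show ⁅u, κ⁆ = u * κ * (u * κ) * (κ * κ)⁻¹ by
      rw [commutatorElement_def, h.symm.U_inv hu.1]; group, h2, one_mul]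
    exact inv_mem (h.C_sq hκ)
  have key : ∀ t' ∈ p.Y, t' ∉ p.P → (∀ g ∈ p.H, g * t' * g⁻¹ ∉ (p'.U ⊓ p.Y) ⊔ 𝐂[p.U]) →
      t' * t' ∈ zpowers p.z := by
    intro t' ht' h6 h7
    obtain ⟨g, hg, h8⟩ := h.orbQ.1 t' ht'
    have h9 := cm (h.HN_Y hg) ht'
    obtain ⟨s, hs, h10⟩ := h.orbQ.2.1 t ⟨ht, htD⟩ h5 _ ⟨h9, h8⟩ (h7 g hg)
    have hsH := h.S_le_H hs
    have h11 := h.sqZ (inv_mem (h.PC.le ⟨h.P_div (cm (h.HN_Y hsH) ht) h9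
      (fun e => h3 ((cm_iff (h.HN_P hsH)).1 e)) (fun e => h6 ((cm_iff (h.HN_P hg)).1 e)), h10⟩))
      (cm (h.HN_Y hsH) ht) (by rw [conj_mul, h2]; simp)
    rwa [mul_inv_rev, inv_inv, inv_mul_cancel_right, conj_mul, cm_iff (h.HN_Z hg)] at h11
  obtain ⟨u, hu, hu'⟩ := h.symm.exists_u
  have huP := h.U0_le_P hu
  have hr : k * u ∈ p.Y := mul_mem hkY hu.2
  have inv : ∀ g ∈ p.H, g ∉ p.S →
      g * u * g⁻¹ * (k * u) * (g * u * g⁻¹)⁻¹ * (k * u) ∈ zpowers p.z := by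
    intro g hg hg'
    have h6 := cm (h.HN_P hg) huP
    have h7 := key (u * (g * u * g⁻¹) * k) (mul_mem (h.P_le_Y (mul_mem huP h6)) hkY)
      (fun e => hkP ((mul_mem_cancel_left (mul_mem huP h6)).1 e)) fun g' hg'' e => by
        obtain ⟨v, hv, κ, hκ, e1⟩ := h.mem_UC.1 e
        have h8 := h.orbQ.2.2 u hu hu' g hg hg' g'⁻¹ (inv_mem hg'')
        have h9 : u * (g * u * g⁻¹) = g'⁻¹ * v * g' * (g'⁻¹ * κ * g' * k⁻¹) := by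
          calc _ = g'⁻¹ * (g' * (u * (g * u * g⁻¹) * k) * g'⁻¹) * g' * k⁻¹ := by group
            _ = _ := by rw [e1]; group
        have h10 := mul_mem (cm' (h.HN_C hg'') hκ) (inv_mem hk)
        rw [h9] at h8
        by_cases h11 : v ∈ D
        · exact h8.2 (mul_mem (cm' (h.HN_C hg'') (h.U_le_C (h.D_le h11))) h10)
        · have h12 := h.U_le_C (h.D_le (div_mem_of_two h.symm.D_idx hv hu h11 hu'))
          refine h8.1 ?_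
          have h13 := mul_mem (cm' (h.HN_C hg'') h12)
            (cm (h.HN_C (cm' (le_normalizer hg'') (h.Y_le_H hu.2))) h10)
          convert h13 using 1
          group
    have h8 := cm' (h.HN_Z (h.Y_le_H hu.2)) h7
    convert h8 using 1
    rw [conj_inv, h.symm.U_inv hu.1]
    calc _ = u * u * (g * u * g⁻¹ * (k * u) * (g * u * g⁻¹) * (k * u)) := by
          rw [h.symm.U_sq hu.1, one_mul]
      _ = _ := by group
  have two : ∀ g ∈ p.H, g ∉ p.S → ∀ g' ∈ p.H, g' ∉ p.S →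
      g * u * g⁻¹ * (g' * u * g'⁻¹) ∈ stabMod (zpowers p.z) (k * u) := by
    intro g hg h6 g' hg' h7
    have h8 := h.HN_Z (cm (le_normalizer hg) (h.Y_le_H hu.2))
    refine ⟨mul_mem h8 (h.HN_Z (cm (le_normalizer hg') (h.Y_le_H hu.2))), ?_⟩
    have h9 := mul_mem (cm h8 (inv g' hg' h7)) (cm (h.HN_Z (h.Y_le_H hr)) (inv_mem (inv g hg h6)))
    convert h9 using 1
    rw [commutatorElement_def]
    group
  obtain ⟨x, hx, hx5, -, hfix⟩ := h.fpf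
  have hS : ∀ j, 0 < j → j < 5 → x ^ j ∉ p.S := fun j h6 h7 e =>
    pow_ne_one_of_lt_orderOf h6.ne' (hx5 ▸ h7) (eq_one_of_isPGroup_of_coprime h.S_pgrp e
      (Nat.Coprime.of_dvd_left (hx5 ▸ orderOf_pow_dvd j) (by norm_num)))
  have h6 := mul_mem (two _ (pow_mem hx 1) (hS 1 (by omega) (by omega)) _ (pow_mem hx 2)
    (hS 2 (by omega) (by omega))) (two _ (pow_mem hx 3) (hS 3 (by omega) (by omega)) _
    (pow_mem hx 4) (hS 4 (by omega) (by omega)))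
  have h7 : ∀ j : ℕ, x ^ j * u * (x ^ j)⁻¹ ∈ p.P := fun j => cm (h.HN_P (pow_mem hx j)) huP
  have h8 := mul_mem huP (mul_mem (mul_mem (h7 1) (h7 2)) (mul_mem (h7 3) (h7 4)))
  have h9 := hfix _ h8 (by
    convert h.Y_comm' (h.P_le_Y h8) (inv_mem hu.2) using 1
    have h9 : x ^ 5 = 1 := hx5 ▸ pow_orderOf_eq_one x
    simp only [commutatorElement_def]
    calc _ = u * (x ^ 1 * u * (x ^ 1)⁻¹ * (x ^ 2 * u * (x ^ 2)⁻¹) * (x ^ 3 * u * (x ^ 3)⁻¹ *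
          (x ^ 4 * u * (x ^ 4)⁻¹))) * (x ^ 5 * u * (x ^ 5)⁻¹)⁻¹ * (x ^ 1 * u * (x ^ 1)⁻¹ *
          (x ^ 2 * u * (x ^ 2)⁻¹) * (x ^ 3 * u * (x ^ 3)⁻¹ * (x ^ 4 * u * (x ^ 4)⁻¹)))⁻¹ := by group
      _ = _ := by rw [h9]; group)
  have h10 : u ∈ stabMod (zpowers p.z) (k * u) := (mul_mem_cancel_right h6).1
    ⟨h.HN_Z (h.Y_le_H (h.U_le_Y h9)), comm_symm (h.YU hr h9)⟩
  refine h.theta.1 k hk hkU u huP (h.not_mem_C hu.1 hu') ?_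
  convert h10.2 using 1
  simp only [commutatorElement_def]
  group

theorem exists_f (h : Pr M V D p p') {k : G} (hk : k ∈ 𝐂[p.U]) :
    ∃ u ∈ p.U, ∃ f ∈ 𝐂[p.U] ⊓ p'.Y, k = u * f :=
  (mem_sup_of_le_normalizer_right ((le_centralizer_iff.1 inf_le_left).trans
    (centralizer_le_normalizer' _))).1 (h.cent.2.2.2.2.2 hk)

theorem inv_C (h : Pr M V D p p') {k : G} (hk : k ∈ 𝐂[p.U]) (hk' : k ∉ p.U) : k * k = p.z := by
  refine ((mem_zp h.z_sq).1 (h.C_sq hk)).resolve_left fun h1 => ?_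
  have h2 : ∀ κ : G, κ ∈ 𝐂[p.U] → κ * κ = 1 := fun κ hκ => by
    by_cases h2 : κ ∈ p.U
    · exact h.U_sq h2
    have h3 := div_mem_of_two (h.C_idx hk hk') hκ hk h2 hk'
    calc κ * κ = κ * k⁻¹ * (k * (κ * k⁻¹)) * k := by group
      _ = κ * k⁻¹ * (κ * k⁻¹) * (k * k) := by rw [← hk _ h3]; group
      _ = 1 := by rw [h.U_sq h3, h1, one_mul]
  have h3 : ∀ κ ∈ 𝐂[p'.U], κ * κ = 1 := fun κ hκ => by
    obtain ⟨m, -, -, rfl⟩ := h.exists_cj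
    have h3 := h2 _ (mem_cj.1 ((centralizer_cj m p.U).le hκ))
    calc κ * κ = m * (m⁻¹ * κ * m * (m⁻¹ * κ * m)) * m⁻¹ := by group
      _ = 1 := by rw [h3]; group
  obtain ⟨v, hv, f, hf, rfl⟩ := h.exists_f hk
  rw [mem_inf] at hf
  have h4 : f ∉ p.U := fun e => hk' (mul_mem hv e)
  obtain ⟨u, hu, hu'⟩ := h.symm.exists_u
  have h5 : f ∉ (p.U ⊓ p'.Y) ⊔ 𝐂[p'.U] := fun e =>
    h.theta.1 f hf.1 h4 u (h.U0_le_P hu) (h.not_mem_C hu.1 hu') (by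
      rw [commutatorElement_eq_one_iff_mul_comm.2 ((h.symm.cent.1.ge e).2 u hu)]
      exact one_mem _)
  obtain ⟨e, he, h6, h7, h8, -⟩ := h.exists_e
  rw [mem_inf] at he
  obtain ⟨w, hw, κ, hκ, e1⟩ := h.symm.mem_UC.1 (div_mem_of_two h.symm.UC_idx
    ⟨hf.2, h.C_le_CD hf.1⟩ ⟨h.symm.P_le_Y he.2, h6⟩ h5 h8)
  have h9 : κ = w⁻¹ * f * e⁻¹ := by rw [mul_assoc, e1, inv_mul_cancel_left]
  have h10 : w⁻¹ * f ∈ 𝐂[p.U] := mul_mem (inv_mem (h.U_le_C hw.1)) hf.1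
  rcases h.inv_P (h9 ▸ mul_mem (h.C_le_Y h10) (inv_mem (h.P_le_Y he.1))) (h3 κ hκ) with e2 | e2
  · rw [h9, mul_mem_cancel_right (inv_mem he.1), mul_mem_cancel_left (inv_mem (h.U_le_P hw.1))] at e2
    exact h4 (h.PC.le ⟨e2, hf.1⟩)
  · rw [h9, mul_mem_cancel_left h10, inv_mem_iff] at e2
    exact h7 (mem_sup_right e2)

theorem mem_U (h : Pr M V D p p') {k : G} (hk : k ∈ 𝐂[p.U]) (h2 : k * k = 1) : k ∈ p.U := by
  by_contra h1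
  exact h.one.z_ne ((h.inv_C hk h1).symm.trans h2)

theorem inv_P' (h : Pr M V D p p') {t : G} (ht : t ∈ p.Y) (h2 : t * t = 1) : t ∈ p.P :=
  (h.inv_P ht h2).elim id fun e => h.U_le_P (h.mem_U e h2)

theorem cent_u (h : Pr M V D p p') {u k : G} (hu : u ∈ p'.U ⊓ p.Y) (hu' : u ∉ D) (hk : k ∈ p.U)
    (hc : u * k = k * u) : k ∈ p.U ⊓ p'.Y := by
  refine h.cent.2.2.2.2.1.le ⟨hk, fun v hv => ?_⟩
  by_cases h1 : v ∈ D
  · exact h.U_le_CD hk v h1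
  · have h2 := h.U_le_CD hk _ (div_mem_of_two h.symm.D_idx hv hu h1 hu')
    calc v * k = v * u⁻¹ * (u * k) := by group
      _ = k * v := by rw [hc, ← mul_assoc, h2]; group

theorem inv_Y (h : Pr M V D p p') {t : G} (ht : t ∈ p.Y) (h2 : t * t = 1) :
    t ∈ p.U ∨ ∃ g ∈ p.H, g * t * g⁻¹ ∈ (p.U ⊓ p'.Y) ⊔ (p'.U ⊓ p.Y) := by
  by_cases h1 : t ∈ 𝐂[p.U]
  · exact Or.inl (h.mem_U h1 h2)
  obtain ⟨g, hg, h3⟩ := h.orbQ.1 t ht
  refine Or.inr ⟨g, hg, ?_⟩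
  have h4 := cm (h.HN_P hg) (h.inv_P' ht h2)
  have h5 : g * t * g⁻¹ * (g * t * g⁻¹) = 1 := by rw [conj_mul, h2]; group
  rw [← cm_iff (h.HN_C hg)] at h1
  generalize g * t * g⁻¹ = t at h1 h3 h4 h5
  by_cases h6 : t ∈ (p'.U ⊓ p.Y) ⊔ 𝐂[p.U]
  · obtain ⟨u, hu, k, hk, rfl⟩ := h.mem_UC.1 h6
    have h7 := h.PC.le ⟨(mul_mem_cancel_left (h.U0_le_P hu)).1 h4, hk⟩
    refine mul_mem (mem_sup_right hu) (mem_sup_left (h.cent_u hu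
      (fun e => h1 (mul_mem (h.U_le_C (h.D_le e)) hk)) h7 ?_))
    rw [← inv_eq_of_mul_eq_one_right h5, mul_inv_rev, h.U_inv h7, h.symm.U_inv hu.1]
  · obtain ⟨e, he, h7, h8, -, -, h9⟩ := h.exists_e
    obtain ⟨s, hs, h10⟩ := h.orbQ.2.1 t ⟨h.P_le_Y h4, h3⟩ h6 e ⟨h.P_le_Y he.1, h7⟩ h8
    have h11 := cm (h.HN_P (h.S_le_H hs)) h4
    have h12 := h.sqZ (inv_mem (h.PC.le ⟨p.P.mul_mem h11 (p.P.inv_mem he.1), h10⟩)) (h.P_le_Y h11)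
      (by rw [conj_mul, h5]; simp)
    rw [mul_inv_rev, inv_inv, inv_mul_cancel_right] at h12
    exact absurd (h.Z_le h12) h9

theorem inv_S (h : Pr M V D p p') {t : G} (ht : t ∈ p.S) (h2 : t * t = 1) (ht' : t ∉ p.Y) :
    ∃ y ∈ p.Y, y * t * y⁻¹ ∈ p'.U := by
  obtain ⟨a, ha, ha'⟩ := h.symm.exists_a
  obtain ⟨-, h3, h4, h5, h6, h7, -⟩ := h.act ha ha'
  have hai := h.symm.U_inv ha
  have hq := (h5 t ht (h2 ▸ one_mem _)).resolve_left ht'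
  obtain ⟨y, hy, h8⟩ := h7 _ ⟨hq, (h6 _ hq).1 (by
    convert h.basic.2.2.2.2.2.2.2.2.2.1 _ hq using 1
    rw [commutatorElement_def, mul_inv_rev, inv_inv, inv_eq_of_mul_eq_one_right h2]
    calc _ = t * a * (t * a⁻¹) := by group
      _ = _ := by rw [hai])⟩
  refine ⟨y⁻¹, inv_mem hy, ?_⟩
  have h9 := cm' (h.HN_C (h.Y_le_H hy)) h8
  have h10 : y⁻¹ * t * y⁻¹⁻¹ = y⁻¹ * (t * a⁻¹ * ⁅y, a⁆⁻¹) * y * a := by
    rw [commutatorElement_inv, commutatorElement_def]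
    group
  have h11 : y⁻¹ * t * y⁻¹⁻¹ * (y⁻¹ * t * y⁻¹⁻¹) = 1 := by rw [conj_mul, h2]; group
  rw [h10] at h11 ⊢
  generalize y⁻¹ * (t * a⁻¹ * ⁅y, a⁆⁻¹) * y = k at h9 h11
  have h12 : a * k * a⁻¹ = k⁻¹ := by
    rw [hai]
    exact eq_inv_of_mul_eq_one_right (by rw [← h11]; group)
  have hkU : k ∈ p.U := by
    by_contra h13
    obtain ⟨u, hu, f, hf, rfl⟩ := h.exists_f h9
    have h14 : ⁅a, u * f⁆ ∈ V := by
      rw [commutatorElement_def, h12, ← mul_inv_rev, h.inv_C h9 h13]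
      exact inv_mem h.z_mem
    have h15 : u ∈ p'.Y := by
      by_contra h15
      refine (h4 u hu h15).2 (comm_symm ?_)
      rwa [show ⁅a, u * f⁆ = ⁅a, u⁆ * (u * ⁅a, f⁆ * u⁻¹) by simp only [commutatorElement_def]; group,
        mul_mem_cancel_right (cm (centralizer_le_normalizer' V (h.U_le_R hu))
          (h.symm.Z_le (comm_symm (h.symm.YU hf.2 ha))))] at h14
    have h16 := h.symm.inv_P' (mul_mem (mul_mem h15 hf.2) (h.symm.U_le_Y ha)) h11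
    rw [mul_mem_cancel_right (h.symm.U_le_P ha),
      mul_mem_cancel_left (h.symm.U0_le_P ⟨hu, h15⟩)] at h16
    exact h13 (mul_mem hu (h.PC.le ⟨(h.symm.PY_eq.le ⟨h16, h.C_le_Y hf.1⟩).2, hf.1⟩))
  rw [h.U_inv hkU, mul_inv_eq_iff_eq_mul] at h12
  exact mul_mem (h.D_le' (h3.le ⟨hkU, mem_centralizer_singleton_iff.2 h12.symm⟩)) ha

theorem inv_H (h : Pr M V D p p') {t : G} (ht : t ∈ p.H) (h2 : t * t = 1) :
    ∃ g ∈ p.H, ∃ n ∈ M, g * t * g⁻¹ ∈ cj(n, p.U) := by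
  have : Fact (Nat.Prime 2) := ⟨Nat.prime_two⟩
  obtain ⟨g, hg, h1⟩ := (h.one.syl.mono h.S_le_H le_top).exists_cj_le
    (isPGroup_zpowers (p := 2) ⟨1, by rw [pow_one, pow_two, h2]⟩) (zpowers_le.2 ht)
  have h3 := h1 (conj_mem_cj g (mem_zpowers t))
  have h4 : g * t * g⁻¹ * (g * t * g⁻¹) = 1 := by rw [conj_mul, h2]; group
  have h5 : ∀ x : G, x * (g * t * g⁻¹) * x⁻¹ = x * g * t * (x * g)⁻¹ := fun x => by group
  by_cases h6 : g * t * g⁻¹ ∈ p.Y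
  · rcases h.inv_Y h6 h4 with h7 | ⟨x, hx, h7⟩
    · exact ⟨g, hg, 1, one_mem _, by rwa [Amb.cj_one]⟩
    · exact ⟨_, mul_mem hx hg, h5 x ▸ h.W0_cover h7⟩
  · obtain ⟨y, hy, h7⟩ := h.inv_S h3 h4 h6
    obtain ⟨n, hn, -, rfl⟩ := h.exists_cj
    exact ⟨_, mul_mem (h.Y_le_H hy) hg, n, hn, h5 y ▸ h7⟩

theorem sing (h : Pr M V D p p') {u w : G} (hu : u ∈ p'.U ⊓ p.Y) (hu' : u ∉ D)
    (hw : w ∈ (p.U ⊓ p'.Y) ⊔ (p'.U ⊓ p.Y)) (hw' : w ∉ p.U) : w * u⁻¹ ∈ p.U := by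
  obtain ⟨a, ha, b, hb, rfl⟩ := h.mem_W0.1 hw
  rw [mul_assoc]
  exact mul_mem ha.1 (h.D_le (div_mem_of_two h.symm.D_idx hb hu
    (fun e => hw' (mul_mem ha.1 (h.D_le e))) hu'))

theorem le_W0 (h : Pr M V D p p') {A : Subgroup G} (hA : A ≤ p.Y) (hE : IsElementaryAbelian 2 A)
    {t : G} (ht : t ∈ A) (h1 : t ∈ (p.U ⊓ p'.Y) ⊔ (p'.U ⊓ p.Y)) (h2 : t ∉ p.U) :
    A ≤ (p.U ⊓ p'.Y) ⊔ (p'.U ⊓ p.Y) := by
  intro s hs
  obtain ⟨u, hu, hu'⟩ := h.symm.exists_u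
  have h3 := h.sing hu hu' h1 h2
  have hsq := sq_eq_one_of_isEA hE
  by_cases hsU : s ∈ p.U
  · refine mem_sup_left (h.cent_u hu hu' hsU ?_)
    calc u * s = (t * u⁻¹)⁻¹ * (t * s) := by group
      _ = s * u := by rw [isEA_comm hE ht hs, ← mul_assoc, h.U_le_C hsU _ (inv_mem h3)]; group
  obtain ⟨g, hg, h4⟩ := (h.inv_Y (hA hs) (hsq s hs)).resolve_left hsU
  by_cases hgS : g ∈ p.S
  · exact (cm_iff (h.SN_W0 hgS)).1 h4
  have h5 := cm' (h.HN_U hg) (h.sing hu hu' h4 fun e => hsU ((cm_iff (h.HN_U hg)).1 e))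
  have h6 : (t * s)⁻¹ * (u * (g⁻¹ * u * g⁻¹⁻¹)) ∈ p.U := by
    have h6 := mul_mem (cm' (h.HN_U (h.Y_le_H (hA (mul_mem ht hs)))) (inv_mem h3))
      (cm' (h.HN_U (h.Y_le_H (hA hs))) (inv_mem h5))
    convert h6 using 1
    group
  have h7 := fun g' hg' => h.orbQ.2.2 u hu hu' g⁻¹ (inv_mem hg) (fun e => hgS (inv_mem_iff.1 e)) g' hg'
  by_cases h8 : t * s ∈ p.U
  · exact absurd (h.U_le_C ((mul_mem_cancel_left (inv_mem h8)).1 h6)) (h7 1 (one_mem _)).2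
  obtain ⟨g', hg', h9⟩ := (h.inv_Y (hA (mul_mem ht hs)) (hsq _ (mul_mem ht hs))).resolve_left h8
  have h10 := cm' (h.HN_U hg') (h.sing hu hu' h9 fun e => h8 ((cm_iff (h.HN_U hg')).1 e))
  refine absurd (h.U_le_C ?_) (h7 _ (inv_mem hg')).1
  have h11 := mul_mem (cm (h.HN_U (h.Y_le_H (hA (mul_mem ht hs)))) h6) h10
  convert h11 using 1
  group

theorem e32 (h : Pr M V D p p') {A : Subgroup G} (hA : A ≤ p.S) (hE : IsElementaryAbelian 2 A)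
    (h32 : 32 ≤ Nat.card A) : (∃ n ∈ M, A = cj(n, p.U)) ∨
      ∃ g ∈ p.H, A = cj(g, (p.U ⊓ p'.Y) ⊔ (p'.U ⊓ p.Y)) := by
  have hsq := sq_eq_one_of_isEA hE
  by_cases hY : A ≤ p.Y
  · by_cases hU : A ≤ p.U
    · exact Or.inl ⟨1, one_mem _, by
        rw [Amb.cj_one]; exact eq_of_le_of_card_ge hU (h.card_U ▸ h32)⟩
    obtain ⟨t, ht, ht'⟩ := SetLike.not_le_iff_exists.1 hU
    obtain ⟨g, hg, h1⟩ := (h.inv_Y (hY ht) (hsq t ht)).resolve_left ht'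
    have h2 := h.le_W0 (cj_le_of_mem_normalizer hY (h.HN_Y hg)) (isEA_map hE _) (conj_mem_cj g ht)
      h1 fun e => ht' ((cm_iff (h.HN_U hg)).1 e)
    refine Or.inr ⟨g⁻¹, inv_mem hg, eq_of_le_of_card_ge (cj_le_iff.1 h2) ?_⟩
    rwa [card_cj, h.card_W0]
  · obtain ⟨t, ht, ht'⟩ := SetLike.not_le_iff_exists.1 hY
    have key : ∀ s ∈ A, s ∉ p.Y → ∃ q, Pr M V D p q ∧ s ∈ q.U := fun s hs hs' => by
      obtain ⟨y, hy, h1⟩ := h.inv_S (hA hs) (hsq s hs) hs'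
      exact ⟨_, h.cj_right (inv_mem (h.Y_le_S hy)), mem_cj.2 (by rwa [inv_inv])⟩
    obtain ⟨q, hq, h1⟩ := key t ht ht'
    obtain ⟨q', T⟩ := hq.exists_trp
    have h2 : ∀ s ∈ A, s ∉ p.Y → s ∈ q.U := fun s hs hs' => by
      obtain ⟨r, hr, h2⟩ := key s hs hs'
      rcases T.other hr with rfl | rfl
      · exact h2
      · refine absurd ?_ ((T.c.act h2 (T.swap'.swap.not_mem h2 hs')).2.2.1 t h1
          (T.swap.not_mem h1 ht')).2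
        rw [commutatorElement_eq_one_iff_mul_comm.2 (isEA_comm hE ht hs)]
        exact one_mem _
    have h3 : A ≤ q.U := fun s hs => by
      by_cases h3 : s ∈ p.Y
      · exact (mul_mem_cancel_right h1).1 (h2 _ (mul_mem hs ht) fun e =>
          ht' ((mul_mem_cancel_left h3).1 e))
      · exact h2 s hs h3
    have h4 := eq_of_le_of_card_ge h3 (hq.symm.card_U ▸ h32)
    obtain ⟨n, hn, -, rfl⟩ := hq.exists_cj
    exact Or.inl ⟨n, hn, h4⟩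

theorem inv_S0 (h : Pr M V D p p') {t : G} (ht : t ∈ p.S) (h2 : t * t = 1) :
    t ∈ p.P ⊔ (p'.P ⊓ 𝐂[V]) := by
  by_cases h1 : t ∈ p.Y
  · exact mem_sup_left (h.inv_P' h1 h2)
  obtain ⟨y, hy, h3⟩ := h.inv_S ht h2 h1
  have h4 := (cm_iff (h.MN_I (h.S_le_M (h.Y_le_S hy)))).1
    ⟨mem_sup_right ⟨h.symm.U_le_P h3, h.symm.U_le_R h3⟩, h.symm.U_le_R h3⟩
  exact h4.1

theorem card_S (h : Pr M V D p p') : Nat.card p.S = Nat.card 𝐂[p.U] * (16 * 4) := by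
  rw [← Grp.card_mul_relIndex h.Y_le_S, ← Grp.card_mul_relIndex h.C_le_Y, h.basic.2.1,
    h.basic.2.2.2.2.2.2.2.1, mul_assoc]

theorem C_eq (h : Pr M V D p p') : 𝐂[p.U] = p.U := by
  refine le_antisymm (fun k hk => ?_) h.U_le_C
  by_contra hk'
  have h1 := h.C_idx hk hk'
  have h2 := h.inv_C hk hk'
  refine h.one.hyp.transfer_ref h.one.syl h.S0_le (relIndex_of_card h.S0_le h.card_S0 (by
    rw [h.card_S, ← Grp.card_mul_relIndex h.U_le_C, h1, h.card_U]))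
    (h.S_pgrp.to_le (h.C_le_Y.trans h.Y_le_S)) hk (fun κ hκ => ?_) (fun g hg e => ?_)
    fun g j T hj hT _ h3 h4 => ?_
  · by_cases h3 : κ ∈ p.U
    · exact hk κ h3
    · have h4 := hk _ (div_mem_of_two h1 hκ hk h3 hk')
      calc κ * k = κ * k⁻¹ * k * k := by group
        _ = k * κ := by rw [h4]; group
  · have h3 : ∀ x : G, x * k * x⁻¹ * (x * k * x⁻¹) ≠ 1 := fun x e1 => h.one.z_ne (by
      rw [conj_mul, h2] at e1
      simpa using e1)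
    have h4 : g * k * g⁻¹ ∈ 𝐂[cj(g, p.U)] := centralizer_cj g p.U ▸ conj_mem_cj g hk
    rcases h.e32 ((cj_mono g h.U_le_C).trans hg) (isEA_map h.U_ea _)
      (by rw [card_cj, h.card_U]) with ⟨n, hn, e1⟩ | ⟨x, hx, e1⟩
    · rw [e1, centralizer_cj, mem_cj] at h4
      have h5 : g * k * g⁻¹ ∈ 𝐂[V] := by
        simpa [mul_assoc] using cm (h.MN_R hn) (h.C_le_R h4)
      have h6 := h.PC.le ⟨h.S0_inf_Y.le ⟨(cm' (h.MN_I hn) ⟨e, h5⟩).1, h.C_le_Y h4⟩, h4⟩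
      refine h3 (n⁻¹ * g) ?_
      convert h.U_sq h6 using 2 <;> group
    · rw [e1, centralizer_cj, mem_cj] at h4
      have h5 := h.cent_W0.le ⟨cm' (le_normalizer hx) (h.S_le_H (hg (conj_mem_cj g hk))), h4⟩
      refine h3 (x⁻¹ * g) ?_
      convert sq_eq_one_of_isEA h.W0_ea _ h5 using 2 <;> group
  · obtain ⟨i, rfl⟩ := Nat.exists_eq_add_of_le' hj
    rw [pow_succ', pow_mul, pow_two, h2]
    rcases i with _ | i
    · rw [pow_zero, pow_one]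
      have h5 : k * k ∈ T := mul_self_mem_of_index_two (H := T.subgroupOf 𝐂[p.U]) h3 ⟨k, hk⟩
      exact h.inv_S0 (h4 (conj_mem_cj g (h2 ▸ h5))) (by rw [conj_mul, h.z_sq]; group)
    · rw [pow_succ', pow_mul, pow_two, h.z_sq]
      simp

end Pr

end

variable {S M V H Y F : Subgroup G} {z m : G}

set_option quotPrecheck false
/-- `U = ⟨V^H⟩` -/
local notation "𝑼" => ncl V H
local notation "𝒁" => zpowers z
local notation "𝑼'" => cj(m, ncl V H)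
local notation "𝑫" => ncl V H ⊓ cj(m, ncl V H)
local notation "𝑸'" => cj(m, Y)
local notation "𝑪₁" => Y ⊓ 𝐂[ncl V H]
local notation "𝑸₁" => Y ⊓ 𝐎[2, H]

/-- the involutions of `Q ∖ C₁` lie in `Q₁` (polarization) -/
theorem T5.inv_Q1 (h : T5 S M V z H Y F m) {t : G} (ht : t ∈ Y) (h2 : t * t = 1) :
    t ∈ 𝑸₁ ∨ t ∈ 𝐂[𝑼] := (Pr.mk h).inv_P ht h2

theorem T5.inv_C1 (h : T5 S M V z H Y F m) {k : G} (hk : k ∈ 𝑪₁) (hk' : k ∉ 𝑼) : k * k = z :=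
  (Pr.mk h).inv_C hk.2 hk'

/-- the involutions of `Q` -/
theorem T5.inv_Q (h : T5 S M V z H Y F m) {t : G} (ht : t ∈ Y) (h2 : t * t = 1) :
    t ∈ 𝑼 ∨ ∃ g ∈ H, g * t * g⁻¹ ∈ (𝑼 ⊓ 𝑸') ⊔ (𝑼' ⊓ Y) := (Pr.mk h).inv_Y ht h2

/-- the involutions of `S ∖ Q` -/
theorem T5.inv_S (h : T5 S M V z H Y F m) {t : G} (ht : t ∈ S) (h2 : t * t = 1) (ht' : t ∉ Y) :
    ∃ y ∈ Y, y * t * y⁻¹ ∈ 𝑼' := (Pr.mk h).inv_S ht h2 ht'

theorem T5.inv_H (h : T5 S M V z H Y F m) {t : G} (ht : t ∈ H) (h2 : t * t = 1) :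
    ∃ g ∈ H, ∃ n ∈ M, g * t * g⁻¹ ∈ cj(n, 𝑼) := (Pr.mk h).inv_H ht h2

/-- the elementary abelian subgroups of order 32 of `S` -/
theorem T5.e32 (h : T5 S M V z H Y F m) {A : Subgroup G} (hA : A ≤ S)
    (hE : IsElementaryAbelian 2 A) (h32 : 32 ≤ Nat.card A) :
    (∃ n ∈ M, A = cj(n, 𝑼)) ∨ ∃ g ∈ H, A = cj(g, (𝑼 ⊓ 𝑸') ⊔ (𝑼' ⊓ Y)) :=
  (Pr.mk h).e32 hA hE h32

/-- `²F₄(2)` is excluded by transfer -/
theorem T5.C1_eq (h : T5 S M V z H Y F m) : 𝐂[𝑼] = 𝑼 ∧ 𝑸₁ = Y ∧ Nat.card S = 2048 := by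
  have h0 := Pr.mk h
  have h1 := h0.P_sup
  have h2 := h0.card_S
  rw [h0.C_eq] at h1 h2
  rw [sup_eq_left.2 h0.U_le_P] at h1
  rw [h0.card_U] at h2
  exact ⟨h0.C_eq, h1, h2⟩

end Cfsg.Agent.NG
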