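import Mathlib
import Cfsg.Agent.NG.Tits4
import Cfsg.Agent.NG.Oct1
import Cfsg.Agent.Grp.CoprimeIndex

set_option autoImplicit false
set_option linter.unusedSectionVars false

namespace Cfsg.Agent.NG

open Subgroup Cfsg.Agent.PLocal Cfsg.Agent.PLocal.Amb Cfsg.Agent.PLocal.CP Cfsg.Agent.PLocal.JC
open scoped commutatorElement

variable {G : Type*} [Group G] [Finite G]

variable {S M V H Y F : Subgroup G} {z m : G}

set_option quotPrecheck false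
/-- `U = ⟨V^H⟩` -/
local notation "𝑼" => ncl V H
local notation "𝒁" => zpowers z
local notation "𝑼'" => cj(m, ncl V H)
local notation "𝑫" => ncl V H ⊓ cj(m, ncl V H)
local notation "𝑸'" => cj(m, Y)
local notation "𝑪₁" => Y ⊓ 𝐂[ncl V H]
local notation "𝑸₁" => Y ⊓ 𝐎[2, H]

theorem relIndex_eq_ncard_image {α : Type*} {T K : Subgroup G} (f : G → α)
    (hf : ∀ g ∈ K, ∀ g' ∈ K, f g = f g' ↔ g⁻¹ * g' ∈ T) : T.relIndex K = (f '' K).ncard := by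
  refine Nat.card_congr (Equiv.ofBijective (Quotient.lift (fun g : K => ⟨f g, g, g.2, rfl⟩)
    fun g g' e => Subtype.ext ((hf _ g.2 _ g'.2).2
      ((QuotientGroup.leftRel_apply (s := T.subgroupOf K)).1 e))) ⟨?_, ?_⟩)
  · intro x y e
    induction x using QuotientGroup.induction_on with | H x => ?_
    induction y using QuotientGroup.induction_on with | H y => ?_
    exact QuotientGroup.eq.2 ((hf _ x.2 _ y.2).1 (congrArg Subtype.val e))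
  · rintro ⟨_, g, hg, rfl⟩
    exact ⟨QuotientGroup.mk ⟨g, hg⟩, rfl⟩

theorem sup_zpowers_eq_of_card {A B : Subgroup G} (hAB : A ≤ B) (hc : Nat.card B = 2 * Nat.card A)
    {x : G} (hx : x ∈ B) (hx' : x ∉ A) : zpowers x ⊔ A = B := by
  refine sup_zpowers_eq ?_ hAB hx hx'
  have h1 := Grp.card_mul_relIndex_of_le hAB
  rw [hc, mul_comm] at h1
  rw [Nat.eq_of_mul_eq_mul_right Nat.card_pos h1]
  exact Nat.prime_two

namespace T5

variable (h : T5 S M V z H Y F m)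
include h

theorem one : One S M V z := h.toCA.one

theorem V_eq_sup {v : G} (hv : v ∈ V) (hv' : v ∉ 𝒁) : zpowers v ⊔ 𝒁 = V :=
  sup_zpowers_eq_of_card (zpowers_le.2 h.one.z_mem_V) (by rw [h.four, h.one.card_Z]) hv hv'

theorem V_le_of {X : Subgroup G} (hz : z ∈ X) {v : G} (hv : v ∈ V) (h1 : v ≠ 1) (h2 : v ≠ z)
    (hX : v ∈ X) : V ≤ X := by
  rw [← h.V_eq_sup hv fun h3 => ?_]
  · exact sup_le (zpowers_le.2 hX) (zpowers_le.2 hz)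
  · obtain ⟨k, rfl⟩ := h3
    have e2 : z ^ (2 : ℤ) = 1 := by rw [zpow_two, h.z_sq]
    obtain ⟨j, rfl | rfl⟩ := Int.even_or_odd' k
    · exact h1 (by simp only [zpow_mul, e2, one_zpow])
    · exact h2 (by simp only [zpow_add, zpow_mul, e2, one_zpow, zpow_one, one_mul])

theorem mem_cent_V {g v : G} (hz : g ∈ 𝐂₁[z]) (hv : v ∈ V) (h1 : v ≠ 1) (h2 : v ≠ z)
    (hg : g ∈ 𝐂₁[v]) : g ∈ 𝐂[V] := fun _ hw =>
  mem_centralizer_singleton_iff.1 (h.V_le_of (X := 𝐂₁[g])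
    (mem_centralizer_singleton_iff.2 (mem_centralizer_singleton_iff.1 hz).symm) hv h1 h2
    (mem_centralizer_singleton_iff.2 (mem_centralizer_singleton_iff.1 hg).symm) hw)

theorem N_V : 𝐍[V] = M := h.toTwo.basic.2.2.2.1

theorem D_two : IsPGroup 2 ↥(𝑫) := (elemAb_isPGroup h.toCA.basic.2.2.2.2.2.1).to_inf_left

theorem N_D : 𝐍[𝑫] = M := by
  obtain ⟨h1, h2, -⟩ := h.toCA.D_facts h.m_mem h.m_ne
  exact h.toTwo.normalizer_eq h.D_two (fun h3 => h.toTwo.basic.1 (le_bot_iff.1 (h3 ▸ h1))) h2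

theorem U'_le_S : 𝑼' ≤ S :=
  (h.toCA.D_facts h.m_mem h.m_ne).2.2.2.2.2.1.trans (inf_le_right.trans h.basic.2.2.2.1)

theorem U_comm : 𝑼 ≤ 𝐂[𝑼] := elemAb_le_centralizer h.toCA.basic.2.2.2.2.2.1

theorem U'_comm : 𝑼' ≤ 𝐂[𝑼'] := by
  rw [centralizer_cj]
  exact cj_mono m h.U_comm

theorem Y_le_S : Y ≤ S := h.basic.2.2.1 ▸ h.Y_le

theorem C_norm : 𝐂₁[z] ≤ 𝐍[𝑼] ∧ 𝐂₁[z] ≤ 𝐍[Y] := by
  obtain ⟨hSH, hHC, hHM, -, hY, -⟩ := h.toCA.basic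
  have h1 : ncl V 𝐂₁[z] = 𝑼 := le_antisymm
    (h.ab.trans ((centralizer_anti (ncl_mono le_rfl hHC)).trans h.C1_eq.1.le))
    (ncl_mono le_rfl hHC)
  obtain ⟨hm, -, -, h2, -⟩ := h.one.mod (hSH.trans hHC) le_rfl
  rw [h1] at hm h2
  refine ⟨hm.normU, ?_⟩
  have h3 : 𝐂₁[z] ⊓ secCent 𝑼 𝒁 = Y := by
    rw [← hY]
    exact le_antisymm (fun g hg => ⟨(hHM.ge ⟨hg.1, h2 hg⟩).1, hg.2⟩) (inf_le_inf hHC le_rfl)
  rw [← h3]
  exact Amb.le_normalizer_inf le_normalizer hm.norm_ker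

/-- an element of `C(z)` conjugating an involution of `S ∖ Y` into `S` lies in `M` -/
theorem mem_M_of_conj {a g : G} (ha : a ∈ 𝑼') (ha' : a ∉ Y) (hg : g ∈ 𝐂₁[z])
    (hs : g⁻¹ * a * g ∈ S) : g ∈ M := by
  obtain ⟨hSH, hHC, -, hm, hY, hE, -⟩ := h.toCA.basic
  obtain ⟨h1, h2, -, -, -, -, h3, -⟩ := h.act ha ha'
  have ha2 : a * a = 1 := by
    obtain ⟨u, hu, rfl⟩ := mem_cj_iff_exists.1 ha
    calc _ = m * (u * u) * m⁻¹ := by group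
      _ = 1 := by rw [sq_eq_one_of_isEA hE u hu]; group
  have h4 : g⁻¹ * a * g * a⁻¹ ∈ Y := (h3 _ hs (by
    rw [show g⁻¹ * a * g * (g⁻¹ * a * g) = g⁻¹ * (a * a) * g by group, ha2]
    simp)).resolve_left fun h4 => ha' (by
      simpa [mul_assoc] using Amb.conj_mem_of_mem_normalizer (h.C_norm.2 hg) h4)
  rw [← h.N_D]
  refine mem_normalizer_of_cj_le (cj_le_iff_forall.2 fun d hd => ?_)
  rw [← h1, hm.mem_fx_zpowers (hSH (h.U'_le_S ha))]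
  refine ⟨Amb.conj_mem_of_mem_normalizer (h.C_norm.1 hg) hd.1, ?_⟩
  have h5 := inv_mem ((hY.ge h4).2.2 d hd.1)
  have h6 : d * a = a * d := mem_centralizer_singleton_iff.1 (h2.ge hd).2
  have h7 := Amb.conj_mem_of_mem_normalizer
    (centralizer_le_normalizer' 𝒁 (Amb.centralizer_zpowers z ▸ hg)) h5
  convert h7 using 1
  simp only [commutatorElement_def]
  calc _ = g * (d * (g⁻¹ * a * g * a⁻¹) * (a * d⁻¹ * a⁻¹) * (g⁻¹ * a * g * a⁻¹)⁻¹) * g⁻¹ := by group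
    _ = _ := by rw [show a * d⁻¹ * a⁻¹ = d⁻¹ by
      rw [mul_inv_eq_iff_eq_mul, eq_inv_mul_iff_mul_eq, ← mul_assoc, h6, mul_inv_cancel_right]]; group

theorem cent_z : 𝐂₁[z] = H ∧ Nat.card H = 10240 := by
  obtain ⟨hSH, hHC, hHM, -⟩ := h.toCA.basic
  obtain ⟨-, -, -, hVS, -, -, -, h5, -⟩ := h.basic
  refine ⟨le_antisymm (fun g hg => ?_) hHC, by
    rw [← Grp.card_mul_relIndex_of_le hSH, h5, h.C1_eq.2.2]⟩
  obtain ⟨v, hv, h1, h2⟩ : ∃ v ∈ V, v ≠ 1 ∧ v ≠ z := ⟨m * z * m⁻¹,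
    Amb.conj_mem_of_mem_normalizer (h.N_V.ge h.m_mem) h.one.z_mem_V, by simpa using h.z_ne, h.m_ne⟩
  obtain ⟨k, hk, h3⟩ := h.orbU.1 _ (Amb.conj_mem_of_mem_normalizer (h.C_norm.1 hg) (le_ncl V H hv))
  obtain ⟨a, ha, ha'⟩ := SetLike.not_le_iff_exists.1 h.crit
  have hkg : k * g ∈ 𝐂₁[z] := mul_mem (hHC hk) hg
  have h4 := h.mem_M_of_conj ha ha' hkg (hVS (h.mem_cent_V
    (mul_mem (mul_mem (inv_mem hkg) (hHC (hSH (h.U'_le_S ha)))) hkg) hv h1 h2 (by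
      have h4 := h.U'_comm ha _ h3.2
      rw [mem_centralizer_singleton_iff]
      calc _ = (k * g)⁻¹ * (a * (k * (g * v * g⁻¹) * k⁻¹)) * (k * g) := by group
        _ = _ := by rw [← h4]; group)))
  simpa using mul_mem (inv_mem hk) (hHM.ge ⟨hkg, h4⟩).1

theorem card_M : Nat.card M = 6144 := by
  rw [← Grp.card_mul_relIndex_of_le h.le, h.basic.2.2.2.2.2.1, h.C1_eq.2.2]

theorem conj_c {c n : G} (hc : c ∈ 𝑫) (hc' : c ∉ V) (hn : n ∈ M) :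
    n * c * n⁻¹ ∈ 𝑫 ∧ n * c * n⁻¹ ∉ V :=
  ⟨Amb.conj_mem_of_mem_normalizer (h.N_D.ge hn) hc,
    fun h1 => hc' ((mem_normalizer_iff.1 (h.N_V.ge hn) c).2 h1)⟩

theorem idx_c {c : G} (hc : c ∈ 𝑫) (hc' : c ∉ V) : (𝐂₁[c]).relIndex M = 4 := by
  rw [relIndex_eq_ncard_image (fun g => g * c * g⁻¹) fun g _ g' _ => ?_]
  · have h1 := ncard_diff_of_le (h.toCA.D_facts h.m_mem h.m_ne).1
    rw [h.basic.2.2.2.2.2.2.2.2.2.2.1, h.four] at h1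
    refine Eq.trans ?_ h1
    congr 1
    refine Set.Subset.antisymm ?_ fun c' hc'' => ?_
    · rintro _ ⟨n, hn, rfl⟩
      exact h.conj_c hc hc' hn
    · obtain ⟨r, hr, h2⟩ := h.orbU.2.2 c hc hc' c' hc''.1 hc''.2
      exact ⟨r, h.toTwo.basic.2.2.2.2.1 hr, h2⟩
  · rw [mem_centralizer_singleton_iff]
    constructor
    · intro e
      calc _ = g⁻¹ * (g' * c * g'⁻¹) * g' := by group
        _ = _ := by rw [← e]; group
    · intro e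
      calc _ = g * (c * (g⁻¹ * g')) * g'⁻¹ := by group
        _ = _ := by rw [← e]; group

theorem not_conj {c : G} (hc : c ∈ 𝑫) (hc' : c ∉ V) : ¬ IsConj z c := by
  intro h1
  obtain ⟨g, hg⟩ := isConj_iff.1 h1
  have h2 := Grp.card_inf_mul_relIndex M 𝐂₁[c]
  rw [h.idx_c hc hc', h.card_M] at h2
  have h3 := card_dvd_of_le (inf_le_right : M ⊓ 𝐂₁[c] ≤ 𝐂₁[c])
  rw [show Nat.card ↥(M ⊓ 𝐂₁[c]) = 1536 by omega, ← hg, centralizer_singleton_conj, card_cj,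
    h.cent_z.1, h.cent_z.2] at h3
  omega

theorem exists_fac {c n : G} (hc : c ∈ 𝑫) (hc' : c ∉ V) (hn : n ∈ M) :
    ∃ p ∈ 𝐂₁[c] ⊓ M, ∃ s ∈ S, p * s = n :=
  Grp.exists_mul_of_coprime_relIndex inf_le_right h.le
    (by rw [inf_relIndex_right, h.idx_c hc hc', h.basic.2.2.2.2.2.1]; decide) hn

/-- the involutions of `Y ∩ C(V)` -/
theorem inv_R {t : G} (ht : t ∈ Y) (htV : t ∈ 𝐂[V]) (h2 : t * t = 1) :
    t ∈ 𝑼 ∨ t ∈ (𝑼 ⊓ 𝑸') ⊔ (𝑼' ⊓ Y) := by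
  obtain ⟨-, -, -, -, -, -, -, -, -, -, c1, -, c2, -⟩ := h.basic
  obtain ⟨hSH, -, -, -, -, -, hUY, -⟩ := h.toCA.basic
  obtain ⟨w1, w2, -⟩ := h.W0
  rcases h.inv_Q ht h2 with h1 | ⟨g, hg, h1⟩
  · exact Or.inl h1
  by_cases hgS : g ∈ S
  · exact Or.inr ((mem_normalizer_iff.1 (w1 (h.le hgS)) t).2 h1)
  left
  have hgU := le_normalizer_ncl V H hg
  obtain ⟨u, hu, u', hu', e⟩ := (mem_sup_of_le_normalizer_right (le_sup_left.trans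
    ((elemAb_le_centralizer w2).trans ((centralizer_anti le_sup_right).trans
      (centralizer_le_normalizer' _))))).1 h1
  by_cases hD : u' ∈ 𝑼
  · exact (mem_normalizer_iff.1 hgU t).2 (e ▸ mul_mem hu.1 hD)
  exfalso
  have h3 : zpowers u' ⊔ 𝑫 = 𝑼' ⊓ Y := sup_zpowers_eq_of_card
    (le_inf inf_le_right (inf_le_left.trans hUY)) (by rw [c1, c2]) hu' fun h3 => hD h3.1
  have h4 : cj(g, V) ≤ 𝑸' := by
    have h5 : cj(g, V) ≤ 𝑼 := cj_le_ncl V hg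
    refine le_trans ?_ (h.cent.2.2.2.2.2.2.1.le.trans inf_le_right)
    rw [← h3, Amb.centralizer_sup, Amb.centralizer_zpowers]
    refine le_inf h5 (le_inf (fun w hw => ?_)
      (h5.trans (h.U_comm.trans (centralizer_anti inf_le_left))))
    have h6 : g * t * g⁻¹ ∈ 𝐂[cj(g, V)] := centralizer_cj g V ▸ conj_mem_cj g htV
    have h7 := mul_mem (inv_mem (centralizer_anti h5 (h.U_comm hu.1))) h6
    rw [e, inv_mul_cancel_left] at h7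
    exact mem_centralizer_singleton_iff.2 (h7 w hw)
  have h5 := congrArg (fun X : Subgroup G => Nat.card X) (h.orbU.2.1 g hg hgS)
  simp only [inf_eq_left.2 h4, card_cj, h.four, h.one.card_Z] at h5
  omega

theorem syl_c {c : G} (hc : c ∈ 𝑫) (hc' : c ∉ V) : IsSyl 2 (𝐂₁[c] ⊓ S) 𝐂₁[c] := by
  obtain ⟨hSH, hHC, hHM, -, -, -, -, hUS, -⟩ := h.toCA.basic
  obtain ⟨-, -, hS, hVS, -, -, -⟩ := h.basic
  have hU : 𝑼 ≤ 𝐂₁[c] ⊓ S := le_inf (h.U_comm.trans (centralizer_le (by simpa using hc.1))) hUS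
  have hU' : 𝑼' ≤ 𝐂₁[c] ⊓ S :=
    le_inf (h.U'_comm.trans (centralizer_le (by simpa using hc.2))) h.U'_le_S
  have hT : ¬ 𝐂₁[c] ⊓ S ≤ 𝐂[V] := by
    intro hT
    obtain ⟨s, hs, hs'⟩ := SetLike.not_le_iff_exists.1 h.toTwo.basic.2.2.2.2.2.2.2.1
    obtain ⟨h1, h2⟩ := h.conj_c hc hc' (h.le hs)
    obtain ⟨r, hr, h3⟩ := h.orbU.2.2 c hc hc' _ h1 h2
    have h4 : r⁻¹ * s * c = c * (r⁻¹ * s) := by
      calc r⁻¹ * s * c = r⁻¹ * (s * c * s⁻¹) * s := by group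
        _ = _ := by rw [← h3]; group
    exact hs' (by simpa using mul_mem hr (hT (mem_inf.2 ⟨mem_centralizer_singleton_iff.2 h4,
      mul_mem (inv_mem (hVS hr)) hs⟩)))
  refine isSyl_of_isSyl_normalizer ⟨le_inf inf_le_left le_normalizer, h.syl.pgrp.to_inf_right,
    fun R _ _ hR n hn => ⟨(hR hn).1, ?_⟩⟩
  have hnT := (hR hn).2
  have h1 : n * z * n⁻¹ ∈ 𝐂[𝐂₁[c] ⊓ S] := Amb.conj_mem_of_mem_normalizer
    (Amb.normalizer_le_normalizer_centralizer _ hnT)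
    (le_centralizer_iff.1 (Amb.centralizer_zpowers z ▸ inf_le_right.trans h.one.S_le_C) (mem_zpowers z))
  have h2 : n * z * n⁻¹ ∈ 𝑫 := ⟨h.C1_eq.1.le (centralizer_anti hU h1), by
    have := centralizer_anti hU' h1
    rwa [centralizer_cj, h.C1_eq.1] at this⟩
  have h3 : n * z * n⁻¹ ∈ V := by
    by_contra h3
    exact h.not_conj h2 h3 (isConj_iff.2 ⟨n, rfl⟩)
  have h4 : n * z * n⁻¹ = z := by
    by_contra h4
    exact hT fun t ht => h.mem_cent_V (h.one.S_le_C ht.2) h3 (by simpa using h.z_ne) h4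
      (mem_centralizer_singleton_iff.2 (h1 t ht))
  have h5 : n ∈ 𝐂₁[z] := mem_centralizer_singleton_iff.2 (mul_inv_eq_iff_eq_mul.1 h4)
  obtain ⟨a, ha, ha'⟩ := SetLike.not_le_iff_exists.1 h.crit
  exact hS.le (hHM.ge ⟨h5, h.mem_M_of_conj ha ha' h5
    (Amb.inv_conj_mem_of_mem_normalizer hnT (hU' ha)).2⟩)

theorem cent_c {c : G} (hc : c ∈ 𝑫) (hc' : c ∉ V) : 𝐂₁[c] ≤ M := by
  obtain ⟨hSH, hHC, hHM, -, -, hE, hUY, hUS, -⟩ := h.toCA.basic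
  obtain ⟨-, -, hS, hVS, -, -, -, -, -, -, c1, c2, c3, -⟩ := h.basic
  obtain ⟨w1, w2, -, w3, -⟩ := h.W0
  have hVD := (h.toCA.D_facts h.m_mem h.m_ne).1
  have hc1 : c ≠ 1 := fun e => hc' (e ▸ V.one_mem)
  have hch := h.hyp.charC₁ (sq_eq_one_of_isEA hE c hc.1) hc1
  have hO := (h.syl_c hc hc').pCoreOf_le
  have hn := Amb.le_normalizer_pCoreOf 2 𝐂₁[c]
  have hSU : S ≤ 𝐍[𝑼] := hSH.trans (le_normalizer_ncl V H)
  have hSY : S ≤ 𝐍[Y] := hSH.trans h.Y_norm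
  obtain ⟨p, hp, s, hs, hm⟩ := h.exists_fac hc hc' h.m_mem
  have hOV : 𝐐[𝐂₁[c]] ≤ 𝐂[V] := fun o ho => by
    refine h.mem_cent_V (h.one.S_le_C (hO ho).2)
      (Amb.conj_mem_of_mem_normalizer (h.N_V.ge h.m_mem) h.one.z_mem_V) (by simpa using h.z_ne)
      h.m_ne ?_
    rw [centralizer_singleton_conj, ← hm, cj_mul, cj_of_mem (h.one.S_le_C hs), mem_cj]
    exact h.one.S_le_C (hO (Amb.inv_conj_mem_of_mem_normalizer (hn hp.1) ho)).2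
  have hDO : 𝑫 ≤ 𝐂[𝐐[𝐂₁[c]]] := by
    rw [le_centralizer_iff, ← sup_zpowers_eq_of_card hVD (by rw [c1, h.four]) hc hc',
      Amb.centralizer_sup, Amb.centralizer_zpowers]
    exact le_inf (hO.trans inf_le_left) hOV
  have hDE : 𝑫 ≤ ΩZ[2, 𝐐[𝐂₁[c]]] := le_omegaZ (elemAb_mono hE inf_le_left)
    (le_trans (le_inf (inf_le_left.trans (h.U_comm.trans (centralizer_le (by simpa using hc.1))))
      hDO) hch) hDO
  have hEn : 𝐂₁[c] ≤ 𝐍[ΩZ[2, 𝐐[𝐂₁[c]]]] := hn.trans (normalizer_le_normalizer_omegaZ _)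
  have hEA := omegaZ_isEA (p := 2) 𝐐[𝐂₁[c]]
  have hES := (omegaZ_le (p := 2) 𝐐[𝐂₁[c]]).trans (hO.trans inf_le_right)
  have hEV := (omegaZ_le (p := 2) 𝐐[𝐂₁[c]]).trans hOV
  generalize ΩZ[2, 𝐐[𝐂₁[c]]] = E at hDE hEn hEA hES hEV
  have key : ∀ n ∈ M, ∀ t ∈ E, t ∈ cj(n, 𝑼) → ∃ q ∈ 𝐂₁[c] ⊓ M, q⁻¹ * t * q ∈ E ⊓ 𝑼 := by
    intro n hn' t ht h1
    obtain ⟨q, hq, s', hs', rfl⟩ := h.exists_fac hc hc' hn'
    rw [cj_mul, cj_of_mem_normalizer (hSU hs'), mem_cj] at h1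
    exact ⟨q, hq, Amb.inv_conj_mem_of_mem_normalizer (hEn hq.1) ht, h1⟩
  have hEY : E ≤ Y := fun t ht => by
    by_contra htY
    obtain ⟨y, hy, h1⟩ := h.inv_S (hES ht) (sq_eq_one_of_isEA hEA t ht) htY
    have hyM := h.le (h.Y_le_S hy)
    obtain ⟨q, hq, h2⟩ := key (y⁻¹ * m) (mul_mem (inv_mem hyM) h.m_mem) t ht
      (by rwa [cj_mul, mem_cj, inv_inv])
    have h3 : y * (q⁻¹ * t * q) * y⁻¹ ∈ 𝑫 := (h.act h1 fun h3 => htY (by
        simpa [mul_assoc] using mul_mem (mul_mem (inv_mem hy) h3) hy)).2.1.le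
      ⟨Amb.conj_mem_of_mem_normalizer (hSU (h.Y_le_S hy)) h2.2, mem_centralizer_singleton_iff.2 (by
        have := elemAb_comm hEA h2.1 ht
        calc _ = y * (q⁻¹ * t * q * t) * y⁻¹ := by group
          _ = _ := by rw [this]; group)⟩
    have h4 := Amb.conj_mem_of_mem_normalizer (h.N_D.ge (mul_mem hq.2 (inv_mem hyM))) h3
    exact htY (hUY (by simpa [mul_assoc] using h4.1))
  have hEY' : E ≤ 𝑸' := by
    rw [← hm, cj_mul, cj_of_mem_normalizer (hSY hs), ← cj_of_mem_normalizer (hEn hp.1)]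
    exact cj_mono p hEY
  have hEW : E ≤ (𝑼 ⊓ 𝑸') ⊔ (𝑼' ⊓ Y) := fun t ht =>
    (h.inv_R (hEY ht) (hEV ht) (sq_eq_one_of_isEA hEA t ht)).elim
      (fun h1 => mem_sup_left ⟨h1, hEY' ht⟩) id
  by_cases hED : E ≤ 𝑫
  · exact hEn.trans (by rw [le_antisymm hED hDE, h.N_D])
  obtain ⟨w, hw, hw'⟩ := SetLike.not_le_iff_exists.1 hED
  obtain ⟨n, hn', h1⟩ := w3 w (hEW hw)
  obtain ⟨q, hq, h2⟩ := key n hn' w hw h1
  have h3 : q⁻¹ * w * q ∉ 𝑫 := fun h3 => hw' (by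
    simpa [mul_assoc] using Amb.conj_mem_of_mem_normalizer (h.N_D.ge hq.2) h3)
  have h4 : 𝑼 ⊓ 𝑸' ≤ E := by
    rw [← sup_zpowers_eq_of_card (le_inf inf_le_left (inf_le_right.trans (cj_mono m hUY)))
      (by rw [c1, c2]) ⟨h2.2, hEY' h2.1⟩ h3]
    exact sup_le (zpowers_le.2 h2.1) hDE
  have h5 : 𝑼' ⊓ Y ≤ E := by
    have h5 := Amb.conj_mem_of_mem_normalizer (hEn hp.1) h2.1
    rw [← sup_zpowers_eq_of_card (le_inf inf_le_right (inf_le_left.trans hUY))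
      (by rw [c1, c3]) (x := p * (q⁻¹ * w * q) * p⁻¹) ⟨?_, hEY h5⟩
      fun h6 => h3 ((mem_normalizer_iff.1 (h.N_D.ge hp.2) _).2 h6)]
    · exact sup_le (zpowers_le.2 h5) hDE
    · rw [← hm, cj_mul, cj_of_mem_normalizer (hSU hs)]
      exact conj_mem_cj p h2.2
  rw [le_antisymm hEW (sup_le h4 h5)] at hEn
  refine hEn.trans (h.toTwo.normalizer_eq (elemAb_isPGroup w2) (fun h6 => hc1 ?_) w1).le
  exact mem_bot.1 (h6 ▸ hEW (hDE hc))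

theorem line_iff {l : Subgroup G} : (Cn V l ∧ z ∈ l) ↔ ∃ g ∈ H, cj(g, V) = l := by
  constructor
  · rintro ⟨⟨g, rfl⟩, hg⟩
    obtain ⟨c, hc, h1⟩ := h.one.line hg
    exact ⟨c, h.cent_z.1.le hc, h1.symm⟩
  · rintro ⟨g, hg, rfl⟩
    refine ⟨⟨g, rfl⟩, ?_⟩
    have := conj_mem_cj g h.one.z_mem_V
    rwa [mem_centralizer_singleton_iff.1 (h.cent_z.1.ge hg), mul_inv_cancel_right] at this

theorem Up_eq : Up V z = 𝑼 ∧ Qp V z = Y := by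
  refine ⟨le_antisymm (sSup_le fun l hl => ?_)
    (ncl_le_iff.2 fun g hg => le_sSup (h.line_iff.2 ⟨g, hg, rfl⟩)),
    le_antisymm (h.Y_max _ (fun g hg => ⟨h.cent_z.1.le hg.1, h.N_V.le ?_⟩) fun g hg => ?_)
      (le_inf (h.Y_le_S.trans h.one.S_le_C) (le_iInf₂ fun l hl => ?_))⟩
  · obtain ⟨g, hg, rfl⟩ := h.line_iff.1 hl
    exact cj_le_ncl V hg
  · exact mem_iInf.1 (mem_iInf.1 hg.2 V) (h.line_iff.2 ⟨1, one_mem _, cj_one V⟩)
  · rw [← cj_eq_iff, ← Qp_cj, mem_centralizer_singleton_iff.1 (h.cent_z.1.ge hg),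
      mul_inv_cancel_right]
  · obtain ⟨g, hg, rfl⟩ := h.line_iff.1 hl
    rw [normalizer_cj, h.N_V, ← cj_of_mem_normalizer (h.Y_norm hg)]
    exact cj_mono g (h.Y_le.trans inf_le_right)

theorem Qp_eq {v : G} (hv : v ∈ V) (hv' : v ∉ 𝒁) : ∃ y ∈ Y, Qp V v = cj(y, 𝑸') := by
  obtain ⟨n, hn, rfl⟩ := h.one.trans hv fun e => hv' (e ▸ one_mem _)
  rcases h.toCA.points h.m_mem h.m_ne hn with h1 | ⟨y, hy, y', hy', rfl⟩
  · refine (hv' ?_).elim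
    rw [mem_centralizer_singleton_iff.1 (h.cent_z.1.ge h1), mul_inv_cancel_right]
    exact mem_zpowers z
  · exact ⟨y', hy', by rw [Qp_cj, h.Up_eq.2, cj_mul, cj_mul, cj_of_mem_normalizer (h.Y_norm hy.1)]⟩

theorem oct : Oct V 𝑫 z := by
  obtain ⟨hSH, hHC, hHM, -, -, hE, hUY, hUS, -⟩ := h.toCA.basic
  obtain ⟨-, -, hS, hVS, -, -, -, h5, -, -, c1, c2, -⟩ := h.basic
  obtain ⟨hU, hQ⟩ := h.Up_eq
  have hYH := h.Y_le_S.trans hSH
  refine ⟨h.four, h.one.z_mem_V, h.z_ne, fun v hv h1 => h.N_V ▸ h.one.trans hv h1,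
    fun l ⟨g, hg⟩ hl => hg ▸ h.one.line (hg ▸ hl), ?_, h.N_V ▸ h.card_M, hU ▸ h.cardU,
    hU ▸ h.U_comm, hU ▸ sq_eq_one_of_isEA hE, (h.toCA.D_facts h.m_mem h.m_ne).1,
    hU ▸ inf_le_left, c1, h.N_D.trans h.N_V.symm, fun u hu => ?_, fun c hc hc' d hd hd' => ?_,
    fun c => h.not_conj, fun c hc hc' => h.N_V ▸ h.cent_c hc hc', fun t ht ht2 => ?_,
    fun v hv hv' => ?_, fun v hv hv' l hl hz hlV => ?_, fun t ht ht2 htQ l hl hz htl => ?_,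
    hQ ▸ hU ▸ h.QU.1⟩
  · rw [← h5, ← hS, inf_relIndex_left, relIndex_eq_ncard_image (fun g => cj(g, V))
      fun g _ g' _ => by rw [← h.N_V, ← cj_eq_iff, cj_mul, ← cj_inj (g := g⁻¹), cj_inv_cj, eq_comm]]
    congr 1
    exact Set.ext fun l => h.line_iff
  · obtain ⟨g, hg, h1⟩ := h.orbU.1 u (hU ▸ hu)
    exact ⟨g⁻¹, hHC (inv_mem hg), by rwa [mem_cj, inv_inv]⟩
  · obtain ⟨r, hr, h1⟩ := h.orbU.2.2 c hc hc' d hd hd'
    exact ⟨r, centralizer_le_normalizer' V hr, h1⟩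
  · obtain ⟨g, hg, n, hn, h1⟩ := h.inv_H (h.cent_z.1.le ht) ht2
    obtain ⟨h2, h3⟩ := h.line_iff.2 ⟨g⁻¹, inv_mem hg, rfl⟩
    refine ⟨_, h2, h3, g⁻¹ * n * z * (g⁻¹ * n)⁻¹, ?_,
      fun e => h.z_ne (conj_eq_one_iff.1 e), ?_⟩
    · rw [← cj_of_mem_normalizer (h.N_V.ge hn), ← cj_mul]
      exact conj_mem_cj _ h.one.z_mem_V
    · rwa [Up_cj, hU, cj_mul, mem_cj, inv_inv]
  · obtain ⟨y, hy, h1⟩ := h.Qp_eq hv hv'
    have h2 := Grp.card_inf_mul_relIndex 𝑼 𝑸'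
    rw [c2, h.cardU] at h2
    rw [h1, hU, ← cj_of_mem_normalizer (le_normalizer_ncl V H (hYH hy)), Amal.relIndex_cj]
    omega
  · obtain ⟨y, hy, h1⟩ := h.Qp_eq hv hv'
    obtain ⟨g, hg, rfl⟩ := h.line_iff.1 ⟨hl, hz⟩
    have h2 := congrArg (fun X => cj(y, X)) (h.orbU.2.1 (y⁻¹ * g) (mul_mem (inv_mem (hYH hy)) hg)
      fun h2 => hlV (cj_of_mem_normalizer (h.N_V.ge (h.le
        (by simpa using mul_mem (h.Y_le_S hy) h2)))))
    simp only [cj_inf, cj_mul, cj_cj_inv] at h2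
    rw [h1, h2]
    exact cj_of_mem_normalizer (centralizer_le_normalizer' _ (Amb.centralizer_zpowers z ▸ hHC (hYH hy)))
  · obtain ⟨g, hg, rfl⟩ := h.line_iff.1 ⟨hl, hz⟩
    have htH := h.cent_z.1.le ht.1
    rw [hQ] at htQ
    obtain ⟨y, hy, h1⟩ := h.inv_S (hS.le ⟨htH, h.N_V.le ht.2⟩) ht2 htQ
    rw [normalizer_cj, h.N_V, mem_cj] at htl
    have h2 := h.mem_M_of_conj h1 (fun h2 => htQ (by
      simpa [mul_assoc] using mul_mem (mul_mem (inv_mem hy) h2) hy)) (hHC (mul_mem (hYH hy) hg))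
      (by simpa [mul_assoc] using hS.le (mem_inf.2 ⟨mul_mem (mul_mem (inv_mem hg) htH) hg, htl⟩))
    exact cj_of_mem_normalizer (h.N_V.ge (by simpa using mul_mem (inv_mem (h.le (h.Y_le_S hy))) h2))

end T5

end Cfsg.Agent.NG
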