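import Mathlib
import Cfsg.Agent.NG.Geo

/-! The critical distance is not even when `|V| ≠ 4` (guide `70_ng_6`). -/

set_option autoImplicit false

namespace Cfsg.Agent.NG

open Subgroup Cfsg.Agent.PLocal Cfsg.Agent.PLocal.Amb Cfsg.Agent.PLocal.CP Cfsg.Agent.PLocal.JC
open scoped commutatorElement

variable {G : Type*} [Group G] [Finite G]

variable {S M V : Subgroup G}

/-- a conjugate of the Baumann subgroup lies in a unique conjugate of `M` -/
theorem Two.mem_of_bau_le (h : Two S M V) {x : G} (hx : cj(x, 𝐁[S]) ≤ M) : x ∈ M := by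
  have hB : IsPGroup 2 ↥cj(x, 𝐁[S]) := isPGroup_cj x (h.syl.pgrp.to_le (bau_le S))
  obtain ⟨m, hm, hle⟩ := (h.syl.mono h.le le_top).exists_cj_le hB hx
  rw [← cj_mul, ← bau_cj] at hle
  have e := bau_eq_of_syl (h.syl.cj_of_mem (mem_top (m * x))) h.syl.pgrp hle
  rw [bau_cj] at e
  exact (M.mul_mem_cancel_left hm).1 (h.nB (cj_eq_iff.1 e.symm))

/-- a nonzero vector of a block is centralized by a conjugate of the Baumann subgroup -/
theorem Two.exists_bau_le (h : Two S M V) {K : Subgroup G} (hK : Blk M V ⊥ K) {w : G}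
    (hw : w ∈ bW V ⊥ K) (h1 : w ≠ 1) : ∃ k ∈ K, cj(k, 𝐁[S]) ≤ 𝐂₁[w] := by
  obtain ⟨w₀, hw₀, h0⟩ := exists_ne_one (h.bau_blk hK).2
  obtain ⟨k, hk, e⟩ := h.mod.blk_trans hK hw₀.1 (by simpa using h0) hw (by simpa using h1)
  rw [mem_bot, mul_inv_eq_one] at e
  refine ⟨k, hk, ?_⟩
  rw [← e, centralizer_singleton_conj]
  refine cj_mono k fun b hb => mem_centralizer_singleton_iff.2 (hw₀.2 b hb)

/-- a vector of a block is not full when there are two blocks -/
theorem Two.not_full (h : Two S M V) (h2 : F2 M V) {K : Subgroup G} (hK : Blk M V ⊥ K) {w : G}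
    (hw : w ∈ bW V ⊥ K) : ¬ Full M V ⊥ w := by
  obtain ⟨K₁, K₂, b₁, b₂, hne⟩ := h2
  intro hf
  by_cases e : K₁ = K
  · exact hf K₂ b₂ ((h.mod.blk_ne b₂ hK (e ▸ hne.symm)).1 hw)
  · exact hf K₁ b₁ ((h.mod.blk_ne b₁ hK e).1 hw)

theorem Two.F2_of_blk (h : Two S M V) (h4 : Nat.card V ≠ 4) {K : Subgroup G} (hK : Blk M V ⊥ K) :
    F2 M V := by
  rcases h.cases with h' | h' | h'
  · exact (h' K hK).elim
  · exact h'
  · exact (h4 h').elim

/-- a non-full vector lies in a unique conjugate of `V`, if it lies in a block -/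
theorem Two.mem_of_blk (h : Two S M V) (h4 : Nat.card V ≠ 4) {K : Subgroup G} (hK : Blk M V ⊥ K)
    {w g : G} (hw : w ∈ bW V ⊥ K) (h1 : w ≠ 1) (hg : w ∈ cj(g, V)) : g ∈ M := by
  have nf := h.not_full (h.F2_of_blk h4 hK) hK hw
  have hwV : w ∈ V := h.mod.bW_le hK.le hw
  have h' := h.cj g
  have nf' : ¬ Full cj(g, M) cj(g, V) ⊥ w := by
    intro hf
    obtain ⟨z, hz, hz1⟩ := exists_ne_one (omegaZ_ne_bot h.syl.pgrp (by
      rintro rfl
      exact h.basic.1 (le_bot_iff.1 h.basic.2.2.1)))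
    have hz' : g * z * g⁻¹ ∈ ΩZ[2, cj(g, S)] := by
      rw [omegaZ_cj]; exact conj_mem_cj g hz
    have hK' := hK.cj g
    rw [cj_bot] at hK'
    obtain ⟨n, -, -, e⟩ := h'.conj_of_full hK' (h'.basic.2.1 hz') hg
      (h'.full_of_mem hz' (by simpa using hz1)) hf
    exact nf (h.full_of_conj hwV hz hz1 (isConj_iff.2 ⟨n * g, by rw [← e]; group⟩))
  obtain ⟨k, hk, hle⟩ := h.exists_bau_le hK hw h1
  have h3 : cj(g⁻¹ * k, 𝐁[S]) ≤ M := by
    rw [cj_mul]
    exact le_cj_iff.1 (hle.trans (h'.centralizer_le hg h1 nf'))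
  have h5 := h.mem_of_bau_le h3
  simpa using (M.mul_mem_cancel_right (hK.le hk)).1 h5

theorem Two.eaMod (h : Two S M V) (g : G) (C : Subgroup G) : EAMod cj(g, V) C := by
  have := (h.cj g).ea
  refine ⟨(commutator_eq_bot_iff_le_centralizer.2 (isEA_le_centralizer this)).le.trans bot_le,
    fun a ha => ?_⟩
  rw [sq_eq_one_of_isEA this a ha]
  exact one_mem _

/-- two conjugates of `V` that normalize each other commute (`|V| ≠ 4`) -/
theorem Two.even (h : Two S M V) (h4 : Nat.card V ≠ 4) {g : G} (h1 : V ≤ cj(g, M))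
    (h2 : cj(g, V) ≤ M) : cj(g, V) ≤ 𝐂[V] := by
  have h' := h.cj g
  have e0 : EAMod V (secCent cj(g, V) ⊥) := by
    have := h.eaMod 1 (secCent cj(g, V) ⊥)
    rwa [cj_one] at this
  have m1 := h'.mod.relIndex_le h1 e0
  have ho : (fx V ⊥ cj(g, V)).relIndex V ≤ (secCent V ⊥).relIndex cj(g, V) := by
    rw [fx_bot, secCent_bot, inf_relIndex_left] at *
    exact m1
  obtain ⟨I, t, hI, hle, -⟩ := h.mod.offender h2 (h.eaMod g _) ho
  rcases I.eq_empty_or_nonempty with rfl | ⟨K, hK⟩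
  · simpa [secCent_bot] using hle
  obtain ⟨ht, tv⟩ := hI K hK
  obtain ⟨-, f2, f3, -⟩ := h.mod.tv_facts tv
  rw [relIndex_bot_left] at f3
  obtain ⟨w, hw, hw1⟩ := exists_ne_one (ne_bot_of_card f3 (by norm_num))
  have hw' : w ∈ cj(g, V) := by
    rw [bW_bot] at hw
    refine (?_ : ⁅V, zpowers (t K)⁆ ≤ cj(g, V)) hw
    refine (commutator_mono le_rfl (zpowers_le.2 ht)).trans ?_
    exact le_normalizer_iff_commutator_le_right.1 (h1.trans h'.basic.2.2.2.1.ge)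
  have hg := h.mem_of_blk h4 tv.blk (f2 hw) hw1 hw'
  rw [cj_of_mem_normalizer (h.basic.2.2.2.1.ge hg)]
  exact isEA_le_centralizer h.ea

theorem Geo.cc_of_yy {D H Y F : Subgroup G} (h : Geo S M V D H Y F) (h4 : Nat.card V ≠ 4) {n : ℕ}
    (hy : YY M V H Y n) : CC M V H n := by
  intro β γ hp
  refine h.U_le_iff.2 fun l hl => le_centralizer_iff.1 (h.U_le_iff.2 fun l' hl' => ?_)
  have a1 : tr V l ≤ tr M l' :=
    (h.V_le_U hl).2.1.trans ((hy β γ hp).trans (h.V_le_U hl').2.2.1)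
  have a2 : tr V l' ≤ tr M l :=
    (h.V_le_U hl').2.1.trans ((hy γ β hp.symm).trans (h.V_le_U hl).2.2.1)
  obtain ⟨g, -, -, e1, e2, -⟩ := h.flag hl
  obtain ⟨g', -, -, e1', e2', -⟩ := h.flag hl'
  rw [e2, e1'] at a1
  rw [e2', e1] at a2
  rw [e2, e2']
  have h' := h.toTwo.cj g
  have := h'.even (by rwa [card_cj]) (g := g' * g⁻¹) (by rwa [cj_mul, cj_inv_cj])
    (by rwa [cj_mul, cj_inv_cj])
  rwa [cj_mul, cj_inv_cj] at this

end Cfsg.Agent.NG
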