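import Mathlib
import Cfsg.Agent.NG.GEven

/-! The case of odd critical distance when `|V| ≠ 4` (guide `70_ng_6`). -/

set_option autoImplicit false

namespace Cfsg.Agent.NG

open Subgroup Cfsg.Agent.PLocal Cfsg.Agent.PLocal.Amb Cfsg.Agent.PLocal.CP Cfsg.Agent.PLocal.JC
open scoped commutatorElement

variable {G : Type*} [Group G] [Finite G]

variable {S M V D H Y F : Subgroup G}

namespace GO

omit [Finite G] in
theorem ri_cj (g : G) (A B : Subgroup G) : (cj(g, A)).relIndex cj(g, B) = A.relIndex B :=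
  relIndex_map_map_of_injective _ _ (MulAut.conj g).injective

theorem ri_ne (A B : Subgroup G) : A.relIndex B ≠ 0 := FiniteIndex.index_ne_zero

theorem ri_pow {U : Subgroup G} (hU : IsPGroup 2 U) (C : Subgroup G) :
    ∃ j, C.relIndex U = 2 ^ j :=
  IsPGroup.index hU (C.subgroupOf U)

theorem two_mul_le {a b : ℕ} (ha : ∃ j, a = 2 ^ j) (hb : ∃ j, b = 2 ^ j) (h : a < b) :
    2 * a ≤ b := by
  obtain ⟨i, rfl⟩ := ha
  obtain ⟨j, rfl⟩ := hb
  rw [← pow_succ']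
  exact Nat.pow_le_pow_right (by norm_num) ((Nat.pow_lt_pow_iff_right (by norm_num)).1 h)

theorem eq_of_ri {A B C : Subgroup G} (h1 : A ≤ B) (h2 : B ≤ C)
    (h : A.relIndex C ≤ B.relIndex C) : A = B := by
  have e := relIndex_mul_relIndex A B C h1 h2
  have h0 := ri_ne A B
  have h3 := ri_ne B C
  have : A.relIndex B = 1 := by
    by_contra hc
    have : 2 ≤ A.relIndex B := by omega
    nlinarith [Nat.pos_of_ne_zero h3]
  exact le_antisymm h1 (relIndex_eq_one.1 this)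

omit [Finite G] in
theorem eaMod_of {A : Subgroup G} (h : IsElementaryAbelian 2 A) (C : Subgroup G) : EAMod A C := by
  refine ⟨(commutator_eq_bot_iff_le_centralizer.2 (isEA_le_centralizer h)).le.trans bot_le,
    fun a ha => ?_⟩
  rw [sq_eq_one_of_isEA h a ha]
  exact one_mem _

omit [Finite G] in
theorem maxD_cj (h : MaxD M V D) (g : G) : MaxD cj(g, M) cj(g, V) cj(g, D) := by
  refine ⟨cj_mono g h.1, by rw [centralizer_cj, cj_le_cj_iff]; exact h.2.1, fun E hE hc => ?_⟩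
  have := h.2.2 cj(g⁻¹, E) (le_cj_iff.1 hE) (by rw [centralizer_cj, ← le_cj_iff]; exact hc)
  rwa [card_cj, ← card_cj g D] at this

omit [Finite G] in
theorem exists_sq_mem {T C : Subgroup G} (hT : IsPGroup 2 T) (h : ¬ T ≤ C) :
    ∃ t ∈ T, t ∉ C ∧ t * t ∈ C := by
  obtain ⟨s, hs, hsc⟩ := SetLike.not_le_iff_exists.1 h
  obtain ⟨k, hk⟩ := isPGroup_iff.1 hT s hs
  have hk' : s ^ 2 ^ k ∈ C := hk ▸ one_mem C
  clear hk
  induction k with
  | zero => exact (hsc (by simpa using hk')).elim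
  | succ k ih =>
    by_cases e : s ^ 2 ^ k ∈ C
    · exact ih e
    · exact ⟨_, pow_mem hs _, e, by rwa [← pow_add, ← two_mul, ← pow_succ']⟩

/-- the complement of a block has index 4 -/
theorem ri_fx (h : Two S M V) {K : Subgroup G} (hK : Blk M V ⊥ K) :
    (fx V ⊥ K).relIndex V = 4 := by
  obtain ⟨h1, h2⟩ := h.mod.blk_compl hK
  have hW : bW V ⊥ K ≤ V := h.mod.bW_le hK.le
  have hn : bW V ⊥ K ≤ 𝐍[fx V ⊥ K] :=
    (hW.trans ((isEA_le_centralizer h.ea).trans (centralizer_anti inf_le_left))).trans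
      (centralizer_le_normalizer' _)
  have h4 := card_mul_relIndex_of_le (inf_le_left : fx V ⊥ K ≤ V)
  have h5 := hK.card
  have h6 := card_sup_mul_card_inf hn
  rw [relIndex_bot_left] at h5
  rw [h1, h2, h5, card_bot, ← h4] at h6
  have h7 : 0 < Nat.card (fx V ⊥ K) := Nat.card_pos
  refine Nat.eq_of_mul_eq_mul_left h7 ?_
  change Nat.card (fx V ⊥ K) * (fx V ⊥ K).relIndex V * 1 = _ at h6
  omega

/-- an offender contains a transvection -/
theorem exists_tv_of (h : Two S M V) {A : Subgroup G} (hA : A ≤ M) (hE : EAMod A 𝐂[V])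
    (ho : (𝐂[A]).relIndex V ≤ (𝐂[V]).relIndex A) (hne : ¬ A ≤ 𝐂[V]) :
    ∃ K, ∃ t ∈ A, Tv M V ⊥ K t := by
  obtain ⟨I, t, hI, hle, -⟩ := h.mod.offender hA (by rwa [secCent_bot])
    (by rwa [fx_bot, secCent_bot, inf_relIndex_left])
  rcases I.eq_empty_or_nonempty with rfl | ⟨K, hK⟩
  · exact (hne (by simpa [secCent_bot] using hle)).elim
  exact ⟨K, t K, hI K hK⟩

theorem exists_comm_of_tv (h : Two S M V) {K : Subgroup G} {t : G} (tv : Tv M V ⊥ K t) :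
    ∃ w ∈ ⁅V, zpowers t⁆, w ∈ bW V ⊥ K ∧ w ≠ 1 := by
  obtain ⟨-, f2, f3, -⟩ := h.mod.tv_facts tv
  rw [relIndex_bot_left] at f3
  obtain ⟨w, hw, hw1⟩ := exists_ne_one (ne_bot_of_card f3 (by norm_num))
  exact ⟨w, by rwa [bW_bot] at hw, f2 hw, hw1⟩

/-- an element with full commutators swaps the two blocks -/
theorem swap (h : Two S M V) (h2 : F2 M V) (hf : ∀ d ∈ D, d ≠ 1 → Full M V ⊥ d) {t : G}
    (ht : t ∈ M) (hc : t ∉ 𝐂[V]) (hD : ⁅V, zpowers t⁆ ≤ D) :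
    Nat.card V = 16 ∧ 4 ≤ Nat.card D := by
  have cm : ∀ w ∈ V, ⁅w, t⁆ ∈ D := fun w hw => hD (commutator_mem_commutator hw (mem_zpowers t))
  obtain ⟨K₁, K₂, b₁, b₂, hne⟩ := id h2
  obtain ⟨K, hK, hKt⟩ : ∃ K, Blk M V ⊥ K ∧ ¬ bW V ⊥ K ≤ 𝐂₁[t] := by
    by_contra hn
    push Not at hn
    apply hc
    have e := (h.blocks b₁).1
    rw [← h.mod.bWs_all.1, bWs, bot_sup_eq] at e
    have : V ≤ 𝐂₁[t] := e ▸ iSup₂_le fun K hK => hn K hK
    exact fun v hv => (mem_centralizer_singleton_iff.1 (this hv))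
  have hW : bW V ⊥ K ≤ V := h.mod.bW_le hK.le
  obtain ⟨c1, c2, -⟩ := h.mod.blk_cj hK ht
  have ci : ∀ w ∈ bW V ⊥ K, t * w⁻¹ * t⁻¹ ∈ bW V ⊥ cj(t, K) := fun w hw => by
    rw [c2]; exact conj_mem_cj t (inv_mem hw)
  have ce : ∀ w : G, ⁅w, t⁆ = w * (t * w⁻¹ * t⁻¹) := fun w => by
    rw [commutatorElement_def]; group
  obtain ⟨w, hw, hwt⟩ := SetLike.not_le_iff_exists.1 hKt
  have w1 : ⁅w, t⁆ ≠ 1 := fun e => hwt
    (mem_centralizer_singleton_iff.2 (commutatorElement_eq_one_iff_mul_comm.1 e))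
  have hfull := hf _ (cm w (hW hw)) w1
  have all : ∀ K', Blk M V ⊥ K' → K' = K ∨ K' = cj(t, K) := by
    intro K' hK'
    by_contra hn
    push Not at hn
    refine hfull K' hK' ?_
    rw [ce]
    exact mul_mem ((h.mod.blk_ne hK' hK hn.1).1 hw) ((h.mod.blk_ne hK' c1 hn.2).1 (ci w hw))
  have hKK : K ≠ cj(t, K) := by
    intro e
    rcases all K₁ b₁ with e1 | e1 <;> rcases all K₂ b₂ with e2 | e2 <;> apply hne <;>
      rw [e1, e2] <;> first | exact e | exact e.symm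
  refine ⟨?_, ?_⟩
  · have e : {K | Blk M V ⊥ K} = {K, cj(t, K)} := by
      ext K'
      exact ⟨all K', by rintro (rfl | rfl) <;> assumption⟩
    rw [(h.card_F2 h2).1, e, Set.ncard_pair hKK]
    norm_num
  · have c4 := hK.card
    rw [relIndex_bot_left] at c4
    rw [← c4]
    refine Nat.card_le_card_of_injective
      (fun w : bW V ⊥ K => (⟨⁅(w : G), t⁆, cm w (hW w.2)⟩ : D)) fun a b e => ?_
    have e1 : ⁅(a : G), t⁆ = ⁅(b : G), t⁆ := congrArg Subtype.val e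
    have m1 : (b : G)⁻¹ * a ∈ bW V ⊥ K := mul_mem (inv_mem b.2) a.2
    have e2 : t * ((b : G)⁻¹ * a)⁻¹ * t⁻¹ = ((b : G)⁻¹ * a)⁻¹ := by
      rw [commutatorElement_def, commutatorElement_def, mul_left_inj] at e1
      calc t * ((b : G)⁻¹ * a)⁻¹ * t⁻¹
          = (a : G)⁻¹ * (a * t * (a : G)⁻¹) * b * t⁻¹ := by group
        _ = _ := by rw [e1]; group
    have m2 := ci _ m1
    rw [e2] at m2
    have m3 : ((b : G)⁻¹ * a)⁻¹ ∈ (⊥ : Subgroup G) :=
      (h.mod.blk_ne hK c1 hKK).2.2.le (mem_inf.2 ⟨inv_mem m1, m2⟩)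
    rw [mem_bot, inv_eq_one, inv_mul_eq_one] at m3
    exact Subtype.ext m3.symm

theorem odd_abs {S₁ M₁ W S₂ M₂ A A₀ : Subgroup G} (t₁ : Two S₁ M₁ W) (t₂ : Two S₂ M₂ A)
    (c : Nat.card W = Nat.card A) (h4 : Nat.card W ≠ 4) (mx₁ : MaxD M₁ W D)
    (mx₂ : ∀ E ≤ A, ¬ 𝐂[E] ≤ M₂ → Nat.card E ≤ Nat.card D) (hDA : A ≤ 𝐂[D]) (h0 : A₀ ≤ A)
    (i2 : A₀.relIndex A = 2) (hM : A₀ ≤ M₁) (out : ∀ a ∈ A, a ∉ A₀ → a ∉ M₁)
    (cm : ⁅W, A₀⁆ ≤ 𝐂[A]) : D.relIndex W = 4 := by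
  have W2 : IsPGroup 2 W := isEA_isPGroup t₁.ea
  have A2 : IsPGroup 2 A := isEA_isPGroup t₂.ea
  have cW : 𝐂[W] ≤ M₁ := t₁.basic.2.2.2.2.1
  have fixa : ∀ a ∈ A, a ∉ A₀ → W ⊓ 𝐂₁[a] = D := by
    intro a ha ha0
    have h1 : D ≤ W ⊓ 𝐂₁[a] := le_inf mx₁.1 fun d hd =>
      mem_centralizer_singleton_iff.2 (hDA ha d hd)
    refine (eq_of_le_of_card_le h1 (mx₁.2.2 _ inf_le_left fun hc => out a ha ha0 (hc ?_))).symm
    exact fun d hd => mem_centralizer_singleton_iff.1 hd.2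
  obtain ⟨a, ha, ha0⟩ : ∃ a ∈ A, a ∉ A₀ := by
    by_contra hn
    push Not at hn
    rw [relIndex_eq_one.2 hn] at i2
    omega
  have WA : W ⊓ 𝐂[A] = D := le_antisymm
    ((inf_le_inf_left _ fun x hx => mem_centralizer_singleton_iff.2 (hx a ha).symm).trans
      (fixa a ha ha0).le) (le_inf mx₁.1 (le_centralizer_iff.1 hDA))
  have cmD : ⁅W, A₀⁆ ≤ D := WA ▸ le_inf
    (le_normalizer_iff_commutator_le_left.1 (hM.trans t₁.basic.2.2.2.1.ge)) cm
  have m4 : 4 ≤ D.relIndex W := by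
    have : 2 < D.relIndex W := by
      by_contra hn
      exact mx₁.2.1 (t₁.hyperplane h4 mx₁.1 (by omega))
    exact two_mul_le ⟨1, rfl⟩ (ri_pow W2 D) this
  have E0 : EAMod A₀ 𝐂[W] := eaMod_of (isEA_mono t₂.ea h0) _
  have q2 : (𝐂[W]).relIndex A = (𝐂[W]).relIndex A₀ * 2 := by
    have e1 : 𝐂[W] ⊓ A = 𝐂[W] ⊓ A₀ := le_antisymm (fun x hx => ⟨hx.1, by
      by_contra hn
      exact out x hx.2 hn (cW hx.1)⟩) (inf_le_inf_left _ h0)
    rw [← i2, ← inf_relIndex_right _ A, e1, ← inf_relIndex_right _ A₀,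
      relIndex_mul_relIndex _ _ _ inf_le_right h0]
  have f0 : (𝐂[A₀]).relIndex W ≤ D.relIndex W :=
    relIndex_le_of_le_left (le_centralizer_iff.1 (h0.trans hDA)) (ri_ne _ _)
  have m1 := t₁.mod.relIndex_le hM (by rwa [secCent_bot])
  rw [fx_bot, secCent_bot, inf_relIndex_left] at m1
  have mA : (𝐂[A]).relIndex W = D.relIndex W := by rw [← inf_relIndex_left, WA]
  -- `A₀` is not a nontrivial offender
  have noff : (𝐂[A₀]).relIndex W ≤ (𝐂[W]).relIndex A₀ → (𝐂[W]).relIndex A₀ = 1 := by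
    intro ho
    by_contra hn
    obtain ⟨K, t, ht, tv⟩ := exists_tv_of t₁ hM E0 ho (fun e => hn (relIndex_eq_one.2 e))
    obtain ⟨w, hw, hwK, hw1⟩ := exists_comm_of_tv t₁ tv
    exact t₁.not_full (t₁.F2_of_blk h4 tv.blk) tv.blk hwK
      ((t₁.card_le_four tv.blk mx₁.1 mx₁.2.1).1 w
        (cmD (commutator_mono le_rfl (zpowers_le.2 ht) hw)) hw1)
  have nle : ¬ W ≤ M₂ := by
    intro hle
    have EW : EAMod W (secCent A ⊥) := eaMod_of t₁.ea _
    have m2 := t₂.mod.relIndex_le hle EW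
    rw [fx_bot, secCent_bot, inf_relIndex_left, mA, q2] at m2
    have lt : (𝐂[W]).relIndex A₀ < D.relIndex W := by
      by_contra hn
      have := noff (by omega)
      omega
    have le2 := two_mul_le (ri_pow (A2.to_le h0) _) (ri_pow W2 _) lt
    obtain ⟨I, t, hI, -, c1, -⟩ := t₂.mod.offender hle EW
      (by rw [fx_bot, secCent_bot, inf_relIndex_left, mA, q2]; omega)
    rw [secCent_bot, mA] at c1
    have : 1 < I.card := by
      by_contra hn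
      have : I.card = 0 ∨ I.card = 1 := by omega
      rcases this with e | e <;> rw [e] at c1 <;> omega
    obtain ⟨K, hK, K', hK', hne⟩ := Finset.one_lt_card.1 this
    have key : ∀ K ∈ I, fx A ⊥ (zpowers (t K)) = A₀ := by
      intro K hK
      obtain ⟨ht, tv⟩ := hI K hK
      refine eq_of_ri (C := A) (fun x hx => ?_) h0 (by rw [(t₂.mod.tv_facts tv).1, i2])
      by_contra hn
      rw [fx_bot] at hx
      have h1 : t K ∈ D := fixa x hx.1 hn ▸
        ⟨ht, mem_centralizer_singleton_iff.2 (hx.2 _ (mem_zpowers _))⟩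
      refine tv.act ((t₂.mod.bW_le tv.blk.le).trans ?_)
      rw [fx_bot]
      exact le_inf le_rfl (hDA.trans (centralizer_anti (zpowers_le.2 h1)))
    refine (hI K' hK').2.act ?_
    rw [key K' hK', ← key K hK]
    exact (t₂.mod.blk_ne (hI K hK).2.blk (hI K' hK').2.blk hne).1.trans (hI K hK).2.fix
  have le2 : D.relIndex W ≤ (𝐂[W]).relIndex A₀ * 2 := by
    have h1 := mx₂ (𝐂[W] ⊓ A) inf_le_right fun hc => nle ((le_centralizer_iff.1 inf_le_left).trans hc)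
    have h2 := card_inf_mul_relIndex 𝐂[W] A
    have h3 := card_mul_relIndex_of_le mx₁.1
    rw [← q2]
    have h5 : 0 < Nat.card D := Nat.card_pos
    refine Nat.le_of_mul_le_mul_left ?_ h5
    rw [h3, c, ← h2]
    exact Nat.mul_le_mul_right _ h1
  have nc : ¬ A₀ ≤ 𝐂[W] := fun e => by
    rw [relIndex_eq_one.2 e] at le2
    omega
  rcases t₁.cases with nf | f2 | e
  · have := t₁.mod.nf nf hM (by rwa [secCent_bot]) (by rwa [secCent_bot])
    rw [fx_bot, secCent_bot, inf_relIndex_left] at this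
    omega
  · obtain ⟨t, ht, htc⟩ := SetLike.not_le_iff_exists.1 nc
    obtain ⟨K, -, hK, -⟩ := id f2
    obtain ⟨d1, -, d3⟩ := t₁.card_le_four hK mx₁.1 mx₁.2.1
    obtain ⟨s1, s2⟩ := swap t₁ f2 d1 (hM ht) htc
      ((commutator_mono le_rfl (zpowers_le.2 ht)).trans cmD)
    have h3 := card_mul_relIndex_of_le mx₁.1
    rw [s1, le_antisymm d3 s2] at h3
    omega
  · exact (h4 e).elim

end GO

open GO

theorem Geo.odd_core (h : Geo S M V D H Y F) (h4 : Nat.card V ≠ 4) (hD : MaxD M V D) {a : G}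
    (h1 : cj(a, V) ≤ 𝐂[V]) (h2 : ¬ cj(a, V) ≤ Y) (h3 : ncl V H ≤ 𝐂[ncl V H])
    (h5 : ncl V H ≤ cj(a, H)) : D.relIndex V = 4 := by
  obtain ⟨b1, -, -, b4, -, b6, -⟩ := h.basic
  have ta := h.toTwo.cj a
  have AH : cj(a, V) ≤ H := h1.trans b4
  have AM : cj(a, V) ≤ M := h1.trans h.toTwo.basic.2.2.2.2.1
  obtain ⟨A₀, x, -, k2, k3, k4, k5, k6, -, k8, k9⟩ := hyperplane_mod b1 h.Y_norm
    (inf_le_left.trans h.Y_le_F) h.F_le h.F_norm b6 h.F_self AH (eaMod_of ta.ea _) h2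
  have xH : x ∈ H := h.F_le k4
  have eD : cj(x, D) = D := cj_of_mem_normalizer (centralizer_le_normalizer' _ (h.H_le xH))
  have mx₁ := maxD_cj hD x
  rw [eD] at mx₁
  have := odd_abs (D := D) (h.toTwo.cj x) ta (by rw [card_cj, card_cj]) (by rwa [card_cj]) mx₁
    (fun E hE hc => by simpa only [card_cj] using (maxD_cj hD a).2.2 E hE hc) (AH.trans h.H_le) k2 k3
    (fun y hy => (h.fix_iff ⟨AH (k2 hy), AM (k2 hy)⟩ k4).2 (k8 y hy)) (fun y hy hy0 hm => ?_) ?_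
  · rwa [← eD, ri_cj] at this
  · have c1 := (h.fix_iff ⟨AH hy, AM hy⟩ k4).1 hm
    have c2 := k9 y hy hy0
    have c3 : x * x ∈ Y := by
      have := mul_mem (inv_mem c1) c2
      rwa [show ⁅y, x⁆⁻¹ * (y * x * y⁻¹ * x) = x * x by rw [commutatorElement_def]; group] at this
    exact k5 (Sym4Rec.mem_of_sq_mem_of_odd k6 c3)
  · have n1 : cj(a, H) ≤ 𝐍[cj(a, ncl V H)] := by
      rw [normalizer_cj]; exact cj_mono a (le_normalizer_ncl V H)
    have n2 : cj(a, V) ≤ cj(a, ncl V H) := cj_mono a (le_ncl V H)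
    refine (commutator_mono ((cj_le_ncl V xH).trans h5) (k2.trans n2)).trans
      ((le_normalizer_iff_commutator_le_right.1 n1).trans ?_)
    refine le_trans ?_ (centralizer_anti n2)
    rw [centralizer_cj]
    exact cj_mono a h3

theorem CC.abelian (hc : CC M V H 0) : ncl V H ≤ 𝐂[ncl V H] := by
  have := hc ((1 : G) : G ⧸ H) _ (PP.refl 0 _)
  rwa [tr_mk (le_normalizer_ncl V H), cj_one] at this

theorem Geo.odd (h : Geo S M V D H Y F) (h4 : Nat.card V ≠ 4) (hD : MaxD M V D) {n : ℕ}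
    (hlt : ∀ k < n, YY M V H Y k ∧ CC M V H k) (hn : ¬ YY M V H Y n) : D.relIndex V = 4 := by
  obtain _ | n := n
  · exact (hn h.yy_zero).elim
  obtain ⟨β, β', hp, hU⟩ : ∃ β β' : G ⧸ H, PP M H (n + 1) β β' ∧ ¬ tr (ncl V H) β ≤ tr Y β' := by
    by_contra hc
    push Not at hc
    exact hn hc
  obtain ⟨α, hα, hA⟩ : ∃ α, Inc M H β α ∧ ¬ tr V α ≤ tr Y β' := by
    by_contra hc
    push Not at hc
    exact hU (h.U_le_iff.2 hc)
  have cc := (hlt n (by omega)).2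
  have a5 := h.U_le_H cc hp.symm
  obtain ⟨δ, γ, p1, p2, p3⟩ := hp
  have a1 : tr V α ≤ 𝐂[tr V γ] :=
    (h.V_le_U hα).2.1.trans ((cc β δ p1).trans (centralizer_anti (h.V_le_U p2).2.1))
  obtain ⟨g, -, -, -, e2, -, -, e5, -, e7, -⟩ := h.flag p3
  obtain ⟨g', -, -, -, e2', -, e4', -⟩ := h.flag hα
  rw [e2', e2, centralizer_cj, le_cj_iff, ← cj_mul] at a1
  rw [e2', e5, le_cj_iff, ← cj_mul] at hA
  rw [e7, e4', cj_le_iff, ← cj_mul] at a5
  exact h.odd_core h4 hD a1 hA (hlt 0 (by omega)).2.abelian a5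

theorem Geo.action_of_four (h : Geo S M V D H Y F) (h4 : Nat.card V ≠ 4)
    (h1 : D.relIndex V = 4) : (𝐂[V]).relIndex (H ⊓ M) ≤ 2 ∧ ⁅V, H ⊓ M⁆ ≤ D ∧
      ∀ t ∈ H ⊓ M, t ∉ 𝐂[V] → V ⊓ 𝐂₁[t] = D := by
  have tw := h.toTwo
  have nD : ¬ 𝐂[D] ≤ M := fun e => h.not_le (h.H_le.trans e)
  have V2 : IsPGroup 2 V := isEA_isPGroup tw.ea
  have PD : H ⊓ M ≤ 𝐂[D] := inf_le_left.trans h.H_le
  have notv : ∀ t ∈ H ⊓ M, ∀ K, ¬ Tv M V ⊥ K t := by
    intro t ht K tv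
    obtain ⟨-, d2, d3⟩ := tw.card_le_four tv.blk h.D_le nD
    obtain ⟨c1, c2⟩ := tw.card_F2 (tw.F2_of_blk h4 tv.blk)
    have c3 := card_mul_relIndex_of_le h.D_le
    rw [h1] at c3
    have c4 : 4 ^ 2 ≤ Nat.card V := c1 ▸ Nat.pow_le_pow_right (by norm_num) c2
    have c5 : (fx V ⊥ K).relIndex D = 4 := by
      rw [← inf_relIndex_left, d2, relIndex_bot_left]
      omega
    have c6 : D ≤ fx V ⊥ (zpowers t) := by
      rw [fx_bot]
      exact le_inf h.D_le (le_centralizer_iff.1 (zpowers_le.2 (PD ht)))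
    have c7 := relIndex_le_of_le_right (H := fx V ⊥ K) c6 (ri_ne _ _)
    have c8 := relIndex_mul_relIndex _ _ V tv.fix inf_le_left
    rw [(tw.mod.tv_facts tv).1, ri_fx tw tv.blk] at c8
    omega
  have fixt : ∀ t ∈ H ⊓ M, t ∉ 𝐂[V] → V ⊓ 𝐂₁[t] = D := by
    intro t ht hc
    have l1 : D ≤ V ⊓ 𝐂₁[t] := le_inf h.D_le fun d hd =>
      mem_centralizer_singleton_iff.2 (PD ht d hd)
    refine (eq_of_ri l1 inf_le_left ?_).symm
    have n1 : (V ⊓ 𝐂₁[t]).relIndex V ≠ 1 := fun e => hc fun v hv =>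
      mem_centralizer_singleton_iff.1 (relIndex_eq_one.1 e hv).2
    have n2 : (V ⊓ 𝐂₁[t]).relIndex V ≠ 2 := fun e => by
      obtain ⟨K, tv⟩ := tw.mod.exists_tv ht.2 (by rwa [fx_bot, Amb.centralizer_zpowers])
      exact notv t ht K tv
    have n0 := ri_ne (V ⊓ 𝐂₁[t]) V
    exact h1 ▸ two_mul_le ⟨1, rfl⟩ (ri_pow V2 _) (by omega)
  have nV : H ⊓ M ≤ 𝐍[V] := inf_le_right.trans tw.basic.2.2.2.1.ge
  have ab : ∀ v ∈ V, ∀ w ∈ V, v * w = w * v := fun v hv w hw => isEA_comm tw.ea hv hw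
  have sq : ∀ v ∈ V, v * v = 1 := sq_eq_one_of_isEA tw.ea
  obtain ⟨E, hE⟩ : ∃ E, E = (H ⊓ M) ⊓ secCent V D := ⟨_, rfl⟩
  have EP : E ≤ H ⊓ M := hE ▸ inf_le_left
  have ES : E ≤ secCent V D := hE ▸ inf_le_right
  have EE : EAMod E 𝐂[V] := by
    have c0 : ⁅⁅V, E⁆, E⁆ = ⊥ := commutator_eq_bot_iff_le_centralizer.2
      ((le_secCent_iff'.1 ES).2.trans (le_centralizer_iff.1 (EP.trans PD)))
    refine ⟨commutator_eq_bot_iff_le_centralizer.1
      (commutator_commutator_eq_bot_of_rotate (by rwa [commutator_comm E V]) c0), fun a ha v hv => ?_⟩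
    have d1 : ⁅a, v⁆ ∈ D := (ES ha).2 v hv
    have d2 := PD (EP ha) _ d1
    have d3 := sq _ (h.D_le d1)
    have d4 : a * v = ⁅a, v⁆ * v * a := by rw [commutatorElement_def]; group
    calc v * (a * a) = ⁅a, v⁆ * (⁅a, v⁆ * v * a) * a := by
          rw [show ⁅a, v⁆ * (⁅a, v⁆ * v * a) * a = (⁅a, v⁆ * ⁅a, v⁆) * (v * (a * a)) by
            simp only [mul_assoc], d3, one_mul]
      _ = (⁅a, v⁆ * a) * v * a := by rw [← d4]; group
      _ = a * (⁅a, v⁆ * v * a) := by rw [d2]; group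
      _ = _ := by rw [← d4]; group
  have E2 : (𝐂[V]).relIndex E ≤ 2 := by
    by_contra hn
    have nE : E ≤ 𝐍[𝐂[V]] := Amb.le_normalizer_centralizer (EP.trans nV)
    have l4 := two_mul_le ⟨1, rfl⟩ (EE.relIndex_pow nE) (Nat.lt_of_not_le hn)
    have l5 : (𝐂[E]).relIndex V ≤ D.relIndex V :=
      relIndex_le_of_le_left (le_centralizer_iff.1 (EP.trans PD)) (ri_ne _ _)
    obtain ⟨K, t, ht, tv⟩ := exists_tv_of tw (EP.trans inf_le_right) EE (by omega)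
      (fun e => hn (by rw [relIndex_eq_one.2 e]; omega))
    exact notv t (EP ht) K tv
  obtain ⟨T, hT, TM, RT⟩ := h.sylD
  have TP : T ≤ H ⊓ M := by
    rw [h.basic.2.2.2.2.1]
    exact le_inf hT.le TM
  have nT : ¬ T ≤ 𝐂[V] := by
    intro e
    have e1 : T = S ⊓ 𝐂[V] := tw.basic.2.2.2.2.2.2.2.2.1.eq hT.pgrp RT e
    have D2 : IsPGroup 2 D := V2.to_le h.D_le
    exact nD (tw.puR h4 (tw.hyp.solv_of_le D2 h.D_ne (centralizer_le_normalizer' D))
      (tw.hyp.charC D2 h.D_ne) (e1 ▸ hT))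
  obtain ⟨t, ht, htc, ht2⟩ := exists_sq_mem hT.pgrp nT
  have tP := TP ht
  have nD' : H ⊓ M ≤ 𝐍[D] := PD.trans (centralizer_le_normalizer' D)
  have tE : t ∈ E := by
    rw [hE]
    refine ⟨tP, nD' tP, fun v hv => ?_⟩
    have v1 := Amb.conj_mem_of_mem_normalizer (nV tP) hv
    rw [← fixt t tP htc, commutatorElement_def]
    refine mem_inf.2 ⟨mul_mem v1 (inv_mem hv), mem_centralizer_singleton_iff.2 ?_⟩
    have i1 : v⁻¹ = v := inv_eq_of_mul_eq_one_right (sq v hv)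
    rw [i1]
    calc t * v * t⁻¹ * v * t = v * (t * v * t⁻¹) * t := by rw [ab _ v1 v hv]
      _ = (v * (t * t)) * t⁻¹ * v := by group
      _ = _ := by rw [ht2 v hv]; group
  have PE : H ⊓ M ≤ E := by
    intro s hs
    have nE : s ∈ 𝐍[E] := by
      rw [hE]
      exact Amb.le_normalizer_inf le_normalizer (le_normalizer_secCent nV nD') hs
    have t1 : s⁻¹ * t * s ∈ E := Amb.inv_conj_mem_of_mem_normalizer nE tE
    have t2 : s⁻¹ * t * s ∉ 𝐂[V] := fun e => htc (by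
      have := Amb.conj_mem_of_mem_normalizer (Amb.normalizer_le_normalizer_centralizer V (nV hs)) e
      rwa [show s * (s⁻¹ * t * s) * s⁻¹ = t by group] at this)
    have t3 : t⁻¹ * (s⁻¹ * t * s) ∈ 𝐂[V] := by
      have i2 : ((𝐂[V]).subgroupOf E).index = 2 := by
        have n0 := ri_ne 𝐂[V] E
        have n1 : (𝐂[V]).relIndex E ≠ 1 := fun e => htc (relIndex_eq_one.1 e tE)
        change (𝐂[V]).relIndex E = 2
        omega
      have := (mul_mem_iff_of_index_two i2 (a := ⟨t⁻¹, inv_mem tE⟩) (b := ⟨_, t1⟩)).2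
        (by simp only [mem_subgroupOf, inv_mem_iff, htc, t2])
      exact this
    rw [hE]
    refine ⟨hs, nD' hs, fun v hv => ?_⟩
    have v1 := Amb.conj_mem_of_mem_normalizer (nV hs) hv
    have d1 : ⁅t, v⁆ ∈ D := (ES tE).2 v hv
    have d2 := PD hs _ d1
    have d3 := t3 v hv
    rw [← fixt t tP htc, commutatorElement_def, ab _ v1 _ (inv_mem hv)]
    refine mem_inf.2 ⟨mul_mem (inv_mem hv) v1, mem_centralizer_singleton_iff.2 ?_⟩
    have d4 : t * (s * v * s⁻¹) * t⁻¹ * (s * v * s⁻¹)⁻¹ = ⁅t, v⁆ := by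
      calc t * (s * v * s⁻¹) * t⁻¹ * (s * v * s⁻¹)⁻¹
          = s * (t * ((t⁻¹ * (s⁻¹ * t * s)) * v) * (t⁻¹ * (s⁻¹ * t * s))⁻¹ * t⁻¹ * v⁻¹) * s⁻¹ := by
            group
        _ = s * ⁅t, v⁆ * s⁻¹ := by rw [← d3, commutatorElement_def]; group
        _ = _ := by rw [← d2]; group
    have v2 := Amb.conj_mem_of_mem_normalizer (nV tP) hv
    have d5 : t * (v⁻¹ * (s * v * s⁻¹)) * t⁻¹ = v⁻¹ * (s * v * s⁻¹) := by
      calc t * (v⁻¹ * (s * v * s⁻¹)) * t⁻¹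
          = (t * v * t⁻¹)⁻¹ * (t * (s * v * s⁻¹) * t⁻¹ * (s * v * s⁻¹)⁻¹) * (s * v * s⁻¹) := by group
        _ = _ := by rw [d4, commutatorElement_def]; group
    exact (mul_inv_eq_iff_eq_mul.1 d5).symm
  have eE : E = H ⊓ M := le_antisymm EP PE
  exact ⟨eE ▸ E2, (le_secCent_iff'.1 (PE.trans ES)).2, fixt⟩

end Cfsg.Agent.NG
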