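import Mathlib
import Cfsg.Agent.NG.GOdd
import Cfsg.Agent.NG.GEven

/-! Lemma 2N and `|V| = 4` (guide `70_ng_6`). -/

set_option autoImplicit false

namespace Cfsg.Agent.NG

open Subgroup Cfsg.Agent.PLocal Cfsg.Agent.PLocal.Amb Cfsg.Agent.PLocal.CP Cfsg.Agent.PLocal.JC
open scoped commutatorElement

variable {G : Type*} [Group G] [Finite G]

variable {S M V D H Y F : Subgroup G}

open GO

namespace TN

/-- induction along subgroups of index 2 -/
theorem step_ind {A C U : Subgroup G} (f : Subgroup G → Subgroup G) (hU : ∀ B, f B ≤ U)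
    (anti : ∀ B B', B ≤ B' → f B' ≤ f B)
    (step : ∀ B ≤ A, ¬ B ≤ C → ∃ B₀ W : Subgroup G, B ⊓ C ≤ B₀ ∧ B₀ ≤ B ∧ B₀.relIndex B = 2 ∧
      W ≤ f B₀ ∧ 4 ≤ (f B).relIndex W) :
    ∀ B ≤ A, C.relIndex B ^ 2 ≤ (f B).relIndex U := by
  intro B
  induction B using WellFoundedLT.induction with
  | ind B ih =>
    intro hB
    by_cases hc : B ≤ C
    · rw [relIndex_eq_one.2 hc]
      exact Nat.pos_of_ne_zero (ri_ne _ _)
    obtain ⟨B₀, W, k1, k2, k3, k4, k5⟩ := step B hB hc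
    have lt : B₀ < B := lt_of_le_of_ne k2 (by
      rintro rfl
      rw [relIndex_self] at k3
      omega)
    have i1 := ih B₀ lt (k2.trans hB)
    have e1 : C ⊓ B = C ⊓ B₀ := le_antisymm (le_inf inf_le_left ((inf_comm _ _).le.trans k1))
      (inf_le_inf_left _ k2)
    have e2 : C.relIndex B = C.relIndex B₀ * 2 := by
      rw [← k3, ← inf_relIndex_right _ B, e1, ← inf_relIndex_right _ B₀,
        relIndex_mul_relIndex _ _ _ inf_le_right k2]
    have e3 := relIndex_mul_relIndex _ _ U (anti _ _ k2) (hU B₀)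
    have e4 := k5.trans (relIndex_le_of_le_right (H := f B) k4 (ri_ne _ _))
    rw [e2, ← e3, mul_pow, mul_comm]
    exact Nat.mul_le_mul e4 i1

/-- the situation of Lemma 2N -/
structure N2 (S M V D H Y F : Subgroup G) : Prop extends Geo S M V D H Y F where
  h1 : D.relIndex V = 4
  h2 : (𝐂[V]).relIndex (H ⊓ M) ≤ 2
  h3 : ⁅V, H ⊓ M⁆ ≤ D
  h4 : ∀ t ∈ H ⊓ M, t ∉ 𝐂[V] → V ⊓ 𝐂₁[t] = D

theorem N2.cj (h : N2 S M V D H Y F) (g : G) :
    N2 cj(g, S) cj(g, M) cj(g, V) cj(g, D) cj(g, H) cj(g, Y) cj(g, F) := by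
  refine ⟨h.toGeo.cj g, by rw [ri_cj, h.h1], ?_, ?_, fun t ht hc => ?_⟩
  · rw [centralizer_cj, ← cj_inf, ri_cj]; exact h.h2
  · rw [← cj_inf, commutator_cj]; exact cj_mono g h.h3
  · rw [← cj_inf, mem_cj] at ht
    rw [centralizer_cj, mem_cj] at hc
    rw [← h.h4 _ ht hc, cj_inf, ← centralizer_singleton_conj]
    congr 3
    group

theorem N2.line (h : N2 S M V D H Y F) {x : G} (hx : x ∈ H) :
    N2 cj(x, S) cj(x, M) cj(x, V) D H Y F := by
  have := h.cj x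
  rwa [cj_of_mem_normalizer (centralizer_le_normalizer' _ (h.H_le hx)), cj_of_mem hx,
    cj_of_mem_normalizer (h.Y_norm hx), cj_of_mem_normalizer (h.F_norm hx)] at this

omit [Finite G] in
theorem N2.not_four (h : N2 S M V D H Y F) : Nat.card V ≠ 4 := by
  intro e
  have h1 := card_mul_relIndex_of_le h.D_le
  rw [h.h1, e] at h1
  exact h.D_ne (card_eq_one.1 (by omega))

/-- an element of `H` fixing a nonzero vector of `V / D` lies in `M` -/
theorem N2.mem_M (h : N2 S M V D H Y F) {a u : G} (ha : a ∈ H) (hu : u ∈ V) (hD : u ∉ D)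
    (hc : ⁅u, a⁆ ∈ D) : a ∈ M := by
  have tw := h.toGeo.toTwo
  have EV : zpowers u ⊔ D ≤ V := sup_le (zpowers_le.2 hu) h.D_le
  have i2 : (zpowers u ⊔ D).relIndex V ≤ 2 := by
    have e := relIndex_mul_relIndex D _ V le_sup_right EV
    have n0 := ri_ne D (zpowers u ⊔ D)
    have n1 : D.relIndex (zpowers u ⊔ D) ≠ 1 := fun e =>
      hD (relIndex_eq_one.1 e (mem_sup_left (mem_zpowers u)))
    rw [h.h1] at e
    by_contra hn
    have : 2 * 3 ≤ D.relIndex (zpowers u ⊔ D) * (zpowers u ⊔ D).relIndex V :=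
      Nat.mul_le_mul (by omega) (by omega)
    omega
  have cM := tw.hyperplane h.not_four EV i2
  have eC : 𝐂[(zpowers u ⊔ D : Subgroup G)] = 𝐂[V] := by
    refine le_antisymm (fun t ht => ?_) (centralizer_anti EV)
    by_contra hn
    have tP : t ∈ H ⊓ M := by
      rw [h.toGeo.basic.2.2.2.2.1]
      exact ⟨centralizer_anti le_sup_right ht, cM ht⟩
    exact hD (h.h4 t tP hn ▸ mem_inf.2 ⟨hu, mem_centralizer_singleton_iff.2
      (ht u (mem_sup_left (mem_zpowers u)))⟩)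
  have nE : a ∈ 𝐍[(zpowers u ⊔ D : Subgroup G)] := by
    refine mem_normalizer_of_cj_le ?_
    rw [cj_sup, cj_of_mem_normalizer (centralizer_le_normalizer' _ (h.H_le ha))]
    refine sup_le ?_ le_sup_right
    rw [MonoidHom.map_zpowers, zpowers_le]
    change a * u * a⁻¹ ∈ _
    rw [show a * u * a⁻¹ = (u⁻¹ * ⁅u, a⁆)⁻¹ by rw [commutatorElement_def]; group]
    exact inv_mem (mul_mem (mem_sup_left (inv_mem (mem_zpowers u))) (mem_sup_right hc))
  have nC : a ∈ 𝐍[𝐂[V]] := eC ▸ Amb.normalizer_le_normalizer_centralizer _ nE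
  have VQ : V ≤ 𝐐[𝐂[V]] := le_pCoreOf (isEA_isPGroup tw.ea) (isEA_le_centralizer tw.ea)
    (centralizer_le_normalizer' V)
  have := tw.normalizer_eq (Amb.isPGroup_pCoreOf 2 𝐂[V]) (fun e => tw.basic.1 (le_bot_iff.1 (e ▸ VQ)))
    ((Amb.le_normalizer_centralizer tw.basic.2.2.2.1.ge).trans (Amb.normalizer_le_normalizer_pCoreOf 2 _))
  exact this.le (Amb.normalizer_le_normalizer_pCoreOf 2 _ nC)

theorem N2.U_le (h : N2 S M V D H Y F) : ncl V H ≤ H :=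
  h.toGeo.basic.2.2.2.2.2.2.2.2.2.1.trans (Amb.pCoreOf_le 2 H)

theorem N2.lower (h : N2 S M V D H Y F) {A : Subgroup G} (hA : A ≤ 𝐂[V])
    (hE : IsElementaryAbelian 2 A) : Y.relIndex A ^ 2 ≤ (fx (ncl V H) D A).relIndex (ncl V H) := by
  obtain ⟨b1, -, -, b4, -, b6, -⟩ := h.toGeo.basic
  have AH : A ≤ H := hA.trans b4
  have AM : A ≤ M := hA.trans h.toGeo.toTwo.basic.2.2.2.2.1
  have nD : ncl V H ≤ 𝐍[D] := h.U_le.trans (h.H_le.trans (centralizer_le_normalizer' D))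
  refine step_ind (A := A) (fx (ncl V H) D) (fun _ => inf_le_left)
    (fun B B' hB u hu => ⟨hu.1, hu.2.1, fun b hb => hu.2.2 b (hB hb)⟩) (fun B hB hc => ?_) A le_rfl
  obtain ⟨B₀, x, k1, k2, k3, k4, k5, k6, -, k8, k9⟩ := hyperplane_mod b1 h.Y_norm
    (inf_le_left.trans h.Y_le_F) h.F_le h.F_norm b6 h.F_self (hB.trans AH)
    (eaMod_of (isEA_mono hE hB) _) hc
  have xH : x ∈ H := h.F_le k4
  have hl := h.line xH
  have VU : cj(x, V) ≤ ncl V H := cj_le_ncl V xH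
  refine ⟨B₀, cj(x, V), k1, k2, k3, fun u hu => ⟨VU hu, nD (VU hu), fun b hb => ?_⟩, ?_⟩
  · have bA := hB (k2 hb)
    exact hl.h3 (commutator_mem_commutator hu
      ⟨AH bA, (h.toGeo.fix_iff ⟨AH bA, AM bA⟩ k4).2 (k8 b hb)⟩)
  · obtain ⟨y, hy, hy0⟩ : ∃ y ∈ B, y ∉ B₀ := by
      by_contra hn
      push Not at hn
      rw [relIndex_eq_one.2 hn] at k3
      omega
    have yA := hB hy
    rw [← hl.h1, ← inf_relIndex_right (fx (ncl V H) D B)]
    refine relIndex_le_of_le_left (fun u hu => ?_) (ri_ne _ _)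
    by_contra hn
    have c1 := (h.toGeo.fix_iff ⟨AH yA, AM yA⟩ k4).1 (hl.mem_M (AH yA) hu.2 hn (hu.1.2.2 y hy))
    have c2 := k9 y hy hy0
    have c3 : x * x ∈ Y := by
      have := mul_mem (inv_mem c1) c2
      rwa [show ⁅y, x⁆⁻¹ * (y * x * y⁻¹ * x) = x * x by rw [commutatorElement_def]; group] at this
    exact k5 (Sym4Rec.mem_of_sq_mem_of_odd k6 c3)

theorem N2.upper (h : N2 S M V D H Y F) {B : Subgroup G} (hB : B ≤ Y) :
    (𝐂[ncl V H]).relIndex B ^ 2 ≤ (ncl V H ⊓ 𝐂[B]).relIndex (ncl V H) := by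
  refine step_ind (A := Y) (fun B => ncl V H ⊓ 𝐂[B]) (fun _ => inf_le_left)
    (fun B B' hB => inf_le_inf_left _ (centralizer_anti hB)) (fun B hB hc => ?_) B hB
  obtain ⟨x, hx, hxc⟩ : ∃ x ∈ H, ¬ B ≤ 𝐂[cj(x, V)] := by
    by_contra hn
    push Not at hn
    exact hc (le_centralizer_iff.1 (ncl_le_iff.2 fun g hg => le_centralizer_iff.1 (hn g hg)))
  have hl := h.line hx
  have VU : cj(x, V) ≤ ncl V H := cj_le_ncl V hx
  have BP : B ≤ H ⊓ cj(x, M) := hB.trans hl.Y_le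
  refine ⟨B ⊓ 𝐂[cj(x, V)], cj(x, V), inf_le_inf_left _ (centralizer_anti VU), inf_le_left, ?_,
    le_inf VU (le_centralizer_iff.1 inf_le_right), ?_⟩
  · rw [inf_relIndex_left]
    have n0 := ri_ne 𝐂[cj(x, V)] B
    have n1 : (𝐂[cj(x, V)]).relIndex B ≠ 1 := fun e => hxc (relIndex_eq_one.1 e)
    have n2 := (relIndex_le_of_le_right (H := 𝐂[cj(x, V)]) BP (ri_ne _ _)).trans hl.h2
    omega
  · obtain ⟨t, ht, htc⟩ := SetLike.not_le_iff_exists.1 hxc
    rw [← hl.h1, ← inf_relIndex_right (ncl V H ⊓ 𝐂[B]), ← hl.h4 t (BP ht) htc]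
    exact relIndex_le_of_le_left (fun u hu => mem_inf.2 ⟨hu.2,
      mem_centralizer_singleton_iff.2 (hu.1.2 t ht).symm⟩) (ri_ne _ _)

theorem N2.comm (h : N2 S M V D H Y F) : ⁅Y, ncl V H⁆ ≤ D := by
  have nD : H ≤ 𝐍[D] := h.H_le.trans (centralizer_le_normalizer' D)
  refine commutator_ncl_le h.Y_norm nD (((le_ncl V H).trans h.U_le).trans nD) ?_
  rw [commutator_comm]
  exact (commutator_mono le_rfl h.Y_le).trans h.h3

theorem N2.core (h : N2 S M V D H Y F) (hab : ncl V H ≤ 𝐂[ncl V H]) {a : G}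
    (h1 : cj(a, ncl V H) ≤ 𝐂[V]) (h2 : ¬ cj(a, ncl V H) ≤ Y) (h3 : cj(a, D) ⊓ D = ⊥)
    (h4 : (cj(a, Y)).relIndex (ncl V H) ≤ Y.relIndex cj(a, ncl V H)) : False := by
  have ha := h.cj a
  have nD : ncl V H ≤ 𝐍[D] := h.U_le.trans (h.H_le.trans (centralizer_le_normalizer' D))
  have hE : IsElementaryAbelian 2 (ncl V H) :=
    isEA_iSup (fun g => (h.toGeo.toTwo.cj g).ea) fun g g' =>
      (cj_le_ncl V g.2).trans (hab.trans (centralizer_anti (cj_le_ncl V g'.2)))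
  have lo := h.lower h1 (isEA_map hE _)
  have up := ha.upper (B := cj(a, Y) ⊓ ncl V H) inf_le_left
  have cm := ha.comm
  rw [← cj_ncl] at up cm
  have l1 : (fx (ncl V H) D cj(a, ncl V H)).relIndex (ncl V H) ≤
      (𝐂[cj(a, ncl V H)] ⊓ cj(a, Y)).relIndex (ncl V H) := by
    rw [← inf_relIndex_right (𝐂[cj(a, ncl V H)] ⊓ cj(a, Y))]
    refine relIndex_le_of_le_left (fun u hu => ⟨hu.2, nD hu.2, fun b hb => ?_⟩) (ri_ne _ _)
    rw [commutatorElement_eq_one_iff_mul_comm.2 (hu.1.1 b hb).symm]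
    exact one_mem D
  rw [← relIndex_inf_mul_relIndex] at l1
  have l2 : (cj(a, ncl V H) ⊓ 𝐂[(cj(a, Y) ⊓ ncl V H : Subgroup G)]).relIndex cj(a, ncl V H) ≤
      Y.relIndex cj(a, ncl V H) := by
    rw [← inf_relIndex_right Y]
    refine relIndex_le_of_le_left (le_inf inf_le_right
      (commutator_eq_bot_iff_le_centralizer.1 (le_bot_iff.1 (h3 ▸ le_inf ?_ ?_)))) (ri_ne _ _)
    · rw [commutator_comm]
      exact (commutator_mono inf_le_left inf_le_right).trans cm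
    · exact (commutator_mono inf_le_left inf_le_right).trans h.comm
  have n0 := ri_ne Y cj(a, ncl V H)
  have n1 : Y.relIndex cj(a, ncl V H) ≠ 1 := fun e => h2 (relIndex_eq_one.1 e)
  have l3 := lo.trans (l1.trans (Nat.mul_le_mul_left _ h4))
  have l4 := up.trans l2
  generalize Y.relIndex cj(a, ncl V H) = s at *
  generalize (𝐂[cj(a, ncl V H)]).relIndex (cj(a, Y) ⊓ ncl V H) = e at *
  have l5 : s ≤ e := Nat.le_of_mul_le_mul_right (by rwa [← sq]) (Nat.pos_of_ne_zero n0)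
  have l6 : 2 ≤ s := by omega
  nlinarith

end TN

open TN

/-- Lemma 2N -/
theorem Geo.twoN (h : Geo S M V D H Y F) (h1 : D.relIndex V = 4)
    (h2 : (𝐂[V]).relIndex (H ⊓ M) ≤ 2) (h3 : ⁅V, H ⊓ M⁆ ≤ D)
    (h4 : ∀ t ∈ H ⊓ M, t ∉ 𝐂[V] → V ⊓ 𝐂₁[t] = D) {n : ℕ}
    (hlt : ∀ k < n, YY M V H Y k ∧ CC M V H k) (hn : ¬ YY M V H Y n) : False := by
  have hN : N2 S M V D H Y F := ⟨h, h1, h2, h3, h4⟩
  obtain _ | n := n
  · exact hn h.yy_zero
  have cc := (hlt n (by omega)).2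
  have key : ∀ β β' : G ⧸ H, PP M H (n + 1) β β' → ¬ tr (ncl V H) β ≤ tr Y β' →
      (tr Y β).relIndex (tr (ncl V H) β') ≤ (tr Y β').relIndex (tr (ncl V H) β) → False := by
    intro β β' hp hU hi
    have a3 := h.D_inf (h.U_le_H cc hp) hU
    obtain ⟨δ, γ, p1, p2, p3⟩ := hp
    have a1 : tr (ncl V H) β ≤ 𝐂[tr V γ] :=
      (cc β δ p1).trans (centralizer_anti (h.V_le_U p2).2.1)
    obtain ⟨α, hα⟩ := exists_inc_line M β
    obtain ⟨g, -, -, -, e2, e3, -, e5, -, e7, -⟩ := h.flag p3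
    obtain ⟨g', -, -, -, -, e3', -, e5', -, e7', -⟩ := h.flag hα
    rw [e7', e2, centralizer_cj, le_cj_iff, ← cj_mul] at a1
    rw [e7', e5, le_cj_iff, ← cj_mul] at hU
    rw [e3', e3, ← cj_eq_bot (g := g⁻¹), cj_inf, cj_inv_cj, ← cj_mul] at a3
    rw [e5, e5', e7, e7', ← ri_cj g⁻¹, ← ri_cj g⁻¹ cj(g, Y), cj_inv_cj, cj_inv_cj, ← cj_mul,
      ← cj_mul] at hi
    exact hN.core (hlt 0 (by omega)).2.abelian a1 hU a3 hi
  obtain ⟨β, β', hp, hU⟩ : ∃ β β' : G ⧸ H, PP M H (n + 1) β β' ∧ ¬ tr (ncl V H) β ≤ tr Y β' := by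
    by_contra hc
    push Not at hc
    exact hn hc
  by_cases hi : (tr Y β).relIndex (tr (ncl V H) β') ≤ (tr Y β').relIndex (tr (ncl V H) β)
  · exact key β β' hp hU hi
  · refine key β' β hp.symm (fun e => hi ?_) (by omega)
    rw [relIndex_eq_one.2 e]
    exact Nat.pos_of_ne_zero (ri_ne _ _)

theorem Two.card_eq_four (h : Two S M V) : Nat.card V = 4 := by
  by_contra h4
  obtain ⟨D, hD, h1, hT⟩ := h.exists_maxD h4
  obtain ⟨H, Y, F, g⟩ := h.exists_geo hD.1 h1 hD.2.1 hT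
  obtain ⟨n, hlt, hn | ⟨hy, hc⟩⟩ := g.crit
  · have h5 := g.odd h4 hD hlt hn
    obtain ⟨a1, a2, a3⟩ := g.action_of_four h4 h5
    exact g.twoN h5 a1 a2 a3 hlt hn
  · exact hc (g.cc_of_yy h4 hy)

end Cfsg.Agent.NG
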