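import Mathlib
import Cfsg.Agent.NG.PartI
import Cfsg.Agent.NG.TwoN
import Cfsg.Agent.NG.CaseN4
import Cfsg.Agent.NG.CaseN22
import Cfsg.Agent.NG.CaseN21
import Cfsg.Agent.NG.A3
import Cfsg.Agent.NG.A5
import Cfsg.Agent.NG.AM12
import Cfsg.Agent.NG.Tits5
import Cfsg.Agent.NG.Oct3
import Cfsg.Agent.S1296
import Cfsg.Agent.S0205
import Cfsg.Agent.PLocal.Quasisimple

set_option autoImplicit false

namespace Cfsg.Agent.NG

open Subgroup Cfsg.Agent.PLocal Cfsg.Agent.PLocal.Amb Cfsg.Agent.PLocal.CP Cfsg.Agent.PLocal.JC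
open scoped commutatorElement

variable {G : Type*} [Group G] [Finite G]

theorem CN.false {S M V : Subgroup G} {z m : G} (h : CN S M V z m) : False := by
  obtain ⟨-, h1, ⟨k, hk⟩, ⟨j, hj⟩, h2, -⟩ := h.card
  by_cases h4 : 4 ≤ (ncl V 𝐂₁[z] ⊓ cj(m, ncl V 𝐂₁[z])).relIndex (cj(m, ncl V 𝐂₁[z]) ⊓ 𝐂[V])
  · exact h.not_four_le h4
  have hk2 : (ncl V 𝐂₁[z] ⊓ cj(m, ncl V 𝐂₁[z])).relIndex (cj(m, ncl V 𝐂₁[z]) ⊓ 𝐂[V]) = 2 := by
    rw [hk] at h2 h4 ⊢
    rcases k with _ | _ | k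
    · omega
    · rfl
    · exfalso; apply h4
      have : 0 < 2 ^ k := by positivity
      rw [pow_succ, pow_succ]; omega
  rw [hk2] at h1
  rcases j with _ | _ | j
  · exact h.not_two_one hk2 (by simpa using hj)
  · exact h.not_two_two hk2 (by simpa using hj)
  · rw [hj, pow_succ, pow_succ] at h1
    have : 0 < 2 ^ j := by positivity
    omega

theorem exists_T5 (h : Hyp G) : ∃ (S M V : Subgroup G) (z : G) (H Y F : Subgroup G) (m : G),
    T5 S M V z H Y F m := by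
  obtain ⟨S, M, V, h2⟩ := exists_two h
  obtain ⟨z, h1⟩ := h2.four h2.card_eq_four
  obtain ⟨zV, Sz, nC, -, h3, -⟩ := h1.basic
  by_cases hab : ncl V 𝐂₁[z] ≤ 𝐂[ncl V 𝐂₁[z]]
  · have hD : zpowers z ≤ V := by simpa using zV
    have hD1 : zpowers z ≠ ⊥ := by simpa using h1.z_ne
    have hC : 𝐂[zpowers z] = 𝐂₁[z] := by
      rw [zpowers_eq_closure, centralizer_closure]
    obtain ⟨T, hT⟩ := h2.syl_centralizer zV h1.z_ne
    obtain ⟨H, Y, F, hg⟩ := h2.exists_geo hD hD1 (by rw [hC]; exact nC) ⟨T, by rw [hC]; exact hT⟩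
    have hA : CA S M V z H Y F := ⟨hg, h1.four, h1.Z_eq, h1.z_ne, h1.z_sq, hab⟩
    rcases hA.crit with ⟨m, hm⟩ | ⟨n, hn, hlt, hc⟩
    · rcases hm.cases with ⟨a, b⟩ | h5
      · exact (hm.not_eight a b).elim
      · exact ⟨S, M, V, z, H, Y, F, m, h5⟩
    · obtain ⟨a, b⟩ := hA.five hn hlt hc
      exact (hA.tri_five a b (hlt 1 (by omega)).2).elim
  · have : ¬ M ≤ 𝐂₁[z] := fun hle => by
      rw [relIndex_eq_one.2 hle] at h3; omega
    obtain ⟨m, hm, hm'⟩ := SetLike.not_le_iff_exists.1 this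
    refine (CN.false (m := m) ⟨h1, hab, hm, fun he => hm' ?_⟩).elim
    rw [mem_centralizer_iff]
    rintro y rfl
    calc y * m = (m * y * m⁻¹) * m := by rw [he]
      _ = m * y := by group

theorem exists_oct (h : Hyp G) : ∃ (V D : Subgroup G) (z : G), Oct V D z := by
  obtain ⟨S, M, V, z, H, Y, F, m, h5⟩ := exists_T5 h
  exact ⟨_, _, _, h5.oct⟩

/-- the conclusion in the Tits case -/
def TitsData (G : Type*) [Group G] : Prop := Nat.card G = 17971200 ∧ ¬ PRankLE 2 4 G ∧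
  (center G = ⊥ → ∃ K : Subgroup G, K ≠ ⊤ ∧ ¬ Group.IsSolvable K)

theorem Oct.titsData {V D : Subgroup G} {z : G} (h : Oct V D z) : TitsData G := by
  refine ⟨h.card, fun hr => ?_, h.exists_not_solvable⟩
  have := hr (Up V z) (isEA_of_sq h.U_sq).1 fun a ha => by rw [pow_two, h.U_sq a ha]
  rw [h.cardU] at this
  omega

theorem Hyp.titsData (h : Hyp G) : TitsData G := by
  obtain ⟨V, D, z, ho⟩ := exists_oct h
  exact ho.titsData

/-- The same for groups with `O²(G) = G`, `O(G) = 1 = O₂(G)`. -/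
theorem of_solvable_twoLocal (heven : Even (Nat.card G)) (hidx : ∀ N : Subgroup G, N.index ≠ 2)
    (hO : oddCore G = ⊥) (hO₂ : pCore 2 G = ⊥)
    (h : ∀ N : Subgroup G, IsTwoLocal N → Group.IsSolvable N) :
    PRankLE 2 2 G ∨ (∃ H : Subgroup G, IsStronglyEmbedded H) ∨ TitsData G := by
  by_cases hr : PRankLE 2 2 G
  · exact Or.inl hr
  by_cases hs : ∃ H : Subgroup G, IsStronglyEmbedded H
  · exact Or.inr (Or.inl hs)
  refine Or.inr (Or.inr ?_)
  rcases S1296.result heven (fun N _ => hidx N) hO with h1 | ⟨t, ht, K, -, hK⟩ | h1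
  · exact absurd h1 hr
  · have h2 := h _ ⟨zpowers t, Inv.isPGroup_zpowers_of_orderOf_two ht,
      zpowers_ne_bot.2 (Inv.ne_one_of_orderOf_two ht), rfl⟩
    have h3 : Group.IsSolvable 𝐂₁[t] := Group.isSolvable_of_isSolvable_injective
      (inclusion_injective (Amb.centralizer_zpowers t ▸ centralizer_le_normalizer' (zpowers t)))
    exact (qs_not_solvable hK inferInstance).elim
  · exact Hyp.titsData ⟨hidx, hO₂, fun T hT h2 => h _ ⟨T, hT, h2, rfl⟩,
      fun T hT h2 => isCharP_iff.2 (h1.2 T hT h2), hr, fun H hH => hs ⟨H, hH⟩⟩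

/-- Simple groups all of whose 2-local subgroups are solvable. -/
theorem simple_of_solvable_twoLocal [IsSimpleGroup G] (hG : ¬ IsMulCommutative G)
    (h : ∀ N : Subgroup G, IsTwoLocal N → Group.IsSolvable N) :
    PRankLE 2 2 G ∨ (∃ H : Subgroup G, IsStronglyEmbedded H) ∨ TitsData G := by
  have hns : ¬ Group.IsSolvable G := fun h1 => hG ⟨⟨IsSimpleGroup.comm_iff_isSolvable.2 h1⟩⟩
  have heven : Even (Nat.card G) := by
    by_contra h1
    exact hns (S0205.result (Nat.not_even_iff_odd.1 h1))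
  have h2 : ¬ IsPGroup 2 G := fun h1 => hns (have := h1.isNilpotent; inferInstance)
  refine of_solvable_twoLocal heven (fun N hN => ?_) ?_ ?_ h
  · rcases (normal_of_index_eq_two hN).eq_bot_or_eq_top with rfl | rfl
    · exact h2 (IsPGroup.of_card (n := 1) (by rwa [index_bot] at hN))
    · simp at hN
  · exact (inferInstance : (pPrimeCore 2 G).Normal).eq_bot_or_eq_top.resolve_right fun e =>
      Grp.not_dvd_card_pPrimeCore 2 G (by rw [e, card_top]; exact heven.two_dvd)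
  · exact (inferInstance : (pCore 2 G).Normal).eq_bot_or_eq_top.resolve_right fun e =>
      h2 ((e ▸ Grp.pCore_isPGroup 2 G : IsPGroup 2 (⊤ : Subgroup G)).of_equiv topEquiv)

end Cfsg.Agent.NG
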